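import Mathlib
import Groth.Prelude.Def_BlowUp2
import Groth.Agent.H9.ComapIdeal

/-! (FTC) of helper95's S8858 squad: finite type ideal sheaves pull back to finite type ideal
sheaves. -/

set_option autoImplicit false
universe u
open CategoryTheory CategoryTheory.Limits AlgebraicGeometry

namespace Groth.Agent.H10.ADM_FTC

theorem FTC {X Y : Scheme.{u}} (f : Y ⟶ X) (𝓘 : X.IdealSheafData)
    (h : BlowUp.IsFiniteTypeIdeal 𝓘) : BlowUp.IsFiniteTypeIdeal (𝓘.comap f) := by
  intro V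
  have hV : IsAffineOpen V.1 := V.2
  -- the good elements
  let t : Set Γ(Y, V.1) := {r | ∃ U : X.affineOpens, Y.basicOpen r ≤ f ⁻¹ᵁ U.1}
  have ht : Ideal.span t = ⊤ := by
    rw [← hV.self_le_iSup_basicOpen_iff]
    intro y hy
    obtain ⟨_, ⟨U, hU, rfl⟩, hyU, -⟩ :=
      X.isBasis_affineOpens.exists_subset_of_mem_open (Set.mem_univ (f.base y)) isOpen_univ
    obtain ⟨U, rfl⟩ : ∃ U' : X.Opens, U' = U := ⟨U, rfl⟩
    obtain ⟨r, hr1, hr2⟩ := hV.exists_basicOpen_le (V := f ⁻¹ᵁ U) ⟨y, hyU⟩ hy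
    rw [TopologicalSpace.Opens.mem_iSup]
    exact ⟨⟨r, ⟨⟨U, hU⟩, hr1⟩⟩, hr2⟩
  refine Ideal.fg_of_localizationSpan t ht ?_
  rintro ⟨r, U, hrU⟩
  -- the ideal on the basic open is finitely generated
  have h1 : ((𝓘.comap f).ideal (Y.affineBasicOpen r)).FG := by
    rw [Groth.Agent.H9.comap_ideal f 𝓘 U (Y.affineBasicOpen r) hrU]
    exact (h U).map _
  rw [← (𝓘.comap f).map_ideal_basicOpen V r] at h1
  -- transport to `Localization.Away r`
  letI : Algebra Γ(Y, V.1) Γ(Y, Y.basicOpen r) :=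
    (Y.presheaf.map (homOfLE (Y.basicOpen_le r)).op).hom.toAlgebra
  haveI : IsLocalization.Away r Γ(Y, Y.basicOpen r) := hV.isLocalization_basicOpen r
  let e : Γ(Y, Y.basicOpen r) ≃ₐ[Γ(Y, V.1)] Localization.Away r :=
    IsLocalization.algEquiv (Submonoid.powers r) _ _
  have he : algebraMap Γ(Y, V.1) (Localization.Away r) =
      (e : Γ(Y, Y.basicOpen r) →+* Localization.Away r).comp
        (Y.presheaf.map (homOfLE (Y.basicOpen_le r)).op).hom := by
    ext a
    exact (e.commutes a).symm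
  rw [he, ← Ideal.map_map]
  exact h1.map _

end Groth.Agent.H10.ADM_FTC
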