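import Mathlib

/-!
Field theory of Artin–Schreier extensions `L = K(z)`, `z ^ p - z = ξ`, in characteristic `p`:
`L/K` is Galois and of degree `1` or `p`.
-/

set_option autoImplicit false
set_option linter.style.haveILetI false
set_option linter.unusedSectionVars false

open Polynomial IntermediateField

namespace Groth.Agent.H10.ASField

variable (p : ℕ) [hp : Fact p.Prime] {K L : Type*} [Field K] [Field L] [Algebra K L] [CharP K p]

include K in
lemma charP_L : CharP L p := charP_of_injective_algebraMap (algebraMap K L).injective p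

/-- The Artin–Schreier polynomial `X ^ p - X - ξ`. -/
noncomputable def asPoly (ξ : K) : K[X] := X ^ p - (X + C ξ)

lemma asPoly_monic (ξ : K) : (asPoly p ξ).Monic :=
  monic_X_pow_sub (by
    rw [degree_X_add_C]
    exact_mod_cast hp.out.one_lt)

lemma asPoly_natDegree (ξ : K) : (asPoly p ξ).natDegree = p := by
  unfold asPoly
  rw [natDegree_sub_eq_left_of_natDegree_lt, natDegree_X_pow]
  rw [natDegree_X_pow, natDegree_X_add_C]
  exact hp.out.one_lt

lemma asPoly_ne_zero (ξ : K) : asPoly p ξ ≠ 0 := (asPoly_monic p ξ).ne_zero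

lemma asPoly_separable (ξ : K) : (asPoly p ξ).Separable := by
  rw [separable_def]
  have hd : derivative (asPoly p ξ) = -1 := by
    unfold asPoly
    rw [derivative_sub, derivative_X_pow, derivative_add, derivative_X, derivative_C, add_zero,
      CharP.cast_eq_zero K p, map_zero, zero_mul, zero_sub]
  rw [hd]
  exact isCoprime_one_right.neg_right

variable (ξ : K) (z : L) (hz : z ^ p - z = algebraMap K L ξ)

include hz in
lemma aeval_asPoly : aeval z (asPoly p ξ) = 0 := by
  unfold asPoly
  rw [map_sub, map_pow, aeval_X, map_add, aeval_X, aeval_C, ← hz]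
  ring

include K hz in
lemma root_add (i : ℕ) : (z + (i : L)) ^ p - (z + i) = algebraMap K L ξ := by
  haveI := charP_L p (K := K) (L := L)
  have h1 : ((i : L)) ^ p = i := by rw [← frobenius_def, map_natCast]
  rw [add_pow_char, h1, ← hz]
  ring

include hz in
lemma aeval_asPoly_add (i : ℕ) : aeval (z + (i : L)) (asPoly p ξ) = 0 :=
  aeval_asPoly p ξ _ (root_add p ξ z hz i)

include K in
lemma natCast_add_injOn : Set.InjOn (fun i : ℕ => z + (i : L)) (Finset.range p : Set ℕ) := by
  haveI := charP_L p (K := K) (L := L)
  intro i hi j hj hij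
  have hi' : i ∈ Set.Iio p := Finset.mem_range.mp hi
  have hj' : j ∈ Set.Iio p := Finset.mem_range.mp hj
  exact CharP.natCast_injOn_Iio L p hi' hj' (add_left_cancel hij)

include hz in
/-- The `p` roots `z + i`. -/
lemma mem_roots_iff (r : L) :
    r ∈ ((asPoly p ξ).map (algebraMap K L)).roots ↔ ∃ i < p, r = z + (i : L) := by
  classical
  have hne : (asPoly p ξ).map (algebraMap K L) ≠ 0 :=
    ((asPoly_monic p ξ).map _).ne_zero
  have hsub : (Finset.range p).image (fun i : ℕ => z + (i : L)) ⊆
      ((asPoly p ξ).map (algebraMap K L)).roots.toFinset := by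
    intro r hr
    obtain ⟨i, -, rfl⟩ := Finset.mem_image.mp hr
    rw [Multiset.mem_toFinset, mem_roots hne, IsRoot.def, eval_map_algebraMap]
    exact aeval_asPoly_add p ξ z hz i
  have hcard : ((Finset.range p).image (fun i : ℕ => z + (i : L))).card = p := by
    rw [Finset.card_image_of_injOn (natCast_add_injOn p (K := K) z), Finset.card_range]
  have hle : ((asPoly p ξ).map (algebraMap K L)).roots.toFinset.card ≤ p := by
    calc ((asPoly p ξ).map (algebraMap K L)).roots.toFinset.card
        ≤ Multiset.card ((asPoly p ξ).map (algebraMap K L)).roots := Multiset.toFinset_card_le _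
      _ ≤ ((asPoly p ξ).map (algebraMap K L)).natDegree := card_roots' _
      _ = p := by rw [natDegree_map, asPoly_natDegree]
  have heq := Finset.eq_of_subset_of_card_le hsub (by rw [hcard]; exact hle)
  constructor
  · intro hr
    have : r ∈ ((asPoly p ξ).map (algebraMap K L)).roots.toFinset := Multiset.mem_toFinset.mpr hr
    rw [← heq] at this
    obtain ⟨i, hi, rfl⟩ := Finset.mem_image.mp this
    exact ⟨i, Finset.mem_range.mp hi, rfl⟩
  · rintro ⟨i, hi, rfl⟩
    exact Multiset.mem_toFinset.mp
      (hsub (Finset.mem_image.mpr ⟨i, Finset.mem_range.mpr hi, rfl⟩))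

include hz in
lemma splits_asPoly : ((asPoly p ξ).map (algebraMap K L)).Splits := by
  classical
  rw [splits_iff_card_roots]
  apply le_antisymm (card_roots' _)
  have hsub : (Finset.range p).image (fun i : ℕ => z + (i : L)) ⊆
      ((asPoly p ξ).map (algebraMap K L)).roots.toFinset := by
    intro r hr
    obtain ⟨i, hi, rfl⟩ := Finset.mem_image.mp hr
    exact Multiset.mem_toFinset.mpr
      ((mem_roots_iff p ξ z hz _).mpr ⟨i, Finset.mem_range.mp hi, rfl⟩)
  have hcard : ((Finset.range p).image (fun i : ℕ => z + (i : L))).card = p := by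
    rw [Finset.card_image_of_injOn (natCast_add_injOn p (K := K) z), Finset.card_range]
  calc ((asPoly p ξ).map (algebraMap K L)).natDegree = p := by
        rw [natDegree_map, asPoly_natDegree]
    _ = ((Finset.range p).image (fun i : ℕ => z + (i : L))).card := hcard.symm
    _ ≤ ((asPoly p ξ).map (algebraMap K L)).roots.toFinset.card := Finset.card_le_card hsub
    _ ≤ Multiset.card ((asPoly p ξ).map (algebraMap K L)).roots := Multiset.toFinset_card_le _

include hz in
lemma isIntegral_z : IsIntegral K z := ⟨asPoly p ξ, asPoly_monic p ξ, aeval_asPoly p ξ z hz⟩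

variable (hgen : K⟮z⟯ = ⊤)

include hz hgen in
lemma adjoin_eq_top : Algebra.adjoin K {z} = ⊤ := by
  have h := IntermediateField.adjoin_simple_toSubalgebra_of_isAlgebraic
    (isIntegral_z p ξ z hz).isAlgebraic
  rw [hgen] at h
  rw [← h]
  rfl

include hz hgen in
lemma finiteDimensional : FiniteDimensional K L := by
  have h1 : FiniteDimensional K K⟮z⟯ :=
    IntermediateField.adjoin.finiteDimensional (isIntegral_z p ξ z hz)
  rw [hgen] at h1
  exact (IntermediateField.topEquiv (F := K) (E := L)).toLinearEquiv.finiteDimensional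

include hz hgen in
lemma isGalois : IsGalois K L := by
  haveI : (asPoly p ξ).IsSplittingField K L :=
    { splits' := splits_asPoly p ξ z hz
      adjoin_rootSet' := by
        rw [eq_top_iff, ← adjoin_eq_top p ξ z hz hgen]
        apply Algebra.adjoin_mono
        rw [Set.singleton_subset_iff, mem_rootSet]
        exact ⟨asPoly_ne_zero p ξ, aeval_asPoly p ξ z hz⟩ }
  exact IsGalois.of_separable_splitting_field (asPoly_separable p ξ)

include hz hgen in
lemma finrank_eq_natDegree : Module.finrank K L = (minpoly K z).natDegree := by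
  rw [← IntermediateField.adjoin.finrank (isIntegral_z p ξ z hz), hgen,
    IntermediateField.finrank_top']

include hz hgen in
/-- The degree of an Artin–Schreier extension is `1` or `p`. -/
theorem finrank_eq_one_or : Module.finrank K L = 1 ∨ Module.finrank K L = p := by
  classical
  haveI := charP_L p (K := K) (L := L)
  have hint := isIntegral_z p ξ z hz
  rw [finrank_eq_natDegree p ξ z hz hgen]
  set m := minpoly K z with hm
  have hmdvd : m ∣ asPoly p ξ := minpoly.dvd K z (aeval_asPoly p ξ z hz)
  have hmmonic : m.Monic := minpoly.monic hint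
  have hdle : m.natDegree ≤ p := by
    rw [← asPoly_natDegree p ξ]
    exact natDegree_le_of_dvd hmdvd (asPoly_ne_zero p ξ)
  rcases hdle.lt_or_eq with hlt | heq
  swap
  · exact Or.inr heq
  left
  have hmL : (m.map (algebraMap K L)).Splits :=
    (splits_asPoly p ξ z hz).of_dvd (((asPoly_monic p ξ).map _).ne_zero)
      (Polynomial.map_dvd _ hmdvd)
  have hsum := hmL.nextCoeff_eq_neg_sum_roots_of_monic (hmmonic.map _)
  have hcard : Multiset.card (m.map (algebraMap K L)).roots = m.natDegree := by
    rw [← hmL.natDegree_eq_card_roots, natDegree_map]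
  -- each root is `z + i`
  have hroot : ∀ r ∈ (m.map (algebraMap K L)).roots, r - z ∈ (algebraMap K L).range := by
    intro r hr
    have hr' : r ∈ ((asPoly p ξ).map (algebraMap K L)).roots :=
      Multiset.mem_of_le (roots.le_of_dvd (((asPoly_monic p ξ).map _).ne_zero)
        (Polynomial.map_dvd _ hmdvd)) hr
    obtain ⟨i, -, rfl⟩ := (mem_roots_iff p ξ z hz r).mp hr'
    exact ⟨(i : K), by rw [map_natCast]; ring⟩
  have hsum2 : ((m.map (algebraMap K L)).roots.map (fun r => r - z)).sum ∈
      (algebraMap K L).range := by
    apply Subring.multiset_sum_mem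
    intro c hc
    obtain ⟨r, hr, rfl⟩ := Multiset.mem_map.mp hc
    exact hroot r hr
  rw [Multiset.sum_map_sub, Multiset.map_const', Multiset.sum_replicate, hcard] at hsum2
  have hnc : (m.map (algebraMap K L)).nextCoeff ∈ (algebraMap K L).range :=
    ⟨m.nextCoeff, (nextCoeff_map (algebraMap K L).injective m).symm⟩
  have hdz : (m.natDegree : L) * z ∈ (algebraMap K L).range := by
    have h1 : (m.map (algebraMap K L)).roots.sum ∈ (algebraMap K L).range := by
      have : (m.map (algebraMap K L)).roots.sum = -(m.map (algebraMap K L)).nextCoeff := by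
        rw [hsum, neg_neg]
      rw [this]
      exact Subring.neg_mem _ hnc
    have h2 := Subring.sub_mem _ h1 hsum2
    rw [Multiset.map_id', sub_sub_cancel, nsmul_eq_mul] at h2
    exact h2
  have hd0 : (m.natDegree : L) ≠ 0 := by
    intro h0
    have hpd : p ∣ m.natDegree := (CharP.cast_eq_zero_iff L p _).mp h0
    have hpos : 0 < m.natDegree := minpoly.natDegree_pos hint
    exact absurd (Nat.le_of_dvd hpos hpd) (not_le.mpr hlt)
  have hzK : z ∈ (algebraMap K L).range := by
    have hdK : (m.natDegree : L) ∈ (algebraMap K L).range := ⟨(m.natDegree : K), map_natCast _ _⟩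
    have h3 := Subring.mul_mem _ ((algebraMap K L).fieldRange.inv_mem hdK) hdz
    rwa [← mul_assoc, inv_mul_cancel₀ hd0, one_mul] at h3
  exact (minpoly.natDegree_eq_one_iff).mpr hzK

end Groth.Agent.H10.ASField
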