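import Mathlib

/-!
Monogenic extensions with squarefree reduction.

`A` a local ring with principal maximal ideal `(π)`, `W` a local domain over `A` (local
homomorphism), `y : W` a root of a monic `F ∈ A[X]` whose reduction is squarefree, such that every
element of `W` becomes a polynomial in `y` after multiplication by a power of `π`.
Then `W = A[y]` localised, `m_W = π W` and the residue field of `W` is generated by the residue
class of `y`.
-/

set_option autoImplicit false
set_option linter.style.haveILetI false
set_option linter.unusedSectionVars false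

open Polynomial IsLocalRing

namespace Groth.Agent.H10.MonoRed

variable {A W : Type*} [CommRing A] [IsLocalRing A] [CommRing W] [IsDomain W] [IsLocalRing W]
  [Algebra A W] [IsLocalHom (algebraMap A W)]

omit [IsDomain W] in
theorem residue_aeval (y : W) (H : A[X]) :
    residue W (aeval y H) = aeval (residue W y) (H.map (residue A)) := by
  rw [aeval_def, aeval_def, hom_eval₂, eval₂_map]
  rfl

variable (π : A) (hπ : maximalIdeal A = Ideal.span {π})
  (y : W) (F : A[X]) (hFm : F.Monic) (hFy : aeval y F = 0)
  (hsq : Squarefree (F.map (residue A)))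

include hFm hFy in
omit [IsDomain W] in
theorem isIntegral_residue : IsIntegral (ResidueField A) (residue W y) := by
  refine ⟨F.map (residue A), hFm.map _, ?_⟩
  rw [← aeval_def, ← residue_aeval, hFy, map_zero]

include hπ hFm hFy hsq in
omit [IsDomain W] in
/-- Key step. -/
theorem key (H : A[X]) (hH : aeval y H ∈ maximalIdeal W) :
    ∃ s r : A[X], IsUnit (aeval y s) ∧
      aeval y H * aeval y s = algebraMap A W π * aeval y r := by
  set k := ResidueField A
  set yb := residue W y with hyb
  have hint : IsIntegral k yb := isIntegral_residue y F hFm hFy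
  have hFb : aeval yb (F.map (residue A)) = 0 := by
    rw [← residue_aeval, hFy, map_zero]
  have hHb : aeval yb (H.map (residue A)) = 0 := by
    rw [← residue_aeval]
    exact (residue_eq_zero_iff _).mpr hH
  obtain ⟨νb, hνb⟩ := minpoly.dvd k yb hFb
  obtain ⟨qb, hqb⟩ := minpoly.dvd k yb hHb
  have hν0 : aeval yb νb ≠ 0 := by
    intro h0
    obtain ⟨c, hc⟩ := minpoly.dvd k yb h0
    have hdvd : minpoly k yb * minpoly k yb ∣ F.map (residue A) := by
      rw [hνb, hc]
      exact ⟨c, by ring⟩
    exact minpoly.not_isUnit k yb (hsq _ hdvd)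
  obtain ⟨ν, rfl⟩ := Polynomial.map_surjective (residue A) residue_surjective νb
  obtain ⟨q, rfl⟩ := Polynomial.map_surjective (residue A) residue_surjective qb
  have hD : (H * ν - q * F).map (residue A) = 0 := by
    rw [Polynomial.map_sub, Polynomial.map_mul, Polynomial.map_mul, hqb, hνb]
    ring
  have hdvd : C π ∣ (H * ν - q * F) := by
    rw [Polynomial.C_dvd_iff_dvd_coeff]
    intro i
    have h0 : residue A ((H * ν - q * F).coeff i) = 0 := by
      rw [← Polynomial.coeff_map, hD, coeff_zero]
    have hmem : (H * ν - q * F).coeff i ∈ maximalIdeal A := (residue_eq_zero_iff _).mp h0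
    rw [hπ] at hmem
    exact Ideal.mem_span_singleton.mp hmem
  obtain ⟨r, hr⟩ := hdvd
  refine ⟨ν, r, ?_, ?_⟩
  · rw [← residue_ne_zero_iff_isUnit, residue_aeval]
    exact hν0
  · have h1 := congrArg (aeval y) hr
    rw [map_sub, map_mul, map_mul, hFy, mul_zero, sub_zero, map_mul, aeval_C] at h1
    exact h1

include hFm hFy in
omit [IsDomain W] in
theorem minpoly_eq (hirr : Irreducible (F.map (residue A))) :
    minpoly (ResidueField A) (residue W y) = F.map (residue A) :=
  (minpoly.eq_of_irreducible_of_monic hirr
    (by rw [← residue_aeval, hFy, map_zero]) (hFm.map _)).symm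

include hFm hFy in
omit [IsDomain W] in
/-- If the reduction of `F` is irreducible, `s(y)` is a unit iff `F̄ ∤ s̄`. -/
theorem isUnit_aeval_iff (hirr : Irreducible (F.map (residue A))) (s : A[X]) :
    IsUnit (aeval y s) ↔ ¬ (F.map (residue A)) ∣ s.map (residue A) := by
  rw [← residue_ne_zero_iff_isUnit, residue_aeval, ← minpoly_eq y F hFm hFy hirr,
    minpoly.dvd_iff]

variable (hπW : algebraMap A W π ≠ 0)
  (hspan : ∀ x : W, ∃ (N : ℕ) (H : A[X]), x * (algebraMap A W π) ^ N = aeval y H)

include hπ in
omit [IsDomain W] in
theorem pi_mem : algebraMap A W π ∈ maximalIdeal W := by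
  rw [mem_maximalIdeal, mem_nonunits_iff]
  intro hu
  have : IsUnit π := isUnit_of_map_unit (algebraMap A W) π hu
  have hmem : π ∈ maximalIdeal A := by rw [hπ]; exact Ideal.mem_span_singleton_self π
  exact (mem_maximalIdeal _).mp hmem this

include hπ hFm hFy hsq hπW in
theorem repr_aux (N : ℕ) : ∀ (x : W) (s H : A[X]), IsUnit (aeval y s) →
    x * aeval y s * (algebraMap A W π) ^ N = aeval y H →
    ∃ s' H' : A[X], IsUnit (aeval y s') ∧ x * aeval y s' = aeval y H' := by
  induction N with
  | zero =>
    intro x s H hs h
    exact ⟨s, H, hs, by rwa [pow_zero, mul_one] at h⟩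
  | succ N ih =>
    intro x s H hs h
    have hmem : aeval y H ∈ maximalIdeal W := by
      rw [← h, pow_succ, ← mul_assoc]
      exact Ideal.mul_mem_left _ _ (pi_mem π hπ)
    obtain ⟨t, r, ht, htr⟩ := key π hπ y F hFm hFy hsq H hmem
    refine ih x (s * t) r (by rw [map_mul]; exact hs.mul ht) ?_
    apply mul_left_cancel₀ hπW
    rw [← htr, ← h, map_mul, pow_succ]
    ring

include hπ hFm hFy hsq hπW hspan in
/-- Every element of `W` is a quotient `H(y) / s(y)` with `s(y)` a unit. -/
theorem repr (x : W) :
    ∃ s H : A[X], IsUnit (aeval y s) ∧ x * aeval y s = aeval y H := by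
  obtain ⟨N, H, hH⟩ := hspan x
  exact repr_aux π hπ y F hFm hFy hsq hπW N x 1 H (by rw [map_one]; exact isUnit_one)
    (by rw [map_one, mul_one]; exact hH)

include hπ hFm hFy hsq hπW hspan in
/-- The maximal ideal of `W` is generated by `π`. -/
theorem maximalIdeal_eq : maximalIdeal W = Ideal.span {algebraMap A W π} := by
  apply le_antisymm
  · intro x hx
    obtain ⟨s, H, hs, hsH⟩ := repr π hπ y F hFm hFy hsq hπW hspan x
    have hmem : aeval y H ∈ maximalIdeal W := by
      rw [← hsH]
      exact Ideal.mul_mem_right _ _ hx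
    obtain ⟨t, r, ht, htr⟩ := key π hπ y F hFm hFy hsq H hmem
    rw [Ideal.mem_span_singleton]
    obtain ⟨u, hu⟩ := hs.mul ht
    refine ⟨aeval y r * ↑u⁻¹, ?_⟩
    have h1 : x * (u : W) = algebraMap A W π * aeval y r := by
      rw [hu, ← mul_assoc, hsH, htr]
    calc x = x * (u : W) * ↑u⁻¹ := by rw [mul_assoc, Units.mul_inv, mul_one]
      _ = algebraMap A W π * (aeval y r * ↑u⁻¹) := by rw [h1, mul_assoc]
  · rw [Ideal.span_le, Set.singleton_subset_iff]
    exact pi_mem π hπ

include hπ hFm hFy hsq hπW hspan in
/-- The residue field of `W` is generated by the class of `y`. -/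
theorem adjoin_residue_eq_top :
    IntermediateField.adjoin (ResidueField A) {residue W y} = ⊤ := by
  rw [eq_top_iff]
  rintro c -
  obtain ⟨x, rfl⟩ := residue_surjective c
  obtain ⟨s, H, hs, hsH⟩ := repr π hπ y F hFm hFy hsq hπW hspan x
  have h1 := congrArg (residue W) hsH
  rw [map_mul, residue_aeval, residue_aeval] at h1
  have hs0 : aeval (residue W y) (s.map (residue A)) ≠ 0 := by
    rw [← residue_aeval]
    exact (residue_ne_zero_iff_isUnit _).mpr hs
  have hmem : ∀ P : (ResidueField A)[X], aeval (residue W y) P ∈
      IntermediateField.adjoin (ResidueField A) {residue W y} := by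
    intro P
    exact IntermediateField.algebra_adjoin_le_adjoin (ResidueField A) {residue W y}
      (Polynomial.aeval_mem_adjoin_singleton _ _)
  have hc : residue W x = aeval (residue W y) (H.map (residue A)) /
      aeval (residue W y) (s.map (residue A)) := by
    rw [eq_div_iff hs0, h1]
  rw [hc]
  exact div_mem (hmem _) (hmem _)

end Groth.Agent.H10.MonoRed
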