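import Mathlib
import Groth.Prelude.Def_EtRam
import Groth.Agent.H10.MonoRed

/-!
Basic facts about valuation subrings of an extension `L` of `K = Frac A` dominating a DVR `A`,
and the application of `MonoRed` to such valuation subrings.
-/

set_option autoImplicit false
set_option linter.style.haveILetI false
set_option linter.unusedSectionVars false
set_option linter.unusedVariables false

open Polynomial IsLocalRing IntermediateField

namespace Groth.Agent.H10.DVRExtBasic

universe u

section general

variable {A K L : Type u} [CommRing A] [IsDomain A] [IsDiscreteValuationRing A] [Field K]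
  [Algebra A K] [IsFractionRing A K] [Field L] [Algebra K L] [Algebra A L] [IsScalarTower A K L]
  (π : A) (hπ : maximalIdeal A = Ideal.span {π})

include hπ in
lemma irreducible_pi : Irreducible π :=
  (IsDiscreteValuationRing.irreducible_iff_uniformizer π).mpr hπ

include K in
lemma algebraMap_injective : Function.Injective (algebraMap A L) := by
  rw [IsScalarTower.algebraMap_eq A K L]
  exact (algebraMap K L).injective.comp (IsFractionRing.injective A K)

include K hπ in
lemma algebraMap_pi_ne_zero : algebraMap A L π ≠ 0 := by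
  intro h
  exact (irreducible_pi π hπ).ne_zero (algebraMap_injective (K := K) (by rw [h, map_zero]))

include hπ in
/-- Clearing denominators with bounded degree. -/
theorem exists_pow_mul_eq_aeval (θ : L) (hθ : IsIntegral K θ) (hgen : K⟮θ⟯ = ⊤) (x : L) :
    ∃ (N : ℕ) (H : A[X]), (H = 0 ∨ H.natDegree < (minpoly K θ).natDegree) ∧
      x * (algebraMap A L π) ^ N = aeval θ H := by
  have hadj : Algebra.adjoin K {θ} = ⊤ := by
    have h := IntermediateField.adjoin_simple_toSubalgebra_of_isAlgebraic hθ.isAlgebraic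
    rw [hgen] at h
    rw [← h]
    rfl
  have hx : x ∈ Algebra.adjoin K {θ} := by rw [hadj]; exact Algebra.mem_top
  rw [Algebra.adjoin_singleton_eq_range_aeval] at hx
  obtain ⟨P₀, rfl⟩ := hx
  set m := minpoly K θ with hm
  have hmm : m.Monic := minpoly.monic hθ
  set P := P₀ %ₘ m with hP
  have hPval : aeval θ P = aeval θ P₀ :=
    Polynomial.aeval_modByMonic_eq_self_of_root (minpoly.aeval K θ)
  have hPdeg : P = 0 ∨ P.natDegree < m.natDegree := by
    by_cases h0 : P = 0
    · exact Or.inl h0
    · right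
      have hdeg : P.degree < m.degree := degree_modByMonic_lt P₀ hmm
      exact natDegree_lt_natDegree h0 hdeg
  obtain ⟨b, hb, hbP⟩ := IsLocalization.integerNormalization_spec (nonZeroDivisors A) P
  set H₀ := IsLocalization.integerNormalization (nonZeroDivisors A) P with hH₀
  have hb0 : b ≠ 0 := nonZeroDivisors.ne_zero hb
  obtain ⟨N, u, hu⟩ := IsDiscreteValuationRing.eq_unit_mul_pow_irreducible hb0 (irreducible_pi π hπ)
  have hH₀val : aeval θ H₀ = algebraMap A L b * aeval θ P₀ := by
    rw [← aeval_map_algebraMap K θ H₀, hbP, ← hPval, Algebra.smul_def,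
      IsScalarTower.algebraMap_apply A K K[X], map_mul, ← Polynomial.C_eq_algebraMap, aeval_C,
      ← IsScalarTower.algebraMap_apply]
  have hH₀deg : H₀ = 0 ∨ H₀.natDegree < m.natDegree := by
    by_cases h0 : H₀ = 0
    · exact Or.inl h0
    · right
      have hsupp := IsLocalization.integerNormalization_support (nonZeroDivisors A) P
      have hmem : H₀.natDegree ∈ P.support := hsupp (natDegree_mem_support_of_nonzero h0)
      have hP0 : P ≠ 0 := by
        rintro hP0
        rw [hP0] at hmem
        simp at hmem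
      rcases hPdeg with h | h
      · exact absurd h hP0
      · exact lt_of_le_of_lt (le_natDegree_of_mem_supp _ hmem) h
  refine ⟨N, C ((u⁻¹ : Aˣ) : A) * H₀, ?_, ?_⟩
  · rcases hH₀deg with h | h
    · left; rw [h, mul_zero]
    · by_cases h0 : C ((u⁻¹ : Aˣ) : A) * H₀ = 0
      · exact Or.inl h0
      · right
        exact lt_of_le_of_lt (natDegree_C_mul_le _ _) h
  · rw [map_mul, aeval_C, hH₀val, hu, map_mul, map_pow]
    have h2 : algebraMap A L ((u⁻¹ : Aˣ) : A) * algebraMap A L (u : A) = 1 := by
      rw [← map_mul, Units.inv_mul, map_one]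
    calc aeval θ P₀ * algebraMap A L π ^ N
        = (algebraMap A L ((u⁻¹ : Aˣ) : A) * algebraMap A L (u : A)) *
            (aeval θ P₀ * algebraMap A L π ^ N) := by rw [h2, one_mul]
      _ = _ := by ring

end general

section val

variable {A K L : Type u} [CommRing A] [IsDomain A] [IsDiscreteValuationRing A] [Field K]
  [Algebra A K] [IsFractionRing A K] [Field L] [Algebra K L] [Algebra A L] [IsScalarTower A K L]
  (π : A) (hπ : maximalIdeal A = Ideal.span {π})
  (V : ValuationSubring L) (hV : EtRam.Dominates A (algebraMap A L) V)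

include hV in
lemma val_le_one (a : A) : V.valuation (algebraMap A L a) ≤ 1 :=
  (V.valuation_le_one_iff _).mpr (hV.1 a)

include hV in
lemma val_unit (a : A) (ha : IsUnit a) : V.valuation (algebraMap A L a) = 1 := by
  obtain ⟨u, rfl⟩ := ha
  have h1 : V.valuation (algebraMap A L (u : A)) * V.valuation (algebraMap A L ((u⁻¹ : Aˣ) : A)) =
      1 := by
    rw [← map_mul, ← map_mul, Units.mul_inv, map_one, map_one]
  apply le_antisymm (val_le_one V hV _)
  calc (1 : V.ValueGroup)
      = V.valuation (algebraMap A L (u : A)) * V.valuation (algebraMap A L ((u⁻¹ : Aˣ) : A)) :=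
        h1.symm
    _ ≤ V.valuation (algebraMap A L (u : A)) * 1 := mul_le_mul' le_rfl (val_le_one V hV _)
    _ = V.valuation (algebraMap A L (u : A)) := mul_one _

include hπ hV in
lemma val_pi_lt_one : V.valuation (algebraMap A L π) < 1 :=
  hV.2 π (by rw [hπ]; exact Ideal.mem_span_singleton_self π)

include K hπ in
lemma val_pi_ne_zero : V.valuation (algebraMap A L π) ≠ 0 :=
  (Valuation.ne_zero_iff _).mpr (algebraMap_pi_ne_zero (K := K) π hπ)

include hπ hV in
lemma val_eq_pow (a : A) (ha : a ≠ 0) :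
    ∃ k : ℕ, V.valuation (algebraMap A L a) = V.valuation (algebraMap A L π) ^ k := by
  obtain ⟨k, u, hu⟩ := IsDiscreteValuationRing.eq_unit_mul_pow_irreducible ha (irreducible_pi π hπ)
  refine ⟨k, ?_⟩
  rw [hu, map_mul, map_mul, val_unit V hV _ u.isUnit, one_mul, map_pow, map_pow]

include hπ hV in
lemma val_K (c : K) (hc : c ≠ 0) : ∃ k₁ k₂ : ℕ,
    V.valuation (algebraMap K L c) * V.valuation (algebraMap A L π) ^ k₂ =
      V.valuation (algebraMap A L π) ^ k₁ := by
  obtain ⟨a₁, a₂, ha₂, rfl⟩ := IsFractionRing.div_surjective (A := A) c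
  have ha₂0 : a₂ ≠ 0 := nonZeroDivisors.ne_zero ha₂
  have ha₁0 : a₁ ≠ 0 := by
    rintro rfl
    simp at hc
  obtain ⟨k₁, hk₁⟩ := val_eq_pow π hπ V hV a₁ ha₁0
  obtain ⟨k₂, hk₂⟩ := val_eq_pow π hπ V hV a₂ ha₂0
  refine ⟨k₁, k₂, ?_⟩
  have h2 : algebraMap A L a₂ ≠ 0 := fun h =>
    ha₂0 (algebraMap_injective (K := K) (by rw [h, map_zero]))
  rw [← hk₁, ← hk₂, map_div₀, ← IsScalarTower.algebraMap_apply, ← IsScalarTower.algebraMap_apply,
    map_div₀, div_mul_cancel₀]
  exact (Valuation.ne_zero_iff _).mpr h2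

include hV in
lemma mem_of_isIntegral (x : L) (hx : IsIntegral A x) : x ∈ V := by
  obtain ⟨P, hPm, hPx⟩ := hx
  let φ : A →+* V := RingHom.codRestrict (algebraMap A L) V hV.1
  have hint : IsIntegral V x := by
    refine ⟨P.map φ, hPm.map φ, ?_⟩
    rw [eval₂_map]
    exact hPx
  obtain ⟨y, rfl⟩ := IsIntegrallyClosed.isIntegral_iff.mp hint
  exact y.2

include hV in
lemma isLocalHom_of_dominates :
    letI : Algebra A V := (RingHom.codRestrict (algebraMap A L) V hV.1).toAlgebra
    IsLocalHom (algebraMap A V) := by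
  letI : Algebra A V := (RingHom.codRestrict (algebraMap A L) V hV.1).toAlgebra
  refine ⟨fun a ha => ?_⟩
  by_contra hna
  have hmem : a ∈ maximalIdeal A := (mem_maximalIdeal a).mpr hna
  have hlt := hV.2 a hmem
  have hu : V.valuation (algebraMap A L a) = 1 := by
    have := (V.valuation_eq_one_iff (algebraMap A V a)).mp ha
    exact this
  rw [hu] at hlt
  exact lt_irrefl _ hlt

include hV in
lemma coe_aeval (y : L) (hy : y ∈ V) (H : A[X]) :
    letI : Algebra A V := (RingHom.codRestrict (algebraMap A L) V hV.1).toAlgebra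
    ((aeval (⟨y, hy⟩ : V) H : V) : L) = aeval y H := by
  letI : Algebra A V := (RingHom.codRestrict (algebraMap A L) V hV.1).toAlgebra
  rw [aeval_def, aeval_def]
  exact Polynomial.hom_eval₂ H (algebraMap A V) V.subtype ⟨y, hy⟩

include hπ hV in
/-- Application of `MonoRed` to a valuation subring dominating `A`. -/
theorem mono_facts (y : L) (hgen : K⟮y⟯ = ⊤) (F : A[X]) (hFm : F.Monic) (hFy : aeval y F = 0)
    (hsq : Squarefree (F.map (residue A))) :
    letI : Algebra A V := (RingHom.codRestrict (algebraMap A L) V hV.1).toAlgebra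
    ∀ [IsLocalHom (algebraMap A V)], ∃ hy : y ∈ V,
      maximalIdeal V = Ideal.span {algebraMap A V π} ∧
      IntermediateField.adjoin (ResidueField A) {residue V ⟨y, hy⟩} = ⊤ ∧
      aeval (residue V ⟨y, hy⟩) (F.map (residue A)) = 0 ∧
      aeval (⟨y, hy⟩ : V) F = 0 ∧
      ∀ x : V, ∃ s H : A[X], IsUnit (aeval (⟨y, hy⟩ : V) s) ∧
        x * aeval (⟨y, hy⟩ : V) s = aeval (⟨y, hy⟩ : V) H := by
  letI : Algebra A V := (RingHom.codRestrict (algebraMap A L) V hV.1).toAlgebra
  intro hloc
  have hyint : IsIntegral A y := ⟨F, hFm, by rw [← aeval_def]; exact hFy⟩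
  have hy : y ∈ V := mem_of_isIntegral V hV y hyint
  refine ⟨hy, ?_⟩
  set yV : V := ⟨y, hy⟩ with hyV
  have coe_aeval : ∀ H : A[X], ((aeval yV H : V) : L) = aeval y H := by
    intro H
    rw [aeval_def, aeval_def]
    exact Polynomial.hom_eval₂ H (algebraMap A V) V.subtype yV
  have hFyV : aeval yV F = 0 := Subtype.ext (by rw [coe_aeval, hFy]; rfl)
  have hπW : algebraMap A V π ≠ 0 := by
    intro h
    have : ((algebraMap A V π : V) : L) = 0 := by rw [h]; rfl
    exact algebraMap_pi_ne_zero (K := K) (L := L) π hπ this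
  have hspan : ∀ x : V, ∃ (N : ℕ) (H : A[X]), x * (algebraMap A V π) ^ N = aeval yV H := by
    intro x
    obtain ⟨N, H, -, hH⟩ := exists_pow_mul_eq_aeval π hπ y hyint.tower_top hgen (x : L)
    refine ⟨N, H, Subtype.ext ?_⟩
    rw [coe_aeval, ← hH]
    rfl
  refine ⟨MonoRed.maximalIdeal_eq π hπ yV F hFm hFyV hsq hπW hspan,
    MonoRed.adjoin_residue_eq_top π hπ yV F hFm hFyV hsq hπW hspan, ?_, hFyV,
    MonoRed.repr π hπ yV F hFm hFyV hsq hπW hspan⟩
  rw [← MonoRed.residue_aeval, hFyV, map_zero]

end val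

end Groth.Agent.H10.DVRExtBasic
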