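import Mathlib
import Groth.Prelude.Def_EtRam
import Groth.Agent.H86.TotRam

/-!
A generalisation of `Groth.Agent.H86.TotRam.isTotallyRamified_of_root` (helper86): the hypothesis
on `θ` is only that `v(θ)^q = v(π)` for every valuation subring dominating `A`.  The proof is
helper86's, with the valuation facts taken as a hypothesis.
-/

set_option autoImplicit false
set_option linter.style.haveILetI false
set_option linter.unusedVariables false

universe u

namespace Groth.Agent.H10.TotRamGen

open Groth.Agent.H86.TotRam

theorem isTotallyRamified_of_val (A : Type u) [CommRing A] [IsDomain A]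
    [IsDiscreteValuationRing A] (π : A) (hπ : IsLocalRing.maximalIdeal A = Ideal.span {π})
    (L : Type u) [Field L] (g : A →+* L) (hg : Function.Injective g)
    (θ : L) (q : ℕ) (hq : 0 < q)
    (hfacts : ∀ V : ValuationSubring L, EtRam.Dominates A g V →
      V.valuation θ ≠ 0 ∧ V.valuation θ < 1 ∧ V.valuation θ ^ q = V.valuation (g π))
    (hspan : ∀ y : L, ∃ (N : ℕ) (a : ℕ → A),
      y * g π ^ N = ∑ i ∈ Finset.range q, g (a i) * θ ^ i) :
    EtRam.IsTotallyRamified A g := by
  classical
  have hπ0 : π ≠ 0 := by
    rintro rfl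
    apply IsDiscreteValuationRing.not_a_field A
    rw [hπ]
    exact Ideal.span_singleton_eq_bot.mpr rfl
  have hgπ0 : g π ≠ 0 := fun h => hπ0 (hg (by rw [h, map_zero]))
  have hπmem : π ∈ IsLocalRing.maximalIdeal A := by
    rw [hπ]; exact Ideal.mem_span_singleton_self π
  have key : ∀ V : ValuationSubring L, EtRam.Dominates A g V → ∀ y : L, y ∈ V →
      ∃ a : ℕ → A, y = ∑ i ∈ Finset.range q, g (a i) * θ ^ i := by
    intro V hV
    obtain ⟨ht0, ht1, htq⟩ := hfacts V hV
    have hA1 : ∀ a : A, V.valuation (g a) ≤ 1 :=
      fun a => (V.valuation_le_one_iff _).mpr (hV.1 a)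
    have hs1 : V.valuation (g π) < 1 := hV.2 π hπmem
    have hunit : ∀ a : A, IsUnit a → V.valuation (g a) = 1 := by
      rintro a ⟨u, rfl⟩
      have h1 : V.valuation (g (u : A)) * V.valuation (g ((u⁻¹ : Aˣ) : A)) = 1 := by
        rw [← map_mul, ← map_mul, Units.mul_inv, map_one, map_one]
      apply le_antisymm (hA1 _)
      calc (1 : V.ValueGroup) = V.valuation (g (u : A)) * V.valuation (g ((u⁻¹ : Aˣ) : A)) :=
            h1.symm
        _ ≤ V.valuation (g (u : A)) * 1 := mul_le_mul' le_rfl (hA1 _)
        _ = V.valuation (g (u : A)) := mul_one _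
    have hpos : 0 < V.valuation θ := zero_lt_iff.mpr ht0
    have core : ∀ (a : ℕ → A) (i₀ : ℕ), i₀ < q → IsUnit (a i₀) →
        (∀ i < i₀, a i ∈ IsLocalRing.maximalIdeal A) →
        V.valuation (∑ i ∈ Finset.range q, g (a i) * θ ^ i) = V.valuation θ ^ i₀ := by
      intro a i₀ hi₀ hu hlow
      have hterm : V.valuation (g (a i₀) * θ ^ i₀) = V.valuation θ ^ i₀ := by
        rw [map_mul, hunit _ hu, one_mul, map_pow]
      have h0 : V.valuation (g (a i₀) * θ ^ i₀) ≠ 0 := by
        rw [hterm]; exact pow_ne_zero _ ht0
      have hlt : ∀ i ∈ Finset.range q, i ≠ i₀ →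
          V.valuation (g (a i) * θ ^ i) < V.valuation (g (a i₀) * θ ^ i₀) := by
        intro i hi hne
        rw [hterm, map_mul, map_pow]
        rcases lt_or_gt_of_ne hne with hlt | hgt
        · have hmem := hlow i hlt
          rw [hπ] at hmem
          obtain ⟨a', ha'⟩ := Ideal.mem_span_singleton'.mp hmem
          have h3 : V.valuation (g (a i)) ≤ V.valuation (g π) := by
            rw [← ha', map_mul, map_mul]
            calc V.valuation (g a') * V.valuation (g π) ≤ 1 * V.valuation (g π) :=
                  mul_le_mul' (hA1 a') le_rfl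
              _ = V.valuation (g π) := one_mul _
          calc V.valuation (g (a i)) * V.valuation θ ^ i ≤ V.valuation (g π) * 1 :=
                mul_le_mul' h3 (pow_le_one' ht1.le i)
            _ = V.valuation θ ^ q := by rw [mul_one, htq]
            _ < V.valuation θ ^ i₀ := pow_lt_pow_right_of_lt_one₀ hpos ht1 hi₀
        · calc V.valuation (g (a i)) * V.valuation θ ^ i ≤ 1 * V.valuation θ ^ i :=
                mul_le_mul' (hA1 _) le_rfl
            _ = V.valuation θ ^ i := one_mul _
            _ < V.valuation θ ^ i₀ := pow_lt_pow_right_of_lt_one₀ hpos ht1 hgt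
      have h2 := val_sum_eq_of_lt V.valuation (Finset.range q) (fun i => g (a i) * θ ^ i) i₀
        (Finset.mem_range.mpr hi₀) h0 hlt
      rw [← hterm]
      exact h2
    have ind : ∀ (N : ℕ) (y : L) (a : ℕ → A), V.valuation y ≤ 1 →
        y * g π ^ N = ∑ i ∈ Finset.range q, g (a i) * θ ^ i →
        ∃ a' : ℕ → A, y = ∑ i ∈ Finset.range q, g (a' i) * θ ^ i := by
      intro N
      induction N with
      | zero =>
        intro y a _ h
        exact ⟨a, by rw [← h, pow_zero, mul_one]⟩
      | succ N ih =>
        intro y a hy h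
        have hz : V.valuation (∑ i ∈ Finset.range q, g (a i) * θ ^ i) ≤ V.valuation (g π) := by
          rw [← h, map_mul, map_pow, pow_succ, ← mul_assoc]
          calc V.valuation y * V.valuation (g π) ^ N * V.valuation (g π)
              ≤ 1 * V.valuation (g π) := by
                apply mul_le_mul' _ le_rfl
                calc V.valuation y * V.valuation (g π) ^ N ≤ 1 * 1 :=
                      mul_le_mul' hy (pow_le_one' hs1.le N)
                  _ = 1 := one_mul 1
            _ = V.valuation (g π) := one_mul _
        have hall : ∀ i, i < q → a i ∈ IsLocalRing.maximalIdeal A := by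
          by_contra hcon
          have hex : ∃ i, i < q ∧ a i ∉ IsLocalRing.maximalIdeal A := by
            by_contra hne
            apply hcon
            intro i hi
            by_contra hia
            exact hne ⟨i, hi, hia⟩
          obtain ⟨hi₀q, hi₀a⟩ := Nat.find_spec hex
          have hlow : ∀ i < Nat.find hex, a i ∈ IsLocalRing.maximalIdeal A := by
            intro i hi
            by_contra hni
            exact Nat.find_min hex hi ⟨hi.trans hi₀q, hni⟩
          have hu : IsUnit (a (Nat.find hex)) := by
            by_contra hnu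
            exact hi₀a ((IsLocalRing.mem_maximalIdeal _).mpr hnu)
          have hc := core a (Nat.find hex) hi₀q hu hlow
          rw [hc] at hz
          have h4 := pow_lt_pow_right_of_lt_one₀ hpos ht1 hi₀q
          rw [htq] at h4
          exact absurd hz (not_le.mpr h4)
        have hex' : ∀ i, ∃ a' : A, i < q → a i = π * a' := by
          intro i
          by_cases hi : i < q
          · have hmem := hall i hi
            rw [hπ] at hmem
            obtain ⟨a', ha'⟩ := Ideal.mem_span_singleton'.mp hmem
            exact ⟨a', fun _ => by rw [← ha', mul_comm]⟩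
          · exact ⟨0, fun h => absurd h hi⟩
        choose a' ha' using hex'
        apply ih y a' hy
        apply mul_right_cancel₀ hgπ0
        rw [mul_assoc, ← pow_succ, h, Finset.sum_mul]
        apply Finset.sum_congr rfl
        intro i hi
        rw [ha' i (Finset.mem_range.mp hi), map_mul]
        ring
    intro y hy
    obtain ⟨N, a, h⟩ := hspan y
    exact ind N y a ((V.valuation_le_one_iff _).mpr hy) h
  refine ⟨exists_dominates A L g, ?_, ?_⟩
  · intro V V' hV hV'
    have hle : ∀ W W' : ValuationSubring L, EtRam.Dominates A g W → EtRam.Dominates A g W' →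
        W ≤ W' := by
      intro W W' hW hW' y hy
      obtain ⟨a, rfl⟩ := key W hW y hy
      exact sum_mem (fun i _ => mul_mem (hW'.1 _) (pow_mem ((W'.valuation_le_one_iff _).mp (hfacts W' hW').2.1.le) i))
    exact le_antisymm (hle V V' hV hV') (hle V' V hV' hV)
  · intro V hV y'
    obtain ⟨y, rfl⟩ := IsLocalRing.residue_surjective y'
    obtain ⟨a, ha⟩ := key V hV (y : L) y.2
    obtain ⟨ht0, ht1, htq⟩ := hfacts V hV
    refine ⟨a 0, ?_⟩
    show IsLocalRing.residue V (RingHom.codRestrict g V hV.1 (a 0)) = IsLocalRing.residue V y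
    rw [← sub_eq_zero, ← map_sub, IsLocalRing.residue_eq_zero_iff,
      ValuationSubring.valuation_lt_one_iff]
    obtain ⟨q', hq'⟩ := Nat.exists_eq_succ_of_ne_zero hq.ne'
    rw [hq', Finset.sum_range_succ'] at ha
    have h5 : ((RingHom.codRestrict g V hV.1 (a 0) - y : V) : L) =
        -∑ i ∈ Finset.range q', g (a (i + 1)) * θ ^ (i + 1) := by
      have h6 : ((RingHom.codRestrict g V hV.1 (a 0) - y : V) : L) = g (a 0) - (y : L) := rfl
      rw [h6, ha, pow_zero, mul_one]
      ring
    rw [h5, Valuation.map_neg]
    apply Valuation.map_sum_lt _ one_ne_zero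
    intro i _
    rw [map_mul, map_pow]
    calc V.valuation (g (a (i + 1))) * V.valuation θ ^ (i + 1) ≤ 1 * V.valuation θ ^ (i + 1) :=
          mul_le_mul' ((V.valuation_le_one_iff _).mpr (hV.1 _)) le_rfl
      _ = V.valuation θ ^ (i + 1) := one_mul _
      _ < V.valuation θ ^ 0 :=
          pow_lt_pow_right_of_lt_one₀ (zero_lt_iff.mpr ht0) ht1 (Nat.succ_pos i)
      _ = 1 := pow_zero _

end Groth.Agent.H10.TotRamGen
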