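import Mathlib
import Groth.Prelude.Def_EtRam
import Groth.Agent.H10.MonoRed
import Groth.Agent.H10.DVRExtBasic
import Groth.Agent.H10.TotRamGen
import Groth.Agent.H10.ASField

/-!
Ramification of Artin–Schreier extensions of the fraction field of a DVR of characteristic `p`.
-/

set_option autoImplicit false
set_option linter.style.haveILetI false
set_option linter.unusedSectionVars false
set_option linter.unusedVariables false

open Polynomial IsLocalRing IntermediateField

namespace Groth.Agent.H10.ASRam

universe u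

open Groth.Agent.H10.DVRExtBasic

section defs

variable (p : ℕ) (A K L : Type u) [CommRing A] [IsDomain A] [IsDiscreteValuationRing A] [Field K]
  [Algebra A K] [IsFractionRing A K] [Field L] [Algebra K L] [Algebra A L] [IsScalarTower A K L]

def Case1 : Prop := Module.finrank K L = 1

def Case2 : Prop := EtRam.IsUnramifiedExt A (algebraMap A L) ∧ Module.finrank K L = p

def Case3 : Prop := EtRam.IsTotallyRamified A (algebraMap A L) ∧ Module.finrank K L = p

def Case4 : Prop :=
  (∃ V : ValuationSubring L, EtRam.Dominates A (algebraMap A L) V) ∧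
  (∀ V V' : ValuationSubring L, EtRam.Dominates A (algebraMap A L) V →
    EtRam.Dominates A (algebraMap A L) V' → V = V') ∧
  ∀ (V : ValuationSubring L) (h : EtRam.Dominates A (algebraMap A L) V),
    letI : Algebra A V := (RingHom.codRestrict (algebraMap A L) V h.1).toAlgebra
    ∀ [IsLocalHom (algebraMap A V)],
      EtRam.IsWeaklyUnramified A V ∧
        IsPurelyInseparable (IsLocalRing.ResidueField A) (IsLocalRing.ResidueField V) ∧
        Module.finrank (IsLocalRing.ResidueField A) (IsLocalRing.ResidueField V) = p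

end defs

section mono

variable {p : ℕ} {A K L : Type u} [CommRing A] [IsDomain A] [IsDiscreteValuationRing A] [Field K]
  [Algebra A K] [IsFractionRing A K] [Field L] [Algebra K L] [Algebra A L] [IsScalarTower A K L]
  (π : A) (hπ : maximalIdeal A = Ideal.span {π})
  (y : L) (hgen : K⟮y⟯ = ⊤) (F : A[X]) (hFm : F.Monic) (hFy : aeval y F = 0)

include K hπ hgen hFm hFy in
/-- Separable reduction: unramified. -/
theorem unramified_of_separable (hsep : (F.map (residue A)).Separable) :
    EtRam.IsUnramifiedExt A (algebraMap A L) := by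
  intro V hV
  letI : Algebra A V := (RingHom.codRestrict (algebraMap A L) V hV.1).toAlgebra
  intro hloc
  obtain ⟨hy, hmax, hadj, hroot, -, -⟩ :=
    mono_facts (K := K) π hπ V hV y hgen F hFm hFy hsep.squarefree
  refine ⟨?_, ?_⟩
  · show (maximalIdeal A).map (algebraMap A V) = maximalIdeal V
    rw [hπ, Ideal.map_span, Set.image_singleton, hmax]
  · set yb := residue V ⟨y, hy⟩ with hyb
    have hsepy : IsSeparable (ResidueField A) yb :=
      hsep.of_dvd (minpoly.dvd _ _ hroot)
    have h1 : Algebra.IsSeparable (ResidueField A) (ResidueField A)⟮yb⟯ :=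
      (IntermediateField.isSeparable_adjoin_simple_iff_isSeparable
        (ResidueField A) (ResidueField V)).mpr hsepy
    rw [hadj] at h1
    exact (IntermediateField.isSeparable_top (F := ResidueField A) (E := ResidueField V)).mp h1

include K hπ hgen hFm hFy in
/-- Irreducible purely inseparable reduction `X ^ p - c̄` of degree `p`: case 4. -/
theorem case4_of_irreducible [ExpChar (ResidueField A) p] (c : A)
    (hFb : F.map (residue A) = X ^ p - C (residue A c))
    (hirr : Irreducible (F.map (residue A))) (hp0 : p ≠ 0) : Case4 p A L := by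
  have hsq : Squarefree (F.map (residue A)) := hirr.squarefree
  have hle : ∀ V V' : ValuationSubring L, EtRam.Dominates A (algebraMap A L) V →
      EtRam.Dominates A (algebraMap A L) V' → V ≤ V' := by
    intro V V' hV hV' x hx
    letI aV : Algebra A V := (RingHom.codRestrict (algebraMap A L) V hV.1).toAlgebra
    letI aV' : Algebra A V' := (RingHom.codRestrict (algebraMap A L) V' hV'.1).toAlgebra
    haveI hloc : IsLocalHom (algebraMap A V) := isLocalHom_of_dominates V hV
    haveI hloc' : IsLocalHom (algebraMap A V') := isLocalHom_of_dominates V' hV'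
    obtain ⟨hy, -, -, -, hFyV, hrepr⟩ := mono_facts (K := K) π hπ V hV y hgen F hFm hFy hsq
    obtain ⟨hy', -, -, -, hFyV', -⟩ := mono_facts (K := K) π hπ V' hV' y hgen F hFm hFy hsq
    obtain ⟨s, H, hs, hsH⟩ := hrepr ⟨x, hx⟩
    have hs' : IsUnit (aeval (⟨y, hy'⟩ : V') s) := by
      rw [MonoRed.isUnit_aeval_iff _ F hFm hFyV' hirr]
      exact (MonoRed.isUnit_aeval_iff _ F hFm hFyV hirr s).mp hs
    have h1 : x * aeval y s = aeval y H := by
      have := congrArg (fun t : V => (t : L)) hsH
      rw [← coe_aeval V hV y hy s, ← coe_aeval V hV y hy H]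
      exact this
    obtain ⟨u, hu⟩ := hs'
    have hu1 : ((u : V') : L) = aeval y s := by rw [hu, coe_aeval V' hV' y hy' s]
    have hu0 : aeval y s ≠ 0 := by
      rw [← hu1]
      intro h0
      have : (u : V') = 0 := Subtype.ext h0
      exact u.ne_zero this
    have hx' : x = aeval y H * (aeval y s)⁻¹ := by
      rw [← h1, mul_assoc, mul_inv_cancel₀ hu0, mul_one]
    have hinv : (aeval y s)⁻¹ = ((u⁻¹ : V'ˣ) : V') := by
      rw [← hu1]
      have h2 : ((u : V') : L) * (((u⁻¹ : V'ˣ) : V') : L) = 1 := by
        have := congrArg (fun t : V' => (t : L)) (Units.mul_inv u)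
        exact this
      exact inv_eq_of_mul_eq_one_right h2
    rw [hx', hinv, ← coe_aeval V' hV' y hy' H]
    exact V'.mul_mem _ _ (Subtype.mem _) (Subtype.mem _)
  refine ⟨Groth.Agent.H86.TotRam.exists_dominates A L (algebraMap A L), ?_, ?_⟩
  · intro V V' hV hV'
    exact le_antisymm (hle V V' hV hV') (hle V' V hV' hV)
  · intro V hV
    letI : Algebra A V := (RingHom.codRestrict (algebraMap A L) V hV.1).toAlgebra
    intro hloc
    obtain ⟨hy, hmax, hadj, hroot, hFyV, -⟩ :=
      mono_facts (K := K) π hπ V hV y hgen F hFm hFy hsq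
    set yb := residue V ⟨y, hy⟩ with hyb
    refine ⟨?_, ?_, ?_⟩
    · show (maximalIdeal A).map (algebraMap A V) = maximalIdeal V
      rw [hπ, Ideal.map_span, Set.image_singleton, hmax]
    · have hpow : yb ^ p = algebraMap (ResidueField A) (ResidueField V) (residue A c) := by
        rw [hFb, map_sub, map_pow, aeval_X, aeval_C, sub_eq_zero] at hroot
        exact hroot
      have h1 : IsPurelyInseparable (ResidueField A) (ResidueField A)⟮yb⟯ :=
        (IntermediateField.isPurelyInseparable_adjoin_simple_iff_pow_mem (ResidueField A)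
          (ResidueField V) p).mpr ⟨1, by rw [pow_one, hpow]; exact ⟨_, rfl⟩⟩
      rw [hadj] at h1
      exact (IntermediateField.topEquiv (F := ResidueField A)
        (E := ResidueField V)).isPurelyInseparable
    · have hmin := MonoRed.minpoly_eq (⟨y, hy⟩ : V) F hFm hFyV hirr
      have hint : IsIntegral (ResidueField A) yb :=
        MonoRed.isIntegral_residue (⟨y, hy⟩ : V) F hFm hFyV
      have h1 := IntermediateField.adjoin.finrank hint
      rw [hadj, IntermediateField.finrank_top', hmin, hFb, natDegree_X_pow_sub_C] at h1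
      exact h1

end mono

section AS

variable (p : ℕ) [hp : Fact p.Prime] {A K L : Type u} [CommRing A] [IsDomain A]
  [IsDiscreteValuationRing A] [Field K] [Algebra A K] [IsFractionRing A K] [Field L] [Algebra K L]
  [Algebra A L] [IsScalarTower A K L] [CharP K p]
  (π : A) (hπ : maximalIdeal A = Ideal.span {π})

include K in
lemma charP_residue : CharP (ResidueField A) p := by
  rw [CharP.charP_iff_prime_eq_zero hp.out]
  have h0 : (p : A) = 0 := by
    apply IsFractionRing.injective A K
    rw [map_natCast, map_zero, CharP.cast_eq_zero K p]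
  rw [← map_natCast (residue A), h0, map_zero]

variable (ξ : K) (z : L) (hz : z ^ p - z = algebraMap K L ξ) (hgen : K⟮z⟯ = ⊤)

include hπ hz hgen in
theorem caseA (a : A) (ha : algebraMap A K a = ξ) : Case1 K L ∨ Case2 p A K L := by
  rcases ASField.finrank_eq_one_or p ξ z hz hgen with h | h
  · exact Or.inl h
  · right
    refine ⟨?_, h⟩
    haveI : CharP (ResidueField A) p := charP_residue (K := K) p
    let F : A[X] := X ^ p - (X + C a)
    have hFm : F.Monic := monic_X_pow_sub (by
      rw [degree_X_add_C]
      exact_mod_cast hp.out.one_lt)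
    have hFy : aeval z F = 0 := by
      have h1 : algebraMap A L a = algebraMap K L ξ := by
        rw [← ha, ← IsScalarTower.algebraMap_apply]
      simp only [F, map_sub, map_pow, aeval_X, map_add, aeval_C]
      rw [h1, ← hz]
      ring
    have hsep : (F.map (residue A)).Separable := by
      have h1 : F.map (residue A) = ASField.asPoly p (residue A a) := by
        simp only [F, ASField.asPoly, Polynomial.map_sub, Polynomial.map_pow, Polynomial.map_X,
          Polynomial.map_add, Polynomial.map_C]
      rw [h1]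
      exact ASField.asPoly_separable p _
    exact unramified_of_separable (K := K) π hπ z hgen F hFm hFy hsep

include hπ hz hgen in
theorem caseB (n : ℕ) (a : Aˣ) (hn : 0 < n) (hpn : ¬ p ∣ n)
    (hξ : ξ * algebraMap A K π ^ n = algebraMap A K a) : Case3 p A K L := by
  classical
  have hp1 : 1 < p := hp.out.one_lt
  have hξL : algebraMap K L ξ * algebraMap A L π ^ n = algebraMap A L (a : A) := by
    have := congrArg (algebraMap K L) hξ
    rwa [map_mul, map_pow, ← IsScalarTower.algebraMap_apply, ← IsScalarTower.algebraMap_apply]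
      at this
  -- valuation facts
  have hval : ∀ V : ValuationSubring L, EtRam.Dominates A (algebraMap A L) V →
      1 < V.valuation z ∧ V.valuation z ^ p * V.valuation (algebraMap A L π) ^ n = 1 := by
    intro V hV
    have hs1 := val_pi_lt_one π hπ V hV
    have hvξ : V.valuation (algebraMap K L ξ) * V.valuation (algebraMap A L π) ^ n = 1 := by
      rw [← map_pow, ← map_mul, hξL, val_unit V hV _ a.isUnit]
    have hvz : 1 < V.valuation z := by
      by_contra hcon
      rw [not_lt] at hcon
      have h1 : V.valuation (algebraMap K L ξ) ≤ 1 := by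
        rw [← hz]
        refine le_trans (Valuation.map_sub _ _ _) (max_le ?_ hcon)
        rw [map_pow]
        exact pow_le_one' hcon p
      have h2 : V.valuation (algebraMap K L ξ) * V.valuation (algebraMap A L π) ^ n < 1 := by
        calc V.valuation (algebraMap K L ξ) * V.valuation (algebraMap A L π) ^ n
            ≤ 1 * V.valuation (algebraMap A L π) ^ n := mul_le_mul' h1 le_rfl
          _ = V.valuation (algebraMap A L π) ^ n := one_mul _
          _ < 1 := pow_lt_one₀ zero_le hs1 hn.ne'
      rw [hvξ] at h2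
      exact lt_irrefl _ h2
    refine ⟨hvz, ?_⟩
    have hvzp : V.valuation z ^ p = V.valuation (algebraMap K L ξ) := by
      rw [← hz, ← map_pow]
      refine (Valuation.map_sub_eq_of_lt_left _ ?_).symm
      rw [map_pow]
      calc V.valuation z = V.valuation z ^ 1 := (pow_one _).symm
        _ < V.valuation z ^ p := pow_lt_pow_right₀ hvz hp1
    rw [hvzp, hvξ]
  -- finrank = p
  obtain ⟨V₀, hV₀⟩ := Groth.Agent.H86.TotRam.exists_dominates A L (algebraMap A L)
  have hs0 : V₀.valuation (algebraMap A L π) ≠ 0 := val_pi_ne_zero (K := K) π hπ V₀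
  have hs1 : V₀.valuation (algebraMap A L π) < 1 := val_pi_lt_one π hπ V₀ hV₀
  have hinj := pow_right_injective₀ (zero_lt_iff.mpr hs0) hs1.ne
  have hfin : Module.finrank K L = p := by
    rcases ASField.finrank_eq_one_or p ξ z hz hgen with h | h
    swap
    · exact h
    exfalso
    rw [ASField.finrank_eq_natDegree p ξ z hz hgen, minpoly.natDegree_eq_one_iff] at h
    obtain ⟨z₀, rfl⟩ := h
    obtain ⟨hvz, hvzn⟩ := hval V₀ hV₀
    have hz₀ : z₀ ≠ 0 := by
      rintro rfl
      rw [map_zero, map_zero] at hvz
      exact not_lt.mpr zero_le hvz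
    obtain ⟨k₁, k₂, hk⟩ := val_K π hπ V₀ hV₀ z₀ hz₀
    have h1 : V₀.valuation (algebraMap A L π) ^ (p * k₁ + n) =
        V₀.valuation (algebraMap A L π) ^ (p * k₂) := by
      have h2 := congrArg (fun t => t ^ p) hk
      simp only [mul_pow, ← pow_mul] at h2
      calc V₀.valuation (algebraMap A L π) ^ (p * k₁ + n)
          = V₀.valuation (algebraMap A L π) ^ (k₁ * p) *
              V₀.valuation (algebraMap A L π) ^ n := by rw [pow_add, mul_comm p k₁]
        _ = V₀.valuation (algebraMap K L z₀) ^ p * V₀.valuation (algebraMap A L π) ^ (k₂ * p) *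
              V₀.valuation (algebraMap A L π) ^ n := by rw [h2]
        _ = (V₀.valuation (algebraMap K L z₀) ^ p * V₀.valuation (algebraMap A L π) ^ n) *
              V₀.valuation (algebraMap A L π) ^ (k₂ * p) := mul_right_comm _ _ _
        _ = V₀.valuation (algebraMap A L π) ^ (p * k₂) := by rw [hvzn, one_mul, mul_comm k₂ p]
    have h3 : p * k₁ + n = p * k₂ := hinj h1
    exact hpn ((Nat.dvd_add_right (dvd_mul_right p k₁)).mp (h3 ▸ dvd_mul_right p k₂))
  refine ⟨?_, hfin⟩
  haveI : FiniteDimensional K L := ASField.finiteDimensional p ξ z hz hgen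
  -- the exponents
  obtain ⟨i, j, hij⟩ : ∃ i j : ℕ, i * n + 1 = j * p := by
    have hcop : Nat.Coprime n p := (Nat.Coprime.symm ((Nat.Prime.coprime_iff_not_dvd hp.out).mpr hpn))
    obtain ⟨m, -, hm⟩ := Nat.exists_mul_mod_eq_of_coprime (p - 1) hcop hp.out.ne_zero
    have hdvd : p ∣ m * n + 1 := by
      rw [Nat.dvd_iff_mod_eq_zero, Nat.add_mod, mul_comm m n, hm,
        Nat.mod_eq_of_lt (Nat.sub_lt hp.out.pos one_pos),
        Nat.mod_eq_of_lt hp1]
      have : p - 1 + 1 = p := Nat.sub_add_cancel hp.out.pos
      rw [this, Nat.mod_self]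
    obtain ⟨j, hj⟩ := hdvd
    exact ⟨m, j, by rw [hj, mul_comm]⟩
  set θ : L := algebraMap A L π ^ j * z ^ i with hθ
  have hfacts : ∀ V : ValuationSubring L, EtRam.Dominates A (algebraMap A L) V →
      V.valuation θ ≠ 0 ∧ V.valuation θ < 1 ∧
        V.valuation θ ^ p = V.valuation (algebraMap A L π) := by
    intro V hV
    obtain ⟨hvz, hvzn⟩ := hval V hV
    have hs0' : V.valuation (algebraMap A L π) ≠ 0 := val_pi_ne_zero (K := K) π hπ V
    have hs1' : V.valuation (algebraMap A L π) < 1 := val_pi_lt_one π hπ V hV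
    have hθp : V.valuation θ ^ p = V.valuation (algebraMap A L π) := by
      rw [hθ, map_mul, map_pow, map_pow, mul_pow, ← pow_mul, ← pow_mul, ← hij, pow_succ,
        mul_comm i p, pow_mul (V.valuation z), mul_comm i n, pow_mul]
      calc (V.valuation (algebraMap A L π) ^ n) ^ i * V.valuation (algebraMap A L π) *
            (V.valuation z ^ p) ^ i
          = (V.valuation z ^ p * V.valuation (algebraMap A L π) ^ n) ^ i *
              V.valuation (algebraMap A L π) := by
            rw [mul_pow, mul_right_comm, mul_comm ((V.valuation z ^ p) ^ i)]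
        _ = V.valuation (algebraMap A L π) := by rw [hvzn, one_pow, one_mul]
    refine ⟨?_, ?_, hθp⟩
    · intro h0
      rw [h0, zero_pow hp.out.ne_zero] at hθp
      exact hs0' hθp.symm
    · by_contra hcon
      rw [not_lt] at hcon
      have : 1 ≤ V.valuation θ ^ p := one_le_pow₀ hcon
      rw [hθp] at this
      exact not_lt.mpr this hs1'
  -- θ generates
  have hθK : θ ∉ Set.range (algebraMap K L) := by
    rintro ⟨θ₀, hθ₀⟩
    obtain ⟨h0, -, hθp⟩ := hfacts V₀ hV₀
    have hθ₀0 : θ₀ ≠ 0 := by
      rintro rfl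
      rw [map_zero] at hθ₀
      rw [← hθ₀, map_zero] at h0
      exact h0 rfl
    obtain ⟨k₁, k₂, hk⟩ := val_K π hπ V₀ hV₀ θ₀ hθ₀0
    rw [hθ₀] at hk
    have h2 := congrArg (fun t => t ^ p) hk
    simp only [mul_pow, ← pow_mul, hθp] at h2
    have h3 : V₀.valuation (algebraMap A L π) ^ (1 + k₂ * p) =
        V₀.valuation (algebraMap A L π) ^ (k₁ * p) := by
      rw [pow_add, pow_one, h2]
    have h4 : 1 + k₂ * p = k₁ * p := hinj h3
    have h5 : p ∣ 1 := (Nat.dvd_add_left (dvd_mul_left p k₂)).mp (h4 ▸ dvd_mul_left p k₁)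
    exact hp.out.one_lt.ne' (Nat.dvd_one.mp h5)
  have hθint : IsIntegral K θ := IsIntegral.of_finite K θ
  have hθtop : K⟮θ⟯ = ⊤ := by
    have hmul := Module.finrank_mul_finrank K K⟮θ⟯ L
    rw [hfin] at hmul
    have hdvd : Module.finrank K K⟮θ⟯ ∣ p := ⟨_, hmul.symm⟩
    rcases (Nat.dvd_prime hp.out).mp hdvd with h1 | h1
    · exfalso
      rw [IntermediateField.finrank_eq_one_iff, IntermediateField.adjoin_simple_eq_bot_iff,
        IntermediateField.mem_bot] at h1
      exact hθK h1
    · apply IntermediateField.eq_of_le_of_finrank_eq le_top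
      rw [h1, IntermediateField.finrank_top', hfin]
  have hdeg : (minpoly K θ).natDegree = p := by
    rw [← IntermediateField.adjoin.finrank hθint, hθtop, IntermediateField.finrank_top', hfin]
  have hspan : ∀ y : L, ∃ (N : ℕ) (a : ℕ → A),
      y * algebraMap A L π ^ N = ∑ i ∈ Finset.range p, algebraMap A L (a i) * θ ^ i := by
    intro y
    obtain ⟨N, H, hH, hy⟩ := exists_pow_mul_eq_aeval π hπ θ hθint hθtop y
    refine ⟨N, fun i => H.coeff i, ?_⟩
    rw [hy]
    rcases hH with rfl | hH
    · simp
    · rw [hdeg] at hH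
      rw [aeval_eq_sum_range' hH]
      apply Finset.sum_congr rfl
      intro i _
      rw [Algebra.smul_def]
  exact Groth.Agent.H10.TotRamGen.isTotallyRamified_of_val A π hπ L (algebraMap A L)
    (algebraMap_injective (K := K)) θ p hp.out.pos hfacts hspan

include hπ hz hgen in
theorem caseC (n : ℕ) (a : A) (hn : 0 < n) (hpn : p ∣ n)
    (hres : ∀ r : A, residue A a ≠ residue A r ^ p)
    (hξ : ξ * algebraMap A K π ^ n = algebraMap A K a) : Case4 p A L := by
  obtain ⟨m, rfl⟩ := hpn
  have hp1 : 1 < p := hp.out.one_lt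
  have hm : 0 < m := by
    rcases Nat.eq_zero_or_pos m with h | h
    · rw [h, mul_zero] at hn
      exact absurd hn (lt_irrefl 0)
    · exact h
  have hξL : algebraMap K L ξ * algebraMap A L π ^ (p * m) = algebraMap A L a := by
    have := congrArg (algebraMap K L) hξ
    rwa [map_mul, map_pow, ← IsScalarTower.algebraMap_apply, ← IsScalarTower.algebraMap_apply]
      at this
  haveI : CharP (ResidueField A) p := charP_residue (K := K) p
  haveI : ExpChar (ResidueField A) p := ExpChar.prime hp.out
  have hgπ0 : algebraMap A L π ≠ 0 := algebraMap_pi_ne_zero (K := K) π hπ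
  set y : L := algebraMap A L π ^ m * z with hy
  let F : A[X] := X ^ p - (C (π ^ (m * (p - 1))) * X + C a)
  have hFm : F.Monic := monic_X_pow_sub (lt_of_le_of_lt (degree_linear_le) (by exact_mod_cast hp1))
  have hexp : m * (p - 1) + m = p * m := by
    have : p - 1 + 1 = p := Nat.sub_add_cancel hp.out.pos
    calc m * (p - 1) + m = m * (p - 1 + 1) := by ring
      _ = p * m := by rw [this, mul_comm]
  have hFy : aeval y F = 0 := by
    simp only [F, map_sub, map_pow, aeval_X, map_add, map_mul, aeval_C]
    rw [hy, mul_pow, ← pow_mul, mul_comm m p, ← hξL, ← hz, ← mul_assoc, ← pow_add, hexp]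
    ring
  have hπres : residue A π = 0 := by
    rw [residue_eq_zero_iff, hπ]
    exact Ideal.mem_span_singleton_self π
  have hFb : F.map (residue A) = X ^ p - C (residue A a) := by
    have he : m * (p - 1) ≠ 0 := Nat.mul_ne_zero hm.ne' (Nat.sub_ne_zero_of_lt hp1)
    simp only [F, Polynomial.map_sub, Polynomial.map_pow, Polynomial.map_X, Polynomial.map_add,
      Polynomial.map_mul, Polynomial.map_C, map_pow, hπres, zero_pow he, map_zero, zero_mul,
      zero_add]
  have hirr : Irreducible (F.map (residue A)) := by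
    rw [hFb]
    apply X_pow_sub_C_irreducible_of_prime hp.out
    intro b hb
    obtain ⟨r, rfl⟩ := residue_surjective b
    exact hres r hb.symm
  have hgen' : K⟮y⟯ = ⊤ := by
    rw [eq_top_iff, ← hgen, IntermediateField.adjoin_simple_le_iff]
    have hmem : y ∈ K⟮y⟯ := IntermediateField.mem_adjoin_simple_self K y
    have hc : algebraMap A L π ^ m = algebraMap K L (algebraMap A K π ^ m) := by
      rw [map_pow, ← IsScalarTower.algebraMap_apply]
    have hzy : z = (algebraMap K L (algebraMap A K π ^ m))⁻¹ * y := by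
      rw [hy, ← hc, ← mul_assoc, inv_mul_cancel₀ (pow_ne_zero m hgπ0), one_mul]
    rw [hzy]
    exact mul_mem (inv_mem (IntermediateField.algebraMap_mem _ _)) hmem
  exact case4_of_irreducible (K := K) π hπ y hgen' F hFm hFy a hFb hirr hp.out.ne_zero

include hπ in
theorem cases_aux (N : ℕ) : ∀ (ξ : K) (z : L), z ^ p - z = algebraMap K L ξ → K⟮z⟯ = ⊤ →
    (∃ a : A, ξ * algebraMap A K π ^ N = algebraMap A K a) →
    Case1 K L ∨ Case2 p A K L ∨ Case3 p A K L ∨ Case4 p A L := by
  haveI : CharP L p := ASField.charP_L p (K := K) (L := L)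
  have hπK0 : algebraMap A K π ≠ 0 := by
    intro h
    exact (irreducible_pi π hπ).ne_zero (IsFractionRing.injective A K (by rw [h, map_zero]))
  induction N with
  | zero =>
    intro ξ z hz hgen ⟨a, ha⟩
    rw [pow_zero, mul_one] at ha
    rcases caseA p π hπ ξ z hz hgen a ha.symm with h | h
    · exact Or.inl h
    · exact Or.inr (Or.inl h)
  | succ N ih =>
    intro ξ z hz hgen ⟨a, ha⟩
    by_cases hau : IsUnit a
    swap
    · -- `a` divisible by `π`
      have hmem : a ∈ maximalIdeal A := (mem_maximalIdeal a).mpr hau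
      rw [hπ] at hmem
      obtain ⟨a', rfl⟩ := Ideal.mem_span_singleton'.mp hmem
      apply ih ξ z hz hgen
      refine ⟨a', ?_⟩
      apply mul_right_cancel₀ hπK0
      rw [mul_assoc, ← pow_succ, ha, map_mul]
    obtain ⟨u, rfl⟩ := hau
    by_cases hpn : p ∣ N + 1
    swap
    · exact Or.inr (Or.inr (Or.inl (caseB p π hπ ξ z hz hgen (N + 1) u (Nat.succ_pos N) hpn ha)))
    by_cases hres : ∀ r : A, residue A (u : A) ≠ residue A r ^ p
    · exact Or.inr (Or.inr (Or.inr
        (caseC p π hπ ξ z hz hgen (N + 1) u (Nat.succ_pos N) hpn hres ha)))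
    push Not at hres
    obtain ⟨r, hr⟩ := hres
    obtain ⟨m, hm⟩ := hpn
    have hm0 : 0 < m := by
      rcases Nat.eq_zero_or_pos m with h | h
      · rw [h, mul_zero] at hm
        exact absurd hm (Nat.succ_ne_zero N)
      · exact h
    have hp1 : 1 < p := hp.out.one_lt
    set b : K := algebraMap A K r / algebraMap A K π ^ m with hb
    have hbπ : b * algebraMap A K π ^ m = algebraMap A K r := by
      rw [hb, div_mul_cancel₀ _ (pow_ne_zero m hπK0)]
    set ξ' : K := ξ - (b ^ p - b) with hξ'
    set z' : L := z - algebraMap K L b with hz'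
    have hz'eq : z' ^ p - z' = algebraMap K L ξ' := by
      rw [hz', sub_pow_char, hξ', map_sub, map_sub, map_pow, ← hz]
      ring
    have hgen' : K⟮z'⟯ = ⊤ := by
      rw [eq_top_iff, ← hgen, IntermediateField.adjoin_simple_le_iff]
      have hmem : z' ∈ K⟮z'⟯ := IntermediateField.mem_adjoin_simple_self K z'
      have : z = z' + algebraMap K L b := by rw [hz']; ring
      rw [this]
      exact add_mem hmem (IntermediateField.algebraMap_mem _ _)
    apply ih ξ' z' hz'eq hgen'
    -- ξ' π^N ∈ A
    have hsub : (u : A) - r ^ p ∈ maximalIdeal A := by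
      rw [← residue_eq_zero_iff, map_sub, map_pow, hr, sub_self]
    rw [hπ] at hsub
    obtain ⟨c, hc⟩ := Ideal.mem_span_singleton'.mp hsub
    have he : m * (p - 1) + m = p * m := by
      have : p - 1 + 1 = p := Nat.sub_add_cancel hp.out.pos
      calc m * (p - 1) + m = m * (p - 1 + 1) := by ring
        _ = p * m := by rw [this, mul_comm]
    have he1 : 0 < m * (p - 1) := Nat.mul_pos hm0 (Nat.sub_pos_of_lt hp1)
    obtain ⟨e, he'⟩ : ∃ e : ℕ, m * (p - 1) = e + 1 := Nat.exists_eq_succ_of_ne_zero he1.ne'
    refine ⟨c + r * π ^ e, ?_⟩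
    apply mul_right_cancel₀ hπK0
    rw [mul_assoc, ← pow_succ, hξ', sub_mul, ha, hm, sub_mul, ← he, pow_add,
      show b ^ p * (algebraMap A K π ^ (m * (p - 1)) * algebraMap A K π ^ m) =
        (b * algebraMap A K π ^ m) ^ p from by
          rw [mul_pow, ← pow_mul, ← pow_add, mul_comm m p, ← he],
      show b * (algebraMap A K π ^ (m * (p - 1)) * algebraMap A K π ^ m) =
        (b * algebraMap A K π ^ m) * algebraMap A K π ^ (m * (p - 1)) from by ring,
      hbπ, he', map_add, map_mul, map_pow, add_mul, ← map_mul, hc, map_sub, map_pow]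
    ring

include hπ in
/-- The four cases for an arbitrary Artin–Schreier extension. -/
theorem cases (ξ : K) (z : L) (hz : z ^ p - z = algebraMap K L ξ) (hgen : K⟮z⟯ = ⊤) :
    Case1 K L ∨ Case2 p A K L ∨ Case3 p A K L ∨ Case4 p A L := by
  obtain ⟨N, a, ha⟩ := Groth.Agent.H86.TotRam.exists_mul_pow_eq A K π (irreducible_pi π hπ) ξ
  exact cases_aux p π hπ N ξ z hz hgen ⟨a, ha⟩

end AS

end Groth.Agent.H10.ASRam
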