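import Mathlib
import Groth.Prelude.Def_EtRam
import Groth.Agent.H10.ASRam

/-! (P2b) for S7155: the totally ramified Artin–Schreier extension killing `a / π ^ s`. -/

set_option autoImplicit false
set_option linter.style.haveILetI false
set_option linter.unusedVariables false

universe u

open IsLocalRing Polynomial IntermediateField

namespace Groth.Agent.H10.AS55P2b

/-- (P2b) the totally ramified Artin–Schreier extension killing `a / π ^ s`. -/
theorem exists_AS_ext (p : ℕ) (hp : p.Prime) (A K : Type u) [CommRing A] [IsDomain A] [IsDiscreteValuationRing A]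
    [Field K] [Algebra A K] [IsFractionRing A K] [CharP K p]
    (π : A) (hπ : maximalIdeal A = Ideal.span {π}) (η' : K) (s : ℕ) (a : Aˣ) (hs : 0 < s) (hps : ¬ p ∣ s)
    (hη' : η' * algebraMap A K π ^ s = algebraMap A K a) :
    ∃ (K₁ : Type u) (_ : Field K₁) (_ : Algebra K K₁), FiniteDimensional K K₁ ∧ Algebra.IsSeparable K K₁ ∧
      EtRam.IsTotallyRamified A ((algebraMap K K₁).comp (algebraMap A K)) ∧
      ∃ y₀ : K₁, y₀ ^ p - y₀ = algebraMap K K₁ η' := by
  classical
  haveI : Fact p.Prime := ⟨hp⟩
  -- a root of the Artin–Schreier polynomial in an algebraic closure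
  let Kb := AlgebraicClosure K
  let f : Kb[X] := X ^ p - X - C (algebraMap K Kb η')
  have hfdeg : f.degree ≠ 0 := by
    have h1 : f = X ^ p - (X + C (algebraMap K Kb η')) := by simp only [f]; ring
    have h2 : (X + C (algebraMap K Kb η') : Kb[X]).degree < ((X : Kb[X]) ^ p).degree := by
      rw [degree_X_pow, degree_X_add_C]
      exact_mod_cast hp.one_lt
    rw [h1, degree_sub_eq_left_of_degree_lt h2, degree_X_pow]
    exact_mod_cast hp.ne_zero
  obtain ⟨y, hy⟩ := IsAlgClosed.exists_root f hfdeg
  have hy' : y ^ p - y = algebraMap K Kb η' := by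
    have : y ^ p - y - algebraMap K Kb η' = 0 := by
      simpa [f, IsRoot.def] using hy
    exact sub_eq_zero.mp this
  -- the field K⟮y⟯
  let K₁ : Type u := K⟮y⟯
  letI algAK₁ : Algebra A K₁ := ((algebraMap K K₁).comp (algebraMap A K)).toAlgebra
  haveI : IsScalarTower A K K₁ := IsScalarTower.of_algebraMap_eq (fun _ => rfl)
  let z : K₁ := AdjoinSimple.gen K y
  have hz : z ^ p - z = algebraMap K K₁ η' := by
    apply Subtype.ext
    show (z : Kb) ^ p - (z : Kb) = _
    rw [AdjoinSimple.coe_gen]
    exact hy'
  have hgen : K⟮z⟯ = ⊤ := by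
    apply IntermediateField.map_injective K⟮y⟯.val
    rw [IntermediateField.adjoin_map, Set.image_singleton, ← AlgHom.fieldRange_eq_map,
      IntermediateField.fieldRange_val]
    rfl
  have hgal : IsGalois K K₁ := Groth.Agent.H10.ASField.isGalois p η' z hz hgen
  have hfin : FiniteDimensional K K₁ := Groth.Agent.H10.ASField.finiteDimensional p η' z hz hgen
  have h3 := Groth.Agent.H10.ASRam.caseB p π hπ η' z hz hgen s a hs hps hη'
  refine ⟨K₁, inferInstance, inferInstance, hfin, inferInstance, h3.1, z, hz⟩

end Groth.Agent.H10.AS55P2b
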