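import Mathlib
import Groth.Prelude.Def_EtRam
import Groth.Agent.H78.ValExt

set_option autoImplicit false
set_option maxHeartbeats 400000
set_option linter.style.haveILetI false

/-! Unramified extensions of DVRs and base change along an extension of DVRs. -/

namespace Groth.Agent.H10.UnramExt

universe u

open IsLocalRing TensorProduct

section Loc

variable (A K L : Type u) [CommRing A] [IsDomain A] [IsDiscreteValuationRing A] [Field K]
  [Algebra A K] [IsFractionRing A K] [Field L] [Algebra K L] [FiniteDimensional K L]
  [Algebra.IsSeparable K L] [Algebra A L] [IsScalarTower A K L]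

include K in
/-- A valuation subring of a finite separable extension `L` of `K = Frac A` dominating the DVR `A`
is essentially of finite type over `A`. -/
theorem essFiniteType_of_dominates (V : ValuationSubring L)
    (hV : EtRam.Dominates A (algebraMap A L) V) :
    letI : Algebra A V := (RingHom.codRestrict (algebraMap A L) V hV.1).toAlgebra
    Algebra.EssFiniteType A V := by
  letI algAV : Algebra A V := (RingHom.codRestrict (algebraMap A L) V hV.1).toAlgebra
  haveI hBded : IsDedekindDomain (integralClosure A L) := integralClosure.isDedekindDomain A K L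
  haveI hBfr : IsFractionRing (integralClosure A L) L :=
    integralClosure.isFractionRing_of_finite_extension K L
  haveI hfin : Module.Finite A (integralClosure A L) :=
    IsIntegralClosure.finite A K L (integralClosure A L)
  have hBV : ∀ b : integralClosure A L, (b : L) ∈ V := by
    intro b
    obtain ⟨p, hp, hpx⟩ := b.2
    have hc : (algebraMap V.toSubring L).comp
        (RingHom.codRestrict (algebraMap A L) V.toSubring hV.1) = algebraMap A L :=
      RingHom.ext (fun a => rfl)
    have hint : IsIntegral V.toSubring (b : L) := by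
      refine ⟨p.map (RingHom.codRestrict (algebraMap A L) V.toSubring hV.1), hp.map _, ?_⟩
      rw [Polynomial.eval₂_map, hc]
      exact hpx
    exact LocalSubring.mem_of_isMax_of_isIntegral V.isMax_toLocalSubring hint
  let ι : integralClosure A L →ₐ[A] V :=
    { RingHom.codRestrict ((integralClosure A L).val : integralClosure A L →+* L) V hBV with
      commutes' := fun a => Subtype.ext rfl }
  have hιval : ∀ b, ((ι b : V) : L) = (b : L) := fun b => rfl
  have hιinj : Function.Injective ι := fun b b' h =>
    Subtype.ext (congrArg (fun v : V => (v : L)) h)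
  obtain ⟨n, hn⟩ : ∃ n : Ideal (integralClosure A L), n = (maximalIdeal V).comap ι.toRingHom :=
    ⟨_, rfl⟩
  have hnmem : ∀ b, b ∈ n ↔ ¬ IsUnit (ι b) := by
    intro b; rw [hn, Ideal.mem_comap, mem_maximalIdeal, mem_nonunits_iff]; rfl
  haveI : n.IsPrime := by rw [hn]; exact Ideal.comap_isPrime ι.toRingHom _
  have hunits : ∀ y : n.primeCompl, IsUnit (ι y) := by
    intro y
    by_contra hy
    exact y.2 ((hnmem _).mpr hy)
  let ρ : Localization.AtPrime n →ₐ[A] V :=
    IsLocalization.liftAlgHom (M := n.primeCompl) (f := ι) hunits
  have hρ : ∀ b, ρ (algebraMap _ _ b) = ι b := fun b => IsLocalization.lift_eq _ b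
  have hρloc : ∀ y, IsUnit (ρ y) → IsUnit y := by
    intro y hy
    obtain ⟨⟨b, s⟩, rfl⟩ := IsLocalization.mk'_surjective n.primeCompl y
    have h1 : ρ (IsLocalization.mk' _ b s) * ι s = ι b := by
      rw [← hρ (s : integralClosure A L), ← map_mul, IsLocalization.mk'_spec, hρ]
    have hb : IsUnit (ι b) := by rw [← h1]; exact hy.mul (hunits s)
    have hbn : b ∈ n.primeCompl := fun hbn => (hnmem b).mp hbn hb
    exact (IsLocalization.AtPrime.isUnit_mk'_iff (Localization.AtPrime n) n b s).mpr hbn
  obtain ⟨π, hπ⟩ := IsDiscreteValuationRing.exists_irreducible A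
  have hπm : π ∈ maximalIdeal A := by
    rw [hπ.maximalIdeal_eq]; exact Ideal.mem_span_singleton_self π
  have hinjAL : Function.Injective (algebraMap A L) := by
    rw [IsScalarTower.algebraMap_eq A K L]
    exact (algebraMap K L).injective.comp (IsFractionRing.injective A K)
  have hn0 : n ≠ ⊥ := by
    intro h0
    have h1 : algebraMap A (integralClosure A L) π ∈ n := by
      rw [hn, Ideal.mem_comap]
      show ι (algebraMap A (integralClosure A L) π) ∈ maximalIdeal V
      rw [ValuationSubring.valuation_lt_one_iff]
      exact hV.2 π hπm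
    rw [h0, Ideal.mem_bot] at h1
    have h2 : algebraMap A L π = 0 := congrArg (fun b : integralClosure A L => (b : L)) h1
    exact hπ.ne_zero (hinjAL (by rw [h2, map_zero]))
  haveI : IsDomain (Localization.AtPrime n) :=
    IsLocalization.isDomain_localization n.primeCompl_le_nonZeroDivisors
  haveI hO : IsDiscreteValuationRing (Localization.AtPrime n) :=
    IsLocalization.AtPrime.isDiscreteValuationRing_of_dedekind_domain (integralClosure A L) hn0
      (Localization.AtPrime n)
  letI algOL : Algebra (Localization.AtPrime n) L := (V.subtype.comp ρ.toRingHom).toAlgebra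
  haveI : IsScalarTower (integralClosure A L) (Localization.AtPrime n) L :=
    IsScalarTower.of_algebraMap_eq (fun b => by
      show (b : L) = V.subtype (ρ (algebraMap _ _ b))
      rw [hρ]; rfl)
  haveI : IsFractionRing (Localization.AtPrime n) L :=
    IsFractionRing.isFractionRing_of_isDomain_of_isLocalization n.primeCompl
      (Localization.AtPrime n) L
  have hρsurj : Function.Surjective ρ := by
    intro x
    rcases ValuationRing.isInteger_or_isInteger (Localization.AtPrime n) (x : L) with
      ⟨y, hy⟩ | ⟨y, hy⟩
    · exact ⟨y, Subtype.ext hy⟩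
    · have hy' : ((ρ y : V) : L) = (x : L)⁻¹ := hy
      by_cases hx0 : x = 0
      · exact ⟨0, by rw [map_zero, hx0]⟩
      · have hxL : (x : L) ≠ 0 := fun h => hx0 (Subtype.ext h)
        by_cases hyu : IsUnit y
        · obtain ⟨u, rfl⟩ := hyu
          refine ⟨↑u⁻¹, Subtype.ext ?_⟩
          have h2 : ((ρ ↑u⁻¹ : V) : L) * ((ρ ↑u : V) : L) = 1 := by
            have h3 : ρ ↑u⁻¹ * ρ ↑u = 1 := by rw [← map_mul, Units.inv_mul, map_one]
            exact congrArg Subtype.val h3
          rw [eq_inv_of_mul_eq_one_left h2, hy', inv_inv]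
        · exfalso
          have hny : ¬ IsUnit (ρ y) := fun h => hyu (hρloc y h)
          apply hny
          refine IsUnit.of_mul_eq_one x (Subtype.ext ?_)
          show ((ρ y : V) : L) * (x : L) = 1
          rw [hy', inv_mul_cancel₀ hxL]
  exact Algebra.EssFiniteType.of_surjective ρ hρsurj

end Loc

section Aux

/-- A quotient of a Noetherian local ring with principal maximal ideal by a prime ideal is a
valuation ring. -/
theorem valuationRing_quotient {S : Type*} [CommRing S] [IsLocalRing S] [IsNoetherianRing S]
    (I : Ideal S) [I.IsPrime] (ϖ : S) (hϖ : maximalIdeal S = Ideal.span {ϖ}) :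
    ValuationRing (S ⧸ I) := by
  haveI : IsLocalRing (S ⧸ I) :=
    IsLocalRing.of_surjective' (Ideal.Quotient.mk I) Ideal.Quotient.mk_surjective
  have h0 : (maximalIdeal S).map (Ideal.Quotient.mk I) = maximalIdeal (S ⧸ I) :=
    IsLocalRing.map_maximalIdeal_of_surjective (Ideal.Quotient.mk I) Ideal.Quotient.mk_surjective
  have hmQ : maximalIdeal (S ⧸ I) = Ideal.span {Ideal.Quotient.mk I ϖ} := by
    rw [← h0, hϖ, Ideal.map_span, Set.image_singleton]
  have h41 : (maximalIdeal (S ⧸ I)).IsPrincipal → ValuationRing (S ⧸ I) :=
    ((tfae_of_isNoetherianRing_of_isLocalRing_of_isDomain (R := S ⧸ I)).out 4 1).mp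
  exact h41 ⟨⟨_, hmQ⟩⟩

/-- A local-type ring map from a "valuation-like" ring `Q` to a domain `W` such that every element
of `W` is a fraction of elements of `Q` is surjective. -/
theorem surjective_of_cond {Q W F : Type*} [CommRing Q] [CommRing W] [Field F] [Algebra W F]
    (hWF : Function.Injective (algebraMap W F)) (j : Q →+* W)
    (hcond : ∀ a b : Q, ∃ c : Q, a * c = b ∨ b * c = a)
    (hjloc : ∀ x : Q, IsUnit (j x) → IsUnit x)
    (hfrac : ∀ w : W, ∃ a b : Q,
      algebraMap W F (j a) / algebraMap W F (j b) = algebraMap W F w) :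
    Function.Surjective j := by
  intro w
  obtain ⟨a, b, hab⟩ := hfrac w
  by_cases hb0 : j b = 0
  · refine ⟨0, ?_⟩
    rw [map_zero]
    apply hWF
    rw [map_zero, ← hab, hb0, map_zero, div_zero]
  have hψb : algebraMap W F (j b) ≠ 0 := fun h => hb0 (hWF (by rw [h, map_zero]))
  obtain ⟨c, hc | hc⟩ := hcond a b
  · -- a * c = b
    have hψa : algebraMap W F (j a) ≠ 0 := by
      intro h
      apply hψb
      rw [← hc, map_mul, map_mul, h, zero_mul]
    have hψc : algebraMap W F (j c) ≠ 0 := by
      intro h
      apply hψb
      rw [← hc, map_mul, map_mul, h, mul_zero]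
    have h1 : algebraMap W F w * algebraMap W F (j c) = 1 := by
      rw [← hab, ← hc, map_mul, map_mul]
      field_simp
    have h2 : w * j c = 1 := by
      apply hWF
      rw [map_mul, map_one]
      exact h1
    have hcu : IsUnit c := hjloc c (IsUnit.of_mul_eq_one w (by rw [mul_comm]; exact h2))
    obtain ⟨c', hc'⟩ := hcu.exists_right_inv
    refine ⟨c', ?_⟩
    calc j c' = (w * j c) * j c' := by rw [h2, one_mul]
      _ = w * j (c * c') := by rw [map_mul, mul_assoc]
      _ = w := by rw [hc', map_one, mul_one]
  · -- b * c = a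
    refine ⟨c, ?_⟩
    apply hWF
    rw [← hab, ← hc, map_mul, map_mul]
    field_simp

end Aux

section Key

variable (A : Type u) {B : Type u} [CommRing A] [CommRing B] [IsDomain B]
  [IsDiscreteValuationRing B] [Algebra A B]
  (V W : Type u) [CommRing V] [CommRing W] [IsDomain W] [IsLocalRing W]
  [Algebra A V] [Algebra B W] [Algebra A W] [Algebra V W] [IsScalarTower A B W]
  [IsScalarTower A V W] [IsLocalHom (algebraMap B W)]
  [Algebra.EssFiniteType A V] [Algebra.FormallyUnramified A V]
  (F : Type u) [Field F] [Algebra W F] [IsFractionRing W F]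

include A in
/-- Key lemma: `B` a DVR, `V` formally unramified and essentially of finite type over `A`,
`W` a local domain dominating `B` receiving `V`, whose fraction field is generated by the images
of `B` and `V`.  Then `W` is formally unramified and essentially of finite type over `B`. -/
theorem key
    (hgen : ∀ z : F, z ∈ Subfield.closure
      (Set.range ((algebraMap W F).comp (algebraMap B W)) ∪
        Set.range ((algebraMap W F).comp (algebraMap V W)))) :
    Algebra.FormallyUnramified B W ∧ Algebra.EssFiniteType B W := by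
  classical
  obtain ⟨π, hπ⟩ := IsDiscreteValuationRing.exists_irreducible B
  let μ : B ⊗[A] V →ₐ[B] W :=
    Algebra.TensorProduct.lift (Algebra.ofId B W) (IsScalarTower.toAlgHom A V W)
      (fun _ _ => Commute.all _ _)
  have hμV : ∀ v : V, μ (1 ⊗ₜ v) = algebraMap V W v := by
    intro v; simp [μ]
  let q : Ideal (B ⊗[A] V) := (maximalIdeal W).comap μ.toRingHom
  haveI : q.IsPrime := Ideal.comap_isPrime _ _
  have hunits : ∀ y : q.primeCompl, IsUnit (μ y) := by
    intro y
    by_contra hy
    exact y.2 (show μ y ∈ maximalIdeal W from (mem_maximalIdeal _).mpr hy)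
  let μS : Localization.AtPrime q →ₐ[B] W :=
    IsLocalization.liftAlgHom (M := q.primeCompl) (f := μ) hunits
  have hμS : ∀ t, μS (algebraMap (B ⊗[A] V) (Localization.AtPrime q) t) = μ t :=
    fun t => IsLocalization.lift_eq _ t
  have hμSloc : ∀ s, IsUnit (μS s) → IsUnit s := by
    intro y hy
    obtain ⟨⟨b, s⟩, rfl⟩ := IsLocalization.mk'_surjective q.primeCompl y
    have h1 : μS (IsLocalization.mk' _ b s) * μ s = μ b := by
      rw [← hμS (s : B ⊗[A] V), ← map_mul, IsLocalization.mk'_spec, hμS]
    have hb : IsUnit (μ b) := by rw [← h1]; exact hy.mul (hunits s)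
    have hbn : b ∈ q.primeCompl := fun hbn => ((mem_maximalIdeal _).mp hbn) hb
    exact (IsLocalization.AtPrime.isUnit_mk'_iff (Localization.AtPrime q) q b s).mpr hbn
  haveI : IsLocalHom (algebraMap B (Localization.AtPrime q)) := ⟨fun b hb => by
    have h2 : IsUnit (μS (algebraMap B (Localization.AtPrime q) b)) := hb.map μS
    rw [AlgHom.commutes] at h2
    exact isUnit_of_map_unit (algebraMap B W) b h2⟩
  haveI : Algebra.FormallyUnramified (B ⊗[A] V) (Localization.AtPrime q) :=
    Algebra.FormallyUnramified.of_isLocalization q.primeCompl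
  haveI : Algebra.FormallyUnramified B (Localization.AtPrime q) :=
    Algebra.FormallyUnramified.comp B (B ⊗[A] V) (Localization.AtPrime q)
  have hmS : (maximalIdeal B).map (algebraMap B (Localization.AtPrime q)) =
      maximalIdeal (Localization.AtPrime q) := Algebra.FormallyUnramified.map_maximalIdeal
  have hmS' : maximalIdeal (Localization.AtPrime q) =
      Ideal.span {algebraMap B (Localization.AtPrime q) π} := by
    rw [← hmS, hπ.maximalIdeal_eq, Ideal.map_span, Set.image_singleton]
  haveI : IsNoetherianRing (Localization.AtPrime q) :=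
    Algebra.EssFiniteType.isNoetherianRing B _
  have hWF : Function.Injective (algebraMap W F) := IsFractionRing.injective W F
  have hsurj : Function.Surjective μS := by
    haveI : (RingHom.ker μS.toRingHom).IsPrime := RingHom.ker_isPrime _
    haveI := valuationRing_quotient (RingHom.ker μS.toRingHom) _ hmS'
    have hj : ∀ s, RingHom.kerLift μS.toRingHom (Ideal.Quotient.mk _ s) = μS s := fun s => rfl
    have hsj : Function.Surjective (RingHom.kerLift μS.toRingHom) := by
      refine surjective_of_cond (Q := Localization.AtPrime q ⧸ RingHom.ker μS.toRingHom)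
        (F := F) hWF (RingHom.kerLift μS.toRingHom) ValuationRing.cond ?_ ?_
      · intro x hx
        obtain ⟨s, rfl⟩ := Ideal.Quotient.mk_surjective x
        exact (hμSloc s hx).map _
      · intro w
        have hz : algebraMap W F w ∈ Subfield.closure
            (Set.range ((algebraMap W F).comp (RingHom.kerLift μS.toRingHom))) := by
          refine Subfield.closure_mono ?_ (hgen _)
          rintro x (⟨b, rfl⟩ | ⟨v, rfl⟩)
          · refine ⟨Ideal.Quotient.mk _ (algebraMap B (Localization.AtPrime q) b), ?_⟩
            show algebraMap W F (RingHom.kerLift μS.toRingHom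
              (Ideal.Quotient.mk _ (algebraMap B _ b))) = _
            rw [hj, AlgHom.commutes]; rfl
          · refine ⟨Ideal.Quotient.mk _ (algebraMap (B ⊗[A] V) (Localization.AtPrime q)
              (1 ⊗ₜ v)), ?_⟩
            show algebraMap W F (RingHom.kerLift μS.toRingHom
              (Ideal.Quotient.mk _ (algebraMap (B ⊗[A] V) _ (1 ⊗ₜ v)))) = _
            rw [hj, hμS, hμV]; rfl
        rw [Subfield.mem_closure_iff] at hz
        obtain ⟨y, hy, z', hz', hyz⟩ := hz
        rw [← RingHom.coe_range, Subring.closure_eq] at hy hz'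
        obtain ⟨a, rfl⟩ := hy
        obtain ⟨b, rfl⟩ := hz'
        exact ⟨a, b, hyz⟩
    intro w
    obtain ⟨x, hx⟩ := hsj w
    obtain ⟨s, rfl⟩ := Ideal.Quotient.mk_surjective x
    exact ⟨s, hx⟩
  exact ⟨Algebra.FormallyUnramified.of_surjective μS hsurj,
    Algebra.EssFiniteType.of_surjective μS hsurj⟩

end Key

end Groth.Agent.H10.UnramExt
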