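import Mathlib
import Groth.Prelude.Def_EtRam
import Groth.Prelude.Def_CAlgX
import Groth.Agent.H10.UnramExt

set_option autoImplicit false
set_option maxHeartbeats 400000
set_option linter.style.haveILetI false
set_option linter.unusedSectionVars false

/-! Weakly unramified extensions of DVRs with separable residue extension: every finite extension
is a solution (towards `EtAlg.solution_all_of_weaklyUnramified_separable`). -/

namespace Groth.Agent.H10.SolAll

universe u

open IsLocalRing TensorProduct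

section Aux

/-- In a reduced Artinian commutative ring every element is von Neumann regular. -/
theorem exists_mul_one_sub_eq_zero {R : Type*} [CommRing R] [IsArtinianRing R] [IsReduced R]
    (r : R) : ∃ x : R, r * (1 - r * x) = 0 := by
  let f : ℕ →o (Ideal R)ᵒᵈ :=
    ⟨fun n => OrderDual.toDual (Ideal.span {r ^ n}), fun m n hmn => by
      show Ideal.span {r ^ n} ≤ Ideal.span {r ^ m}
      rw [Ideal.span_singleton_le_span_singleton]
      exact pow_dvd_pow r hmn⟩
  obtain ⟨n, hn⟩ := IsArtinian.monotone_stabilizes f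
  have h1 : Ideal.span {r ^ n} = Ideal.span {r ^ (n + 1)} := by
    have := hn (n + 1) (Nat.le_succ n)
    exact congrArg OrderDual.ofDual this
  have h2 : r ^ n ∈ Ideal.span {r ^ (n + 1)} := by
    rw [← h1]; exact Ideal.mem_span_singleton_self _
  obtain ⟨x, hx⟩ := Ideal.mem_span_singleton'.mp h2
  refine ⟨x, ?_⟩
  have h4 : r ^ n * (1 - r * x) = 0 := by
    have h5 : r ^ n * (1 - r * x) = r ^ n - x * r ^ (n + 1) := by ring
    rw [h5, hx, sub_self]
  have h3 : (r * (1 - r * x)) ^ (n + 1) = 0 := by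
    generalize 1 - r * x = y at h4 ⊢
    calc (r * y) ^ (n + 1) = r * y ^ n * (r ^ n * y) := by ring
      _ = 0 := by rw [h4, mul_zero]
  exact IsReduced.eq_zero _ ⟨n + 1, h3⟩

end Aux

section Fibre

variable (A : Type u) {B : Type u} [CommRing A] [IsDomain A] [IsDiscreteValuationRing A]
  [CommRing B] [IsLocalRing B] [Algebra A B] [IsLocalHom (algebraMap A B)]
  (V : Type u) [CommRing V] [IsLocalRing V]
  [Algebra A V] [IsLocalHom (algebraMap A V)]

/-- The fibre ring `κ(B) ⊗[A] κ(V)` is reduced. -/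
theorem isReduced_fibre
    [Algebra.IsGeometricallyReduced (ResidueField A) (ResidueField B)]
    [Algebra.IsAlgebraic (ResidueField A) (ResidueField V)] :
    IsReduced (ResidueField B ⊗[A] ResidueField V) := by
  haveI : TensorProduct.CompatibleSMul A (ResidueField A) (ResidueField B) (ResidueField V) :=
    ⟨fun c e f => by
      obtain ⟨a, rfl⟩ := Ideal.Quotient.mk_surjective c
      show (algebraMap A (ResidueField A) a • e) ⊗ₜ[A] f = e ⊗ₜ[A] (algebraMap A (ResidueField A) a • f)
      rw [algebraMap_smul, algebraMap_smul, TensorProduct.smul_tmul]⟩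
  let e1 : ResidueField B ⊗[A] ResidueField V ≃ₐ[A] ResidueField B ⊗[ResidueField A] ResidueField V :=
    Algebra.TensorProduct.equivOfCompatibleSMul (ResidueField A) A A (ResidueField B) (ResidueField V)
  let e2 : ResidueField B ⊗[ResidueField A] ResidueField V ≃ₐ[ResidueField A]
      ResidueField V ⊗[ResidueField A] ResidueField B := Algebra.TensorProduct.comm _ _ _
  exact isReduced_of_injective (e2.toRingEquiv.toRingHom.comp e1.toRingEquiv.toRingHom)
    (e2.injective.comp e1.injective)

end Fibre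

section Principal

variable {S : Type*} [CommRing S] [IsLocalRing S] (ϖ : S) (hϖ : maximalIdeal S = Ideal.span {ϖ})
include hϖ

/-- In a local ring with principal maximal ideal `(ϖ)`, every element is either a unit times a small
power of `ϖ` or divisible by `ϖ ^ n`. -/
theorem unit_pow_or_dvd (n : ℕ) (x : S) :
    (∃ k < n, ∃ u : S, IsUnit u ∧ x = u * ϖ ^ k) ∨ ∃ y : S, x = ϖ ^ n * y := by
  induction n with
  | zero => exact Or.inr ⟨x, by rw [pow_zero, one_mul]⟩
  | succ n ih =>
    rcases ih with ⟨k, hk, u, hu, hx⟩ | ⟨y, hy⟩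
    · exact Or.inl ⟨k, Nat.lt_succ_of_lt hk, u, hu, hx⟩
    · by_cases hyu : IsUnit y
      · exact Or.inl ⟨n, Nat.lt_succ_self n, y, hyu, by rw [hy, mul_comm]⟩
      · have hym : y ∈ maximalIdeal S := (mem_maximalIdeal _).mpr hyu
        rw [hϖ] at hym
        obtain ⟨y', hy'⟩ := Ideal.mem_span_singleton'.mp hym
        exact Or.inr ⟨y', by rw [hy, ← hy', pow_succ]; ring⟩

variable {W : Type*} [CommRing W] [IsDomain W] [IsNoetherianRing W] [IsLocalRing W]
  (g : S →+* W) (hg : ¬ IsUnit (g ϖ)) (hg0 : g ϖ ≠ 0)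
include hg hg0

/-- Elements of the kernel are infinitely divisible by `ϖ`. -/
theorem dvd_of_mem_ker (x : S) (hx : g x = 0) (n : ℕ) : ∃ y : S, x = ϖ ^ n * y ∧ g y = 0 := by
  rcases unit_pow_or_dvd ϖ hϖ n x with ⟨k, -, u, hu, hxu⟩ | ⟨y, hy⟩
  · exfalso
    rw [hxu, map_mul, map_pow] at hx
    rcases mul_eq_zero.mp hx with h | h
    · exact (hu.map g).ne_zero h
    · exact pow_ne_zero k hg0 h
  · refine ⟨y, hy, ?_⟩
    rw [hy, map_mul, map_pow] at hx
    rcases mul_eq_zero.mp hx with h | h
    · exact absurd h (pow_ne_zero n hg0)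
    · exact h

/-- Elements outside the kernel are units times powers of `ϖ`. -/
theorem eq_unit_mul_pow (x : S) (hx : g x ≠ 0) : ∃ (k : ℕ) (u : S), IsUnit u ∧ x = u * ϖ ^ k := by
  have hne : Ideal.span {g ϖ} ≠ ⊤ := by
    rw [Ne, Ideal.span_singleton_eq_top]; exact hg
  have hinf := Ideal.iInf_pow_eq_bot_of_isLocalRing (Ideal.span {g ϖ}) hne
  have : ∃ n, g x ∉ Ideal.span {g ϖ} ^ n := by
    by_contra hcon
    push Not at hcon
    apply hx
    have : g x ∈ ⨅ i, Ideal.span {g ϖ} ^ i := by
      rw [Ideal.mem_iInf]; exact hcon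
    rwa [hinf, Ideal.mem_bot] at this
  obtain ⟨n, hn⟩ := this
  rcases unit_pow_or_dvd ϖ hϖ n x with ⟨k, -, u, hu, hxu⟩ | ⟨y, hy⟩
  · exact ⟨k, u, hu, hxu⟩
  · exfalso
    apply hn
    rw [hy, map_mul, map_pow, Ideal.span_singleton_pow]
    exact Ideal.mul_mem_right _ _ (Ideal.mem_span_singleton_self _)

/-- The image of such a ring in a DVR-like domain is "valuation-like". -/
theorem cond_quotient_ker (a b : S ⧸ RingHom.ker g) : ∃ c, a * c = b ∨ b * c = a := by
  obtain ⟨a', rfl⟩ := Ideal.Quotient.mk_surjective a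
  obtain ⟨b', rfl⟩ := Ideal.Quotient.mk_surjective b
  by_cases ha : g a' = 0
  · refine ⟨0, Or.inr ?_⟩
    rw [mul_zero, eq_comm, Ideal.Quotient.eq_zero_iff_mem, RingHom.mem_ker]; exact ha
  by_cases hb : g b' = 0
  · refine ⟨0, Or.inl ?_⟩
    rw [mul_zero, eq_comm, Ideal.Quotient.eq_zero_iff_mem, RingHom.mem_ker]; exact hb
  obtain ⟨k, u, hu, rfl⟩ := eq_unit_mul_pow ϖ hϖ g hg hg0 a' ha
  obtain ⟨l, v, hv, rfl⟩ := eq_unit_mul_pow ϖ hϖ g hg hg0 b' hb
  obtain ⟨u', hu'⟩ := hu.exists_right_inv
  obtain ⟨v', hv'⟩ := hv.exists_right_inv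
  rcases le_total k l with hkl | hkl
  · refine ⟨Ideal.Quotient.mk _ (u' * v * ϖ ^ (l - k)), Or.inl ?_⟩
    rw [← map_mul]
    congr 1
    calc u * ϖ ^ k * (u' * v * ϖ ^ (l - k)) = (u * u') * v * (ϖ ^ k * ϖ ^ (l - k)) := by ring
      _ = v * ϖ ^ l := by rw [hu', one_mul, ← pow_add, Nat.add_sub_cancel' hkl]
  · refine ⟨Ideal.Quotient.mk _ (v' * u * ϖ ^ (k - l)), Or.inr ?_⟩
    rw [← map_mul]
    congr 1
    calc v * ϖ ^ l * (v' * u * ϖ ^ (k - l)) = (v * v') * u * (ϖ ^ l * ϖ ^ (k - l)) := by ring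
      _ = u * ϖ ^ k := by rw [hv', one_mul, ← pow_add, Nat.add_sub_cancel' hkl]

end Principal

section Theta

variable (A : Type u) {B : Type u} [CommRing A] [IsDomain A] [IsDiscreteValuationRing A]
  [CommRing B] [IsLocalRing B] [Algebra A B] [IsLocalHom (algebraMap A B)]
  (V : Type u) [CommRing V] [IsLocalRing V]
  [Algebra A V] [IsLocalHom (algebraMap A V)]

/-- The canonical map from `B ⊗[A] V` to the fibre ring. -/
noncomputable def theta : B ⊗[A] V →ₐ[A] ResidueField B ⊗[A] ResidueField V :=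
  Algebra.TensorProduct.map (IsScalarTower.toAlgHom A B (ResidueField B))
    (IsScalarTower.toAlgHom A V (ResidueField V))

theorem theta_surjective : Function.Surjective (theta A V (B := B)) :=
  Algebra.TensorProduct.map_surjective _ _ IsLocalRing.residue_surjective
    IsLocalRing.residue_surjective

variable {V}

theorem ker_theta (hw : (maximalIdeal A).map (algebraMap A B) = maximalIdeal B) (ϖ : V)
    (hϖ : maximalIdeal V = Ideal.span {ϖ}) :
    RingHom.ker (theta A V (B := B)) = Ideal.span {(1 : B) ⊗ₜ[A] ϖ} := by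
  obtain ⟨π, hπ⟩ := IsDiscreteValuationRing.exists_irreducible A
  have hkB : RingHom.ker (IsScalarTower.toAlgHom A B (ResidueField B)) = maximalIdeal B := by
    ext x; rw [RingHom.mem_ker]; exact IsLocalRing.residue_eq_zero_iff x
  have hkV : RingHom.ker (IsScalarTower.toAlgHom A V (ResidueField V)) = maximalIdeal V := by
    ext x; rw [RingHom.mem_ker]; exact IsLocalRing.residue_eq_zero_iff x
  unfold theta
  rw [Algebra.TensorProduct.map_ker _ _ IsLocalRing.residue_surjective
    IsLocalRing.residue_surjective, hkB, hkV, ← hw, hπ.maximalIdeal_eq, hϖ, Ideal.map_span,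
    Ideal.map_span, Ideal.map_span, Set.image_singleton, Set.image_singleton, Set.image_singleton]
  apply le_antisymm
  · refine sup_le ?_ le_rfl
    rw [Ideal.span_singleton_le_span_singleton]
    have hπm : algebraMap A V π ∈ maximalIdeal V := by
      rw [mem_maximalIdeal, mem_nonunits_iff]
      intro hu
      exact hπ.not_isUnit (isUnit_of_map_unit (algebraMap A V) π hu)
    rw [hϖ] at hπm
    obtain ⟨c, hc⟩ := Ideal.mem_span_singleton'.mp hπm
    refine ⟨(1 : B) ⊗ₜ[A] c, ?_⟩
    show (algebraMap A B π) ⊗ₜ[A] (1 : V) = ((1 : B) ⊗ₜ[A] ϖ) * ((1 : B) ⊗ₜ[A] c)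
    rw [Algebra.TensorProduct.tmul_mul_tmul, mul_one, mul_comm ϖ c, hc,
      Algebra.algebraMap_eq_smul_one, Algebra.algebraMap_eq_smul_one (A := V),
      TensorProduct.smul_tmul]
  · exact le_sup_right

variable (V) in
/-- Localising at a prime containing `1 ⊗ ϖ`, elements of the prime are multiples of `1 ⊗ ϖ`. -/
theorem exists_mul_mem [IsArtinianRing (ResidueField B ⊗[A] ResidueField V)]
    [IsReduced (ResidueField B ⊗[A] ResidueField V)]
    (hw : (maximalIdeal A).map (algebraMap A B) = maximalIdeal B) (ϖ : V)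
    (hϖ : maximalIdeal V = Ideal.span {ϖ}) (q : Ideal (B ⊗[A] V)) [q.IsPrime]
    (hq : (1 : B) ⊗ₜ[A] ϖ ∈ q) (t : B ⊗[A] V) (ht : t ∈ q) :
    ∃ s, s ∉ q ∧ s * t ∈ Ideal.span {(1 : B) ⊗ₜ[A] ϖ} := by
  have hker := ker_theta A hw ϖ hϖ
  have hkq : RingHom.ker (theta A V (B := B)) ≤ q := by
    rw [hker, Ideal.span_singleton_le_iff_mem]; exact hq
  obtain ⟨x, hx⟩ := exists_mul_one_sub_eq_zero (theta A V t)
  obtain ⟨y, rfl⟩ := theta_surjective A V x
  refine ⟨1 - t * y, fun hs => ?_, ?_⟩
  · have h1 : (1 : B ⊗[A] V) = (1 - t * y) + t * y := by ring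
    have : (1 : B ⊗[A] V) ∈ q := by
      rw [h1]; exact q.add_mem hs (q.mul_mem_right _ ht)
    exact (Ideal.IsPrime.ne_top inferInstance) ((Ideal.eq_top_iff_one q).mpr this)
  · rw [← hker, RingHom.mem_ker, map_mul, map_sub, map_one, map_mul, mul_comm]
    exact hx

end Theta

section Surj

/-- A "local" ring map `g : S → W` into a domain, whose image is valuation-like and generates the
fraction field of `W`, is surjective. -/
theorem surjective_of_cond_of_closure {S W F : Type*} [CommRing S] [CommRing W] [Field F]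
    [Algebra W F] (hWF : Function.Injective (algebraMap W F)) (g : S →+* W)
    (hloc : ∀ s, IsUnit (g s) → IsUnit s)
    (hcond : ∀ a b : S ⧸ RingHom.ker g, ∃ c, a * c = b ∨ b * c = a)
    (hgen : ∀ w : W, algebraMap W F w ∈
      Subfield.closure (Set.range ((algebraMap W F).comp g))) :
    Function.Surjective g := by
  have hj : ∀ s, RingHom.kerLift g (Ideal.Quotient.mk _ s) = g s := fun s => rfl
  have hsj : Function.Surjective (RingHom.kerLift g) := by
    refine Groth.Agent.H10.UnramExt.surjective_of_cond (Q := S ⧸ RingHom.ker g)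
      (F := F) hWF (RingHom.kerLift g) hcond ?_ ?_
    · intro x hx
      obtain ⟨s, rfl⟩ := Ideal.Quotient.mk_surjective x
      exact (hloc s hx).map _
    · intro w
      have hz := hgen w
      rw [Subfield.mem_closure_iff] at hz
      obtain ⟨y, hy, z', hz', hyz⟩ := hz
      rw [← RingHom.coe_range, Subring.closure_eq] at hy hz'
      obtain ⟨a, rfl⟩ := hy
      obtain ⟨b, rfl⟩ := hz'
      exact ⟨Ideal.Quotient.mk _ a, Ideal.Quotient.mk _ b, hyz⟩
  intro w
  obtain ⟨x, hx⟩ := hsj w
  obtain ⟨s, rfl⟩ := Ideal.Quotient.mk_surjective x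
  exact ⟨s, hx⟩

end Surj

section Main

variable (A : Type u) {B : Type u} [CommRing A] [IsDomain A] [IsDiscreteValuationRing A]
  [CommRing B] [IsDomain B] [IsDiscreteValuationRing B] [Algebra A B]
  [IsLocalHom (algebraMap A B)]
  (V W : Type u) [CommRing V] [IsDomain V] [IsDiscreteValuationRing V]
  [CommRing W] [IsDomain W] [IsDiscreteValuationRing W]
  [Algebra A V] [IsLocalHom (algebraMap A V)]
  [Algebra B W] [IsLocalHom (algebraMap B W)] [Algebra A W] [Algebra V W]
  [IsLocalHom (algebraMap V W)]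
  [IsScalarTower A B W] [IsScalarTower A V W]
  (F : Type u) [Field F] [Algebra W F] [IsFractionRing W F]

/-- Base change of adic formal smoothness along an extension of DVRs: if `A → B` is weakly
unramified with separable residue field extension and adically formally smooth, `V` is a DVR over
`A` with finite residue field extension, and `W` is a DVR dominating `B` and `V` whose fraction
field is generated by `B` and `V`, then `V → W` is adically formally smooth. -/
theorem adicFormallySmooth
    (hw : (maximalIdeal A).map (algebraMap A B) = maximalIdeal B)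
    [Algebra.IsGeometricallyReduced (ResidueField A) (ResidueField B)]
    [Module.Finite (ResidueField A) (ResidueField V)]
    (hVW : Function.Injective (algebraMap V W))
    (hgen : ∀ z : F, z ∈ Subfield.closure
      (Set.range ((algebraMap W F).comp (algebraMap B W)) ∪
        Set.range ((algebraMap W F).comp (algebraMap V W))))
    (hAB : CAlgX.IsAdicFormallySmooth A B (maximalIdeal B)) :
    CAlgX.IsAdicFormallySmooth V W (maximalIdeal W) := by
  classical
  obtain ⟨ϖ, hϖirr⟩ := IsDiscreteValuationRing.exists_irreducible V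
  have hϖ : maximalIdeal V = Ideal.span {ϖ} := hϖirr.maximalIdeal_eq
  haveI : Module.Finite A (ResidueField V) :=
    Module.Finite.trans (ResidueField A) (ResidueField V)
  haveI : IsArtinianRing (ResidueField B ⊗[A] ResidueField V) :=
    IsArtinianRing.of_finite (ResidueField B) _
  haveI : IsReduced (ResidueField B ⊗[A] ResidueField V) := isReduced_fibre A V
  let μ : B ⊗[A] V →ₐ[B] W :=
    Algebra.TensorProduct.lift (Algebra.ofId B W) (IsScalarTower.toAlgHom A V W)
      (fun _ _ => Commute.all _ _)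
  have hμ : ∀ (b : B) (v : V), μ (b ⊗ₜ v) = algebraMap B W b * algebraMap V W v := by
    intro b v; simp [μ, Algebra.ofId_apply]
  have hμV : ∀ v : V, μ (1 ⊗ₜ v) = algebraMap V W v := by
    intro v; rw [hμ, map_one, one_mul]
  have hϖW0 : algebraMap V W ϖ ≠ 0 := fun h => hϖirr.ne_zero (hVW (by rw [h, map_zero]))
  have hϖWnu : ¬ IsUnit (algebraMap V W ϖ) := fun hu =>
    hϖirr.not_isUnit (isUnit_of_map_unit _ _ hu)
  let q : Ideal (B ⊗[A] V) := (maximalIdeal W).comap μ.toRingHom
  haveI : q.IsPrime := Ideal.comap_isPrime _ _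
  have hqϖ : (1 : B) ⊗ₜ[A] ϖ ∈ q := by
    show μ (1 ⊗ₜ ϖ) ∈ maximalIdeal W
    rw [hμV]
    exact (mem_maximalIdeal _).mpr hϖWnu
  have hunits : ∀ y : q.primeCompl, IsUnit (μ y) := by
    intro y
    by_contra hy
    exact y.2 (show μ y ∈ maximalIdeal W from (mem_maximalIdeal _).mpr hy)
  let μS : Localization.AtPrime q →ₐ[B] W :=
    IsLocalization.liftAlgHom (M := q.primeCompl) (f := μ) hunits
  have hμS : ∀ t, μS (algebraMap (B ⊗[A] V) (Localization.AtPrime q) t) = μ t :=
    fun t => IsLocalization.lift_eq _ t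
  have hμSloc : ∀ s, IsUnit (μS s) → IsUnit s := by
    intro y hy
    obtain ⟨⟨b, s⟩, rfl⟩ := IsLocalization.mk'_surjective q.primeCompl y
    have h1 : μS (IsLocalization.mk' _ b s) * μ s = μ b := by
      rw [← hμS (s : B ⊗[A] V), ← map_mul, IsLocalization.mk'_spec, hμS]
    have hb : IsUnit (μ b) := by rw [← h1]; exact hy.mul (hunits s)
    have hbn : b ∈ q.primeCompl := fun hbn => ((mem_maximalIdeal _).mp hbn) hb
    exact (IsLocalization.AtPrime.isUnit_mk'_iff (Localization.AtPrime q) q b s).mpr hbn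
  -- the maximal ideal of the localisation is generated by `ϖ`
  obtain ⟨ϖS, hϖS⟩ : ∃ ϖS : Localization.AtPrime q,
      ϖS = algebraMap (B ⊗[A] V) (Localization.AtPrime q) ((1 : B) ⊗ₜ[A] ϖ) := ⟨_, rfl⟩
  have hmS : maximalIdeal (Localization.AtPrime q) = Ideal.span {ϖS} := by
    apply le_antisymm
    · intro x hx
      obtain ⟨⟨t, s'⟩, rfl⟩ := IsLocalization.mk'_surjective q.primeCompl x
      have htq : t ∈ q := (IsLocalization.AtPrime.mk'_mem_maximal_iff
        (Localization.AtPrime q) q t s').mp hx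
      obtain ⟨s, hsq, hst⟩ := exists_mul_mem A V hw ϖ hϖ q hqϖ t htq
      obtain ⟨t', ht'⟩ := Ideal.mem_span_singleton'.mp hst
      have hu : IsUnit (algebraMap (B ⊗[A] V) (Localization.AtPrime q) s) :=
        IsLocalization.map_units (Localization.AtPrime q) (⟨s, hsq⟩ : q.primeCompl)
      have hu' : IsUnit (algebraMap (B ⊗[A] V) (Localization.AtPrime q) s') :=
        IsLocalization.map_units (Localization.AtPrime q) s'
      obtain ⟨u, hu⟩ := hu
      obtain ⟨u', hu'⟩ := hu'
      rw [Ideal.mem_span_singleton]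
      refine ⟨algebraMap _ _ t' * ↑u⁻¹ * ↑u'⁻¹, ?_⟩
      have h1 : IsLocalization.mk' (Localization.AtPrime q) t s' * ↑u' =
          algebraMap _ _ t := by rw [hu']; exact IsLocalization.mk'_spec _ t s'
      have h2 : algebraMap (B ⊗[A] V) (Localization.AtPrime q) t * ↑u =
          algebraMap _ _ t' * ϖS := by
        rw [hu, hϖS, ← map_mul, ← map_mul, mul_comm t s, ht']
      calc IsLocalization.mk' (Localization.AtPrime q) t s'
          = (IsLocalization.mk' (Localization.AtPrime q) t s' * ↑u') * ↑u'⁻¹ := by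
            rw [mul_assoc, Units.mul_inv, mul_one]
        _ = (algebraMap _ _ t * ↑u) * ↑u⁻¹ * ↑u'⁻¹ := by
            rw [h1, mul_assoc (algebraMap _ _ t), Units.mul_inv, mul_one]
        _ = ϖS * (algebraMap _ _ t' * ↑u⁻¹ * ↑u'⁻¹) := by rw [h2]; ring
    · rw [Ideal.span_singleton_le_iff_mem, hϖS]
      exact (IsLocalization.AtPrime.to_map_mem_maximal_iff (Localization.AtPrime q) q _).mpr hqϖ
  have hμSϖ : μS ϖS = algebraMap V W ϖ := by rw [hϖS, hμS, hμV]
  have hg : ¬ IsUnit (μS.toRingHom ϖS) := by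
    show ¬ IsUnit (μS ϖS); rw [hμSϖ]; exact hϖWnu
  have hg0 : μS.toRingHom ϖS ≠ 0 := by
    show μS ϖS ≠ 0; rw [hμSϖ]; exact hϖW0
  have hWF : Function.Injective (algebraMap W F) := IsFractionRing.injective W F
  have hsurj : Function.Surjective μS.toRingHom := by
    refine surjective_of_cond_of_closure (F := F) hWF μS.toRingHom hμSloc
      (cond_quotient_ker ϖS hmS μS.toRingHom hg hg0) ?_
    intro w
    refine Subfield.closure_mono ?_ (hgen _)
    rintro x (⟨b, rfl⟩ | ⟨v, rfl⟩)
    · refine ⟨algebraMap B (Localization.AtPrime q) b, ?_⟩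
      show algebraMap W F (μS (algebraMap B _ b)) = _
      rw [AlgHom.commutes]; rfl
    · refine ⟨algebraMap (B ⊗[A] V) (Localization.AtPrime q) (1 ⊗ₜ v), ?_⟩
      show algebraMap W F (μS (algebraMap (B ⊗[A] V) _ (1 ⊗ₜ v))) = _
      rw [hμS, hμV]; rfl
  -- the lifting problem
  intro C _ _ J hJ ψ hψ
  obtain ⟨k, hk⟩ := hψ
  letI algAC : Algebra A C := ((algebraMap V C).comp (algebraMap A V)).toAlgebra
  haveI : IsScalarTower A V C := IsScalarTower.of_algebraMap_eq (fun _ => rfl)
  let ψB : B →ₐ[A] C ⧸ J := (ψ.restrictScalars A).comp (IsScalarTower.toAlgHom A B W)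
  have hψB : ∀ x ∈ maximalIdeal B ^ k, ψB x = 0 := by
    intro x hx
    have h1 : (maximalIdeal B ^ k).map (algebraMap B W) ≤ maximalIdeal W ^ k := by
      rw [Ideal.map_pow]
      exact Ideal.pow_right_mono (IsLocalRing.map_maximalIdeal_le (algebraMap B W)) k
    exact hk _ (h1 (Ideal.mem_map_of_mem _ hx))
  obtain ⟨χB, hχB⟩ := hAB C J hJ ψB ⟨k, hψB⟩
  let χT : B ⊗[A] V →ₐ[A] C :=
    Algebra.TensorProduct.lift χB (IsScalarTower.toAlgHom A V C) (fun _ _ => Commute.all _ _)
  have hχTt : ∀ (b : B) (v : V), χT (b ⊗ₜ v) = χB b * algebraMap V C v := by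
    intro b v; simp [χT]
  have hχBψ : ∀ b : B, Ideal.Quotient.mk J (χB b) = ψ (algebraMap B W b) := by
    intro b
    have := AlgHom.congr_fun hχB b
    exact this
  have hχT : ∀ t, Ideal.Quotient.mk J (χT t) = ψ (μ t) := by
    intro t
    induction t using TensorProduct.induction_on with
    | zero => simp
    | add x y hx hy => rw [map_add, map_add, hx, hy, map_add, map_add]
    | tmul b v =>
      rw [hχTt, map_mul, hχBψ, hμ, map_mul]
      congr 1
      exact (ψ.commutes v).symm
  have hunitsC : ∀ y : q.primeCompl, IsUnit (χT.toRingHom y) := by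
    intro y
    refine (IsNilpotent.isUnit_quotient_mk_iff (I := J) ⟨2, hJ⟩).mp ?_
    show IsUnit (Ideal.Quotient.mk J (χT y))
    rw [hχT]
    exact (hunits y).map ψ
  let χS : Localization.AtPrime q →+* C :=
    IsLocalization.lift (M := q.primeCompl) (g := χT.toRingHom) hunitsC
  have hχS : ∀ t, χS (algebraMap (B ⊗[A] V) (Localization.AtPrime q) t) = χT t :=
    fun t => IsLocalization.lift_eq _ t
  have hχSψ : ∀ s, Ideal.Quotient.mk J (χS s) = ψ (μS s) := by
    have h1 : (Ideal.Quotient.mk J).comp χS = ψ.toRingHom.comp μS.toRingHom := by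
      refine IsLocalization.ringHom_ext q.primeCompl (RingHom.ext fun t => ?_)
      show Ideal.Quotient.mk J (χS (algebraMap _ _ t)) = ψ (μS (algebraMap _ _ t))
      rw [hχS, hμS, hχT]
    intro s
    exact RingHom.congr_fun h1 s
  have hker : RingHom.ker μS.toRingHom ≤ RingHom.ker χS := by
    intro x hx
    rw [RingHom.mem_ker] at hx ⊢
    obtain ⟨y, rfl, hy⟩ := dvd_of_mem_ker ϖS hmS μS.toRingHom hg hg0 x hx k
    have h1 : χS ϖS ^ k ∈ J := by
      rw [← Ideal.Quotient.eq_zero_iff_mem, map_pow, hχSψ, hμSϖ, ← map_pow]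
      apply hk
      rw [← map_pow]
      have h2 : (maximalIdeal V ^ k).map (algebraMap V W) ≤ maximalIdeal W ^ k := by
        rw [Ideal.map_pow]
        exact Ideal.pow_right_mono (IsLocalRing.map_maximalIdeal_le (algebraMap V W)) k
      refine h2 (Ideal.mem_map_of_mem _ (Ideal.pow_mem_pow ?_ k))
      rw [hϖ]; exact Ideal.mem_span_singleton_self ϖ
    have h2 : χS y ∈ J := by
      rw [← Ideal.Quotient.eq_zero_iff_mem, hχSψ]
      show ψ (μS.toRingHom y) = 0
      rw [hy, map_zero]
    have h3 : χS ϖS ^ k * χS y ∈ J ^ 2 := by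
      rw [pow_two]; exact Ideal.mul_mem_mul h1 h2
    rw [hJ, Ideal.mem_bot] at h3
    rw [map_mul, map_pow]
    exact h3
  let χW : W →+* C := RingHom.liftOfSurjective μS.toRingHom hsurj ⟨χS, hker⟩
  have hχW : ∀ s, χW (μS s) = χS s := fun s =>
    RingHom.liftOfSurjective_comp_apply μS.toRingHom hsurj ⟨χS, hker⟩ s
  refine ⟨{ χW with commutes' := fun v => ?_ }, ?_⟩
  · show χW (algebraMap V W v) = algebraMap V C v
    rw [← hμV, ← hμS, hχW, hχS, hχTt, map_one, one_mul]
  · apply AlgHom.ext
    intro w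
    obtain ⟨s, rfl⟩ := hsurj w
    show Ideal.Quotient.mk J (χW (μS s)) = ψ (μS s)
    rw [hχW, hχSψ]

end Main

end Groth.Agent.H10.SolAll
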