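import Mathlib
import Groth.Prelude.Def_EtRam
import Groth.Agent.H29.FinDomain
import Groth.Agent.H73.KAVal

set_option autoImplicit false
set_option maxHeartbeats 400000
set_option linter.style.haveILetI false

/-! Valuation subrings of a finite (not necessarily separable) extension dominating a DVR are DVRs
(Krull–Akizuki), and finiteness of a compositum. -/

namespace Groth.Agent.H10.ValDVR

universe u

open IsLocalRing

section DVR

variable (A K L : Type u) [CommRing A] [IsDomain A] [IsDiscreteValuationRing A] [Field K]
  [Algebra A K] [IsFractionRing A K] [Field L] [Algebra K L] [FiniteDimensional K L]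
  [Algebra A L] [IsScalarTower A K L]

include K in
/-- A valuation subring of a finite extension `L` of `K = Frac A` dominating the DVR `A` is a DVR
(no separability needed). -/
theorem isDVR_of_dominates_finite (V : ValuationSubring L)
    (hV : EtRam.Dominates A (algebraMap A L) V) : IsDiscreteValuationRing V := by
  obtain ⟨B₁, hfin, hfrac⟩ := Groth.Agent.H29.FinDomain.exists_finite_domain A K L
  haveI := hfin
  haveI := hfrac
  haveI : IsNoetherianRing B₁ := Algebra.FiniteType.isNoetherianRing A B₁
  haveI : Algebra.IsIntegral A B₁ := Algebra.IsIntegral.of_finite A B₁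
  haveI : Ring.DimensionLEOne B₁ := Ring.DimensionLEOne.of_isIntegral A B₁
  have hBV : ∀ b : B₁, algebraMap B₁ L b ∈ V := by
    intro b
    have hb : IsIntegral A (algebraMap B₁ L b) :=
      (Algebra.IsIntegral.isIntegral (R := A) b).map (IsScalarTower.toAlgHom A B₁ L)
    obtain ⟨p, hp, hpx⟩ := hb
    have hc : (algebraMap V.toSubring L).comp
        (RingHom.codRestrict (algebraMap A L) V.toSubring hV.1) = algebraMap A L :=
      RingHom.ext (fun a => rfl)
    have hint : IsIntegral V.toSubring (algebraMap B₁ L b) := by
      refine ⟨p.map (RingHom.codRestrict (algebraMap A L) V.toSubring hV.1), hp.map _, ?_⟩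
      rw [Polynomial.eval₂_map, hc]
      exact hpx
    exact LocalSubring.mem_of_isMax_of_isIntegral V.isMax_toLocalSubring hint
  obtain ⟨π, hπ⟩ := IsDiscreteValuationRing.exists_irreducible A
  have hπm : π ∈ maximalIdeal A := by
    rw [hπ.maximalIdeal_eq]; exact Ideal.mem_span_singleton_self π
  have hinjAL : Function.Injective (algebraMap A L) := by
    rw [IsScalarTower.algebraMap_eq A K L]
    exact (algebraMap K L).injective.comp (IsFractionRing.injective A K)
  have ha0 : algebraMap A B₁ π ≠ 0 := by
    intro h0
    have h2 : algebraMap A L π = 0 := by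
      rw [IsScalarTower.algebraMap_apply A B₁ L, h0, map_zero]
    exact hπ.ne_zero (hinjAL (by rw [h2, map_zero]))
  have hv : V.valuation (algebraMap B₁ L (algebraMap A B₁ π)) < 1 := by
    rw [← IsScalarTower.algebraMap_apply A B₁ L]
    exact hV.2 π hπm
  exact Groth.Agent.H73.KA.isDiscreteValuationRing_of_le V hBV (algebraMap A B₁ π) ha0 hv

end DVR

section Fin

variable (K L K₁ M : Type u) [Field K] [Field L] [Field K₁] [Field M] [Algebra K L] [Algebra K K₁]
  [Algebra K M] [Algebra L M] [Algebra K₁ M] [IsScalarTower K L M] [IsScalarTower K K₁ M]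
  [FiniteDimensional K K₁]

include K in
/-- A compositum `M = L · K₁` with `K₁/K` finite is finite over `L`. -/
theorem finite_of_adjoin_eq_top
    (h : Algebra.adjoin L (Set.range (algebraMap K₁ M)) = ⊤) : FiniteDimensional L M := by
  classical
  let b := Module.finBasis K K₁
  have hle : Algebra.adjoin L (Set.range (algebraMap K₁ M)) ≤
      Algebra.adjoin L (Set.range (fun i => algebraMap K₁ M (b i))) := by
    apply Algebra.adjoin_le
    rintro _ ⟨x, rfl⟩
    have hx : x ∈ Submodule.span K (Set.range b) := by rw [b.span_eq]; trivial
    induction hx using Submodule.span_induction with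
    | mem y hy =>
      obtain ⟨i, rfl⟩ := hy
      exact Algebra.subset_adjoin ⟨i, rfl⟩
    | zero => rw [map_zero]; exact zero_mem _
    | add y z _ _ hy hz => rw [map_add]; exact add_mem hy hz
    | smul c y _ hy =>
      rw [Algebra.smul_def, map_mul, ← IsScalarTower.algebraMap_apply K K₁ M,
        IsScalarTower.algebraMap_apply K L M]
      exact mul_mem (Subalgebra.algebraMap_mem _ _) hy
  have htop : Algebra.adjoin L (Set.range (fun i => algebraMap K₁ M (b i))) = ⊤ :=
    top_le_iff.mp (h ▸ hle)
  have hfin : Module.Finite L (Algebra.adjoin L (Set.range (fun i => algebraMap K₁ M (b i)))) := by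
    apply Algebra.finite_adjoin_of_finite_of_isIntegral (Set.finite_range _)
    rintro _ ⟨i, rfl⟩
    have h1 : IsIntegral K (b i) := Algebra.IsIntegral.isIntegral (b i)
    have h2 : IsIntegral K (algebraMap K₁ M (b i)) := h1.map (IsScalarTower.toAlgHom K K₁ M)
    exact h2.tower_top
  rw [htop] at hfin
  exact Module.Finite.equiv (Subalgebra.topEquiv (R := L) (A := M)).toLinearEquiv

end Fin

end Groth.Agent.H10.ValDVR
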