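import Mathlib
import Groth.Prelude.Def_EtRam
import Groth.Agent.H10.SolAll
import Groth.Agent.H10.ValDVR
import Groth.Agent.H78.ValExt

set_option autoImplicit false
set_option maxHeartbeats 400000
set_option linter.style.haveILetI false
set_option linter.unusedSectionVars false

/-! Totally ramified extensions and weakly unramified base change
(towards `EtAlg.weakSolution_of_totallyRamified`). -/

namespace Groth.Agent.H10.TotRamSol

universe u

open IsLocalRing TensorProduct

/-- Any local ring map to a field is dominated by a valuation subring (copy of helper86's lemma). -/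
theorem exists_dominates (A : Type u) [CommRing A] [IsLocalRing A] (L : Type u) [Field L]
    (g : A →+* L) : ∃ V : ValuationSubring L, EtRam.Dominates A g V := by
  obtain ⟨V, hVmem, hloc⟩ := IsLocalRing.exists_factor_valuationRing g
  refine ⟨V, fun a => hVmem a, ?_⟩
  intro a ha
  have hle : V.valuation (g a) ≤ 1 := (V.valuation_le_one_iff _).mpr (hVmem a)
  rcases lt_or_eq_of_le hle with h | h
  · exact h
  · exfalso
    have hga0 : g a ≠ 0 := by
      intro h0
      rw [h0, map_zero] at h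
      exact zero_ne_one h
    have hinv : (g a)⁻¹ ∈ V.toSubring := by
      have h2 : V.valuation (g a)⁻¹ ≤ 1 := by rw [map_inv₀, h, inv_one]
      exact (V.valuation_le_one_iff _).mp h2
    have hu : IsUnit (g.codRestrict V.toSubring hVmem a) :=
      isUnit_iff_exists_inv.mpr ⟨⟨(g a)⁻¹, hinv⟩, Subtype.ext (mul_inv_cancel₀ hga0)⟩
    have hua : IsUnit a := hloc.map_nonunit a hu
    exact (IsLocalRing.mem_maximalIdeal a).mp ha hua

section Fibre

variable (A : Type u) {B : Type u} [CommRing A] [IsDomain A] [IsDiscreteValuationRing A]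
  [CommRing B] [IsLocalRing B] [Algebra A B] [IsLocalHom (algebraMap A B)]
  (V : Type u) [CommRing V] [IsLocalRing V]
  [Algebra A V] [IsLocalHom (algebraMap A V)]

/-- If `A → κ(V)` is surjective, the fibre ring `κ(B) ⊗[A] κ(V)` is a field. -/
theorem isField_fibre (hs : Function.Surjective (algebraMap A (ResidueField V))) :
    IsField (ResidueField B ⊗[A] ResidueField V) := by
  -- `κ(B) → κ(B) ⊗ κ(V)` is surjective
  have hsurj : Function.Surjective
      (Algebra.TensorProduct.includeLeft : ResidueField B →ₐ[A] ResidueField B ⊗[A] ResidueField V) := by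
    intro x
    induction x using TensorProduct.induction_on with
    | zero => exact ⟨0, map_zero _⟩
    | add x y hx hy =>
      obtain ⟨x', rfl⟩ := hx
      obtain ⟨y', rfl⟩ := hy
      exact ⟨x' + y', map_add _ _ _⟩
    | tmul b v =>
      obtain ⟨a, rfl⟩ := hs v
      refine ⟨a • b, ?_⟩
      show (a • b) ⊗ₜ[A] (1 : ResidueField V) = b ⊗ₜ[A] (algebraMap A (ResidueField V) a)
      rw [Algebra.algebraMap_eq_smul_one, TensorProduct.smul_tmul]
  -- a retraction to `κ(B)` shows nontriviality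
  have hker : RingHom.ker (algebraMap A (ResidueField V)) ≤
      RingHom.ker (algebraMap A (ResidueField B)) := by
    intro a ha
    rw [RingHom.mem_ker] at ha ⊢
    have h1 : algebraMap A (ResidueField V) a = residue V (algebraMap A V a) := rfl
    rw [h1, residue_eq_zero_iff] at ha
    have h2 : ¬ IsUnit a := fun hu => ((mem_maximalIdeal _).mp ha) (hu.map _)
    have h3 : algebraMap A (ResidueField B) a = residue B (algebraMap A B a) := rfl
    rw [h3, residue_eq_zero_iff, mem_maximalIdeal, mem_nonunits_iff]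
    exact fun hu => h2 (isUnit_of_map_unit (algebraMap A B) a hu)
  let r : ResidueField V →+* ResidueField B :=
    RingHom.liftOfSurjective (algebraMap A (ResidueField V)) hs
      ⟨algebraMap A (ResidueField B), hker⟩
  have hr : ∀ a, r (algebraMap A (ResidueField V) a) = algebraMap A (ResidueField B) a :=
    fun a => RingHom.liftOfSurjective_comp_apply (algebraMap A (ResidueField V)) hs
      ⟨algebraMap A (ResidueField B), hker⟩ a
  let rA : ResidueField V →ₐ[A] ResidueField B := { r with commutes' := hr }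
  let ρ : ResidueField B ⊗[A] ResidueField V →ₐ[A] ResidueField B :=
    Algebra.TensorProduct.lift (AlgHom.id A (ResidueField B)) rA (fun _ _ => Commute.all _ _)
  haveI : Nontrivial (ResidueField B ⊗[A] ResidueField V) := ρ.toRingHom.domain_nontrivial
  have hinj : Function.Injective
      (Algebra.TensorProduct.includeLeft : ResidueField B →ₐ[A] ResidueField B ⊗[A] ResidueField V) :=
    (Algebra.TensorProduct.includeLeft :
      ResidueField B →ₐ[A] ResidueField B ⊗[A] ResidueField V).toRingHom.injective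
  exact (RingEquiv.ofBijective (Algebra.TensorProduct.includeLeft :
      ResidueField B →ₐ[A] ResidueField B ⊗[A] ResidueField V)
        ⟨hinj, hsurj⟩).symm.toMulEquiv.isField (Field.toIsField (ResidueField B))

end Fibre

section Structure

variable (A : Type u) {B : Type u} [CommRing A] [IsDomain A] [IsDiscreteValuationRing A]
  [CommRing B] [IsDomain B] [IsDiscreteValuationRing B] [Algebra A B]
  [IsLocalHom (algebraMap A B)]
  (V W : Type u) [CommRing V] [IsDomain V] [IsDiscreteValuationRing V]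
  [CommRing W] [IsDomain W] [IsDiscreteValuationRing W]
  [Algebra A V] [IsLocalHom (algebraMap A V)]
  [Algebra B W] [IsLocalHom (algebraMap B W)] [Algebra A W] [Algebra V W]
  [IsLocalHom (algebraMap V W)]
  [IsScalarTower A B W] [IsScalarTower A V W]
  (F : Type u) [Field F] [Algebra W F] [IsFractionRing W F]

open Groth.Agent.H10.SolAll in
/-- If `A → B` is weakly unramified, the fibre ring `κ(B) ⊗[A] κ(V)` is reduced Artinian, and `W`
is a DVR dominating `B` and `V` whose fraction field is generated by `B` and `V`, then `V → W` is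
weakly unramified. -/
theorem weaklyUnramified
    (hw : (maximalIdeal A).map (algebraMap A B) = maximalIdeal B)
    [IsArtinianRing (ResidueField B ⊗[A] ResidueField V)]
    [IsReduced (ResidueField B ⊗[A] ResidueField V)]
    (hVW : Function.Injective (algebraMap V W))
    (hgen : ∀ z : F, z ∈ Subfield.closure
      (Set.range ((algebraMap W F).comp (algebraMap B W)) ∪
        Set.range ((algebraMap W F).comp (algebraMap V W)))) :
    (maximalIdeal V).map (algebraMap V W) = maximalIdeal W := by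
  classical
  obtain ⟨ϖ, hϖirr⟩ := IsDiscreteValuationRing.exists_irreducible V
  have hϖ : maximalIdeal V = Ideal.span {ϖ} := hϖirr.maximalIdeal_eq
  let μ : B ⊗[A] V →ₐ[B] W :=
    Algebra.TensorProduct.lift (Algebra.ofId B W) (IsScalarTower.toAlgHom A V W)
      (fun _ _ => Commute.all _ _)
  have hμ : ∀ (b : B) (v : V), μ (b ⊗ₜ v) = algebraMap B W b * algebraMap V W v := by
    intro b v; simp [μ, Algebra.ofId_apply]
  have hμV : ∀ v : V, μ (1 ⊗ₜ v) = algebraMap V W v := by
    intro v; rw [hμ, map_one, one_mul]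
  have hϖW0 : algebraMap V W ϖ ≠ 0 := fun h => hϖirr.ne_zero (hVW (by rw [h, map_zero]))
  have hϖWnu : ¬ IsUnit (algebraMap V W ϖ) := fun hu =>
    hϖirr.not_isUnit (isUnit_of_map_unit _ _ hu)
  let q : Ideal (B ⊗[A] V) := (maximalIdeal W).comap μ.toRingHom
  haveI : q.IsPrime := Ideal.comap_isPrime _ _
  have hqϖ : (1 : B) ⊗ₜ[A] ϖ ∈ q := by
    show μ (1 ⊗ₜ ϖ) ∈ maximalIdeal W
    rw [hμV]
    exact (mem_maximalIdeal _).mpr hϖWnu
  have hunits : ∀ y : q.primeCompl, IsUnit (μ y) := by
    intro y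
    by_contra hy
    exact y.2 (show μ y ∈ maximalIdeal W from (mem_maximalIdeal _).mpr hy)
  let μS : Localization.AtPrime q →ₐ[B] W :=
    IsLocalization.liftAlgHom (M := q.primeCompl) (f := μ) hunits
  have hμS : ∀ t, μS (algebraMap (B ⊗[A] V) (Localization.AtPrime q) t) = μ t :=
    fun t => IsLocalization.lift_eq _ t
  have hμSloc : ∀ s, IsUnit (μS s) → IsUnit s := by
    intro y hy
    obtain ⟨⟨b, s⟩, rfl⟩ := IsLocalization.mk'_surjective q.primeCompl y
    have h1 : μS (IsLocalization.mk' _ b s) * μ s = μ b := by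
      rw [← hμS (s : B ⊗[A] V), ← map_mul, IsLocalization.mk'_spec, hμS]
    have hb : IsUnit (μ b) := by rw [← h1]; exact hy.mul (hunits s)
    have hbn : b ∈ q.primeCompl := fun hbn => ((mem_maximalIdeal _).mp hbn) hb
    exact (IsLocalization.AtPrime.isUnit_mk'_iff (Localization.AtPrime q) q b s).mpr hbn
  -- the maximal ideal of the localisation is generated by `ϖ`
  obtain ⟨ϖS, hϖS⟩ : ∃ ϖS : Localization.AtPrime q,
      ϖS = algebraMap (B ⊗[A] V) (Localization.AtPrime q) ((1 : B) ⊗ₜ[A] ϖ) := ⟨_, rfl⟩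
  have hmS : maximalIdeal (Localization.AtPrime q) = Ideal.span {ϖS} := by
    apply le_antisymm
    · intro x hx
      obtain ⟨⟨t, s'⟩, rfl⟩ := IsLocalization.mk'_surjective q.primeCompl x
      have htq : t ∈ q := (IsLocalization.AtPrime.mk'_mem_maximal_iff
        (Localization.AtPrime q) q t s').mp hx
      obtain ⟨s, hsq, hst⟩ := exists_mul_mem A V hw ϖ hϖ q hqϖ t htq
      obtain ⟨t', ht'⟩ := Ideal.mem_span_singleton'.mp hst
      have hu : IsUnit (algebraMap (B ⊗[A] V) (Localization.AtPrime q) s) :=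
        IsLocalization.map_units (Localization.AtPrime q) (⟨s, hsq⟩ : q.primeCompl)
      have hu' : IsUnit (algebraMap (B ⊗[A] V) (Localization.AtPrime q) s') :=
        IsLocalization.map_units (Localization.AtPrime q) s'
      obtain ⟨u, hu⟩ := hu
      obtain ⟨u', hu'⟩ := hu'
      rw [Ideal.mem_span_singleton]
      refine ⟨algebraMap _ _ t' * ↑u⁻¹ * ↑u'⁻¹, ?_⟩
      have h1 : IsLocalization.mk' (Localization.AtPrime q) t s' * ↑u' =
          algebraMap _ _ t := by rw [hu']; exact IsLocalization.mk'_spec _ t s'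
      have h2 : algebraMap (B ⊗[A] V) (Localization.AtPrime q) t * ↑u =
          algebraMap _ _ t' * ϖS := by
        rw [hu, hϖS, ← map_mul, ← map_mul, mul_comm t s, ht']
      calc IsLocalization.mk' (Localization.AtPrime q) t s'
          = (IsLocalization.mk' (Localization.AtPrime q) t s' * ↑u') * ↑u'⁻¹ := by
            rw [mul_assoc, Units.mul_inv, mul_one]
        _ = (algebraMap _ _ t * ↑u) * ↑u⁻¹ * ↑u'⁻¹ := by
            rw [h1, mul_assoc (algebraMap _ _ t), Units.mul_inv, mul_one]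
        _ = ϖS * (algebraMap _ _ t' * ↑u⁻¹ * ↑u'⁻¹) := by rw [h2]; ring
    · rw [Ideal.span_singleton_le_iff_mem, hϖS]
      exact (IsLocalization.AtPrime.to_map_mem_maximal_iff (Localization.AtPrime q) q _).mpr hqϖ
  have hμSϖ : μS ϖS = algebraMap V W ϖ := by rw [hϖS, hμS, hμV]
  have hg : ¬ IsUnit (μS.toRingHom ϖS) := by
    show ¬ IsUnit (μS ϖS); rw [hμSϖ]; exact hϖWnu
  have hg0 : μS.toRingHom ϖS ≠ 0 := by
    show μS ϖS ≠ 0; rw [hμSϖ]; exact hϖW0
  have hWF : Function.Injective (algebraMap W F) := IsFractionRing.injective W F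
  have hsurj : Function.Surjective μS.toRingHom := by
    refine surjective_of_cond_of_closure (F := F) hWF μS.toRingHom hμSloc
      (cond_quotient_ker ϖS hmS μS.toRingHom hg hg0) ?_
    intro w
    refine Subfield.closure_mono ?_ (hgen _)
    rintro x (⟨b, rfl⟩ | ⟨v, rfl⟩)
    · refine ⟨algebraMap B (Localization.AtPrime q) b, ?_⟩
      show algebraMap W F (μS (algebraMap B _ b)) = _
      rw [AlgHom.commutes]; rfl
    · refine ⟨algebraMap (B ⊗[A] V) (Localization.AtPrime q) (1 ⊗ₜ v), ?_⟩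
      show algebraMap W F (μS (algebraMap (B ⊗[A] V) _ (1 ⊗ₜ v))) = _
      rw [hμS, hμV]; rfl
  have h1 := IsLocalRing.map_maximalIdeal_of_surjective μS.toRingHom hsurj
  rw [← h1, hmS, hϖ, Ideal.map_span, Ideal.map_span, Set.image_singleton, Set.image_singleton]
  congr 2
  exact hμSϖ.symm

end Structure

section Denominators

/-- In the fraction field of a DVR, multiplying by a high power of a non-unit clears
denominators. -/
theorem exists_pow_mul_eq {D Q : Type*} [CommRing D] [IsDomain D] [IsDiscreteValuationRing D]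
    [Field Q] [Algebra D Q] [IsFractionRing D Q] (p : D) (hp0 : p ≠ 0) (hp : ¬ IsUnit p) (y : Q) :
    ∃ (j : ℕ) (d : D), (algebraMap D Q p) ^ j * y = algebraMap D Q d := by
  obtain ⟨d1, d2, hd2, rfl⟩ := IsFractionRing.div_surjective (A := D) y
  have hd20 : d2 ≠ 0 := nonZeroDivisors.ne_zero hd2
  obtain ⟨ϖ, hϖ⟩ := IsDiscreteValuationRing.exists_irreducible D
  obtain ⟨m, hm⟩ := IsDiscreteValuationRing.associated_pow_irreducible hd20 hϖ
  have hpm : p ∈ maximalIdeal D := (mem_maximalIdeal _).mpr hp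
  rw [hϖ.maximalIdeal_eq, Ideal.mem_span_singleton] at hpm
  have h1 : d2 ∣ p ^ m := hm.dvd.trans (pow_dvd_pow_of_dvd hpm m)
  obtain ⟨c, hc⟩ := h1
  refine ⟨m, d1 * c, ?_⟩
  have hd2Q : algebraMap D Q d2 ≠ 0 := by
    intro h; exact hd20 (IsFractionRing.injective D Q (by rw [h, map_zero]))
  rw [← map_pow, hc, map_mul, map_mul]
  field_simp

end Denominators

section FieldPart

variable (A B K L K₁ : Type u) [CommRing A] [IsDomain A] [IsDiscreteValuationRing A]
  [CommRing B] [IsDomain B] [IsDiscreteValuationRing B] [Algebra A B] [IsLocalHom (algebraMap A B)]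
  [Field K] [Field L] [Algebra A K] [IsFractionRing A K] [Algebra B L] [IsFractionRing B L]
  [Algebra K L] [Algebra A L] [IsScalarTower A K L] [IsScalarTower A B L]
  [Field K₁] [Algebra K K₁] [FiniteDimensional K K₁] [Algebra.IsSeparable K K₁]

open Groth.Agent.H10.SolAll in
theorem isField_tensor (hinj : Function.Injective (algebraMap A B))
    (hw : (maximalIdeal A).map (algebraMap A B) = maximalIdeal B)
    (ht : EtRam.IsTotallyRamified A ((algebraMap K K₁).comp (algebraMap A K))) :
    IsField (L ⊗[K] K₁) := by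
  classical
  letI algAK₁ : Algebra A K₁ := ((algebraMap K K₁).comp (algebraMap A K)).toAlgebra
  haveI : IsScalarTower A K K₁ := IsScalarTower.of_algebraMap_eq (fun _ => rfl)
  obtain ⟨⟨V, hV⟩, huniq, hres⟩ := ht
  haveI hVdvr : IsDiscreteValuationRing V :=
    Groth.Agent.H10.ValDVR.isDVR_of_dominates_finite A K K₁ V hV
  letI algAV : Algebra A V := (RingHom.codRestrict (algebraMap A K₁) V hV.1).toAlgebra
  haveI hlocAV : IsLocalHom (algebraMap A V) := ⟨fun a ha => by
    by_contra hna
    have h1 : V.valuation (algebraMap A K₁ a) < 1 :=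
      hV.2 a ((IsLocalRing.mem_maximalIdeal _).mpr hna)
    have h2 : V.valuation ((algebraMap A V a : V) : K₁) = 1 :=
      (ValuationSubring.valuation_eq_one_iff V _).mp ha
    exact absurd h2 (ne_of_lt h1)⟩
  haveI : IsScalarTower A V K₁ := IsScalarTower.of_algebraMap_eq (fun _ => rfl)
  haveI hess : Algebra.EssFiniteType A V :=
    Groth.Agent.H10.UnramExt.essFiniteType_of_dominates A K K₁ V hV
  have hs : Function.Surjective (algebraMap A (ResidueField V)) := hres V hV
  obtain ⟨π, hπ⟩ := IsDiscreteValuationRing.exists_irreducible A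
  obtain ⟨ϖ, hϖirr⟩ := IsDiscreteValuationRing.exists_irreducible V
  have hϖ : maximalIdeal V = Ideal.span {ϖ} := hϖirr.maximalIdeal_eq
  have hinjAK₁ : Function.Injective (algebraMap A K₁) :=
    (algebraMap K K₁).injective.comp (IsFractionRing.injective A K)
  have hπV0 : algebraMap A V π ≠ 0 := by
    intro h0
    have h1 : algebraMap A K₁ π = 0 := congrArg (fun v : V => (v : K₁)) h0
    exact hπ.ne_zero (hinjAK₁ (by rw [h1, map_zero]))
  have hπVnu : ¬ IsUnit (algebraMap A V π) := fun hu =>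
    hπ.not_isUnit (isUnit_of_map_unit (algebraMap A V) π hu)
  -- the ideal `(1 ⊗ ϖ)` of `T = B ⊗ V` is maximal
  have hfib := isField_fibre A (B := B) V hs
  have hkerθ := ker_theta A (B := B) hw ϖ hϖ
  have hmax : (Ideal.span {(1 : B) ⊗ₜ[A] ϖ}).IsMaximal := by
    rw [← hkerθ]
    apply Ideal.Quotient.maximal_of_isField
    exact (RingHom.quotientKerEquivOfSurjective (theta_surjective A V (B := B))).toMulEquiv.isField
      hfib
  -- `T` is local
  have hloc : ∀ 𝔪 : Ideal (B ⊗[A] V), 𝔪.IsMaximal → (1 : B) ⊗ₜ[A] ϖ ∈ 𝔪 := by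
    intro 𝔪 h𝔪
    by_contra hnot
    letI : Field ((B ⊗[A] V) ⧸ 𝔪) := Ideal.Quotient.field 𝔪
    let g₀ : B →+* (B ⊗[A] V) ⧸ 𝔪 :=
      (Ideal.Quotient.mk 𝔪).comp (Algebra.TensorProduct.includeLeft : B →ₐ[A] B ⊗[A] V).toRingHom
    let v₀ : V →+* (B ⊗[A] V) ⧸ 𝔪 :=
      (Ideal.Quotient.mk 𝔪).comp (Algebra.TensorProduct.includeRight : V →ₐ[A] B ⊗[A] V).toRingHom
    have hv₀ϖ : v₀ ϖ ≠ 0 := by
      intro h0
      exact hnot (Ideal.Quotient.eq_zero_iff_mem.mp h0)
    have hv₀inj : Function.Injective v₀ := by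
      rw [injective_iff_map_eq_zero]
      intro x hx
      by_contra hx0
      obtain ⟨k, u, hu⟩ := IsDiscreteValuationRing.eq_unit_mul_pow_irreducible hx0 hϖirr
      rw [hu, map_mul, map_pow] at hx
      rcases mul_eq_zero.mp hx with h | h
      · exact (u.isUnit.map v₀).ne_zero h
      · exact pow_ne_zero k hv₀ϖ h
    let φ : K₁ →+* (B ⊗[A] V) ⧸ 𝔪 := IsFractionRing.lift hv₀inj
    have hφ : ∀ v : V, φ (v : K₁) = v₀ v := fun v => IsFractionRing.lift_algebraMap hv₀inj v
    letI algK₁F : Algebra K₁ ((B ⊗[A] V) ⧸ 𝔪) := φ.toAlgebra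
    obtain ⟨W₀, hW₀⟩ := exists_dominates B ((B ⊗[A] V) ⧸ 𝔪) g₀
    have hcompat : ∀ a : A, φ (algebraMap A K₁ a) = g₀ (algebraMap A B a) := by
      intro a
      have h1 : algebraMap A K₁ a = ((algebraMap A V a : V) : K₁) := rfl
      rw [h1, hφ]
      show Ideal.Quotient.mk 𝔪 ((1 : B) ⊗ₜ[A] (algebraMap A V a)) =
        Ideal.Quotient.mk 𝔪 ((algebraMap A B a) ⊗ₜ[A] (1 : V))
      rw [Algebra.algebraMap_eq_smul_one, Algebra.algebraMap_eq_smul_one (A := B),
        TensorProduct.smul_tmul]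
    have hV' : EtRam.Dominates A (algebraMap A K₁) (W₀.comap (algebraMap K₁ ((B ⊗[A] V) ⧸ 𝔪))) := by
      rw [Groth.Agent.H78.ValExt.dominates_comap_iff]
      refine ⟨fun a => ?_, fun a ha => ?_⟩
      · show φ (algebraMap A K₁ a) ∈ W₀
        rw [hcompat]; exact hW₀.1 _
      · show W₀.valuation (φ (algebraMap A K₁ a)) < 1
        rw [hcompat]
        exact hW₀.2 _ ((IsLocalRing.mem_maximalIdeal _).mpr (fun hu =>
          ((IsLocalRing.mem_maximalIdeal _).mp ha) (isUnit_of_map_unit (algebraMap A B) a hu)))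
    have hVeq : W₀.comap (algebraMap K₁ ((B ⊗[A] V) ⧸ 𝔪)) = V := huniq _ _ hV' hV
    have hVW₀ : ∀ v : V, v₀ v ∈ W₀ := by
      intro v
      have h1 : (v : K₁) ∈ W₀.comap (algebraMap K₁ ((B ⊗[A] V) ⧸ 𝔪)) := by rw [hVeq]; exact v.2
      have h2 : φ (v : K₁) ∈ W₀ := h1
      rwa [hφ] at h2
    have hall : ∀ x : (B ⊗[A] V) ⧸ 𝔪, x ∈ W₀ := by
      intro x
      obtain ⟨t, rfl⟩ := Ideal.Quotient.mk_surjective x
      induction t using TensorProduct.induction_on with
      | zero => rw [map_zero]; exact zero_mem _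
      | add x y hx hy => rw [map_add]; exact add_mem hx hy
      | tmul b v =>
        have h1 : b ⊗ₜ[A] v = (b ⊗ₜ[A] (1 : V)) * ((1 : B) ⊗ₜ[A] v) := by
          rw [Algebra.TensorProduct.tmul_mul_tmul, mul_one, one_mul]
        rw [h1, map_mul]
        exact mul_mem (hW₀.1 b) (hVW₀ v)
    have hlt : W₀.valuation (v₀ ϖ) < 1 := by
      have h1 : V.valuation (ϖ : K₁) < 1 :=
        (ValuationSubring.valuation_lt_one_iff V ϖ).mp
          ((mem_maximalIdeal _).mpr hϖirr.not_isUnit)
      have h2 : (W₀.comap (algebraMap K₁ ((B ⊗[A] V) ⧸ 𝔪))).valuation (ϖ : K₁) < 1 := by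
        rw [hVeq]; exact h1
      rw [Groth.Agent.H78.ValExt.comap_valuation_lt_one_iff] at h2
      have h3 : algebraMap K₁ ((B ⊗[A] V) ⧸ 𝔪) (ϖ : K₁) = v₀ ϖ := hφ ϖ
      rwa [h3] at h2
    rw [Groth.Agent.H78.ValExt.lt_one_iff] at hlt
    rcases hlt with h | h
    · exact hv₀ϖ h
    · exact h (hall _)
  haveI hTloc : IsLocalRing (B ⊗[A] V) := by
    refine IsLocalRing.of_unique_max_ideal ⟨_, hmax, fun 𝔪 h𝔪 => ?_⟩
    have h1 : Ideal.span {(1 : B) ⊗ₜ[A] ϖ} ≤ 𝔪 := by
      rw [Ideal.span_singleton_le_iff_mem]; exact hloc 𝔪 h𝔪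
    exact (hmax.eq_of_le h𝔪.ne_top h1).symm
  have hmT : maximalIdeal (B ⊗[A] V) = Ideal.span {(1 : B) ⊗ₜ[A] ϖ} :=
    (IsLocalRing.eq_maximalIdeal hmax).symm
  haveI : IsNoetherianRing (B ⊗[A] V) := Algebra.EssFiniteType.isNoetherianRing B _
  -- the map to `N = L ⊗ K₁`
  let fB : B →ₐ[A] L ⊗[K] K₁ :=
    (Algebra.TensorProduct.includeLeft : L →ₐ[A] L ⊗[K] K₁).comp (IsScalarTower.toAlgHom A B L)
  have hcompN : ∀ a : A, (1 : L) ⊗ₜ[K] (algebraMap A K₁ a) = (algebraMap A L a) ⊗ₜ[K] (1 : K₁) := by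
    intro a
    show (1 : L) ⊗ₜ[K] (algebraMap K K₁ (algebraMap A K a)) = _
    rw [IsScalarTower.algebraMap_apply A K L, Algebra.algebraMap_eq_smul_one (algebraMap A K a),
      Algebra.algebraMap_eq_smul_one (A := L) (algebraMap A K a), TensorProduct.smul_tmul]
  let fV : V →ₐ[A] L ⊗[K] K₁ :=
    { (Algebra.TensorProduct.includeRight : K₁ →ₐ[K] L ⊗[K] K₁).toRingHom.comp
        (algebraMap V K₁) with
      commutes' := fun a => by
        show (1 : L) ⊗ₜ[K] (algebraMap A K₁ a) = (algebraMap A L a) ⊗ₜ[K] (1 : K₁)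
        exact hcompN a }
  let ι : B ⊗[A] V →ₐ[A] L ⊗[K] K₁ :=
    Algebra.TensorProduct.lift fB fV (fun _ _ => Commute.all _ _)
  have hι : ∀ (b : B) (v : V), ι (b ⊗ₜ v) = (algebraMap B L b) ⊗ₜ[K] (v : K₁) := by
    intro b v
    have h1 : ι (b ⊗ₜ v) = fB b * fV v := by simp [ι]
    rw [h1]
    show ((algebraMap B L b) ⊗ₜ[K] (1 : K₁)) * ((1 : L) ⊗ₜ[K] (v : K₁)) = _
    rw [Algebra.TensorProduct.tmul_mul_tmul, mul_one, one_mul]
  have hϖK₁ : (ϖ : K₁) ≠ 0 := fun h => hϖirr.ne_zero (Subtype.ext h)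
  have hιϖ : IsUnit (ι ((1 : B) ⊗ₜ[A] ϖ)) := by
    rw [hι, map_one]
    exact (IsUnit.mk0 _ hϖK₁).map
      (Algebra.TensorProduct.includeRight : K₁ →ₐ[K] L ⊗[K] K₁)
  -- every nonzero element of `T` maps to a unit
  have hunit : ∀ t : B ⊗[A] V, t ≠ 0 → IsUnit (ι t) := by
    intro t ht0
    have hinf := Ideal.iInf_pow_eq_bot_of_isLocalRing (maximalIdeal (B ⊗[A] V))
      (Ideal.IsPrime.ne_top inferInstance)
    have : ∃ n, t ∉ maximalIdeal (B ⊗[A] V) ^ n := by
      by_contra hcon
      push Not at hcon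
      apply ht0
      have : t ∈ ⨅ i, maximalIdeal (B ⊗[A] V) ^ i := by
        rw [Ideal.mem_iInf]; exact hcon
      rwa [hinf, Ideal.mem_bot] at this
    obtain ⟨n, hn⟩ := this
    rcases unit_pow_or_dvd _ hmT n t with ⟨k, -, u, hu, htu⟩ | ⟨y, hy⟩
    · rw [htu, map_mul, map_pow]
      exact (hu.map ι).mul (hιϖ.pow k)
    · exfalso
      apply hn
      rw [hy, hmT, Ideal.span_singleton_pow]
      exact Ideal.mul_mem_right _ _ (Ideal.mem_span_singleton_self _)
  -- clearing denominators
  have hπB0 : algebraMap A B π ≠ 0 := fun h => hπ.ne_zero (hinj (by rw [h, map_zero]))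
  have hπBnu : ¬ IsUnit (algebraMap A B π) := fun hu =>
    hπ.not_isUnit (isUnit_of_map_unit (algebraMap A B) π hu)
  have hden : ∀ x : L ⊗[K] K₁, ∃ (k : ℕ) (t : B ⊗[A] V),
      (algebraMap A (L ⊗[K] K₁) π) ^ k * x = ι t := by
    intro x
    induction x using TensorProduct.induction_on with
    | zero => exact ⟨0, 0, by rw [mul_zero, map_zero]⟩
    | add x y hx hy =>
      obtain ⟨k, t, hkt⟩ := hx
      obtain ⟨l, t', hlt'⟩ := hy
      refine ⟨k + l, (algebraMap A (B ⊗[A] V) π) ^ l * t + (algebraMap A (B ⊗[A] V) π) ^ k * t', ?_⟩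
      rw [map_add, map_mul, map_mul, map_pow, map_pow, AlgHom.commutes, ← hkt, ← hlt']
      ring
    | tmul l y =>
      obtain ⟨i, b, hib⟩ := exists_pow_mul_eq (D := B) (Q := L) (algebraMap A B π) hπB0 hπBnu l
      obtain ⟨j, v, hjv⟩ := exists_pow_mul_eq (D := V) (Q := K₁) (algebraMap A V π) hπV0 hπVnu y
      refine ⟨i + j, b ⊗ₜ v, ?_⟩
      have hjv' : (algebraMap A K₁ π) ^ j * y = (v : K₁) := hjv
      have hib' : (algebraMap A L π) ^ i * l = algebraMap B L b := by
        rw [IsScalarTower.algebraMap_apply A B L]; exact hib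
      have h1 : algebraMap A (L ⊗[K] K₁) π = (algebraMap A L π) ⊗ₜ[K] (1 : K₁) := rfl
      have h2 : algebraMap A (L ⊗[K] K₁) π = (1 : L) ⊗ₜ[K] (algebraMap A K₁ π) := by
        rw [h1, hcompN]
      have hL : (algebraMap A (L ⊗[K] K₁) π) ^ i = ((algebraMap A L π) ^ i) ⊗ₜ[K] (1 : K₁) := by
        rw [h1, Algebra.TensorProduct.tmul_pow, one_pow]
      have hK : (algebraMap A (L ⊗[K] K₁) π) ^ j = (1 : L) ⊗ₜ[K] ((algebraMap A K₁ π) ^ j) := by
        rw [h2, Algebra.TensorProduct.tmul_pow, one_pow]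
      rw [hι, ← hib', ← hjv', pow_add, hL, hK, Algebra.TensorProduct.tmul_mul_tmul,
        Algebra.TensorProduct.tmul_mul_tmul, mul_one, one_mul]
  -- conclusion
  haveI : Nontrivial (L ⊗[K] K₁) := inferInstance
  have hπN : IsUnit (algebraMap A (L ⊗[K] K₁) π) := by
    have h1 : algebraMap A (L ⊗[K] K₁) π = (algebraMap A L π) ⊗ₜ[K] (1 : K₁) := rfl
    rw [h1]
    have h2 : algebraMap A L π ≠ 0 := by
      rw [IsScalarTower.algebraMap_apply A K L]
      intro h
      have := (algebraMap K L).injective (by rw [h, map_zero] : algebraMap K L _ = algebraMap K L 0)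
      exact hπ.ne_zero (IsFractionRing.injective A K (by rw [this, map_zero]))
    exact (IsUnit.mk0 _ h2).map (Algebra.TensorProduct.includeLeft : L →ₐ[K] L ⊗[K] K₁)
  refine ⟨⟨0, 1, zero_ne_one⟩, mul_comm, fun {x} hx => ?_⟩
  obtain ⟨k, t, hkt⟩ := hden x
  have ht0 : t ≠ 0 := by
    rintro rfl
    rw [map_zero] at hkt
    exact hx ((hπN.pow k).mul_right_eq_zero.mp hkt)
  have hu : IsUnit ((algebraMap A (L ⊗[K] K₁) π) ^ k * x) := by rw [hkt]; exact hunit t ht0
  have hxu : IsUnit x := (IsUnit.mul_iff.mp hu).2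
  obtain ⟨y, hy⟩ := hxu.exists_right_inv
  exact ⟨y, hy⟩

end FieldPart

section FibreInst

variable (A : Type u) {B : Type u} [CommRing A] [IsDomain A] [IsDiscreteValuationRing A]
  [CommRing B] [IsLocalRing B] [Algebra A B] [IsLocalHom (algebraMap A B)]
  (V : Type u) [CommRing V] [IsLocalRing V]
  [Algebra A V] [IsLocalHom (algebraMap A V)]

theorem includeLeft_surjective_fibre (hs : Function.Surjective (algebraMap A (ResidueField V))) :
    Function.Surjective
      (Algebra.TensorProduct.includeLeft :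
        ResidueField B →ₐ[A] ResidueField B ⊗[A] ResidueField V) := by
  intro x
  induction x using TensorProduct.induction_on with
  | zero => exact ⟨0, map_zero _⟩
  | add x y hx hy =>
    obtain ⟨x', rfl⟩ := hx
    obtain ⟨y', rfl⟩ := hy
    exact ⟨x' + y', map_add _ _ _⟩
  | tmul b v =>
    obtain ⟨a, rfl⟩ := hs v
    refine ⟨a • b, ?_⟩
    show (a • b) ⊗ₜ[A] (1 : ResidueField V) = b ⊗ₜ[A] (algebraMap A (ResidueField V) a)
    rw [Algebra.algebraMap_eq_smul_one, TensorProduct.smul_tmul]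

theorem isArtinianRing_fibre (hs : Function.Surjective (algebraMap A (ResidueField V))) :
    IsArtinianRing (ResidueField B ⊗[A] ResidueField V) :=
  (includeLeft_surjective_fibre A (B := B) V hs).isArtinianRing

theorem isReduced_fibre' (hs : Function.Surjective (algebraMap A (ResidueField V))) :
    IsReduced (ResidueField B ⊗[A] ResidueField V) := by
  haveI := (isField_fibre A (B := B) V hs).isDomain
  infer_instance

end FibreInst

end Groth.Agent.H10.TotRamSol
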