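import Mathlib
import Groth.Prelude.Def_EtRam
import Groth.Agent.H10.TotRamGen
import Groth.Agent.H10.TotRamSol

/-! (P2c) for S7155: `K/K` is totally ramified with respect to `A`. -/

set_option autoImplicit false
set_option linter.style.haveILetI false
set_option linter.unusedVariables false

universe u

open IsLocalRing

namespace Groth.Agent.H10.AS55P2c

/-- (P2c) `K/K` is totally ramified. -/
theorem isTotallyRamified_self (A K : Type u) [CommRing A] [IsDomain A] [IsDiscreteValuationRing A]
    [Field K] [Algebra A K] [IsFractionRing A K] :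
    EtRam.IsTotallyRamified A ((algebraMap K K).comp (algebraMap A K)) := by
  obtain ⟨π, hirr⟩ := IsDiscreteValuationRing.exists_irreducible A
  have hπ : maximalIdeal A = Ideal.span {π} := hirr.maximalIdeal_eq
  have hπ0 : π ≠ 0 := hirr.ne_zero
  have hπu : ¬ IsUnit π := hirr.not_isUnit
  have hπmem : π ∈ maximalIdeal A := (mem_maximalIdeal _).mpr hπu
  set g : A →+* K := (algebraMap K K).comp (algebraMap A K) with hg
  have hgapp : ∀ a : A, g a = algebraMap A K a := fun a => rfl
  have hginj : Function.Injective g := by
    intro a b hab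
    exact IsFractionRing.injective A K (by simpa [hgapp] using hab)
  have hgπ0 : g π ≠ 0 := fun h => hπ0 (hginj (by rw [h, map_zero]))
  apply Groth.Agent.H10.TotRamGen.isTotallyRamified_of_val A π hπ K g hginj (g π) 1 Nat.one_pos
  · intro V hV
    refine ⟨?_, hV.2 π hπmem, pow_one _⟩
    exact (Valuation.ne_zero_iff _).mpr hgπ0
  · intro y
    obtain ⟨j, d, hd⟩ := Groth.Agent.H10.TotRamSol.exists_pow_mul_eq (D := A) (Q := K) π hπ0 hπu y
    refine ⟨j, fun _ => d, ?_⟩
    rw [Finset.sum_range_one, pow_zero, mul_one, hgapp, hgapp, ← hd, mul_comm]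

end Groth.Agent.H10.AS55P2c
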