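import Mathlib
import Groth.Prelude.Def_EtRam
import Groth.Agent.H10.ASRam
import Groth.Agent.H10.ValDVR
import Groth.Agent.H78.ValExt
import Groth.Agent.S1984

/-! (P3) for S7155: type (A), weak solution. -/

set_option autoImplicit false
set_option maxHeartbeats 1000000
set_option linter.style.haveILetI false
set_option linter.unusedVariables false
set_option linter.unusedSectionVars false

universe u

open IsLocalRing Polynomial IntermediateField

namespace Groth.Agent.H10.AS55P3

/-- (P3) type (A): weak solution. -/
theorem weakSolution_typeA (p : ℕ) (hp : p.Prime) (A B C K L M : Type u)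
    [CommRing A] [IsDomain A] [IsDiscreteValuationRing A] [CommRing B] [IsDomain B] [IsDiscreteValuationRing B]
    [CommRing C] [IsDomain C] [IsDiscreteValuationRing C]
    [Algebra A B] [Algebra B C] [Algebra A C] [IsScalarTower A B C]
    (hAB : Function.Injective (algebraMap A B)) (hBC : Function.Injective (algebraMap B C))
    [IsLocalHom (algebraMap A B)] [IsLocalHom (algebraMap B C)]
    [Field K] [Field L] [Field M] [Algebra A K] [IsFractionRing A K] [Algebra B L] [IsFractionRing B L]
    [Algebra C M] [IsFractionRing C M] [Algebra K L] [Algebra L M] [Algebra K M] [IsScalarTower K L M]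
    [Algebra A L] [IsScalarTower A K L] [IsScalarTower A B L] [Algebra B M] [IsScalarTower B L M] [IsScalarTower B C M]
    [Algebra A M] [IsScalarTower A K M] [IsScalarTower A C M]
    (hw : EtRam.IsWeaklyUnramified A B) [CharP K p]
    (z : M) (ξ : L) (hz : z ^ p - z = algebraMap L M ξ) (hgen : IntermediateField.adjoin L {z} = ⊤)
    (K₁ : Type u) [Field K₁] [Algebra K K₁] [FiniteDimensional K K₁] [Algebra.IsSeparable K K₁]
    (ht : EtRam.IsTotallyRamified A ((algebraMap K K₁).comp (algebraMap A K)))
    (w : L) (b₀ : B) (η : K) (y₀ : K₁)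
    (hξ : ξ = (w ^ p - w) + algebraMap B L b₀ + algebraMap K L η)
    (hy₀ : y₀ ^ p - y₀ = algebraMap K K₁ η) :
    EtRam.IsWeakSolution C K M K₁ := by
  classical
  haveI : Fact p.Prime := ⟨hp⟩
  intro M' _ _ _ _ _ _ hadj W hW
  -- structures on M'
  letI algLM' : Algebra L M' := ((algebraMap M M').comp (algebraMap L M)).toAlgebra
  haveI tLMM' : IsScalarTower L M M' := IsScalarTower.of_algebraMap_eq (fun _ => rfl)
  haveI tKLM' : IsScalarTower K L M' := IsScalarTower.of_algebraMap_eq (fun k => by
    show algebraMap K M' k = algebraMap M M' (algebraMap L M (algebraMap K L k))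
    rw [← IsScalarTower.algebraMap_apply K L M, ← IsScalarTower.algebraMap_apply K M M'])
  letI algBM' : Algebra B M' := ((algebraMap L M').comp (algebraMap B L)).toAlgebra
  haveI tBLM' : IsScalarTower B L M' := IsScalarTower.of_algebraMap_eq (fun _ => rfl)
  letI algAM' : Algebra A M' := ((algebraMap K M').comp (algebraMap A K)).toAlgebra
  haveI tAKM' : IsScalarTower A K M' := IsScalarTower.of_algebraMap_eq (fun _ => rfl)
  haveI tALM' : IsScalarTower A L M' := IsScalarTower.of_algebraMap_eq (fun a => by
    show algebraMap K M' (algebraMap A K a) = algebraMap L M' (algebraMap A L a)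
    rw [IsScalarTower.algebraMap_apply A K L, ← IsScalarTower.algebraMap_apply K L M'])
  haveI tABM' : IsScalarTower A B M' := IsScalarTower.of_algebraMap_eq (fun a => by
    show algebraMap K M' (algebraMap A K a) = algebraMap L M' (algebraMap B L (algebraMap A B a))
    rw [← IsScalarTower.algebraMap_apply A B L, IsScalarTower.algebraMap_apply A K L,
      ← IsScalarTower.algebraMap_apply K L M'])
  haveI : CharP L p := charP_of_injective_algebraMap (algebraMap K L).injective p
  haveI : CharP M' p := charP_of_injective_algebraMap (algebraMap K M').injective p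
  -- W dominates B
  have hBM' : ∀ b : B, algebraMap B M' b = algebraMap M M' (algebraMap C M (algebraMap B C b)) := by
    intro b
    show algebraMap M M' (algebraMap L M (algebraMap B L b)) = _
    rw [← IsScalarTower.algebraMap_apply B L M, ← IsScalarTower.algebraMap_apply B C M]
  have hWB : EtRam.Dominates B (algebraMap B M') W := by
    refine ⟨fun b => ?_, fun b hb => ?_⟩
    · rw [hBM']; exact hW.1 _
    · rw [hBM']
      exact hW.2 _ ((IsLocalRing.mem_maximalIdeal _).mpr (fun hu =>
        ((IsLocalRing.mem_maximalIdeal _).mp hb) (isUnit_of_map_unit (algebraMap B C) b hu)))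
  -- ζ
  set ζ : M' := algebraMap M M' z - algebraMap L M' w - algebraMap K₁ M' y₀ with hζdef
  have hζ : ζ ^ p - ζ = algebraMap L M' (algebraMap B L b₀) := by
    have e1 : (algebraMap M M' z) ^ p - algebraMap M M' z = algebraMap L M' ξ := by
      rw [← map_pow, ← map_sub, hz]; rfl
    have e2 : (algebraMap K₁ M' y₀) ^ p - algebraMap K₁ M' y₀ =
        algebraMap L M' (algebraMap K L η) := by
      rw [← map_pow, ← map_sub, hy₀, ← IsScalarTower.algebraMap_apply K K₁ M',
        ← IsScalarTower.algebraMap_apply K L M']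
    have e3 : algebraMap L M' ξ = (algebraMap L M' w) ^ p - algebraMap L M' w +
        algebraMap L M' (algebraMap B L b₀) + algebraMap L M' (algebraMap K L η) := by
      rw [hξ, map_add, map_add, map_sub, map_pow]
    rw [hζdef, sub_pow_char, sub_pow_char]
    linear_combination e1 - e2 + e3
  -- the intermediate field M₀ = L(ζ)
  let M₀ : IntermediateField L M' := L⟮ζ⟯
  let ζ₀ : M₀ := AdjoinSimple.gen L ζ
  have hζ₀ : ζ₀ ^ p - ζ₀ = algebraMap L M₀ (algebraMap B L b₀) := by
    apply Subtype.ext
    show (ζ₀ : M') ^ p - (ζ₀ : M') = _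
    rw [AdjoinSimple.coe_gen]
    exact hζ
  have hgen₀ : L⟮ζ₀⟯ = ⊤ := by
    apply IntermediateField.map_injective L⟮ζ⟯.val
    rw [IntermediateField.adjoin_map, Set.image_singleton, ← AlgHom.fieldRange_eq_map,
      IntermediateField.fieldRange_val]
    rfl
  haveI hfin₀ : FiniteDimensional L M₀ :=
    Groth.Agent.H10.ASField.finiteDimensional p (algebraMap B L b₀) ζ₀ hζ₀ hgen₀
  -- uniformizers
  obtain ⟨π, hirr⟩ := IsDiscreteValuationRing.exists_irreducible A
  have hπ : maximalIdeal A = Ideal.span {π} := hirr.maximalIdeal_eq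
  have hw' : (maximalIdeal A).map (algebraMap A B) = maximalIdeal B := hw
  have hπB : maximalIdeal B = Ideal.span {algebraMap A B π} := by
    rw [← hw', hπ, Ideal.map_span, Set.image_singleton]
  -- unramified
  have hunr : EtRam.IsUnramifiedExt B (algebraMap B M₀) := by
    haveI : CharP (ResidueField B) p := Groth.Agent.H10.ASRam.charP_residue (K := L) p
    let F : B[X] := X ^ p - (X + Polynomial.C b₀)
    have hFm : F.Monic := monic_X_pow_sub (by
      rw [degree_X_add_C]
      exact_mod_cast hp.one_lt)
    have hFy : aeval ζ₀ F = 0 := by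
      simp only [F, map_sub, map_pow, aeval_X, map_add, aeval_C]
      rw [IsScalarTower.algebraMap_apply B L M₀, ← hζ₀]
      ring
    have hsep : (F.map (residue B)).Separable := by
      have h1 : F.map (residue B) = Groth.Agent.H10.ASField.asPoly p (residue B b₀) := by
        simp only [F, Groth.Agent.H10.ASField.asPoly, Polynomial.map_sub, Polynomial.map_pow,
          Polynomial.map_X, Polynomial.map_add, Polynomial.map_C]
      rw [h1]
      exact Groth.Agent.H10.ASField.asPoly_separable p _
    exact Groth.Agent.H10.ASRam.unramified_of_separable (K := L) (algebraMap A B π) hπB ζ₀ hgen₀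
      F hFm hFy hsep
  -- the valuation subring C₀ = W ∩ M₀
  let C₀ : ValuationSubring M₀ := W.comap (algebraMap M₀ M')
  have hC₀B : EtRam.Dominates B (algebraMap B M₀) C₀ := by
    show EtRam.Dominates B (algebraMap B M₀) (W.comap (algebraMap M₀ M'))
    rw [Groth.Agent.H78.ValExt.dominates_comap_iff]
    exact ⟨fun b => hWB.1 b, fun b hb => hWB.2 b hb⟩
  haveI hC₀dvr : IsDiscreteValuationRing C₀ :=
    Groth.Agent.H10.ValDVR.isDVR_of_dominates_finite B L M₀ C₀ hC₀B
  letI algBC₀ : Algebra B C₀ := (RingHom.codRestrict (algebraMap B M₀) C₀ hC₀B.1).toAlgebra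
  haveI hlocBC₀ : IsLocalHom (algebraMap B C₀) := ⟨fun b hb => by
    by_contra hnb
    have h1 : C₀.valuation (algebraMap B M₀ b) < 1 :=
      hC₀B.2 b ((IsLocalRing.mem_maximalIdeal _).mpr hnb)
    have h2 : C₀.valuation ((algebraMap B C₀ b : C₀) : M₀) = 1 :=
      (ValuationSubring.valuation_eq_one_iff C₀ _).mp hb
    exact absurd h2 (ne_of_lt h1)⟩
  have hwBC₀ : EtRam.IsWeaklyUnramified B C₀ := (hunr C₀ hC₀B).1
  -- A → C₀
  have hinjBM₀ : Function.Injective (algebraMap B M₀) := by
    rw [IsScalarTower.algebraMap_eq B L M₀]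
    exact (algebraMap L M₀).injective.comp (IsFractionRing.injective B L)
  have hinjBC₀ : Function.Injective (algebraMap B C₀) := fun a b hab =>
    hinjBM₀ (congrArg Subtype.val hab)
  letI algAC₀ : Algebra A C₀ := ((algebraMap B C₀).comp (algebraMap A B)).toAlgebra
  haveI tABC₀ : IsScalarTower A B C₀ := IsScalarTower.of_algebraMap_eq (fun _ => rfl)
  haveI hlocAC₀ : IsLocalHom (algebraMap A C₀) := by
    show IsLocalHom ((algebraMap B C₀).comp (algebraMap A B))
    exact RingHom.isLocalHom_comp _ _
  have hinjAC₀ : Function.Injective (algebraMap A C₀) := hinjBC₀.comp hAB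
  have hwBC₀' : (maximalIdeal B).map (algebraMap B C₀) = maximalIdeal C₀ := hwBC₀
  have hwAC₀ : EtRam.IsWeaklyUnramified A C₀ := by
    show (maximalIdeal A).map (algebraMap A C₀) = maximalIdeal C₀
    have h1 : (maximalIdeal A).map (algebraMap A C₀) =
        ((maximalIdeal A).map (algebraMap A B)).map (algebraMap B C₀) := by
      rw [Ideal.map_map]; rfl
    rw [h1, hw', hwBC₀']
  haveI tAKM₀ : IsScalarTower A K M₀ := IsScalarTower.of_algebraMap_eq (fun a => by
    apply Subtype.ext
    show algebraMap A M' a = algebraMap K M' (algebraMap A K a)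
    rfl)
  haveI tAC₀M₀ : IsScalarTower A C₀ M₀ := IsScalarTower.of_algebraMap_eq (fun a => by
    apply Subtype.ext
    show algebraMap A M' a = algebraMap B M' (algebraMap A B a)
    exact IsScalarTower.algebraMap_apply A B M' a)
  have hsol := (Groth.Agent.S1984.result A C₀ K M₀ hinjAC₀ hwAC₀ K₁ ht).2
  -- the generation hypothesis over M₀
  have hadjz : Algebra.adjoin L {z} = ⊤ := Groth.Agent.H10.ASField.adjoin_eq_top p ξ z hz hgen
  have hadj' : Algebra.adjoin M₀ (Set.range (algebraMap K₁ M')) = ⊤ := by
    set S := Algebra.adjoin M₀ (Set.range (algebraMap K₁ M')) with hS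
    have hL : ∀ l : L, algebraMap L M' l ∈ S := fun l => by
      have h0 : algebraMap L M' l = algebraMap M₀ M' (algebraMap L M₀ l) := rfl
      rw [h0]; exact Subalgebra.algebraMap_mem S _
    have hK₁ : ∀ t : K₁, algebraMap K₁ M' t ∈ S := fun t => Algebra.subset_adjoin ⟨t, rfl⟩
    have hζS : ζ ∈ S := by
      have h0 : ζ = algebraMap M₀ M' ζ₀ := rfl
      rw [h0]; exact Subalgebra.algebraMap_mem S _
    have hzS : algebraMap M M' z ∈ S := by
      have h0 : algebraMap M M' z = ζ + algebraMap L M' w + algebraMap K₁ M' y₀ := by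
        rw [hζdef]; ring
      rw [h0]; exact add_mem (add_mem hζS (hL w)) (hK₁ y₀)
    have hM : ∀ m : M, algebraMap M M' m ∈ S := by
      intro m
      have hm : m ∈ Algebra.adjoin L {z} := by rw [hadjz]; trivial
      induction hm using Algebra.adjoin_induction with
      | mem x hx => rw [Set.mem_singleton_iff.mp hx]; exact hzS
      | algebraMap l => rw [← IsScalarTower.algebraMap_apply L M M']; exact hL l
      | add x y _ _ hx hy => rw [map_add]; exact add_mem hx hy
      | mul x y _ _ hx hy => rw [map_mul]; exact mul_mem hx hy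
    have hall : ∀ x : M', x ∈ S := by
      intro x
      have hx : x ∈ Algebra.adjoin M (Set.range (algebraMap K₁ M')) := by rw [hadj]; trivial
      induction hx using Algebra.adjoin_induction with
      | mem x hx => obtain ⟨t, rfl⟩ := hx; exact hK₁ t
      | algebraMap m => exact hM m
      | add x y _ _ hx hy => exact add_mem hx hy
      | mul x y _ _ hx hy => exact mul_mem hx hy
    exact eq_top_iff.mpr (fun x _ => hall x)
  have hW' : EtRam.Dominates C₀ ((algebraMap M₀ M').comp (algebraMap C₀ M₀)) W := by
    refine ⟨fun c => c.2, fun c hc => ?_⟩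
    have h1 : C₀.valuation (c : M₀) < 1 := (ValuationSubring.valuation_lt_one_iff C₀ c).mp hc
    exact (Groth.Agent.H78.ValExt.comap_valuation_lt_one_iff W (c : M₀)).mp h1
  haveI tKM₀M' : IsScalarTower K M₀ M' := IsScalarTower.of_algebraMap_eq (fun _ => rfl)
  exact hsol M' hadj' W hW'

end Groth.Agent.H10.AS55P3
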