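import Mathlib

/-!
# Extending maps to adic completions

* `factorPow_evalₐ` : the truncations of an element of the completion are compatible.
* `exists_extension` : a `V`-algebra map `ψ : A → Ĉ` (completion of `C` along `IC`) extends to the
  completion `Â` of `A` along `IA`.
-/

set_option autoImplicit false
universe u

namespace Groth.Agent.H10.AdicExt

theorem factorPow_evalₐ {R : Type*} [CommRing R] (I : Ideal R) {m n : ℕ} (h : m ≤ n)
    (x : AdicCompletion I R) :
    Ideal.Quotient.factorPow I h (AdicCompletion.evalₐ I n x) = AdicCompletion.evalₐ I m x := by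
  obtain ⟨c, rfl⟩ := AdicCompletion.mk_surjective I R x
  rw [AdicCompletion.evalₐ_mk, AdicCompletion.evalₐ_mk]
  show Ideal.Quotient.mk (I ^ m) (c.1 n) = Ideal.Quotient.mk (I ^ m) (c.1 m)
  have h1 := c.2 h
  rw [SModEq, ← sub_eq_zero, ← Submodule.Quotient.mk_sub, Submodule.Quotient.mk_eq_zero] at h1
  rw [eq_comm, Ideal.Quotient.eq]
  have h2 : (I ^ m • ⊤ : Submodule R R) = I ^ m := by
    rw [smul_eq_mul, Ideal.mul_top]
  rw [h2] at h1
  exact h1

section Ext

variable {V A C : Type u} [CommRing V] [CommRing A] [CommRing C] [Algebra V A] [Algebra V C]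
  (I : Ideal V)

theorem evalₐ_eq_zero_of_mem (n : ℕ)
    (ψ : A →ₐ[V] AdicCompletion (I.map (algebraMap V C)) C) (a : A)
    (ha : a ∈ (I.map (algebraMap V A)) ^ n) :
    AdicCompletion.evalₐ (I.map (algebraMap V C)) n (ψ a) = 0 := by
  have hle : (I.map (algebraMap V A)) ^ n ≤
      RingHom.ker (((AdicCompletion.evalₐ (I.map (algebraMap V C)) n :
        AdicCompletion (I.map (algebraMap V C)) C →+* C ⧸ (I.map (algebraMap V C)) ^ n)).comp
          (ψ : A →+* AdicCompletion (I.map (algebraMap V C)) C)) := by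
    rw [← Ideal.map_pow, Ideal.map_le_iff_le_comap]
    intro v hv
    rw [Ideal.mem_comap, RingHom.mem_ker]
    show AdicCompletion.evalₐ (I.map (algebraMap V C)) n (ψ (algebraMap V A v)) = 0
    rw [ψ.commutes, AdicCompletion.algebraMap_apply, AdicCompletion.evalₐ_of,
      Ideal.Quotient.eq_zero_iff_mem, ← Ideal.map_pow]
    exact Ideal.mem_map_of_mem _ hv
  exact hle ha

/-- the induced maps on truncations -/
noncomputable def gmap (n : ℕ) (ψ : A →ₐ[V] AdicCompletion (I.map (algebraMap V C)) C) :
    A ⧸ (I.map (algebraMap V A)) ^ n →+* C ⧸ (I.map (algebraMap V C)) ^ n :=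
  Ideal.Quotient.lift ((I.map (algebraMap V A)) ^ n)
    (((AdicCompletion.evalₐ (I.map (algebraMap V C)) n :
        AdicCompletion (I.map (algebraMap V C)) C →+* C ⧸ (I.map (algebraMap V C)) ^ n)).comp
          (ψ : A →+* AdicCompletion (I.map (algebraMap V C)) C))
    (fun a ha => evalₐ_eq_zero_of_mem I n ψ a ha)

theorem gmap_mk (n : ℕ) (ψ : A →ₐ[V] AdicCompletion (I.map (algebraMap V C)) C) (a : A) :
    gmap I n ψ (Ideal.Quotient.mk _ a) = AdicCompletion.evalₐ (I.map (algebraMap V C)) n (ψ a) :=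
  rfl

/-- Extension of `ψ : A → Ĉ` to `Â`. -/
theorem exists_extension (ψ : A →ₐ[V] AdicCompletion (I.map (algebraMap V C)) C) :
    ∃ φ : AdicCompletion (I.map (algebraMap V A)) A →ₐ[V]
        AdicCompletion (I.map (algebraMap V C)) C,
      ∀ (n : ℕ) (x : AdicCompletion (I.map (algebraMap V A)) A) (a : A),
        AdicCompletion.evalₐ (I.map (algebraMap V A)) n x = Ideal.Quotient.mk _ a →
        AdicCompletion.evalₐ (I.map (algebraMap V C)) n (φ x) =
          AdicCompletion.evalₐ (I.map (algebraMap V C)) n (ψ a) := by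
  let f : (n : ℕ) → AdicCompletion (I.map (algebraMap V A)) A →+*
      C ⧸ (I.map (algebraMap V C)) ^ n := fun n =>
    (gmap I n ψ).comp (AdicCompletion.evalₐ (I.map (algebraMap V A)) n :
      AdicCompletion (I.map (algebraMap V A)) A →+* A ⧸ (I.map (algebraMap V A)) ^ n)
  have hf_apply : ∀ (n : ℕ) (x : AdicCompletion (I.map (algebraMap V A)) A) (a : A),
      AdicCompletion.evalₐ (I.map (algebraMap V A)) n x = Ideal.Quotient.mk _ a →
      f n x = AdicCompletion.evalₐ (I.map (algebraMap V C)) n (ψ a) := by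
    intro n x a hxa
    show gmap I n ψ (AdicCompletion.evalₐ (I.map (algebraMap V A)) n x) = _
    rw [hxa, gmap_mk]
  have hf : ∀ {m n : ℕ} (hle : m ≤ n),
      (Ideal.Quotient.factorPow (I.map (algebraMap V C)) hle).comp (f n) = f m := by
    intro m n hle
    refine RingHom.ext fun x => ?_
    obtain ⟨a, ha⟩ := Ideal.Quotient.mk_surjective
      (AdicCompletion.evalₐ (I.map (algebraMap V A)) n x)
    have ha' : AdicCompletion.evalₐ (I.map (algebraMap V A)) m x = Ideal.Quotient.mk _ a := by
      rw [← factorPow_evalₐ _ hle, ← ha]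
      rfl
    show Ideal.Quotient.factorPow (I.map (algebraMap V C)) hle (f n x) = f m x
    rw [hf_apply n x a ha.symm, hf_apply m x a ha', factorPow_evalₐ]
  let φ0 := AdicCompletion.liftRingHom (I.map (algebraMap V C)) f hf
  have hφ0 : ∀ n x, AdicCompletion.evalₐ (I.map (algebraMap V C)) n (φ0 x) = f n x :=
    fun n x => AdicCompletion.evalₐ_liftRingHom _ f hf n x
  refine ⟨{ φ0 with commutes' := fun v => ?_ }, ?_⟩
  · show φ0 (algebraMap V _ v) = algebraMap V _ v
    apply AdicCompletion.ext_evalₐ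
    intro n
    rw [hφ0, hf_apply n _ (algebraMap V A v), ψ.commutes]
    rw [IsScalarTower.algebraMap_apply V A (AdicCompletion (I.map (algebraMap V A)) A),
      AdicCompletion.algebraMap_apply, AdicCompletion.evalₐ_of]
    rfl
  · intro n x a hxa
    show AdicCompletion.evalₐ (I.map (algebraMap V C)) n (φ0 x) = _
    rw [hφ0, hf_apply n x a hxa]

end Ext

end Groth.Agent.H10.AdicExt
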