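import Mathlib
import Groth.Agent.H87.LimSystem

/-!
# Finiteness of maps of adic completions from finiteness modulo the ideal
-/

set_option autoImplicit false
universe u

namespace Groth.Agent.H10.AdicFinite

variable {V A C : Type u} [CommRing V] [CommRing A] [CommRing C] [Algebra V A] [Algebra V C]
  (I : Ideal V)

theorem finite_of_finite_mod (fgA : (I.map (algebraMap V A)).FG) (fgC : (I.map (algebraMap V C)).FG)
    (φ : AdicCompletion (I.map (algebraMap V A)) A →ₐ[V] AdicCompletion (I.map (algebraMap V C)) C)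
    (φ₀ : (A ⧸ I.map (algebraMap V A)) →ₐ[V] (C ⧸ I.map (algebraMap V C)))
    (hφ₀ : φ₀.toRingHom.Finite)
    (hcomp : ∀ x, AdicCompletion.evalOneₐ (I.map (algebraMap V C)) (φ x) =
      φ₀ (AdicCompletion.evalOneₐ (I.map (algebraMap V A)) x)) :
    φ.toRingHom.Finite := by
  classical
  let algφ : Algebra (AdicCompletion (I.map (algebraMap V A)) A)
      (AdicCompletion (I.map (algebraMap V C)) C) := φ.toRingHom.toAlgebra
  let algφ₀ : Algebra (A ⧸ I.map (algebraMap V A)) (C ⧸ I.map (algebraMap V C)) :=
    φ₀.toRingHom.toAlgebra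
  have hfin : Module.Finite (A ⧸ I.map (algebraMap V A)) (C ⧸ I.map (algebraMap V C)) := hφ₀
  show Module.Finite (AdicCompletion (I.map (algebraMap V A)) A)
      (AdicCompletion (I.map (algebraMap V C)) C)
  have hsmul : ∀ (r : AdicCompletion (I.map (algebraMap V A)) A)
      (y : AdicCompletion (I.map (algebraMap V C)) C), r • y = φ r * y := fun _ _ => rfl
  have hsmul₀ : ∀ (r : A ⧸ I.map (algebraMap V A)) (y : C ⧸ I.map (algebraMap V C)),
      r • y = φ₀ r * y := fun _ _ => rfl
  -- the ideals
  set 𝔞 : Ideal (AdicCompletion (I.map (algebraMap V A)) A) :=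
    (I.map (algebraMap V A)).map (algebraMap A (AdicCompletion (I.map (algebraMap V A)) A)) with h𝔞
  set 𝔟 : Ideal (AdicCompletion (I.map (algebraMap V C)) C) :=
    (I.map (algebraMap V C)).map (algebraMap C (AdicCompletion (I.map (algebraMap V C)) C)) with h𝔟
  have hmap : 𝔞.map (algebraMap (AdicCompletion (I.map (algebraMap V A)) A)
      (AdicCompletion (I.map (algebraMap V C)) C)) = 𝔟 := by
    rw [h𝔞, h𝔟, Ideal.map_map, Ideal.map_map, Ideal.map_map]
    congr 1
    refine RingHom.ext fun v => ?_
    show φ (algebraMap A _ (algebraMap V A v)) = algebraMap C _ (algebraMap V C v)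
    rw [← IsScalarTower.algebraMap_apply V A, ← IsScalarTower.algebraMap_apply V C, φ.commutes]
  have hcA : IsAdicComplete 𝔞 (AdicCompletion (I.map (algebraMap V A)) A) :=
    AdicCompletion.isAdicComplete_self _ fgA
  have hcC : IsAdicComplete 𝔟 (AdicCompletion (I.map (algebraMap V C)) C) :=
    AdicCompletion.isAdicComplete_self _ fgC
  have hH : IsHausdorff 𝔞 (AdicCompletion (I.map (algebraMap V C)) C) := by
    refine ⟨fun x hx => ?_⟩
    apply IsHausdorff.haus' (I := 𝔟) x
    intro n
    have h1 := hx n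
    rw [SModEq.zero] at h1 ⊢
    rw [Ideal.smul_top_eq_map, Submodule.restrictScalars_mem, Ideal.map_pow, hmap] at h1
    rw [smul_eq_mul, Ideal.mul_top]
    exact h1
  -- generators
  obtain ⟨s, hs⟩ := hfin.1
  have hex : ∀ z : s, ∃ y : AdicCompletion (I.map (algebraMap V C)) C,
      AdicCompletion.evalOneₐ (I.map (algebraMap V C)) y = z.1 :=
    fun z => AdicCompletion.evalOneₐ_surjective _ z.1
  choose m hm using hex
  have hspan : Submodule.span (AdicCompletion (I.map (algebraMap V A)) A) (Set.range m) ⊔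
      𝔞 • ⊤ = ⊤ := by
    rw [eq_top_iff]
    intro x _
    have hx : AdicCompletion.evalOneₐ (I.map (algebraMap V C)) x ∈
        Submodule.span (A ⧸ I.map (algebraMap V A)) (Set.range (Subtype.val : s → _)) := by
      rw [Subtype.range_coe, hs]
      trivial
    obtain ⟨c, hc⟩ := (Submodule.mem_span_range_iff_exists_fun _).mp hx
    have hex' : ∀ z : s, ∃ r : AdicCompletion (I.map (algebraMap V A)) A,
        AdicCompletion.evalOneₐ (I.map (algebraMap V A)) r = c z :=
      fun z => AdicCompletion.evalOneₐ_surjective _ (c z)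
    choose c' hc' using hex'
    have hy : ∑ z, c' z • m z ∈
        Submodule.span (AdicCompletion (I.map (algebraMap V A)) A) (Set.range m) :=
      Submodule.sum_mem _ fun z _ => Submodule.smul_mem _ _ (Submodule.subset_span ⟨z, rfl⟩)
    have hker : x - ∑ z, c' z • m z ∈ 𝔟 := by
      rw [h𝔟, ← AdicCompletion.ker_evalOneₐ_eq_map _ fgC, RingHom.mem_ker]
      show AdicCompletion.evalOneₐ (I.map (algebraMap V C)) (x - ∑ z, c' z • m z) = 0
      rw [map_sub, map_sum, ← hc, sub_eq_zero]
      refine Finset.sum_congr rfl fun z _ => ?_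
      rw [hsmul, map_mul, hcomp, hc', hm, hsmul₀]
    have hmem : x - ∑ z, c' z • m z ∈
        𝔞 • (⊤ : Submodule (AdicCompletion (I.map (algebraMap V A)) A)
          (AdicCompletion (I.map (algebraMap V C)) C)) := by
      rw [Ideal.smul_top_eq_map, Submodule.restrictScalars_mem, hmap]
      exact hker
    have e : x = ∑ z, c' z • m z + (x - ∑ z, c' z • m z) := by abel
    rw [e]
    exact Submodule.add_mem_sup hy hmem
  have htop := Groth.Agent.H87.LimSystem.span_eq_top_of_hausdorff 𝔞 m hspan
  exact ⟨⟨Finset.univ.image m, by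
    rw [Finset.coe_image, Finset.coe_univ, Set.image_univ]; exact htop⟩⟩

end Groth.Agent.H10.AdicFinite
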