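import Mathlib
import Groth.Agent.H44.CoeffField

/-!
# Helper lemmas for S6854 (Stacks 07EK): lifting ring maps from char-p fields, derivation correction
-/

set_option linter.style.haveILetI false

namespace Groth.Agent.H10.ArtSubLift

open TensorProduct

universe u

/-- Ring homs out of a characteristic `p` field lift along surjections with nilpotent kernel
between characteristic `p` rings (formal smoothness over `𝔽_p`). -/
theorem exists_lift_ringHom (p : ℕ) [Fact p.Prime] {K : Type u} {B C : Type*} [Field K] [CharP K p]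
    [CommRing B] [CharP B p] [CommRing C] (g : B →+* C) (hg : Function.Surjective g)
    (hnil : IsNilpotent (RingHom.ker g)) (f : K →+* C) :
    ∃ f' : K →+* B, ∀ x, g (f' x) = f x := by
  have hp : p.Prime := Fact.out
  let ιK : ULift.{u} (ZMod p) →+* K :=
    (ZMod.castHom (dvd_refl p) K).comp
      (ULift.ringEquiv : ULift.{u} (ZMod p) ≃+* ZMod p).toRingHom
  let ιB : ULift.{u} (ZMod p) →+* B :=
    (ZMod.castHom (dvd_refl p) B).comp
      (ULift.ringEquiv : ULift.{u} (ZMod p) ≃+* ZMod p).toRingHom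
  letI : Algebra (ULift.{u} (ZMod p)) K := ιK.toAlgebra
  letI : Algebra (ULift.{u} (ZMod p)) B := ιB.toAlgebra
  letI : Algebra (ULift.{u} (ZMod p)) C := (g.comp ιB).toAlgebra
  haveI : ExpChar (ULift.{u} (ZMod p)) p := ExpChar.prime hp
  haveI : PerfectRing (ULift.{u} (ZMod p)) p := inferInstance
  haveI : Algebra.FormallySmooth (ULift.{u} (ZMod p)) K :=
    Groth.Agent.H44.CoeffField.formallySmooth_of_charP_perfect p
  let gA : B →ₐ[ULift.{u} (ZMod p)] C := { g with commutes' := fun r => rfl }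
  have hcomm : f.comp ιK = g.comp ιB := by
    have h1 : (f.comp ιK).comp (ULift.ringEquiv : ULift.{u} (ZMod p) ≃+* ZMod p).symm.toRingHom =
        (g.comp ιB).comp (ULift.ringEquiv : ULift.{u} (ZMod p) ≃+* ZMod p).symm.toRingHom :=
      Subsingleton.elim _ _
    ext x
    have := RingHom.congr_fun h1 (ULift.ringEquiv x)
    simpa using this
  let fA : K →ₐ[ULift.{u} (ZMod p)] C :=
    { f with commutes' := fun r => RingHom.congr_fun hcomm r }
  refine ⟨(Algebra.FormallySmooth.liftOfSurjective fA gA hg hnil).toRingHom, fun x => ?_⟩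
  exact Algebra.FormallySmooth.liftOfSurjective_apply fA gA hg hnil x

/-- Derivation correction: if `H₁(L_{K/k})` is finite dimensional, any absolute derivation
`θ : k → V` into a `K`-vector space agrees with the restriction of an absolute derivation
`D : K → V` up to a finite sum of terms `c_j(a) • f_j` with `c_j(a) ∈ k`. -/
theorem exists_derivation_correction {k K : Type u} {V : Type*} [Field k] [Field K] [Algebra k K]
    [AddCommGroup V] [Module K V]
    (hH : Module.Finite K (Algebra.H1Cotangent k K))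
    (θ : k → V) (hadd : ∀ a b, θ (a + b) = θ a + θ b)
    (hmul : ∀ a b, θ (a * b) = algebraMap k K a • θ b + algebraMap k K b • θ a) :
    ∃ D : K → V, (∀ x y, D (x + y) = D x + D y) ∧ (∀ x y, D (x * y) = x • D y + y • D x) ∧
      ∃ (ι : Type u) (_ : Fintype ι) (c : ι → k → k) (f : ι → V),
        ∀ a, θ a = D (algebraMap k K a) + ∑ j, algebraMap k K (c j a) • f j := by
  classical
  letI : Module k V := Module.compHom V (algebraMap k K)
  haveI : IsScalarTower k K V := ⟨fun a c v => by
    change (a • c) • v = (algebraMap k K a) • (c • v)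
    rw [Algebra.smul_def, mul_smul]⟩
  let θl : k →ₗ[ℤ] V := (AddMonoidHom.mk' θ hadd).toIntLinearMap
  let θd : Derivation ℤ k V := Derivation.mk' θl (fun a b => hmul a b)
  let θt : Ω[k⁄ℤ] →ₗ[k] V := θd.liftKaehlerDifferential
  have hθt : ∀ a, θt (KaehlerDifferential.D ℤ k a) = θ a := fun a =>
    Derivation.liftKaehlerDifferential_comp_D θd a
  let θK : K ⊗[k] Ω[k⁄ℤ] →ₗ[K] V := LinearMap.liftBaseChange K θt
  let u : K ⊗[k] Ω[k⁄ℤ] →ₗ[K] Ω[K⁄ℤ] := KaehlerDifferential.mapBaseChange ℤ k K
  have hker : (LinearMap.ker u).FG := by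
    have hex := Algebra.H1Cotangent.exact_δ_mapBaseChange ℤ k K
    have : LinearMap.ker u = LinearMap.range (Algebra.H1Cotangent.δ ℤ k K) :=
      (LinearMap.exact_iff.mp hex)
    rw [this, LinearMap.range_eq_map]
    exact Submodule.FG.map _ (Module.finite_def.mp hH)
  let b := Module.Basis.ofVectorSpace k (Ω[k⁄ℤ])
  let B := b.baseChange K
  obtain ⟨s, hs⟩ := hker
  let J₀ : Finset (Module.Basis.ofVectorSpaceIndex k (Ω[k⁄ℤ])) := s.biUnion fun x => (B.repr x).support
  have hJ₀ : LinearMap.ker u ≤ Submodule.span K (B '' (J₀ : Set _)) := by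
    rw [← hs, Submodule.span_le]
    intro x hx
    rw [SetLike.mem_coe, Module.Basis.mem_span_image]
    intro j hj
    exact Finset.mem_biUnion.mpr ⟨x, hx, hj⟩
  let W : Submodule K (K ⊗[k] Ω[k⁄ℤ]) := Submodule.span K (B '' ((J₀ : Set _)ᶜ))
  have hdisj : Disjoint (Submodule.span K (B '' (J₀ : Set _))) W :=
    B.linearIndependent.disjoint_span_image disjoint_compl_right
  have hinj : LinearMap.ker (u.domRestrict W) = ⊥ := by
    rw [LinearMap.ker_eq_bot']
    intro w hw
    have h1 : (w : K ⊗[k] Ω[k⁄ℤ]) ∈ LinearMap.ker u := hw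
    have h2 := hdisj.le_bot ⟨hJ₀ h1, w.2⟩
    exact Subtype.ext ((Submodule.mem_bot K).mp h2)
  obtain ⟨g, hg⟩ := @LinearMap.exists_leftInverse_of_injective K W (Ω[K⁄ℤ]) _ _ _ _ _
    (u.domRestrict W) hinj
  let Dt : Ω[K⁄ℤ] →ₗ[K] V := θK ∘ₗ W.subtype ∘ₗ g
  have hDt : ∀ w ∈ W, Dt (u w) = θK w := by
    intro w hw
    have := LinearMap.congr_fun hg ⟨w, hw⟩
    simp only [LinearMap.comp_apply, LinearMap.domRestrict_apply, LinearMap.id_apply] at this
    simp only [Dt, LinearMap.comp_apply, this, Submodule.subtype_apply]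
  refine ⟨fun x => Dt (KaehlerDifferential.D ℤ K x), fun x y => by simp, fun x y => by
    simp [Derivation.leibniz], ?_⟩
  let ξ : K ⊗[k] Ω[k⁄ℤ] →ₗ[K] V := θK - Dt ∘ₗ u
  have hξW : ∀ j, j ∉ J₀ → ξ (B j) = 0 := by
    intro j hj
    have hm : B j ∈ W := Submodule.subset_span ⟨j, by simpa using hj, rfl⟩
    simp [ξ, hDt _ hm]
  have hξd : ∀ a : k, ξ (1 ⊗ₜ KaehlerDifferential.D ℤ k a) =
      θ a - Dt (KaehlerDifferential.D ℤ K (algebraMap k K a)) := by
    intro a
    simp only [ξ, LinearMap.sub_apply, LinearMap.comp_apply, θK, u, LinearMap.liftBaseChange_tmul,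
      one_smul, hθt, KaehlerDifferential.mapBaseChange_tmul, KaehlerDifferential.map_D]
  refine ⟨↥J₀, inferInstance, fun j a => b.repr (KaehlerDifferential.D ℤ k a) j,
    fun j => ξ (B j), fun a => ?_⟩
  have hexp : (1 : K) ⊗ₜ[k] KaehlerDifferential.D ℤ k a =
      ((b.repr (KaehlerDifferential.D ℤ k a)).sum fun j r => algebraMap k K r • B j) := by
    conv_lhs => rw [← b.linearCombination_repr (KaehlerDifferential.D ℤ k a)]
    rw [Finsupp.linearCombination_apply, Finsupp.sum, TensorProduct.tmul_sum]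
    refine Finset.sum_congr rfl fun j _ => ?_
    show (1 : K) ⊗ₜ[k] ((b.repr (KaehlerDifferential.D ℤ k a)) j • b j) =
      algebraMap k K ((b.repr (KaehlerDifferential.D ℤ k a)) j) • B j
    rw [show B j = (1 : K) ⊗ₜ[k] b j from Module.Basis.baseChange_apply _ _ _, algebraMap_smul,
      TensorProduct.tmul_smul]
  have h2 : ξ (1 ⊗ₜ KaehlerDifferential.D ℤ k a) =
      ∑ j : ↥J₀, algebraMap k K (b.repr (KaehlerDifferential.D ℤ k a) j) • ξ (B j) := by
    rw [hexp, Finsupp.sum, map_sum]
    simp only [map_smul]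
    rw [Finset.sum_coe_sort J₀
      (fun j => algebraMap k K (b.repr (KaehlerDifferential.D ℤ k a) j) • ξ (B j))]
    have e1 : ∑ x ∈ (b.repr (KaehlerDifferential.D ℤ k a)).support,
        algebraMap k K (b.repr (KaehlerDifferential.D ℤ k a) x) • ξ (B x) =
        ∑ x ∈ J₀ ∪ (b.repr (KaehlerDifferential.D ℤ k a)).support,
        algebraMap k K (b.repr (KaehlerDifferential.D ℤ k a) x) • ξ (B x) := by
      refine Finset.sum_subset Finset.subset_union_right ?_
      intro j _ hj
      rw [Finsupp.notMem_support_iff.mp hj, map_zero, zero_smul]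
    have e2 : ∑ x ∈ J₀,
        algebraMap k K (b.repr (KaehlerDifferential.D ℤ k a) x) • ξ (B x) =
        ∑ x ∈ J₀ ∪ (b.repr (KaehlerDifferential.D ℤ k a)).support,
        algebraMap k K (b.repr (KaehlerDifferential.D ℤ k a) x) • ξ (B x) := by
      refine Finset.sum_subset Finset.subset_union_left ?_
      intro j _ hj
      rw [hξW j hj, smul_zero]
    rw [e1, e2]
  rw [hξd] at h2
  rw [← h2]
  abel
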