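import Mathlib
import Groth.Agent.H10.ArtSubLift

/-!
# The key claim for S6854 (Stacks 07EK): a ring section `σ : K → Λ` and a finitely generated
subfield `F ⊆ K` such that the image of `k` lies in `σ(F)[λ₁,…,λ_d]`.
-/

set_option linter.style.haveILetI false

namespace Groth.Agent.H10.ArtSubClaim

open Set

universe u

variable (k : Type u) {K : Type u} [Field k] [Field K] [Algebra k K]

/-- The subring of `Λ` generated by `σ(k(T))` and `Y`. -/
def Rg {Λ : Type*} [CommRing Λ] (σ : K →+* Λ) (T : Set K) (Y : Set Λ) : Subring Λ :=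
  Subring.closure (σ '' (IntermediateField.adjoin k T : Set K) ∪ Y)

variable {k}

theorem Rg_mono {Λ : Type*} [CommRing Λ] (σ : K →+* Λ) {T₁ T₂ : Set K} (h : T₁ ⊆ T₂) (Y : Set Λ) :
    Rg k σ T₁ Y ≤ Rg k σ T₂ Y :=
  Subring.closure_mono (union_subset_union_left _
    (image_mono (IntermediateField.adjoin.mono k _ _ h)))

theorem sigma_mem_Rg {Λ : Type*} [CommRing Λ] (σ : K →+* Λ) {T : Set K} (Y : Set Λ) {c : K}
    (hc : c ∈ IntermediateField.adjoin k T) : σ c ∈ Rg k σ T Y :=
  Subring.subset_closure (Or.inl ⟨c, hc, rfl⟩)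

theorem mem_Rg_of_mem {Λ : Type*} [CommRing Λ] (σ : K →+* Λ) (T : Set K) {Y : Set Λ} {y : Λ}
    (hy : y ∈ Y) : y ∈ Rg k σ T Y :=
  Subring.subset_closure (Or.inr hy)

theorem exists_finset_of_mem_closure {Λ : Type*} [CommRing Λ] (σ : K →+* Λ) (Y : Set Λ) {x : Λ}
    (hx : x ∈ Subring.closure (Set.range σ ∪ Y)) :
    ∃ T : Finset K, x ∈ Rg k σ (T : Set K) Y := by
  classical
  induction hx using Subring.closure_induction with
  | mem x hx =>
    rcases hx with ⟨c, rfl⟩ | hx
    · exact ⟨{c}, sigma_mem_Rg σ Y (IntermediateField.subset_adjoin k _ (by simp))⟩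
    · exact ⟨∅, mem_Rg_of_mem σ _ hx⟩
  | zero => exact ⟨∅, zero_mem _⟩
  | one => exact ⟨∅, one_mem _⟩
  | add x y _ _ hx hy =>
    obtain ⟨T₁, h₁⟩ := hx
    obtain ⟨T₂, h₂⟩ := hy
    exact ⟨T₁ ∪ T₂, add_mem (Rg_mono σ (by simp) Y h₁) (Rg_mono σ (by simp) Y h₂)⟩
  | neg x _ hx =>
    obtain ⟨T, h⟩ := hx
    exact ⟨T, neg_mem h⟩
  | mul x y _ _ hx hy =>
    obtain ⟨T₁, h₁⟩ := hx
    obtain ⟨T₂, h₂⟩ := hy
    exact ⟨T₁ ∪ T₂, mul_mem (Rg_mono σ (by simp) Y h₁) (Rg_mono σ (by simp) Y h₂)⟩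

theorem closure_eq_top {Λ : Type*} [CommRing Λ] (π : Λ →+* K) (σ : K →+* Λ)
    (hσ : ∀ x, π (σ x) = x) {d : ℕ} (lam : Fin d → Λ)
    (hlam : Ideal.span (range lam) = RingHom.ker π) {n : ℕ} (hn : RingHom.ker π ^ n = ⊥) :
    Subring.closure (Set.range σ ∪ range lam) = ⊤ := by
  set S := Subring.closure (Set.range σ ∪ range lam) with hS
  have key : ∀ j : ℕ, ∀ x : Λ, ∃ s ∈ S, x - s ∈ RingHom.ker π ^ j := by
    intro j
    induction j with
    | zero => intro x; exact ⟨0, zero_mem _, by simp⟩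
    | succ j ih =>
      intro x
      have hx : x - σ (π x) ∈ RingHom.ker π := by
        rw [RingHom.mem_ker, map_sub, hσ, sub_self]
      rw [← hlam] at hx
      obtain ⟨c, hc⟩ := (Ideal.mem_span_range_iff_exists_fun).mp hx
      choose s hs hs' using fun i => ih (c i)
      refine ⟨σ (π x) + ∑ i, s i * lam i, ?_, ?_⟩
      · exact add_mem (Subring.subset_closure (Or.inl ⟨_, rfl⟩))
          (sum_mem fun i _ => mul_mem (hs i) (Subring.subset_closure (Or.inr ⟨i, rfl⟩)))
      · have : x - (σ (π x) + ∑ i, s i * lam i) = ∑ i, (c i - s i) * lam i := by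
          rw [← sub_sub, ← hc, ← Finset.sum_sub_distrib]
          exact Finset.sum_congr rfl fun i _ => by ring
        rw [this]
        refine sum_mem fun i _ => ?_
        rw [pow_succ]
        exact Ideal.mul_mem_mul (hs' i) (by rw [← hlam]; exact Ideal.subset_span ⟨i, rfl⟩)
  rw [eq_top_iff]
  intro x _
  obtain ⟨s, hs, h⟩ := key n x
  rw [hn, Ideal.mem_bot, sub_eq_zero] at h
  exact h ▸ hs

/-- The inductive step data: all the facts about `I = m ^ n` we need. -/
theorem claim_step (p : ℕ) [Fact p.Prime] [CharP k p]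
    (hH : Module.Finite K (Algebra.H1Cotangent k K))
    {Λ : Type u} [CommRing Λ] [Algebra k Λ] (π : Λ →ₐ[k] K) (hπ : Function.Surjective π)
    {d : ℕ} (lam : Fin d → Λ) (hlam : Ideal.span (range lam) = RingHom.ker π)
    {n : ℕ} (hn0 : n ≠ 0) (hn : RingHom.ker π ^ (n + 1) = ⊥)
    (ih : ∃ (σ' : K →+* Λ ⧸ (RingHom.ker π ^ n)) (T' : Finset K),
      (∀ (x : K) (y : Λ), Ideal.Quotient.mk (RingHom.ker π ^ n) y = σ' x → π y = x) ∧
      ∀ a : k, algebraMap k (Λ ⧸ (RingHom.ker π ^ n)) a ∈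
        Rg k σ' (T' : Set K) (range (Ideal.Quotient.mk (RingHom.ker π ^ n) ∘ lam))) :
    ∃ (σ : K →+* Λ) (T : Finset K), (∀ x, π (σ x) = x) ∧
      ∀ a : k, algebraMap k Λ a ∈ Rg k σ (T : Set K) (range lam) := by
  classical
  set m := RingHom.ker π with hm
  set I := m ^ n with hI
  obtain ⟨σ', T', hσ', hk'⟩ := ih
  have hIm : I ≤ m := Ideal.pow_le_self hn0
  have hmI : m * I = ⊥ := by rw [hI, ← pow_succ', hn]
  have hII : I * I = ⊥ := by
    rw [eq_bot_iff, ← hmI]
    exact Ideal.mul_mono_left hIm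
  have hkill : ∀ x ∈ m, ∀ y ∈ I, x * y = 0 := fun x hx y hy => by
    have := Ideal.mul_mem_mul hx hy
    rwa [hmI, Ideal.mem_bot] at this
  have hkill2 : ∀ x ∈ I, ∀ y ∈ I, x * y = 0 := fun x hx y hy => hkill x (hIm hx) y hy
  let q : Λ →+* Λ ⧸ I := Ideal.Quotient.mk I
  have hq : ∀ x : Λ, q x = 0 ↔ x ∈ I := fun x => Ideal.Quotient.eq_zero_iff_mem
  have hπq : ∀ x y : Λ, q x = q y → π x = π y := by
    intro x y hxy
    have : x - y ∈ I := by rw [← hq, map_sub, hxy, sub_self]
    have := hIm this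
    rw [hm, RingHom.mem_ker, map_sub, sub_eq_zero] at this
    exact this
  haveI : Nontrivial Λ := hπ.nontrivial
  haveI : CharP Λ p := charP_of_injective_algebraMap (algebraMap k Λ).injective p
  haveI : CharP K p := charP_of_injective_algebraMap (algebraMap k K).injective p
  -- lift σ'
  have hnilq : IsNilpotent (RingHom.ker q) := by
    rw [Ideal.mk_ker]
    exact ⟨2, by rw [pow_two, hII, Ideal.zero_eq_bot]⟩
  obtain ⟨σ₀, hσ₀⟩ := ArtSubLift.exists_lift_ringHom p q Ideal.Quotient.mk_surjective hnilq σ'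
  have hπσ₀ : ∀ x, π (σ₀ x) = x := fun x => hσ' x _ (hσ₀ x)
  -- the subring R₀ and the lift τ
  set R₀ := Rg k σ₀ (T' : Set K) (range lam) with hR₀
  let g : ↥R₀ →+* Λ ⧸ I := q.comp R₀.subtype
  have hrange : ∀ a : k, algebraMap k (Λ ⧸ I) a ∈ g.range := by
    intro a
    have hle : Rg k σ' (T' : Set K) (range (q ∘ lam)) ≤ g.range := by
      refine Subring.closure_le.mpr ?_
      rintro y (⟨c, hc, rfl⟩ | ⟨i, rfl⟩)
      · exact ⟨⟨σ₀ c, sigma_mem_Rg σ₀ _ hc⟩, hσ₀ c⟩
      · exact ⟨⟨lam i, mem_Rg_of_mem σ₀ _ ⟨i, rfl⟩⟩, rfl⟩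
    exact hle (hk' a)
  let f : k →+* ↥g.range := (algebraMap k (Λ ⧸ I)).codRestrict g.range hrange
  haveI : CharP ↥R₀ p := RingHom.charP R₀.subtype (Subring.subtype_injective R₀) p
  have hnilg : IsNilpotent (RingHom.ker g.rangeRestrict) := by
    refine ⟨2, ?_⟩
    rw [Ideal.zero_eq_bot, eq_bot_iff, pow_two, Ideal.mul_le]
    intro r hr s hs
    rw [Ideal.mem_bot]
    have hr' : (r : Λ) ∈ I := by
      rw [← hq]
      exact congrArg Subtype.val (RingHom.mem_ker.mp hr)
    have hs' : (s : Λ) ∈ I := by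
      rw [← hq]
      exact congrArg Subtype.val (RingHom.mem_ker.mp hs)
    exact Subtype.ext (hkill2 _ hr' _ hs')
  obtain ⟨τ', hτ'⟩ := ArtSubLift.exists_lift_ringHom p g.rangeRestrict
    g.rangeRestrict_surjective hnilg f
  have hqτ : ∀ a : k, q (τ' a : Λ) = algebraMap k (Λ ⧸ I) a := by
    intro a
    exact congrArg Subtype.val (hτ' a)
  have hqalg : ∀ a : k, q (algebraMap k Λ a) = algebraMap k (Λ ⧸ I) a := fun a => rfl
  have hπτ : ∀ a : k, π (τ' a : Λ) = algebraMap k K a := by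
    intro a
    rw [hπq _ (algebraMap k Λ a) ((hqτ a).trans (hqalg a).symm), π.commutes]
  -- θ
  letI : Module K ↥I := Module.compHom ↥I σ₀
  have hsm : ∀ (c : K) (v : ↥I), ((c • v : ↥I) : Λ) = σ₀ c * (v : Λ) := fun c v => rfl
  have hθmem : ∀ a : k, algebraMap k Λ a - (τ' a : Λ) ∈ I := by
    intro a
    rw [← hq, map_sub, hqτ, hqalg, sub_self]
  let θ : k → ↥I := fun a => ⟨algebraMap k Λ a - (τ' a : Λ), hθmem a⟩
  have hadd : ∀ a b, θ (a + b) = θ a + θ b := by
    intro a b
    apply Subtype.ext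
    simp only [θ, map_add, Subring.coe_add, Submodule.coe_add]
    ring
  have hmul : ∀ a b, θ (a * b) = algebraMap k K a • θ b + algebraMap k K b • θ a := by
    intro a b
    apply Subtype.ext
    rw [Submodule.coe_add, hsm, hsm]
    simp only [θ, map_mul, Subring.coe_mul]
    have h1 : (algebraMap k Λ a - σ₀ (algebraMap k K a)) * (algebraMap k Λ b - (τ' b : Λ)) = 0 := by
      refine hkill _ ?_ _ (hθmem b)
      rw [hm, RingHom.mem_ker, map_sub, hπσ₀, π.commutes, sub_self]
    have h2 : ((τ' b : Λ) - σ₀ (algebraMap k K b)) * (algebraMap k Λ a - (τ' a : Λ)) = 0 := by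
      refine hkill _ ?_ _ (hθmem a)
      rw [hm, RingHom.mem_ker, map_sub, hπσ₀, hπτ, sub_self]
    linear_combination h1 + h2
  obtain ⟨D, hDadd, hDmul, ι, _, c, fv, hθ⟩ :=
    ArtSubLift.exists_derivation_correction hH θ hadd hmul
  have hD0 : D 0 = 0 := by
    have := hDadd 0 0
    rw [add_zero] at this
    exact left_eq_add.mp this
  have hD1 : D 1 = 0 := by
    have := hDmul 1 1
    rw [mul_one, one_smul] at this
    exact left_eq_add.mp this
  have hDI : ∀ x, ((D x : ↥I) : Λ) ∈ I := fun x => (D x).2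
  have hπD : ∀ x, π ((D x : ↥I) : Λ) = 0 := fun x => by
    have := hIm (hDI x)
    rwa [hm, RingHom.mem_ker] at this
  have hDmul' : ∀ x y, ((D (x * y) : ↥I) : Λ) = σ₀ x * (D y : Λ) + σ₀ y * (D x : Λ) := by
    intro x y
    rw [hDmul, Submodule.coe_add, hsm, hsm]
  let σ₁ : K →+* Λ :=
    { toFun := fun x => σ₀ x + (D x : Λ)
      map_one' := by simp [hD1]
      map_zero' := by simp [hD0]
      map_add' := fun x y => by
        simp only [map_add, hDadd, Submodule.coe_add]
        ring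
      map_mul' := fun x y => by
        simp only [map_mul, hDmul']
        have := hkill2 _ (hDI x) _ (hDI y)
        linear_combination -this }
  have hσ₁ : ∀ x, π (σ₁ x) = x := fun x => by
    show π (σ₀ x + (D x : Λ)) = x
    rw [map_add, hπσ₀, hπD, add_zero]
  have hrv : ∀ (r : Λ) (v : Λ), v ∈ I → r * v = σ₀ (π r) * v := by
    intro r v hv
    have : (r - σ₀ (π r)) * v = 0 := by
      refine hkill _ ?_ _ hv
      rw [hm, RingHom.mem_ker, map_sub, hπσ₀, sub_self]
    linear_combination this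
  let φ : Λ →+* Λ :=
    { toFun := fun r => r + (D (π r) : Λ)
      map_one' := by simp [hD1]
      map_zero' := by simp [hD0]
      map_add' := fun x y => by
        simp only [map_add, hDadd, Submodule.coe_add]
        ring
      map_mul' := fun x y => by
        simp only [map_mul, hDmul']
        have h0 := hkill2 _ (hDI (π x)) _ (hDI (π y))
        have h1 := hrv x _ (hDI (π y))
        have h2 := hrv y _ (hDI (π x))
        linear_combination -h0 - h1 - h2 }
  have hφσ : ∀ x, φ (σ₀ x) = σ₁ x := fun x => by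
    show σ₀ x + (D (π (σ₀ x)) : Λ) = σ₀ x + (D x : Λ)
    rw [hπσ₀]
  have hπlam : ∀ i, π (lam i) = 0 := fun i => by
    have : lam i ∈ m := by rw [← hlam]; exact Ideal.subset_span ⟨i, rfl⟩
    exact RingHom.mem_ker.mp this
  have hφlam : ∀ i, φ (lam i) = lam i := fun i => by
    show lam i + (D (π (lam i)) : Λ) = lam i
    rw [hπlam, hD0]
    simp
  have hφR : ∀ r ∈ R₀, φ r ∈ Rg k σ₁ (T' : Set K) (range lam) := by
    have hle : R₀ ≤ (Rg k σ₁ (T' : Set K) (range lam)).comap φ := by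
      refine Subring.closure_le.mpr ?_
      rintro y (⟨c, hc, rfl⟩ | ⟨i, rfl⟩)
      · show φ (σ₀ c) ∈ Rg k σ₁ (T' : Set K) (range lam)
        rw [hφσ]
        exact sigma_mem_Rg σ₁ _ hc
      · show φ (lam i) ∈ Rg k σ₁ (T' : Set K) (range lam)
        rw [hφlam]
        exact mem_Rg_of_mem σ₁ _ ⟨i, rfl⟩
    exact fun r hr => hle hr
  have htop := closure_eq_top (π : Λ →+* K) σ₁ hσ₁ lam hlam hn
  have hfv : ∀ j : ι, ∃ T : Finset K, ((fv j : ↥I) : Λ) ∈ Rg k σ₁ (T : Set K) (range lam) := by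
    intro j
    apply exists_finset_of_mem_closure
    rw [htop]
    trivial
  choose Tj hTj using hfv
  refine ⟨σ₁, T' ∪ Finset.univ.biUnion Tj, hσ₁, fun a => ?_⟩
  have hdecomp : algebraMap k Λ a = φ (τ' a : Λ) +
      ∑ j, σ₁ (algebraMap k K (c j a)) * ((fv j : ↥I) : Λ) := by
    have h1 := congrArg (Subtype.val : ↥I → Λ) (hθ a)
    simp only [θ, Submodule.coe_add, Submodule.coe_sum, hsm] at h1
    have h2 : φ (τ' a : Λ) = (τ' a : Λ) + (D (algebraMap k K a) : Λ) := by
      show (τ' a : Λ) + (D (π (τ' a : Λ)) : Λ) = _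
      rw [hπτ]
    have h3 : ∀ j, σ₁ (algebraMap k K (c j a)) * ((fv j : ↥I) : Λ) =
        σ₀ (algebraMap k K (c j a)) * ((fv j : ↥I) : Λ) := by
      intro j
      show (σ₀ _ + (D _ : Λ)) * _ = _
      rw [add_mul, hkill2 _ (hDI _) _ (fv j).2, add_zero]
    rw [h2, Finset.sum_congr rfl fun j _ => h3 j]
    linear_combination h1
  rw [hdecomp]
  refine add_mem ?_ (sum_mem fun j _ => mul_mem ?_ ?_)
  · exact Rg_mono σ₁ (by simp) _ (hφR _ (τ' a).2)
  · exact sigma_mem_Rg σ₁ _ (IntermediateField.algebraMap_mem _ _)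
  · refine Rg_mono σ₁ ?_ _ (hTj j)
    intro x hx
    simp only [Finset.coe_union, Finset.coe_biUnion, Finset.coe_univ, mem_univ, iUnion_true,
      mem_union, mem_iUnion]
    exact Or.inr ⟨j, hx⟩

/-- **Claim** in the proof of Stacks 07EK: there are a ring section `σ` of `π : Λ → K` and a
finite set `T ⊆ K` such that the image of `k` lies in the subring generated by `σ(k(T))` and
the chosen generators of the (nilpotent) kernel of `π`. -/
theorem claim (p : ℕ) [Fact p.Prime] [CharP k p]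
    (hH : Module.Finite K (Algebra.H1Cotangent k K)) :
    ∀ (n : ℕ) (Λ : Type u) [CommRing Λ] [Algebra k Λ] (π : Λ →ₐ[k] K)
      (_ : Function.Surjective π) (d : ℕ) (lam : Fin d → Λ)
      (_ : Ideal.span (range lam) = RingHom.ker π) (_ : RingHom.ker π ^ n = ⊥),
      ∃ (σ : K →+* Λ) (T : Finset K), (∀ x, π (σ x) = x) ∧
        ∀ a : k, algebraMap k Λ a ∈ Rg k σ (T : Set K) (range lam) := by
  intro n
  induction n with
  | zero =>
    intro Λ _ _ π hπ d lam hlam hn
    exfalso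
    rw [pow_zero, Ideal.one_eq_top] at hn
    have h1 : (1 : Λ) ∈ (⊥ : Ideal Λ) := hn ▸ Submodule.mem_top
    rw [Ideal.mem_bot] at h1
    have h := congrArg π h1
    rw [map_one, map_zero] at h
    exact one_ne_zero h
  | succ n ih =>
    intro Λ _ _ π hπ d lam hlam hn
    rcases Nat.eq_zero_or_pos n with rfl | hpos
    · rw [zero_add, pow_one] at hn
      have hinj : Function.Injective π := (RingHom.injective_iff_ker_eq_bot _).mpr hn
      let e : Λ ≃+* K := RingEquiv.ofBijective π ⟨hinj, hπ⟩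
      refine ⟨e.symm.toRingHom, ∅, fun x => e.apply_symm_apply x, fun a => ?_⟩
      have : algebraMap k Λ a = e.symm.toRingHom (algebraMap k K a) := by
        apply hinj
        rw [π.commutes]
        exact (e.apply_symm_apply _).symm
      rw [this]
      exact sigma_mem_Rg _ _ (IntermediateField.algebraMap_mem _ _)
    · set m := RingHom.ker π with hm
      set I := m ^ n with hI
      have hIm : I ≤ m := Ideal.pow_le_self hpos.ne'
      let π' : Λ ⧸ I →ₐ[k] K :=
        Ideal.Quotient.liftₐ I π (fun x hx => RingHom.mem_ker.mp (hIm hx))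
      have hπ'q : ∀ x, π' (Ideal.Quotient.mk I x) = π x := fun x => rfl
      have hπ' : Function.Surjective π' := fun y => by
        obtain ⟨x, rfl⟩ := hπ y
        exact ⟨_, hπ'q x⟩
      have hker' : RingHom.ker π' = m.map (Ideal.Quotient.mk I) := by
        ext y
        obtain ⟨x, rfl⟩ := Ideal.Quotient.mk_surjective y
        rw [RingHom.mem_ker, hπ'q, Ideal.mem_quotient_iff_mem hIm, hm, RingHom.mem_ker]
      have hlam' : Ideal.span (range (Ideal.Quotient.mk I ∘ lam)) = RingHom.ker π' := by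
        rw [hker', ← hlam, Ideal.map_span, Set.range_comp]
      have hn' : RingHom.ker π' ^ n = ⊥ := by
        rw [hker', ← Ideal.map_pow, ← hI, Ideal.map_quotient_self]
      obtain ⟨σ', T', hσ', hk'⟩ := ih (Λ ⧸ I) π' hπ' d _ hlam' hn'
      exact claim_step p hH π hπ lam hlam hpos.ne' hn
        ⟨σ', T', fun x y hy => by rw [← hπ'q, hy, hσ'], hk'⟩

end Groth.Agent.H10.ArtSubClaim
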