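import Mathlib
import Groth.Agent.H10.ArtSubClaim

/-!
# Final construction for S6854 (Stacks 07EK): the subalgebra `σ(F)[λ₁,…,λ_d]`
-/

set_option linter.style.haveILetI false

namespace Groth.Agent.H10.ArtSubFinal

open Set MvPolynomial Groth.Agent.H10.ArtSubClaim

universe u

theorem exists_decomp {R : Type*} [CommRing R] {d : ℕ} (q : MvPolynomial (Fin d) R) :
    ∃ r : Fin d → MvPolynomial (Fin d) R, q = C (constantCoeff q) + ∑ i, X i * r i := by
  classical
  induction q using MvPolynomial.induction_on with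
  | C a => exact ⟨0, by simp⟩
  | add p q hp hq =>
    obtain ⟨rp, hp⟩ := hp
    obtain ⟨rq, hq⟩ := hq
    refine ⟨rp + rq, ?_⟩
    conv_lhs => rw [hp, hq]
    simp only [map_add, Pi.add_apply, mul_add, Finset.sum_add_distrib]
    ring
  | mul_X p i _ =>
    refine ⟨Pi.single i p, ?_⟩
    simp [Pi.single_apply, mul_comm]

/-- The data produced by the claim. -/
structure Data (k K Λ : Type u) [Field k] [Field K] [Algebra k K] [CommRing Λ] [Algebra k Λ] where
  π : Λ →ₐ[k] K
  hπ : Function.Surjective π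
  σ : K →+* Λ
  hσ : ∀ x, π (σ x) = x
  d : ℕ
  lam : Fin d → Λ
  hlam : Ideal.span (range lam) = RingHom.ker π
  n : ℕ
  hn : RingHom.ker π ^ n = ⊥
  T : Finset K
  hk : ∀ a : k, algebraMap k Λ a ∈ Rg k σ (T : Set K) (range lam)

namespace Data

variable {k K Λ : Type u} [Field k] [Field K] [Algebra k K] [CommRing Λ] [Algebra k Λ]
variable (D : Data k K Λ)

/-- The finitely generated subfield. -/
def F : IntermediateField k K := IntermediateField.adjoin k (D.T : Set K)

/-- The subalgebra `σ(F)[λ]`. -/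
def A : Subalgebra k Λ :=
  { (Rg k D.σ (D.T : Set K) (range D.lam)).toSubsemiring with
    algebraMap_mem' := D.hk }

theorem mem_A {x : Λ} : x ∈ D.A ↔ x ∈ Rg k D.σ (D.T : Set K) (range D.lam) := Iff.rfl

/-- evaluation of polynomials over `F`. -/
noncomputable def ΨF : MvPolynomial (Fin D.d) D.F →+* Λ :=
  eval₂Hom (D.σ.comp (algebraMap D.F K)) D.lam

/-- evaluation of polynomials over `K`. -/
noncomputable def ΨK : MvPolynomial (Fin D.d) K →+* Λ :=
  eval₂Hom D.σ D.lam

theorem ΨK_map (q : MvPolynomial (Fin D.d) D.F) : D.ΨK (map (algebraMap D.F K) q) = D.ΨF q := by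
  simp only [ΨK, ΨF, coe_eval₂Hom, eval₂_map]

theorem ΨF_mem (q : MvPolynomial (Fin D.d) D.F) : D.ΨF q ∈ D.A := by
  rw [mem_A]
  induction q using MvPolynomial.induction_on with
  | C a =>
    simp only [ΨF, coe_eval₂Hom, eval₂_C]
    exact sigma_mem_Rg D.σ _ a.2
  | add p q hp hq => rw [map_add]; exact add_mem hp hq
  | mul_X p i hp =>
    rw [map_mul]
    refine mul_mem hp ?_
    simp only [ΨF, coe_eval₂Hom, eval₂_X]
    exact mem_Rg_of_mem D.σ _ ⟨i, rfl⟩

theorem exists_ΨF {x : Λ} (hx : x ∈ D.A) : ∃ q, D.ΨF q = x := by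
  rw [mem_A] at hx
  have hle : Rg k D.σ (D.T : Set K) (range D.lam) ≤ D.ΨF.range := by
    refine Subring.closure_le.mpr ?_
    rintro y (⟨c, hc, rfl⟩ | ⟨i, rfl⟩)
    · exact ⟨C ⟨c, hc⟩, by simp [ΨF]⟩
    · exact ⟨X i, by simp [ΨF]⟩
  exact hle hx

theorem π_lam (i : Fin D.d) : D.π (D.lam i) = 0 := by
  have : D.lam i ∈ RingHom.ker D.π := by rw [← D.hlam]; exact Ideal.subset_span ⟨i, rfl⟩
  exact RingHom.mem_ker.mp this

theorem π_ΨF (q : MvPolynomial (Fin D.d) D.F) : D.π (D.ΨF q) = ((constantCoeff q : D.F) : K) := by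
  induction q using MvPolynomial.induction_on with
  | C a => simp [ΨF, D.hσ]
  | add p q hp hq => simp only [map_add, hp, hq, IntermediateField.coe_add]
  | mul_X p i hp =>
    rw [map_mul, map_mul, map_mul]
    simp [ΨF, D.π_lam]

theorem π_mem {x : Λ} (hx : x ∈ D.A) : D.π x ∈ D.F := by
  obtain ⟨q, rfl⟩ := D.exists_ΨF hx
  rw [D.π_ΨF]
  exact (constantCoeff q).2

theorem sigma_mem {c : K} (hc : c ∈ D.F) : D.σ c ∈ D.A := sigma_mem_Rg D.σ _ hc

theorem lam_mem (i : Fin D.d) : D.lam i ∈ D.A := mem_Rg_of_mem D.σ _ ⟨i, rfl⟩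

/-- decomposition of elements of `A`. -/
theorem exists_decomp_A {x : Λ} (hx : x ∈ D.A) :
    ∃ a : Fin D.d → Λ, (∀ i, a i ∈ D.A) ∧ x = D.σ (D.π x) + ∑ i, D.lam i * a i := by
  obtain ⟨q, rfl⟩ := D.exists_ΨF hx
  obtain ⟨r, hr⟩ := exists_decomp q
  refine ⟨fun i => D.ΨF (r i), fun i => D.ΨF_mem _, ?_⟩
  rw [D.π_ΨF]
  conv_lhs => rw [hr]
  simp [ΨF]

theorem pow_eq_zero_of_π_eq_zero {x : Λ} (hx : D.π x = 0) : x ^ D.n = 0 := by
  have : x ^ D.n ∈ RingHom.ker D.π ^ D.n := Ideal.pow_mem_pow (RingHom.mem_ker.mpr hx) _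
  rwa [D.hn, Ideal.mem_bot] at this

theorem isUnit_iff (a : D.A) : IsUnit a ↔ D.π a ≠ 0 := by
  constructor
  · intro h
    have := h.map (D.π.toRingHom.comp D.A.val.toRingHom)
    exact this.ne_zero
  · intro h
    have hc := D.π_mem a.2
    let b : D.A := ⟨D.σ (D.π a)⁻¹, D.sigma_mem (D.F.inv_mem hc)⟩
    have hν : D.π ((a * b - 1 : D.A) : Λ) = 0 := by
      simp only [b, Subalgebra.coe_sub, Subalgebra.coe_mul, Subalgebra.coe_one, map_sub, map_mul,
        D.hσ, map_one]
      rw [mul_inv_cancel₀ h, sub_self]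
    have hnil : IsNilpotent (a * b - 1 : D.A) :=
      ⟨D.n, Subtype.ext (by
        rw [Subalgebra.coe_pow, Subalgebra.coe_zero]
        exact D.pow_eq_zero_of_π_eq_zero hν)⟩
    have hu : IsUnit (a * b) := by
      have := hnil.isUnit_one_add
      rwa [add_sub_cancel] at this
    exact isUnit_of_mul_isUnit_left hu

instance : Nontrivial D.A := by
  haveI : Nontrivial Λ := D.hπ.nontrivial
  infer_instance

instance isLocalRing : IsLocalRing D.A := by
  refine IsLocalRing.of_nonunits_add ?_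
  intro a b ha hb
  rw [mem_nonunits_iff, isUnit_iff, not_not] at ha hb ⊢
  rw [Subalgebra.coe_add, map_add, ha, hb, add_zero]

theorem mem_maximalIdeal_iff (a : D.A) : a ∈ IsLocalRing.maximalIdeal D.A ↔ D.π a = 0 := by
  rw [IsLocalRing.mem_maximalIdeal, mem_nonunits_iff, isUnit_iff, not_not]

theorem map_maximalIdeal :
    (IsLocalRing.maximalIdeal D.A).map (algebraMap D.A Λ) = RingHom.ker D.π := by
  apply le_antisymm
  · rw [Ideal.map_le_iff_le_comap]
    intro a ha
    rw [Ideal.mem_comap, RingHom.mem_ker]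
    exact (D.mem_maximalIdeal_iff a).mp ha
  · rw [← D.hlam, Ideal.span_le]
    rintro _ ⟨i, rfl⟩
    have : (⟨D.lam i, D.lam_mem i⟩ : D.A) ∈ IsLocalRing.maximalIdeal D.A :=
      (D.mem_maximalIdeal_iff _).mpr (D.π_lam i)
    exact Ideal.mem_map_of_mem (algebraMap D.A Λ) this

instance isNoetherianRing : IsNoetherianRing D.A := by
  let f : MvPolynomial (Fin D.d) D.F →+* D.A := D.ΨF.codRestrict D.A D.ΨF_mem
  refine isNoetherianRing_of_surjective _ _ f ?_
  intro a
  obtain ⟨q, hq⟩ := D.exists_ΨF a.2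
  exact ⟨q, Subtype.ext hq⟩

theorem isArtinianRing : IsArtinianRing D.A := by
  rw [isArtinianRing_iff_isNilpotent_maximalIdeal,
    Ideal.FG.isNilpotent_iff_le_nilradical (IsNoetherian.noetherian _)]
  intro a ha
  rw [mem_nilradical]
  refine ⟨D.n, Subtype.ext ?_⟩
  rw [Subalgebra.coe_pow, Subalgebra.coe_zero]
  exact D.pow_eq_zero_of_π_eq_zero ((D.mem_maximalIdeal_iff a).mp ha)

/-! ### Essentially of finite type -/

/-- the finite generating set in `A`. -/
def S₀ : Set D.A := {a | (a : Λ) ∈ D.σ '' (D.T : Set K) ∪ range D.lam}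

theorem S₀_finite : D.S₀.Finite := by
  have hfin : (D.σ '' (D.T : Set K) ∪ range D.lam).Finite :=
    (D.T.finite_toSet.image _).union (Set.finite_range _)
  exact hfin.preimage Subtype.val_injective.injOn

/-- "is a fraction of elements of `k[S₀]`". -/
def P (a : D.A) : Prop :=
  ∃ t ∈ Algebra.adjoin k D.S₀, IsUnit t ∧ a * t ∈ Algebra.adjoin k D.S₀

theorem P_of_mem {a : D.A} (ha : a ∈ Algebra.adjoin k D.S₀) : D.P a :=
  ⟨1, one_mem _, isUnit_one, by rwa [mul_one]⟩

theorem P_add {a b : D.A} (ha : D.P a) (hb : D.P b) : D.P (a + b) := by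
  obtain ⟨t, ht, htu, hat⟩ := ha
  obtain ⟨s, hs, hsu, hbs⟩ := hb
  refine ⟨t * s, mul_mem ht hs, htu.mul hsu, ?_⟩
  have : (a + b) * (t * s) = (a * t) * s + (b * s) * t := by ring
  rw [this]
  exact add_mem (mul_mem hat hs) (mul_mem hbs ht)

theorem P_mul {a b : D.A} (ha : D.P a) (hb : D.P b) : D.P (a * b) := by
  obtain ⟨t, ht, htu, hat⟩ := ha
  obtain ⟨s, hs, hsu, hbs⟩ := hb
  refine ⟨t * s, mul_mem ht hs, htu.mul hsu, ?_⟩
  have : (a * b) * (t * s) = (a * t) * (b * s) := by ring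
  rw [this]
  exact mul_mem hat hbs

theorem P_sum {ι : Type*} (s : Finset ι) (f : ι → D.A) (h : ∀ i ∈ s, D.P (f i)) :
    D.P (∑ i ∈ s, f i) :=
  Finset.sum_induction f D.P (fun _ _ => D.P_add) (D.P_of_mem (zero_mem _)) h

theorem P_inv {a a' : D.A} (ha : D.P a) (h : a * a' = 1) : D.P a' := by
  obtain ⟨t, ht, htu, hat⟩ := ha
  have hau : IsUnit a := IsUnit.of_mul_eq_one _ h
  refine ⟨a * t, hat, hau.mul htu, ?_⟩
  have : a' * (a * t) = (a * a') * t := by ring
  rw [this, h, one_mul]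
  exact ht

theorem exists_P_of_mem_F {c : K} (hc : c ∈ D.F) : ∃ a : D.A, D.P a ∧ D.π a = c := by
  induction hc using IntermediateField.adjoin_induction with
  | mem x hx =>
    refine ⟨⟨D.σ x, D.sigma_mem (IntermediateField.subset_adjoin k _ hx)⟩, D.P_of_mem ?_, D.hσ x⟩
    exact Algebra.subset_adjoin (Or.inl ⟨x, hx, rfl⟩)
  | algebraMap x =>
    exact ⟨algebraMap k D.A x, D.P_of_mem (Subalgebra.algebraMap_mem _ x), D.π.commutes x⟩
  | add x y _ _ hx hy =>
    obtain ⟨a, ha, rfl⟩ := hx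
    obtain ⟨b, hb, rfl⟩ := hy
    exact ⟨a + b, D.P_add ha hb, by simp⟩
  | inv x _ hx =>
    obtain ⟨a, ha, rfl⟩ := hx
    by_cases h0 : D.π a = 0
    · exact ⟨0, D.P_of_mem (zero_mem _), by simp [h0]⟩
    · obtain ⟨u, hu⟩ := (D.isUnit_iff a).mpr h0
      have h1 : a * (↑u⁻¹ : D.A) = 1 := by rw [← hu]; exact u.mul_inv
      refine ⟨(↑u⁻¹ : D.A), D.P_inv ha h1, ?_⟩
      have := congrArg (fun z : D.A => D.π (z : Λ)) h1
      simp only [Subalgebra.coe_mul, map_mul, Subalgebra.coe_one, map_one] at this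
      exact eq_inv_of_mul_eq_one_right this
  | mul x y _ _ hx hy =>
    obtain ⟨a, ha, rfl⟩ := hx
    obtain ⟨b, hb, rfl⟩ := hy
    exact ⟨a * b, D.P_mul ha hb, by simp⟩

theorem exists_P_approx (j : ℕ) :
    ∀ a : D.A, ∃ a₁ : D.A, D.P a₁ ∧ ((a : Λ) - a₁) ∈ RingHom.ker D.π ^ j := by
  induction j with
  | zero => intro a; exact ⟨0, D.P_of_mem (zero_mem _), by simp⟩
  | succ j ih =>
    intro a
    obtain ⟨a0, ha0, hπ0⟩ := D.exists_P_of_mem_F (D.π_mem a.2)
    have hν : D.π ((a - a0 : D.A) : Λ) = 0 := by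
      rw [Subalgebra.coe_sub, map_sub, hπ0, sub_self]
    obtain ⟨ν, hνA, hdec⟩ := D.exists_decomp_A (a - a0).2
    rw [hν, map_zero, zero_add] at hdec
    choose b hb hb' using fun i => ih ⟨ν i, hνA i⟩
    refine ⟨a0 + ∑ i, ⟨D.lam i, D.lam_mem i⟩ * b i, D.P_add ha0 (D.P_sum _ _ fun i _ =>
      D.P_mul (D.P_of_mem (Algebra.subset_adjoin (Or.inr ⟨i, rfl⟩))) (hb i)), ?_⟩
    have : (a : Λ) - ((a0 + ∑ i, ⟨D.lam i, D.lam_mem i⟩ * b i : D.A) : Λ) =
        ∑ i, D.lam i * (ν i - (b i : Λ)) := by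
      have h1 : ((a - a0 : D.A) : Λ) = (a : Λ) - (a0 : Λ) := rfl
      rw [h1] at hdec
      simp only [Subalgebra.coe_add, AddSubmonoidClass.coe_finsetSum, Subalgebra.coe_mul, mul_sub,
        Finset.sum_sub_distrib]
      rw [← hdec]
      ring
    rw [this]
    refine sum_mem fun i _ => ?_
    rw [pow_succ']
    refine Ideal.mul_mem_mul ?_ (hb' i)
    rw [← D.hlam]
    exact Ideal.subset_span ⟨i, rfl⟩

theorem P_all (a : D.A) : D.P a := by
  obtain ⟨a₁, ha₁, h⟩ := D.exists_P_approx D.n a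
  rw [D.hn, Ideal.mem_bot, sub_eq_zero] at h
  have : a = a₁ := Subtype.ext h
  rw [this]
  exact ha₁

theorem essFiniteType : Algebra.EssFiniteType k D.A := by
  rw [Algebra.essFiniteType_iff]
  refine ⟨D.S₀_finite.toFinset, fun a => ?_⟩
  rw [Set.Finite.coe_toFinset]
  exact D.P_all a

/-! ### Flatness -/

theorem ΨK_surjective : Function.Surjective D.ΨK := by
  have htop := closure_eq_top (D.π : Λ →+* K) D.σ D.hσ D.lam D.hlam D.hn
  intro x
  have hx : x ∈ Subring.closure (Set.range D.σ ∪ range D.lam) := by rw [htop]; trivial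
  have hle : Subring.closure (Set.range D.σ ∪ range D.lam) ≤ D.ΨK.range := by
    refine Subring.closure_le.mpr ?_
    rintro y (⟨c, rfl⟩ | ⟨i, rfl⟩)
    · exact ⟨C c, by simp [ΨK]⟩
    · exact ⟨X i, by simp [ΨK]⟩
  exact hle hx

/-- the chosen `F`-basis of `K`. -/
noncomputable def e : Module.Basis (Module.Basis.ofVectorSpaceIndex D.F K) D.F K :=
  Module.Basis.ofVectorSpace D.F K

/-- base change of polynomials. -/
noncomputable def mp : MvPolynomial (Fin D.d) D.F →+* MvPolynomial (Fin D.d) K :=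
  MvPolynomial.map (algebraMap D.F K)

/-- `P_K` as a `P_F`-module. -/
@[instance_reducible]
noncomputable def modPK : Module (MvPolynomial (Fin D.d) D.F) (MvPolynomial (Fin D.d) K) :=
  Module.compHom _ D.mp

attribute [local instance] modPK

theorem smul_PK (q : MvPolynomial (Fin D.d) D.F) (x : MvPolynomial (Fin D.d) K) :
    q • x = D.mp q * x := rfl

/-- the comparison map `⊕_β P_F → P_K`. -/
noncomputable def Φ : (Module.Basis.ofVectorSpaceIndex D.F K →₀ MvPolynomial (Fin D.d) D.F) →ₗ[MvPolynomial (Fin D.d) D.F]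
    MvPolynomial (Fin D.d) K :=
  Finsupp.linearCombination _ (fun b => (C (D.e b) : MvPolynomial (Fin D.d) K))

theorem Φ_apply (H : Module.Basis.ofVectorSpaceIndex D.F K →₀ MvPolynomial (Fin D.d) D.F) :
    D.Φ H = H.sum fun b q => D.mp q * C (D.e b) := by
  rw [Φ, Finsupp.linearCombination_apply]
  rfl

theorem Φ_surjective (h : MvPolynomial (Fin D.d) K) : ∃ H, D.Φ H = h := by
  classical
  induction h using MvPolynomial.induction_on' with
  | monomial m c =>
    refine ⟨(D.e.repr c).mapRange (monomial m) (by simp), ?_⟩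
    rw [Φ_apply, Finsupp.sum_mapRange_index (by simp)]
    have hc : c = (D.e.repr c).sum fun b r => (algebraMap D.F K r) * D.e b := by
      conv_lhs => rw [← D.e.linearCombination_repr c]
      rw [Finsupp.linearCombination_apply]
      refine Finsupp.sum_congr fun b _ => ?_
      rw [Algebra.smul_def]
    conv_rhs => rw [hc]
    rw [Finsupp.sum, Finsupp.sum, map_sum]
    refine Finset.sum_congr rfl fun b _ => ?_
    rw [mp, map_monomial, mul_comm, C_mul_monomial, mul_comm]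
  | add p q hp hq =>
    obtain ⟨Hp, rfl⟩ := hp
    obtain ⟨Hq, rfl⟩ := hq
    exact ⟨Hp + Hq, map_add _ _ _⟩

theorem Φ_injective (H : Module.Basis.ofVectorSpaceIndex D.F K →₀ MvPolynomial (Fin D.d) D.F)
    (h : D.Φ H = 0) : H = 0 := by
  classical
  ext b m
  have h1 : coeff m (D.Φ H) = 0 := by rw [h, coeff_zero]
  rw [Φ_apply, Finsupp.sum, coeff_sum] at h1
  have h2 : Finsupp.linearCombination D.F D.e (H.mapRange (coeff m) (coeff_zero m)) = 0 := by
    rw [Finsupp.linearCombination_apply, Finsupp.sum_mapRange_index (by simp), Finsupp.sum,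
      ← h1]
    refine Finset.sum_congr rfl fun b _ => ?_
    rw [mul_comm, coeff_C_mul, mp, coeff_map, Algebra.smul_def, mul_comm]
  have h3 := (linearIndependent_iff.mp D.e.linearIndependent) _ h2
  have h4 := DFunLike.congr_fun h3 b
  simpa using h4

theorem Φ_injective' (H₁ H₂ : Module.Basis.ofVectorSpaceIndex D.F K →₀ MvPolynomial (Fin D.d) D.F)
    (h : D.Φ H₁ = D.Φ H₂) : H₁ = H₂ := by
  have h1 := D.Φ.map_sub H₁ H₂
  rw [h, sub_self] at h1
  exact sub_eq_zero.mp (D.Φ_injective _ h1)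

/-- the candidate basis of `Λ` over `A`. -/
noncomputable def v : Module.Basis.ofVectorSpaceIndex D.F K → Λ := fun b => D.σ (D.e b)

theorem ΨK_Φ (H : Module.Basis.ofVectorSpaceIndex D.F K →₀ MvPolynomial (Fin D.d) D.F) :
    D.ΨK (D.Φ H) = H.sum fun b q => D.ΨF q * D.v b := by
  rw [Φ_apply, map_finsuppSum]
  refine Finsupp.sum_congr fun b _ => ?_
  rw [map_mul, mp, ΨK_map]
  simp [ΨK, v]

theorem span_v : ⊤ ≤ Submodule.span D.A (range D.v) := by
  classical
  intro x _
  obtain ⟨h, rfl⟩ := D.ΨK_surjective x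
  obtain ⟨H, rfl⟩ := D.Φ_surjective h
  rw [ΨK_Φ, Finsupp.sum]
  refine Submodule.sum_mem _ fun b _ => ?_
  have : D.ΨF (H b) * D.v b = (⟨D.ΨF (H b), D.ΨF_mem _⟩ : D.A) • D.v b := rfl
  rw [this]
  exact Submodule.smul_mem _ _ (Submodule.subset_span ⟨b, rfl⟩)

theorem linearIndependent_v
    (hG : ∃ G : Set (MvPolynomial (Fin D.d) D.F),
      RingHom.ker D.ΨK = Ideal.span (D.mp '' G)) :
    LinearIndependent D.A D.v := by
  classical
  obtain ⟨G, hG⟩ := hG
  have hGker : Ideal.span G ≤ RingHom.ker D.ΨF := by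
    rw [Ideal.span_le]
    intro g hg
    rw [SetLike.mem_coe, RingHom.mem_ker, ← D.ΨK_map, ← RingHom.mem_ker, hG]
    exact Ideal.subset_span ⟨g, hg, rfl⟩
  -- elements of the kernel of ΨK come from H with entries in span G
  have hJ : ∀ Q ∈ RingHom.ker D.ΨK, ∃ H, (∀ b, H b ∈ Ideal.span G) ∧ D.Φ H = Q := by
    intro Q hQ
    rw [hG] at hQ
    obtain ⟨l, hl, rfl⟩ := (Finsupp.mem_span_image_iff_linearCombination _).mp hQ
    rw [Finsupp.linearCombination_apply, Finsupp.sum]
    refine Finset.sum_induction _ (fun Q => ∃ H, (∀ b, H b ∈ Ideal.span G) ∧ D.Φ H = Q) ?_ ?_ ?_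
    · rintro _ _ ⟨H₁, h₁, rfl⟩ ⟨H₂, h₂, rfl⟩
      exact ⟨H₁ + H₂, fun b => by rw [Finsupp.add_apply]; exact add_mem (h₁ b) (h₂ b),
        map_add _ _ _⟩
    · exact ⟨0, fun b => by simp, map_zero _⟩
    · intro g hg
      have hgG : g ∈ G := hl hg
      obtain ⟨H, hH⟩ := D.Φ_surjective (l g)
      refine ⟨g • H, fun b => ?_, ?_⟩
      · rw [Finsupp.smul_apply, smul_eq_mul]
        exact Ideal.mul_mem_right _ _ (Ideal.subset_span hgG)
      · rw [map_smul, hH, smul_PK, smul_eq_mul, mul_comm]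
  rw [linearIndependent_iff]
  intro l hl
  let qof : D.A → MvPolynomial (Fin D.d) D.F := fun a =>
    if h : a = 0 then 0 else Classical.choose (D.exists_ΨF a.2)
  have hqof : ∀ a : D.A, D.ΨF (qof a) = a := by
    intro a
    by_cases h : a = 0
    · simp [qof, h]
    · simp only [qof, h, dite_false]
      exact Classical.choose_spec (D.exists_ΨF a.2)
  have hqof0 : qof 0 = 0 := by simp [qof]
  let H := l.mapRange qof hqof0
  have hQ : D.Φ H ∈ RingHom.ker D.ΨK := by
    rw [RingHom.mem_ker, ΨK_Φ, Finsupp.sum_mapRange_index (by simp)]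
    rw [Finsupp.linearCombination_apply] at hl
    rw [← hl]
    refine Finsupp.sum_congr fun b _ => ?_
    rw [hqof]
    rfl
  obtain ⟨H', hH', hΦ⟩ := hJ _ hQ
  have hHH : H = H' := D.Φ_injective' _ _ hΦ.symm
  ext b
  have h1 : qof (l b) ∈ Ideal.span G := by
    have := hH' b
    rw [← hHH] at this
    simpa [H] using this
  have h2 := hGker h1
  rw [RingHom.mem_ker, hqof] at h2
  simp [h2]

theorem flat (hG : ∃ G : Set (MvPolynomial (Fin D.d) D.F),
      RingHom.ker D.ΨK = Ideal.span (D.mp '' G)) : Module.Flat D.A Λ := by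
  haveI : Module.Free D.A Λ :=
    Module.Free.of_basis (Module.Basis.mk (D.linearIndependent_v hG) D.span_v)
  infer_instance

end Data

/-- Abstract form of Stacks 07EK: `π : Λ → K` a surjection of `k`-algebras onto a field with
finitely generated nilpotent kernel, `char k = p`, `H₁(L_{K/k})` finite dimensional. Then every
finite subset of `Λ` lies in a local Artinian `k`-subalgebra `A ⊆ Λ`, essentially of finite type
over `k`, with `Λ` flat over `A` and `𝔪_A Λ = ker π`. -/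
theorem main_abstract (p : ℕ) [Fact p.Prime] {k K Λ : Type u} [Field k] [CharP k p] [Field K]
    [Algebra k K] [CommRing Λ] [Algebra k Λ]
    (hH : Module.Finite K (Algebra.H1Cotangent k K)) (π : Λ →ₐ[k] K)
    (hπ : Function.Surjective π) {d : ℕ} (lam : Fin d → Λ)
    (hlam : Ideal.span (range lam) = RingHom.ker π) {n : ℕ} (hn : RingHom.ker π ^ n = ⊥)
    (E : Finset Λ) :
    ∃ (A : Subalgebra k Λ) (_ : IsLocalRing A), (↑E : Set Λ) ⊆ A ∧ IsArtinianRing A ∧
      Module.Flat A Λ ∧ Algebra.EssFiniteType k A ∧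
      (IsLocalRing.maximalIdeal A).map (algebraMap A Λ) = RingHom.ker π := by
  classical
  obtain ⟨σ, T₀, hσ, hk⟩ := claim p hH n Λ π hπ d lam hlam hn
  let ΨK : MvPolynomial (Fin d) K →+* Λ := eval₂Hom σ lam
  obtain ⟨G, hG⟩ := (isNoetherianRing_iff_ideal_fg _).mp
    (inferInstance : IsNoetherianRing (MvPolynomial (Fin d) K)) (RingHom.ker ΨK)
  let CF : Finset K := G.biUnion fun g => g.coeffs
  have htop := closure_eq_top (π : Λ →+* K) σ hσ lam hlam hn
  have hE : ∀ x : Λ, ∃ T : Finset K, x ∈ Rg k σ (T : Set K) (range lam) := by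
    intro x
    apply exists_finset_of_mem_closure
    rw [htop]
    trivial
  choose Te hTe using hE
  let T : Finset K := T₀ ∪ CF ∪ E.biUnion Te
  let D : Data k K Λ :=
    { π := π, hπ := hπ, σ := σ, hσ := hσ, d := d, lam := lam, hlam := hlam, n := n, hn := hn,
      T := T
      hk := fun a => Rg_mono σ (by
        intro x hx
        simp only [T, Finset.coe_union, mem_union]
        exact Or.inl (Or.inl hx)) _ (hk a) }
  have hGr : (G : Set (MvPolynomial (Fin d) K)) ⊆ Set.range D.mp := by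
    intro g hg
    refine mem_range_map_iff_coeffs_subset.mpr ?_
    intro c hc
    have hcT : c ∈ (T : Set K) := by
      simp only [T, Finset.coe_union, mem_union]
      refine Or.inl (Or.inr ?_)
      exact Finset.mem_biUnion.mpr ⟨g, hg, hc⟩
    exact ⟨⟨c, IntermediateField.subset_adjoin k _ hcT⟩, rfl⟩
  have hG' : ∃ G' : Set (MvPolynomial (Fin D.d) D.F),
      RingHom.ker D.ΨK = Ideal.span (D.mp '' G') := by
    refine ⟨D.mp ⁻¹' (G : Set _), ?_⟩
    rw [Set.image_preimage_eq_of_subset hGr]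
    exact hG.symm
  refine ⟨D.A, D.isLocalRing, ?_, D.isArtinianRing, D.flat hG', D.essFiniteType,
    D.map_maximalIdeal⟩
  intro x hx
  refine Rg_mono σ ?_ _ (hTe x)
  intro y hy
  exact Finset.mem_coe.mpr (Finset.mem_union_right _ (Finset.mem_biUnion.mpr ⟨x, hx, hy⟩))

end Groth.Agent.H10.ArtSubFinal
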