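import Mathlib
import Groth.Agent.H10.ArtSubFinal

/-!
# Monotone form of the structure theorem (Stacks 07EK) for Artinian local algebras in char. p

For every sufficiently large finite set `T ⊆ K` the subring `σ(k(T))[λ]` has all the properties.
-/

set_option linter.style.haveILetI false

namespace Groth.Agent.H10.ArtSubMono

open Set MvPolynomial Groth.Agent.H10.ArtSubClaim Groth.Agent.H10.ArtSubFinal

universe u

theorem main_mono (p : ℕ) [Fact p.Prime] {k K Λ : Type u} [Field k] [CharP k p] [Field K]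
    [Algebra k K] [CommRing Λ] [Algebra k Λ]
    (hH : Module.Finite K (Algebra.H1Cotangent k K)) (π : Λ →ₐ[k] K)
    (hπ : Function.Surjective π) {d : ℕ} (lam : Fin d → Λ)
    (hlam : Ideal.span (range lam) = RingHom.ker π) {n : ℕ} (hn : RingHom.ker π ^ n = ⊥) :
    ∃ (σ : K →+* Λ) (T₁ : Finset K), (∀ x, π (σ x) = x) ∧
      (∀ x : Λ, ∃ Tx : Finset K, ∀ T : Finset K, Tx ⊆ T → x ∈ Rg k σ (T : Set K) (range lam)) ∧
      ∀ T : Finset K, T₁ ⊆ T →
        ∃ (A : Subalgebra k Λ) (_ : IsLocalRing A),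
          (∀ x, x ∈ A ↔ x ∈ Rg k σ (T : Set K) (range lam)) ∧ IsArtinianRing A ∧
          Module.Flat A Λ ∧ Algebra.EssFiniteType k A ∧
          (IsLocalRing.maximalIdeal A).map (algebraMap A Λ) = RingHom.ker π ∧
          (∀ c ∈ IntermediateField.adjoin k (T : Set K), σ c ∈ A) ∧
          (∀ x ∈ A, π x ∈ IntermediateField.adjoin k (T : Set K)) ∧
          (∀ i, lam i ∈ A) ∧
          (∀ a : A, IsUnit a ↔ π a ≠ 0) := by
  classical
  obtain ⟨σ, T₀, hσ, hk⟩ := claim p hH n Λ π hπ d lam hlam hn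
  let ΨK : MvPolynomial (Fin d) K →+* Λ := eval₂Hom σ lam
  obtain ⟨G, hG⟩ := (isNoetherianRing_iff_ideal_fg _).mp
    (inferInstance : IsNoetherianRing (MvPolynomial (Fin d) K)) (RingHom.ker ΨK)
  let CF : Finset K := G.biUnion fun g => g.coeffs
  have htop := closure_eq_top (π : Λ →+* K) σ hσ lam hlam hn
  have hE : ∀ x : Λ, ∃ T : Finset K, x ∈ Rg k σ (T : Set K) (range lam) := by
    intro x
    apply exists_finset_of_mem_closure
    rw [htop]
    trivial
  choose Te hTe using hE
  refine ⟨σ, T₀ ∪ CF, hσ, fun x => ⟨Te x, fun T hT => Rg_mono σ (by exact_mod_cast hT) _ (hTe x)⟩,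
    ?_⟩
  intro T hT
  let D : Data k K Λ :=
    { π := π, hπ := hπ, σ := σ, hσ := hσ, d := d, lam := lam, hlam := hlam, n := n, hn := hn,
      T := T
      hk := fun a => Rg_mono σ (by
        intro x hx
        exact Finset.mem_coe.mpr (hT (Finset.mem_union_left _ (Finset.mem_coe.mp hx)))) _ (hk a) }
  have hGr : (G : Set (MvPolynomial (Fin d) K)) ⊆ Set.range D.mp := by
    intro g hg
    refine mem_range_map_iff_coeffs_subset.mpr ?_
    intro c hc
    have hcT : c ∈ (T : Set K) := by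
      refine Finset.mem_coe.mpr (hT (Finset.mem_union_right _ ?_))
      exact Finset.mem_biUnion.mpr ⟨g, hg, hc⟩
    exact ⟨⟨c, IntermediateField.subset_adjoin k _ hcT⟩, rfl⟩
  have hG' : ∃ G' : Set (MvPolynomial (Fin D.d) D.F),
      RingHom.ker D.ΨK = Ideal.span (D.mp '' G') := by
    refine ⟨D.mp ⁻¹' (G : Set _), ?_⟩
    rw [Set.image_preimage_eq_of_subset hGr]
    exact hG.symm
  refine ⟨D.A, D.isLocalRing, fun x => Iff.rfl, D.isArtinianRing, D.flat hG', D.essFiniteType,
    D.map_maximalIdeal, fun c hc => D.sigma_mem hc, fun x hx => D.π_mem hx, D.lam_mem,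
    fun a => D.isUnit_iff a⟩

end Groth.Agent.H10.ArtSubMono
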