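import Mathlib
import Groth.Prelude
import Groth.Agent.H54.BlowUpAffine

/-!
# helper10 squad piece (A6) for helper95 (S1695)
-/

set_option autoImplicit false
universe u
open CategoryTheory CategoryTheory.Limits AlgebraicGeometry TopologicalSpace

namespace Groth.Agent.H10.BC_A6

open Groth.Agent.H54.BlowUpAffine

variable {T : Scheme.{u}}

/-- Multiplication by a section whose germs are nonzerodivisors on `O` is injective on `Γ(T, O)`. -/
theorem eq_zero_of_mul' (s : Γ(T, ⊤)) (O : T.Opens)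
    (hs : ∀ t ∈ O, T.presheaf.germ ⊤ t trivial s ∈ nonZeroDivisors (T.presheaf.stalk t))
    (V : T.Opens) (hVO : V ≤ O) (z : Γ(T, V))
    (hz : (T.presheaf.map (homOfLE (le_top : V ≤ ⊤)).op).hom s * z = 0) : z = 0 := by
  apply Groth.Agent.H9.eq_zero_of_germ'
  intro t ht
  have h1 : T.presheaf.germ V t ht ((T.presheaf.map (homOfLE (le_top : V ≤ ⊤)).op).hom s * z) = 0 := by
    rw [hz, map_zero]
  rw [map_mul, germ_res'] at h1
  exact (mem_nonZeroDivisors_iff_right.1 (hs t (hVO ht))) _ (by rw [mul_comm]; exact h1)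

/-- Division over an open `O` by a section whose germs on `O` are nonzerodivisors, given local
divisibility. -/
theorem exists_div' (O : T.Opens) (s y : Γ(T, ⊤))
    (hs : ∀ t ∈ O, T.presheaf.germ ⊤ t trivial s ∈ nonZeroDivisors (T.presheaf.stalk t))
    (hy : ∀ t ∈ O, ∃ W : T.Opens, t ∈ W ∧ W ≤ O ∧ ∃ x : Γ(T, W),
        (T.presheaf.map (homOfLE (le_top : W ≤ ⊤)).op).hom s * x =
          (T.presheaf.map (homOfLE (le_top : W ≤ ⊤)).op).hom y) :
    ∃ x : Γ(T, O), (T.presheaf.map (homOfLE (le_top : O ≤ ⊤)).op).hom s * x =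
      (T.presheaf.map (homOfLE (le_top : O ≤ ⊤)).op).hom y := by
  have hy' : ∀ t : O, ∃ W : T.Opens, t.1 ∈ W ∧ W ≤ O ∧ ∃ x : Γ(T, W),
        (T.presheaf.map (homOfLE (le_top : W ≤ ⊤)).op).hom s * x =
          (T.presheaf.map (homOfLE (le_top : W ≤ ⊤)).op).hom y := fun t => hy t.1 t.2
  choose W htW hWO x hx using hy'
  have hcompat : TopCat.Presheaf.IsCompatible T.presheaf W x := by
    intro t t'
    have key : (T.presheaf.map (homOfLE (le_top : W t ⊓ W t' ≤ ⊤)).op).hom s *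
        ((T.presheaf.map (Opens.infLELeft (W t) (W t')).op).hom (x t) -
          (T.presheaf.map (Opens.infLERight (W t) (W t')).op).hom (x t')) = 0 := by
      rw [mul_sub]
      have e1 : (T.presheaf.map (homOfLE (le_top : W t ⊓ W t' ≤ ⊤)).op).hom s *
          (T.presheaf.map (Opens.infLELeft (W t) (W t')).op).hom (x t) =
          (T.presheaf.map (homOfLE (le_top : W t ⊓ W t' ≤ ⊤)).op).hom y := by
        rw [← res_res (Opens.infLELeft (W t) (W t')) (homOfLE le_top) _ s, ← map_mul, hx t,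
          res_res]
      have e2 : (T.presheaf.map (homOfLE (le_top : W t ⊓ W t' ≤ ⊤)).op).hom s *
          (T.presheaf.map (Opens.infLERight (W t) (W t')).op).hom (x t') =
          (T.presheaf.map (homOfLE (le_top : W t ⊓ W t' ≤ ⊤)).op).hom y := by
        rw [← res_res (Opens.infLERight (W t) (W t')) (homOfLE le_top) _ s, ← map_mul, hx t',
          res_res]
      rw [e1, e2, sub_self]
    exact sub_eq_zero.1 (eq_zero_of_mul' s O hs _ (inf_le_left.trans (hWO t)) _ key)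
  obtain ⟨(x₀ : Γ(T, O)), hx₀, -⟩ := TopCat.Sheaf.existsUnique_gluing' T.sheaf W O
    (fun t => homOfLE (hWO t)) (fun t ht => Opens.mem_iSup.2 ⟨⟨t, ht⟩, htW ⟨t, ht⟩⟩) x hcompat
  refine ⟨x₀, ?_⟩
  have h0 : (T.presheaf.map (homOfLE (le_top : O ≤ ⊤)).op).hom s * x₀ -
      (T.presheaf.map (homOfLE (le_top : O ≤ ⊤)).op).hom y = 0 := by
    apply Groth.Agent.H9.eq_zero_of_germ'
    intro t ht
    have h1 : (T.presheaf.map (homOfLE (hWO ⟨t, ht⟩)).op).hom x₀ = x ⟨t, ht⟩ := hx₀ ⟨t, ht⟩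
    rw [← germ_res' (homOfLE (hWO ⟨t, ht⟩)) t (htW ⟨t, ht⟩), map_sub, map_mul, h1, res_res _ _
      (homOfLE le_top), res_res _ _ (homOfLE le_top), hx ⟨t, ht⟩, sub_self, map_zero]
  exact sub_eq_zero.1 h0

/-- the key statement over an arbitrary open `O` of `T`. -/
theorem key (O : T.Opens) (σ τ : Γ(T, ⊤))
    (h : ∀ x ∈ O, ∃ W : T.affineOpens, x ∈ W.1 ∧ W.1 ≤ O ∧
      (T.presheaf.map (homOfLE (le_top : W.1 ≤ ⊤)).op).hom σ ∈ nonZeroDivisors Γ(T, W.1) ∧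
      ∃ y : Γ(T, W.1), (T.presheaf.map (homOfLE (le_top : W.1 ≤ ⊤)).op).hom σ * y =
        (T.presheaf.map (homOfLE (le_top : W.1 ≤ ⊤)).op).hom τ) :
    (T.presheaf.map (homOfLE (le_top : O ≤ ⊤)).op).hom σ ∈ nonZeroDivisors Γ(T, O) ∧
    ∃ y : Γ(T, O), (T.presheaf.map (homOfLE (le_top : O ≤ ⊤)).op).hom σ * y =
      (T.presheaf.map (homOfLE (le_top : O ≤ ⊤)).op).hom τ := by
  have hs : ∀ t ∈ O, T.presheaf.germ ⊤ t trivial σ ∈ nonZeroDivisors (T.presheaf.stalk t) := by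
    intro t ht
    obtain ⟨W, htW, -, hnzd, -⟩ := h t ht
    have := Groth.Agent.H9.germ_mem_nonZeroDivisors W.2 hnzd t htW
    rwa [germ_res'] at this
  refine ⟨?_, ?_⟩
  · rw [mem_nonZeroDivisors_iff_right]
    intro z hz
    exact eq_zero_of_mul' σ O hs O le_rfl z (by rw [mul_comm]; exact hz)
  · refine exists_div' O σ τ hs (fun t ht => ?_)
    obtain ⟨W, htW, hWO, -, y, hy⟩ := h t ht
    exact ⟨W.1, htW, hWO, y, hy⟩

/-- (A6) -/
theorem A6 {X' : Scheme.{u}} (V : X'.Opens) (σ τ : Γ(X', ⊤))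
    (h : ∀ x ∈ V, ∃ W : X'.affineOpens, x ∈ W.1 ∧ W.1 ≤ V ∧
      (X'.presheaf.map (homOfLE (le_top : W.1 ≤ ⊤)).op).hom σ ∈ nonZeroDivisors Γ(X', W.1) ∧
      ∃ y : Γ(X', W.1), (X'.presheaf.map (homOfLE (le_top : W.1 ≤ ⊤)).op).hom σ * y =
        (X'.presheaf.map (homOfLE (le_top : W.1 ≤ ⊤)).op).hom τ) :
    V.ι.appTop.hom σ ∈ nonZeroDivisors Γ(V.toScheme, ⊤) ∧
      ∃ y : Γ(V.toScheme, ⊤), V.ι.appTop.hom σ * y = V.ι.appTop.hom τ := by
  have hV : V.ι ''ᵁ ⊤ = V := V.ι_image_top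
  have h' : ∀ x ∈ V.ι ''ᵁ ⊤, ∃ W : X'.affineOpens, x ∈ W.1 ∧ W.1 ≤ V.ι ''ᵁ ⊤ ∧
      (X'.presheaf.map (homOfLE (le_top : W.1 ≤ ⊤)).op).hom σ ∈ nonZeroDivisors Γ(X', W.1) ∧
      ∃ y : Γ(X', W.1), (X'.presheaf.map (homOfLE (le_top : W.1 ≤ ⊤)).op).hom σ * y =
        (X'.presheaf.map (homOfLE (le_top : W.1 ≤ ⊤)).op).hom τ := by
    rw [hV]
    exact h
  exact key (V.ι ''ᵁ ⊤) σ τ h'

end Groth.Agent.H10.BC_A6
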