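import Mathlib

/-! (B) for S7203: stalk facts of an elementary étale neighbourhood. -/

set_option autoImplicit false
set_option linter.style.haveILetI false
universe u
open AlgebraicGeometry CategoryTheory Limits IsLocalRing

namespace Groth.Agent.H10.CAV_B

/-- (B) stalk facts of an elementary etale neighbourhood -/
theorem etale_stalk_facts {U X : Scheme.{u}} (e : U ⟶ X) [Etale e] (u : U)
    (hres : Function.Bijective (e.residueFieldMap u)) :
    (e.stalkMap u).hom.Flat ∧
      (maximalIdeal (X.presheaf.stalk (e u))).map (e.stalkMap u).hom =
        maximalIdeal (U.presheaf.stalk u) ∧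
      Function.Bijective (ResidueField.map (e.stalkMap u).hom) := by
  refine ⟨AlgebraicGeometry.Flat.stalkMap e u, ?_, hres⟩
  have hunr : (e.stalkMap u).hom.FormallyUnramified := FormallyUnramified.stalkMap e u
  have hess : (e.stalkMap u).hom.EssFiniteType := LocallyOfFiniteType.stalkMap e u
  algebraize [(e.stalkMap u).hom]
  haveI : IsLocalHom (algebraMap (X.presheaf.stalk (e u)) (U.presheaf.stalk u)) :=
    inferInstanceAs <| IsLocalHom (e.stalkMap u).hom
  exact Algebra.FormallyUnramified.map_maximalIdeal

end Groth.Agent.H10.CAV_B
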