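import Mathlib
import Groth.Agent.H48.StalkLocal2

/-! (C) for S7203: étale on a neighbourhood from flat + `𝔪`-generation + trivial residue extension
at the stalk. -/

set_option autoImplicit false
set_option linter.style.haveILetI false
universe u
open AlgebraicGeometry CategoryTheory Limits IsLocalRing

namespace Groth.Agent.H10.CAV_C

/-- (C) etale on a neighbourhood -/
theorem exists_etale_open {U Y : Scheme.{u}} [IsLocallyNoetherian Y] (f : U ⟶ Y)
    [LocallyOfFiniteType f] (u : U) (hflat : (f.stalkMap u).hom.Flat)
    (hmax : (maximalIdeal (Y.presheaf.stalk (f u))).map (f.stalkMap u).hom =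
      maximalIdeal (U.presheaf.stalk u))
    (hres : Function.Bijective (ResidueField.map (f.stalkMap u).hom)) :
    ∃ U' : U.Opens, u ∈ U' ∧ Etale (U'.ι ≫ f) := by
  haveI : LocallyOfFinitePresentation f :=
    LocallyOfFinitePresentation.iff_locallyOfFiniteType.mpr inferInstance
  refine (Groth.Agent.H48.etale_nhd_iff_flat_unramified f u).mpr ⟨?_, hflat⟩
  algebraize [(f.stalkMap u).hom]
  haveI : IsLocalHom (algebraMap (Y.presheaf.stalk (f u)) (U.presheaf.stalk u)) :=
    inferInstanceAs <| IsLocalHom (f.stalkMap u).hom
  haveI : Algebra.IsSeparable (ResidueField (Y.presheaf.stalk (f u)))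
      (ResidueField (U.presheaf.stalk u)) := by
    refine ⟨fun x => ?_⟩
    obtain ⟨y, rfl⟩ := hres.2 x
    exact isSeparable_algebraMap y
  haveI : Algebra.EssFiniteType (Y.presheaf.stalk (f u)) (U.presheaf.stalk u) := by
    rw [← RingHom.essFiniteType_algebraMap, RingHom.algebraMap_toAlgebra]
    exact LocallyOfFiniteType.stalkMap f u
  have h : Algebra.FormallyUnramified (Y.presheaf.stalk (f u)) (U.presheaf.stalk u) :=
    Algebra.FormallyUnramified.of_map_maximalIdeal hmax
  rw [← RingHom.formallyUnramified_algebraMap, RingHom.algebraMap_toAlgebra] at h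
  exact h

end Groth.Agent.H10.CAV_C
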