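import Mathlib
import Groth.Agent.H10.DVRResExt
import Groth.Agent.S13404
import Groth.Agent.S13417

set_option autoImplicit false
set_option linter.style.haveILetI false
set_option linter.unusedSectionVars false
set_option maxHeartbeats 400000

/-! Henselian DVR extension with perfect-closure residue field, as a directed union of finite free
subalgebras of `p`-power rank (Zorn's lemma inside an algebraic closure). -/

namespace Groth.Agent.H10.DVRPerfExt

universe u

open IsLocalRing Polynomial Groth.Agent.H10.DVRResExt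
open scoped IntermediateField

section Tower

/-- Adjoining an element satisfying a monic relation of degree `n` over a finite free subalgebra,
whose first `n` powers are independent, gives a finite free subalgebra of rank multiplied by `n`. -/
theorem tower_free {R Ω' : Type u} [CommRing R] [Field Ω'] [Algebra R Ω'] (S₀ : Subalgebra R Ω')
    [Module.Finite R S₀] [Module.Free R S₀] (β : Ω') (n : ℕ) (a : Fin n → S₀)
    (hrel : β ^ n = ∑ i : Fin n, (a i : Ω') * β ^ (i : ℕ))
    (hind : ∀ c : Fin n → S₀, (∑ i : Fin n, (c i : Ω') * β ^ (i : ℕ)) = 0 → c = 0) :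
    ∃ S : Subalgebra R Ω', Module.Finite R S ∧ Module.Free R S ∧
      Module.finrank R S = Module.finrank R S₀ * n ∧
      (∀ x : Ω', x ∈ S ↔ ∃ c : Fin n → S₀, x = ∑ i : Fin n, (c i : Ω') * β ^ (i : ℕ)) := by
  classical
  haveI : Nontrivial R := (algebraMap R Ω').domain_nontrivial
  let g : S₀[X] := X ^ n - ∑ i : Fin n, C (a i) * X ^ (i : ℕ)
  have hgmon : g.Monic := monic_X_pow_sub (degree_sum_fin_lt a)
  have hgdeg : g.natDegree = n := by
    have h1 : g.degree = n := by
      rw [degree_sub_eq_left_of_degree_lt]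
      · exact degree_X_pow n
      · rw [degree_X_pow]
        exact degree_sum_fin_lt a
    exact natDegree_eq_of_degree_eq_some h1
  have hgroot : eval₂ (Algebra.ofId S₀ Ω') β g = 0 := by
    simp only [g, eval₂_sub, eval₂_pow, eval₂_X, eval₂_finsetSum, eval₂_mul, eval₂_C]
    rw [hrel, sub_eq_zero]
    rfl
  let ψ : AdjoinRoot g →ₐ[S₀] Ω' := AdjoinRoot.liftAlgHom g (Algebra.ofId S₀ Ω') β hgroot
  -- evaluation of small polynomials
  have hsmall : ∀ r : S₀[X], r.natDegree < n →
      eval₂ (Algebra.ofId S₀ Ω') β r = ∑ i : Fin n, ((r.coeff i : S₀) : Ω') * β ^ (i : ℕ) := by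
    intro r hr
    rw [eval₂_eq_sum_range' _ hr, Finset.sum_range]
    rfl
  have hn0 : n ≠ 0 := by
    rintro rfl
    simp at hrel
  have hg1 : g ≠ 1 := by
    intro h1
    rw [h1, natDegree_one] at hgdeg
    exact hn0 hgdeg.symm
  have hψ : ∀ x : AdjoinRoot g, ∃ r : S₀[X], r.natDegree < n ∧ x = AdjoinRoot.mk g r := by
    intro x
    obtain ⟨q, rfl⟩ := AdjoinRoot.mk_surjective x
    refine ⟨q %ₘ g, ?_, ?_⟩
    · rw [← hgdeg]
      exact natDegree_modByMonic_lt q hgmon hg1
    · rw [AdjoinRoot.mk_eq_mk]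
      refine ⟨q /ₘ g, ?_⟩
      have := modByMonic_add_div q g
      linear_combination (-1 : S₀[X]) * this
  have hinj : Function.Injective ψ := by
    rw [injective_iff_map_eq_zero]
    intro x hx
    obtain ⟨r, hr, rfl⟩ := hψ x
    have h1 : ψ (AdjoinRoot.mk g r) = eval₂ (Algebra.ofId S₀ Ω') β r := rfl
    rw [h1, hsmall r hr] at hx
    have h2 := hind (fun i => r.coeff i) hx
    have h3 : r = 0 := by
      apply Polynomial.ext
      intro i
      by_cases hi : i < n
      · exact congrFun h2 ⟨i, hi⟩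
      · exact coeff_eq_zero_of_natDegree_lt (lt_of_lt_of_le hr (not_lt.mp hi))
    rw [h3, map_zero]
  haveI : Module.Free S₀ (AdjoinRoot g) := hgmon.free_adjoinRoot
  haveI : Module.Finite S₀ (AdjoinRoot g) := hgmon.finite_adjoinRoot
  haveI : Module.Finite R (AdjoinRoot g) := Module.Finite.trans S₀ (AdjoinRoot g)
  haveI : Module.Free R (AdjoinRoot g) := Module.Free.trans (S := S₀)
  have hrank : Module.finrank R (AdjoinRoot g) = Module.finrank R S₀ * n := by
    rw [← Module.finrank_mul_finrank R S₀ (AdjoinRoot g), (AdjoinRoot.powerBasis' hgmon).finrank,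
      AdjoinRoot.powerBasis'_dim, hgdeg]
  let ψR : AdjoinRoot g →ₐ[R] Ω' := ψ.restrictScalars R
  have hinjR : Function.Injective ψR := hinj
  let e : AdjoinRoot g ≃ₐ[R] ψR.range := AlgEquiv.ofInjective ψR hinjR
  refine ⟨ψR.range, Module.Finite.equiv e.toLinearEquiv, Module.Free.of_equiv e.toLinearEquiv,
    ?_, ?_⟩
  · rw [← hrank]
    exact (LinearEquiv.finrank_eq e.toLinearEquiv).symm
  · intro x
    constructor
    · rintro ⟨y, rfl⟩
      obtain ⟨r, hr, rfl⟩ := hψ y
      refine ⟨fun i => r.coeff i, ?_⟩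
      have h1 : ψR (AdjoinRoot.mk g r) = eval₂ (Algebra.ofId S₀ Ω') β r := rfl
      rw [← hsmall r hr]
      exact h1
    · rintro ⟨c, rfl⟩
      have h1 : ψR (AdjoinRoot.mk g (∑ i : Fin n, C (c i) * X ^ (i : ℕ))) =
          eval₂ (Algebra.ofId S₀ Ω') β (∑ i : Fin n, C (c i) * X ^ (i : ℕ)) := rfl
      refine ⟨AdjoinRoot.mk g (∑ i : Fin n, C (c i) * X ^ (i : ℕ)), h1.trans ?_⟩
      simp only [eval₂_finsetSum, eval₂_mul, eval₂_C, eval₂_pow, eval₂_X]
      rfl

end Tower

section Step2

variable {K Ω : Type u} [Field K] [Field Ω] [Algebra K Ω] {V : ValuationSubring Ω}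
  {π : Ω} {T : Subring (ResidueField V)} {L : IntermediateField K Ω}

/-- If an `L`-combination of `1, β, …, β^(n-1)` is integral, so are its coefficients. -/
theorem comb_mem (β : V)
    (c : Fin (minpoly (kL V L) (residue V β)).natDegree → L)
    (hx : (∑ i, (c i : Ω) * (β : Ω) ^ (i : ℕ)) ∈ V) : ∀ i, (c i : Ω) ∈ V := by
  classical
  by_cases hc : c = 0
  · intro i
    rw [hc]
    exact V.zero_mem
  obtain ⟨j, hj⟩ : ∃ j, c j ≠ 0 := by
    by_contra h
    push Not at h
    exact hc (funext h)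
  obtain ⟨i₀, -, hi₀⟩ := Finset.exists_max_image Finset.univ
    (fun i => V.valuation (c i : Ω)) ⟨j, Finset.mem_univ _⟩
  have hci₀ : (c i₀ : Ω) ≠ 0 := by
    intro h0
    have h2 := hi₀ j (Finset.mem_univ _)
    simp only [h0, map_zero] at h2
    have h1 : V.valuation (c j : Ω) = 0 := le_antisymm h2 zero_le
    rw [map_eq_zero] at h1
    exact hj (Subtype.ext h1)
  have hd : ∀ i, ((c i : Ω) / (c i₀ : Ω)) ∈ V := by
    intro i
    rw [← V.valuation_le_one_iff, map_div₀]
    exact div_le_one_of_le₀ (hi₀ i (Finset.mem_univ _)) zero_le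
  have hdL : ∀ i, ((c i : Ω) / (c i₀ : Ω)) ∈ L := fun i => L.div_mem (c i).2 (c i₀).2
  let d : Fin (minpoly (kL V L) (residue V β)).natDegree → OL V L := fun i => ⟨⟨_, hd i⟩, hdL i⟩
  let y : V := ∑ i, (d i : V) * β ^ (i : ℕ)
  have hy : (∑ i, (c i : Ω) * (β : Ω) ^ (i : ℕ)) = (c i₀ : Ω) * (y : Ω) := by
    simp only [y, d]
    push_cast
    rw [Finset.mul_sum]
    refine Finset.sum_congr rfl fun i _ => ?_
    field_simp
  have hres : residue V y = ∑ i, (resL V L (d i)) • (residue V β) ^ (i : ℕ) := by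
    simp only [y, map_sum, map_mul, map_pow]
    rfl
  have hyu : residue V y ≠ 0 := by
    intro h0
    rw [hres] at h0
    have h3 := Fintype.linearIndependent_iff.mp
      (linearIndependent_pow (K := kL V L) (residue V β)) (fun i => resL V L (d i)) h0 i₀
    have h1 : d i₀ = 1 := by
      apply Subtype.ext
      apply Subtype.ext
      show (c i₀ : Ω) / (c i₀ : Ω) = 1
      exact div_self hci₀
    rw [h1, map_one] at h3
    exact one_ne_zero h3
  have hyv : V.valuation (y : Ω) = 1 := by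
    rw [← V.valuation_eq_one_iff]
    by_contra hnu
    exact hyu ((residue_eq_zero_iff y).mpr hnu)
  have hcV : (c i₀ : Ω) ∈ V := by
    rw [← V.valuation_le_one_iff] at hx ⊢
    rwa [hy, map_mul, hyv, mul_one] at hx
  intro i
  have h5 : (c i : Ω) = (c i₀ : Ω) * ((c i : Ω) / (c i₀ : Ω)) := by field_simp
  rw [h5]
  exact V.mul_mem _ _ hcV (hd i)

theorem step_data [IsAlgClosed Ω] (hπ : V.valuation π < 1) (hπ0 : π ≠ 0) (hπL : π ∈ L)
    (hL : ∀ x ∈ L, Good (K := K) V π T x) (b : ResidueField V) (hbT : b ∈ T)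
    (hb : b ∉ kL V L) (hint : IsIntegral (kL V L) b) :
    ∃ β : V, residue V β = b ∧ (β : Ω) ∉ L ∧
      (∀ x ∈ (L⟮(β : Ω)⟯).restrictScalars K, Good (K := K) V π T x) ∧
      (∀ x ∈ (L⟮(β : Ω)⟯).restrictScalars K,
        ∃ c : Fin (minpoly (kL V L) (residue V β)).natDegree → L,
          x = ∑ i, (c i : Ω) * (β : Ω) ^ (i : ℕ)) ∧
      (∀ c : Fin (minpoly (kL V L) (residue V β)).natDegree → L, c ≠ 0 →
          (∑ i, (c i : Ω) * (β : Ω) ^ (i : ℕ)) ≠ 0) := by
  classical
  have hπV : π ∈ V := (V.valuation_le_one_iff π).mp hπ.le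
  let πL : OL V L := ⟨⟨π, hπV⟩, hπL⟩
  have hresπ : resL V L πL = 0 := by
    apply Subtype.ext
    show residue V ⟨π, hπV⟩ = 0
    rw [residue_eq_zero_iff, V.valuation_lt_one_iff]
    exact hπ
  have hn2 : 2 ≤ (minpoly (kL V L) b).natDegree := by
    rw [minpoly.two_le_natDegree_iff hint]
    rintro ⟨z, hz⟩
    exact hb (hz ▸ z.2)
  obtain ⟨g₀, hg₀map, hg₀deg, hg₀mon⟩ := lifts_and_degree_eq_and_monic
    (p := minpoly (kL V L) b) (f := resL V L)
    ((mem_lifts _).mpr (map_surjective _ (resL_surjective V L) _)) (minpoly.monic hint)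
  obtain ⟨g, hgmon, hgmap, hgder⟩ : ∃ g : (OL V L)[X], g.Monic ∧
      g.map (resL V L) = minpoly (kL V L) b ∧ derivative (g.map (toL V L)) ≠ 0 := by
    by_cases hder : derivative (g₀.map (toL V L)) = 0
    · refine ⟨g₀ + C πL * X, ?_, ?_, ?_⟩
      · apply hg₀mon.add_of_left
        calc (C πL * X).degree ≤ 1 := degree_C_mul_X_le _
          _ < g₀.degree := by
            rw [hg₀deg, degree_eq_natDegree (minpoly.ne_zero hint)]
            exact_mod_cast hn2
      · rw [Polynomial.map_add, Polynomial.map_mul, map_C, hresπ, C_0, zero_mul, add_zero, hg₀map]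
      · rw [Polynomial.map_add, derivative_add, hder, zero_add, Polynomial.map_mul, map_C, map_X,
          derivative_C_mul, derivative_X, mul_one, Ne, C_eq_zero]
        intro h0
        exact hπ0 (congrArg Subtype.val h0)
    · exact ⟨g₀, hg₀mon, hg₀map, hder⟩
  have hgb : eval₂ ((residue V).comp (OL V L).subtype) b g = 0 := by
    have h1 : aeval b (minpoly (kL V L) b) = 0 := minpoly.aeval _ _
    rw [← hgmap, aeval_def, eval₂_map] at h1
    exact h1
  obtain ⟨β, hβroot, hβres⟩ := exists_root g hgmon b hgb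
  subst hβres
  -- the polynomial over `L`
  have hgLmon : (g.map (toL V L)).Monic := hgmon.map _
  have hgdeg : g.natDegree = (minpoly (kL V L) (residue V β)).natDegree := by
    rw [← hgmap, hgmon.natDegree_map]
  have hgLdeg : (g.map (toL V L)).natDegree = (minpoly (kL V L) (residue V β)).natDegree := by
    rw [hgmon.natDegree_map, hgdeg]
  have hgLroot : aeval (β : Ω) (g.map (toL V L)) = 0 := by
    rw [aeval_def, eval₂_map]
    have h1 : (algebraMap L Ω).comp (toL V L) = V.subtype.comp (OL V L).subtype := rfl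
    rw [h1]
    have h2 := hom_eval₂ g (OL V L).subtype V.subtype β
    rw [hβroot, map_zero] at h2
    exact h2.symm
  -- representation of values of small polynomials
  have hrep : ∀ r : L[X], r.natDegree < (minpoly (kL V L) (residue V β)).natDegree →
      aeval (β : Ω) r = ∑ i : Fin (minpoly (kL V L) (residue V β)).natDegree,
        ((r.coeff i : L) : Ω) * (β : Ω) ^ (i : ℕ) := by
    intro r hr
    rw [aeval_eq_sum_range' hr, Finset.sum_range]
    rfl
  have hsmall : ∀ r : L[X], r ≠ 0 →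
      r.natDegree < (minpoly (kL V L) (residue V β)).natDegree →
      (∃ m : ℤ, V.valuation (aeval (β : Ω) r) = V.valuation π ^ m) ∧
      ∀ hx : aeval (β : Ω) r ∈ V, residue V ⟨aeval (β : Ω) r, hx⟩ ∈ T := by
    intro r hr0 hr
    have hc : (fun i : Fin (minpoly (kL V L) (residue V β)).natDegree => r.coeff i) ≠ 0 := by
      intro h0
      apply hr0
      apply Polynomial.ext
      intro i
      by_cases hi : i < (minpoly (kL V L) (residue V β)).natDegree
      · exact congrFun h0 ⟨i, hi⟩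
      · exact coeff_eq_zero_of_natDegree_lt (lt_of_lt_of_le hr (not_lt.mp hi))
    have h1 := comb hL β hbT _ hc
    rw [← hrep r hr] at h1
    exact h1
  have hvπ : V.valuation π ≠ 0 := by rwa [Ne, map_eq_zero]
  have hmin : g.map (toL V L) = minpoly L (β : Ω) := by
    refine minpoly.unique L (β : Ω) hgLmon hgLroot fun q hq hq0 => ?_
    by_contra hlt
    rw [not_le] at hlt
    have hq1 : q.natDegree < (minpoly (kL V L) (residue V β)).natDegree := by
      rw [← hgLdeg]
      exact natDegree_lt_natDegree hq.ne_zero hlt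
    obtain ⟨⟨m, hm⟩, -⟩ := hsmall q hq.ne_zero hq1
    rw [hq0, map_zero] at hm
    exact zpow_ne_zero m hvπ hm.symm
  have hβint : IsIntegral L (β : Ω) := ⟨_, hgLmon, hgLroot⟩
  have hβsep : IsSeparable L (β : Ω) := by
    unfold IsSeparable
    rw [← hmin, separable_iff_derivative_ne_zero (hmin ▸ minpoly.irreducible hβint)]
    exact hgder
  have hβL : (β : Ω) ∉ L := fun h => hb ⟨β, h, rfl⟩
  haveI : Algebra.IsSeparable K L := isSeparable_of_good hL
  haveI : Algebra.IsSeparable L L⟮(β : Ω)⟯ :=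
    (IntermediateField.isSeparable_adjoin_simple_iff_isSeparable L Ω).mpr hβsep
  have hrepx : ∀ x ∈ (L⟮(β : Ω)⟯).restrictScalars K,
      ∃ r : L[X], r.natDegree < (minpoly (kL V L) (residue V β)).natDegree ∧
        x = aeval (β : Ω) r := by
    intro x hx
    rw [IntermediateField.mem_restrictScalars] at hx
    have hx' : x ∈ (L⟮(β : Ω)⟯).toSubalgebra := hx
    rw [IntermediateField.adjoin_simple_toSubalgebra_of_isAlgebraic hβint.isAlgebraic,
      Algebra.adjoin_singleton_eq_range_aeval] at hx'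
    obtain ⟨p, rfl⟩ := hx'
    have hmod : aeval (β : Ω) p = aeval (β : Ω) (p %ₘ (g.map (toL V L))) := by
      conv_lhs => rw [← modByMonic_add_div p (g.map (toL V L))]
      rw [map_add, map_mul, hgLroot, zero_mul, add_zero]
    have hg1 : g.map (toL V L) ≠ 1 := by
      intro h1
      have h2 := hgLdeg
      rw [h1, natDegree_one] at h2
      omega
    have hr : (p %ₘ (g.map (toL V L))).natDegree <
        (minpoly (kL V L) (residue V β)).natDegree := by
      rw [← hgLdeg]
      exact natDegree_modByMonic_lt p hgLmon hg1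
    exact ⟨_, hr, hmod⟩
  refine ⟨β, rfl, hβL, ?_, ?_, ?_⟩
  · intro x hx
    have hx1 := hx
    rw [IntermediateField.mem_restrictScalars] at hx1
    have hxsepL : IsSeparable L x := IntermediateField.isSeparable_of_mem_isSeparable L Ω hx1
    have hxsep : IsSeparable K x :=
      IsSeparable.of_algebra_isSeparable_of_isSeparable K (E := L) hxsepL
    by_cases hx0 : x = 0
    · subst hx0
      exact good_zero hxsep
    · obtain ⟨r, hr, rfl⟩ := hrepx x hx
      have hr0 : r ≠ 0 := by
        intro h0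
        apply hx0
        rw [h0, map_zero]
      obtain ⟨h1, h2⟩ := hsmall _ hr0 hr
      exact ⟨hxsep, fun _ => h1, h2⟩
  · intro x hx
    obtain ⟨r, hr, rfl⟩ := hrepx x hx
    exact ⟨fun i => r.coeff i, hrep r hr⟩
  · intro c hc h0
    obtain ⟨⟨m, hm⟩, -⟩ := comb hL β hbT c hc
    rw [h0, map_zero] at hm
    exact zpow_ne_zero m hvπ hm.symm

/-- Finitary property: finite sets of integers of `L` lie in finite free `R`-subalgebras of
`q`-power rank consisting of integers of `L`. -/
def FinP (R : Type u) [CommRing R] [Algebra R Ω] (V : ValuationSubring Ω) (q : ℕ)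
    (L : IntermediateField K Ω) : Prop :=
  ∀ s : Finset Ω, (∀ x ∈ s, x ∈ L ∧ x ∈ V) → ∃ S : Subalgebra R Ω, (↑s : Set Ω) ⊆ S ∧
    (∀ x ∈ S, x ∈ L ∧ x ∈ V) ∧ Module.Finite R S ∧ Module.Free R S ∧
    ∃ m : ℕ, Module.finrank R S = q ^ m

theorem step2 [IsAlgClosed Ω] {R : Type u} [CommRing R] [Algebra R Ω] {q : ℕ}
    (hπ : V.valuation π < 1) (hπ0 : π ≠ 0) (hπL : π ∈ L)
    (hL : ∀ x ∈ L, Good (K := K) V π T x) (hFin : FinP (K := K) R V q L)
    (b : ResidueField V) (hbT : b ∈ T)
    (hb : b ∉ kL V L) (hint : IsIntegral (kL V L) b)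
    (hdeg : ∃ j : ℕ, (minpoly (kL V L) b).natDegree = q ^ j) :
    ∃ L' : IntermediateField K Ω, L < L' ∧ (∀ x ∈ L', Good (K := K) V π T x) ∧
      FinP (K := K) R V q L' := by
  classical
  obtain ⟨β, rfl, hβL, hgood, hrep, hne⟩ := step_data hπ hπ0 hπL hL b hbT hb hint
  obtain ⟨j, hj⟩ := hdeg
  have hLL' : L ≤ (L⟮(β : Ω)⟯).restrictScalars K := by
    intro x hx
    rw [IntermediateField.mem_restrictScalars]
    exact (L⟮(β : Ω)⟯).algebraMap_mem ⟨x, hx⟩
  have hβL' : (β : Ω) ∈ (L⟮(β : Ω)⟯).restrictScalars K := by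
    rw [IntermediateField.mem_restrictScalars]
    exact IntermediateField.mem_adjoin_simple_self L (β : Ω)
  refine ⟨(L⟮(β : Ω)⟯).restrictScalars K, ?_, hgood, ?_⟩
  · refine lt_of_le_of_ne hLL' ?_
    intro heq
    apply hβL
    rw [heq]
    exact hβL'
  · intro s hs
    have hrep' : ∀ x : Ω, x ∈ (L⟮(β : Ω)⟯).restrictScalars K → x ∈ V →
        ∃ c : Fin (minpoly (kL V L) (residue V β)).natDegree → L,
          x = ∑ i, (c i : Ω) * (β : Ω) ^ (i : ℕ) ∧ ∀ i, (c i : Ω) ∈ V := by
      intro x hx hxV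
      obtain ⟨c, hc⟩ := hrep x hx
      exact ⟨c, hc, comb_mem β c (hc ▸ hxV)⟩
    choose! c hc using hrep'
    have hβn : (β : Ω) ^ (minpoly (kL V L) (residue V β)).natDegree ∈
        (L⟮(β : Ω)⟯).restrictScalars K ∧
        (β : Ω) ^ (minpoly (kL V L) (residue V β)).natDegree ∈ V :=
      ⟨pow_mem hβL' _, pow_mem β.2 _⟩
    have hs' : ∀ x ∈ insert ((β : Ω) ^ (minpoly (kL V L) (residue V β)).natDegree) s,
        x ∈ (L⟮(β : Ω)⟯).restrictScalars K ∧ x ∈ V := by
      intro x hx
      rcases Finset.mem_insert.mp hx with rfl | hx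
      · exact hβn
      · exact hs x hx
    let s₀ : Finset Ω := (insert ((β : Ω) ^ (minpoly (kL V L) (residue V β)).natDegree) s).biUnion
      fun x => Finset.univ.image fun i => ((c x i : L) : Ω)
    have hs₀mem : ∀ x ∈ insert ((β : Ω) ^ (minpoly (kL V L) (residue V β)).natDegree) s,
        ∀ i, ((c x i : L) : Ω) ∈ s₀ := by
      intro x hx i
      exact Finset.mem_biUnion.mpr ⟨x, hx, Finset.mem_image.mpr ⟨i, Finset.mem_univ _, rfl⟩⟩
    have hs₀ : ∀ z ∈ s₀, z ∈ L ∧ z ∈ V := by
      intro z hz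
      obtain ⟨x, hx, hz⟩ := Finset.mem_biUnion.mp hz
      obtain ⟨i, -, rfl⟩ := Finset.mem_image.mp hz
      exact ⟨(c x i).2, (hc x (hs' x hx).1 (hs' x hx).2).2 i⟩
    obtain ⟨S₀, hsS₀, hS₀LV, hfin, hfree, m, hrank⟩ := hFin s₀ hs₀
    haveI := hfin
    haveI := hfree
    have hβmem := Finset.mem_insert_self ((β : Ω) ^ (minpoly (kL V L) (residue V β)).natDegree) s
    obtain ⟨S, hSfin, hSfree, hSrank, hSmem⟩ := tower_free S₀ (β : Ω)
      (minpoly (kL V L) (residue V β)).natDegree
      (fun i => ⟨(c ((β : Ω) ^ (minpoly (kL V L) (residue V β)).natDegree) i : Ω),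
        hsS₀ (hs₀mem _ hβmem i)⟩)
      (hc _ hβn.1 hβn.2).1
      (by
        intro c' hc'
        by_contra hne0
        refine hne (fun i => ⟨(c' i : Ω), (hS₀LV _ (c' i).2).1⟩) ?_ hc'
        intro h0
        apply hne0
        funext i
        have h1 : ((⟨(c' i : Ω), (hS₀LV _ (c' i).2).1⟩ : L) : Ω) = ((0 : L) : Ω) :=
          congrArg Subtype.val (congrFun h0 i)
        exact Subtype.ext h1)
    refine ⟨S, ?_, ?_, hSfin, hSfree, m + j, by rw [hSrank, hrank, hj, pow_add]⟩
    · intro x hx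
      have hx' : x ∈ insert ((β : Ω) ^ (minpoly (kL V L) (residue V β)).natDegree) s :=
        Finset.mem_insert_of_mem hx
      exact (hSmem x).mpr ⟨fun i => ⟨(c x i : Ω), hsS₀ (hs₀mem x hx' i)⟩,
        (hc x (hs x hx).1 (hs x hx).2).1⟩
    · intro x hx
      obtain ⟨c', rfl⟩ := (hSmem x).mp hx
      constructor
      · exact sum_mem fun i _ => mul_mem (hLL' (hS₀LV _ (c' i).2).1) (pow_mem hβL' _)
      · exact sum_mem fun i _ => mul_mem (hS₀LV _ (c' i).2).2 (pow_mem β.2 _)

end Step2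

section Zorn2

variable {K Ω : Type u} [Field K] [Field Ω] [Algebra K Ω] [IsAlgClosed Ω] {V : ValuationSubring Ω}
  {π : Ω} {T : Subring (ResidueField V)} {R : Type u} [CommRing R] [Algebra R Ω] {q : ℕ}

theorem exists_field2 (hπ : V.valuation π < 1) (hπ0 : π ≠ 0)
    (hπK : π ∈ (⊥ : IntermediateField K Ω))
    (hbot : ∀ x ∈ (⊥ : IntermediateField K Ω), Good (K := K) V π T x)
    (hbotFin : FinP (K := K) R V q (⊥ : IntermediateField K Ω))
    (hT : ∀ b ∈ T, IsIntegral (kL V (⊥ : IntermediateField K Ω)) b)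
    (hdeg : ∀ L : IntermediateField K Ω, ∀ b ∈ T,
      ∃ j : ℕ, (minpoly (kL V L) b).natDegree = q ^ j) :
    ∃ L : IntermediateField K Ω, (∀ x ∈ L, Good (K := K) V π T x) ∧ FinP (K := K) R V q L ∧
      ∀ b ∈ T, b ∈ kL V L := by
  classical
  have hz : ∃ L, Maximal (· ∈ {L : IntermediateField K Ω |
      (∀ x ∈ L, Good (K := K) V π T x) ∧ FinP (K := K) R V q L}) L := by
    apply zorn_le₀
    intro c hcS hchain
    by_cases hne : c.Nonempty
    · haveI : Nonempty c := hne.to_subtype
      have hdir : Directed (· ≤ ·) (fun i : c => (i : IntermediateField K Ω)) :=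
        hchain.directedOn.directed_val
      have hmem : ∀ x : Ω, x ∈ sSup c → ∃ i : c, x ∈ (i : IntermediateField K Ω) := by
        intro x hx
        have hx' : x ∈ ((⨆ i : c, (i : IntermediateField K Ω) : IntermediateField K Ω) :
            Set Ω) := by
          rw [← sSup_eq_iSup']
          exact hx
        rw [IntermediateField.coe_iSup_of_directed hdir, Set.mem_iUnion] at hx'
        exact hx'
      refine ⟨sSup c, ⟨?_, ?_⟩, fun z hz => le_sSup hz⟩
      · intro x hx
        obtain ⟨i, hi⟩ := hmem x hx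
        exact (hcS i.2).1 x hi
      · intro s hs
        choose! idx hidx using hmem
        obtain ⟨z, hz⟩ := hdir.finset_le (s.image idx)
        have hsz : ∀ x ∈ s, x ∈ (z : IntermediateField K Ω) ∧ x ∈ V := by
          intro x hx
          exact ⟨hz (idx x) (Finset.mem_image_of_mem idx hx) (hidx x (hs x hx).1), (hs x hx).2⟩
        obtain ⟨S, h1, h2, h3⟩ := (hcS z.2).2 s hsz
        exact ⟨S, h1, fun x hx => ⟨le_sSup z.2 (h2 x hx).1, (h2 x hx).2⟩, h3⟩
    · rw [Set.not_nonempty_iff_eq_empty] at hne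
      subst hne
      exact ⟨⊥, ⟨hbot, hbotFin⟩, fun z hz => absurd hz (Set.notMem_empty z)⟩
  obtain ⟨L, hLmax⟩ := hz
  refine ⟨L, hLmax.prop.1, hLmax.prop.2, fun b hb => ?_⟩
  by_contra hbL
  have hint : IsIntegral (kL V L) b :=
    IsIntegral.map_of_comp_eq (Subfield.inclusion (kL_mono (V := V) (bot_le : ⊥ ≤ L)))
      (RingHom.id _) rfl (hT b hb)
  obtain ⟨L', hlt, hL', hFin'⟩ := step2 hπ hπ0 ((bot_le : ⊥ ≤ L) hπK) hLmax.prop.1 hLmax.prop.2
    b hb hbL hint (hdeg L b hb)
  exact hlt.not_ge (hLmax.le_of_ge ⟨hL', hFin'⟩ hlt.le)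

end Zorn2

section Aux

theorem natDegree_minpoly_eq_pow {F E : Type*} [Field F] [Field E] [Algebra F E] (q : ℕ)
    [ExpChar F q] (x : E) (h : ∃ n : ℕ, x ^ q ^ n ∈ (algebraMap F E).range) :
    ∃ j : ℕ, (minpoly F x).natDegree = q ^ j := by
  obtain ⟨n, y, hxy⟩ := (minpoly.natSepDegree_eq_one_iff_eq_X_pow_sub_C q).mp
    ((minpoly.natSepDegree_eq_one_iff_pow_mem q).mpr h)
  exact ⟨n, by rw [hxy, natDegree_X_pow_sub_C]⟩

/-- A domain which is a directed union of finite subalgebras over a henselian local ring is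
henselian (given that it is local). -/
theorem henselian_of_directed (R : Type u) [CommRing R] [HenselianLocalRing R]
    (R' : Type u) [CommRing R'] [IsDomain R'] [IsLocalRing R'] [Algebra R R']
    (hfin : ∀ s : Finset R', ∃ S : Subalgebra R R', (↑s : Set R') ⊆ ↑S ∧ Module.Finite R S) :
    HenselianLocalRing R' := by
  classical
  have hint : Algebra.IsIntegral R R' := by
    refine ⟨fun x => ?_⟩
    obtain ⟨S, hxS, hS⟩ := hfin {x}
    haveI := hS
    have h1 : IsIntegral R (⟨x, hxS (by simp)⟩ : S) := Algebra.IsIntegral.isIntegral _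
    exact h1.map S.val
  refine ⟨fun f hf a₀ h₁ h₂ => ?_⟩
  obtain ⟨S, hsS, hS⟩ := hfin (insert a₀ f.coeffs)
  haveI := hS
  haveI : Algebra.IsIntegral R S := Algebra.IsIntegral.of_finite R S
  haveI : IsLocalRing S := Groth.Agent.S13417.isLocalRing_of_integral_domain R S
  haveI : HenselianLocalRing S := Groth.Agent.S13404.henselian_of_finite_univ R S
  haveI : Algebra.IsIntegral S R' := Algebra.IsIntegral.tower_top R
  -- the maximal ideal of `S` lies in the maximal ideal of `R'`
  have hmax : ∀ x : S, x ∈ maximalIdeal S → (x : R') ∈ maximalIdeal R' := by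
    intro x hx
    obtain ⟨Q, hQmax, hQ⟩ := Ideal.exists_ideal_over_maximal_of_isIntegral (S := R')
      (maximalIdeal S) (by
        intro y hy
        have h0 : (y : R') = 0 := hy
        have : y = 0 := Subtype.ext h0
        rw [this]
        exact Ideal.zero_mem _)
    have h3 : (x : R') ∈ Q := by
      have : x ∈ Q.comap (algebraMap S R') := hQ ▸ hx
      exact this
    rw [IsLocalRing.eq_maximalIdeal hQmax] at h3
    exact h3
  have hunit : ∀ x : S, IsUnit (x : R') → IsUnit x := by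
    intro x hx
    by_contra hnu
    have h3 := hmax x ((mem_maximalIdeal x).mpr hnu)
    exact ((mem_maximalIdeal _).mp h3) hx
  have hlift : f ∈ lifts (S.val : S →+* R') := by
    rw [lifts_iff_coeff_lifts]
    intro n
    by_cases hn : f.coeff n = 0
    · exact ⟨0, by rw [hn]; rfl⟩
    · exact ⟨⟨f.coeff n, hsS (Finset.mem_insert_of_mem (coeff_mem_coeffs hn))⟩, rfl⟩
  obtain ⟨f', hf'map, hf'deg, hf'mon⟩ := lifts_and_degree_eq_and_monic hlift hf
  let a₀' : S := ⟨a₀, hsS (Finset.mem_insert_self _ _)⟩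
  have heval : ∀ (g : S[X]) (x : S), ((g.eval x : S) : R') = (g.map (S.val : S →+* R')).eval (x : R') := by
    intro g x
    rw [eval_map]
    have h6 := hom_eval₂ g (RingHom.id S) (S.val : S →+* R') x
    rw [RingHom.comp_id] at h6
    exact h6
  have h₁' : f'.eval a₀' ∈ maximalIdeal S := by
    rw [mem_maximalIdeal, mem_nonunits_iff]
    intro hu
    have h4 : IsUnit ((f'.eval a₀' : S) : R') := hu.map (S.val : S →+* R')
    rw [heval, hf'map] at h4
    exact ((mem_maximalIdeal _).mp h₁) h4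
  have h₂' : IsUnit (f'.derivative.eval a₀') := by
    apply hunit
    rw [heval, ← derivative_map, hf'map]
    exact h₂
  obtain ⟨a', ha'root, ha'⟩ := HenselianLocalRing.is_henselian f' hf'mon a₀' h₁' h₂'
  refine ⟨(a' : R'), ?_, ?_⟩
  · have h5 : ((f'.eval a' : S) : R') = 0 := by rw [ha'root]; rfl
    rw [heval, hf'map] at h5
    exact h5
  · exact hmax (a' - a₀') ha'

end Aux

section Main2

variable (R : Type u) [CommRing R] [IsDomain R] [IsDiscreteValuationRing R]

local notation "KK" => FractionRing R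
local notation "ΩΩ" => AlgebraicClosure (FractionRing R)

theorem main2 [HenselianLocalRing R] :
    ∃ (R' : Type u) (_ : CommRing R') (_ : IsDomain R') (_ : IsDiscreteValuationRing R')
      (_ : HenselianLocalRing R') (_ : Algebra R R'),
      Function.Injective (algebraMap R R') ∧
      Ideal.map (algebraMap R R') (maximalIdeal R) = maximalIdeal R' ∧
      (∀ s : Finset R', ∃ S : Subalgebra R R', (↑s : Set R') ⊆ ↑S ∧ Module.Finite R S ∧
        Module.Free R S ∧
        ∃ m : ℕ, Module.finrank R S = ringExpChar (ResidueField R) ^ m) ∧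
      (∀ y : R', ∃ z : R', z ^ ringExpChar (ResidueField R) - y ∈ maximalIdeal R') ∧
      (∀ y : R', ∃ (m : ℕ) (z : R),
        algebraMap R R' z - y ^ (ringExpChar (ResidueField R) ^ m) ∈ maximalIdeal R') := by
  classical
  obtain ⟨V, hV, hloc⟩ := IsLocalRing.exists_factor_valuationRing (algebraMap R ΩΩ)
  obtain ⟨ϖ, hϖ⟩ := IsDiscreteValuationRing.exists_irreducible R
  let φV : R →+* V := (algebraMap R ΩΩ).codRestrict V.toSubring hV
  haveI : IsLocalHom φV := hloc
  have hπ0 : algebraMap R ΩΩ ϖ ≠ 0 :=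
    (map_ne_zero_iff _ (algebraMap_injective' R)).mpr hϖ.ne_zero
  have hπ : V.valuation (algebraMap R ΩΩ ϖ) < 1 := pi_lt_one V hV hloc ϖ hϖ
  letI : Algebra (ResidueField R) (ResidueField V) := (ResidueField.map φV).toAlgebra
  haveI : IsAlgClosed (ResidueField V) := isAlgClosed_residueField V
  let q : ℕ := ringExpChar (ResidueField R)
  haveI : ExpChar (ResidueField R) q := ringExpChar.expChar _
  haveI : ExpChar (ResidueField V) q :=
    expChar_of_injective_algebraMap (algebraMap (ResidueField R) (ResidueField V)).injective q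
  have hq0 : 0 < q := expChar_pos (ResidueField R) q
  let T : Subring (ResidueField V) := (perfectClosure (ResidueField R) (ResidueField V)).toSubring
  have hTmem : ∀ b : ResidueField V, b ∈ T ↔
      ∃ n : ℕ, b ^ q ^ n ∈ (algebraMap (ResidueField R) (ResidueField V)).range := fun b =>
    mem_perfectClosure_iff
  have hbotmem : ∀ a : R, algebraMap R ΩΩ a ∈ (⊥ : IntermediateField KK ΩΩ) := by
    intro a
    rw [IsScalarTower.algebraMap_apply R KK ΩΩ]
    exact IntermediateField.algebraMap_mem _ _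
  have hπK : algebraMap R ΩΩ ϖ ∈ (⊥ : IntermediateField KK ΩΩ) := hbotmem ϖ
  have hresK : ∀ a : R, residue V (φV a) ∈ T := fun a =>
    (perfectClosure (ResidueField R) (ResidueField V)).algebraMap_mem (residue R a)
  have hbotV : ∀ x ∈ (⊥ : IntermediateField KK ΩΩ), x ∈ V → ∃ a : R, algebraMap R ΩΩ a = x := by
    intro x hx hxV
    obtain ⟨y, rfl⟩ := IntermediateField.mem_bot.mp hx
    by_cases hy : y = 0
    · exact ⟨0, by rw [hy, map_zero, map_zero]⟩
    · obtain ⟨a, rfl⟩ := (bot_facts V hV hloc ϖ hϖ y hy).2 hxV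
      exact ⟨a, IsScalarTower.algebraMap_apply R KK ΩΩ a⟩
  have hbot : ∀ x ∈ (⊥ : IntermediateField KK ΩΩ),
      Good (K := KK) V (algebraMap R ΩΩ ϖ) T x := by
    intro x hx
    obtain ⟨y, rfl⟩ := IntermediateField.mem_bot.mp hx
    by_cases hy : y = 0
    · subst hy
      rw [map_zero]
      refine good_zero ?_
      rw [← map_zero (algebraMap KK ΩΩ)]
      exact isSeparable_algebraMap _
    · obtain ⟨h1, h2⟩ := bot_facts V hV hloc ϖ hϖ y hy
      refine ⟨isSeparable_algebraMap y, fun _ => h1, fun hx => ?_⟩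
      obtain ⟨a, rfl⟩ := h2 hx
      have h3 : (⟨algebraMap KK ΩΩ (algebraMap R KK a), hx⟩ : V) = φV a :=
        Subtype.ext (IsScalarTower.algebraMap_apply R KK ΩΩ a).symm
      rw [h3]
      exact hresK a
  have hbotFin : FinP (K := KK) R V q (⊥ : IntermediateField KK ΩΩ) := by
    intro s hs
    refine ⟨⊥, ?_, ?_, inferInstance, ?_, 0, ?_⟩
    · intro x hx
      obtain ⟨a, rfl⟩ := hbotV x (hs x hx).1 (hs x hx).2
      exact Subalgebra.algebraMap_mem _ a
    · intro x hx
      obtain ⟨a, rfl⟩ := Algebra.mem_bot.mp hx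
      exact ⟨hbotmem a, hV a⟩
    · exact Module.Free.of_equiv
        (Algebra.botEquivOfInjective (algebraMap_injective' R)).symm.toLinearEquiv
    · rw [pow_zero, LinearEquiv.finrank_eq
        (Algebra.botEquivOfInjective (algebraMap_injective' R)).toLinearEquiv]
      exact Module.finrank_self R
  have hmemk : ∀ (L : IntermediateField KK ΩΩ) (z : ResidueField R),
      ResidueField.map φV z ∈ kL V L := by
    intro L z
    obtain ⟨a, rfl⟩ := residue_surjective z
    exact ⟨φV a, (bot_le : ⊥ ≤ L) (hbotmem a), rfl⟩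
  have hpowk : ∀ (L : IntermediateField KK ΩΩ), ∀ b ∈ T,
      ∃ n : ℕ, b ^ q ^ n ∈ (algebraMap (kL V L) (ResidueField V)).range := by
    intro L b hb
    obtain ⟨n, z, hz⟩ := (hTmem b).mp hb
    exact ⟨n, ⟨⟨_, hmemk L z⟩, hz⟩⟩
  have hT : ∀ b ∈ T, IsIntegral (kL V (⊥ : IntermediateField KK ΩΩ)) b := by
    intro b hb
    obtain ⟨n, z, hz⟩ := hpowk ⊥ b hb
    refine ⟨X ^ q ^ n - C z, monic_X_pow_sub_C z (pow_pos hq0 n).ne', ?_⟩
    rw [eval₂_sub, eval₂_pow, eval₂_X, eval₂_C, hz, sub_self]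
  have hdeg : ∀ L : IntermediateField KK ΩΩ, ∀ b ∈ T,
      ∃ j : ℕ, (minpoly (kL V L) b).natDegree = q ^ j := by
    intro L b hb
    haveI : ExpChar (kL V L) q :=
      expChar_of_injective_ringHom
        (f := (ResidueField.map φV).codRestrict (kL V L) (hmemk L))
        (fun x y hxy => (ResidueField.map φV).injective (congrArg Subtype.val hxy)) q
    exact natDegree_minpoly_eq_pow q b (hpowk L b hb)
  obtain ⟨L, hL, hFin, hLT⟩ := exists_field2 hπ hπ0 hπK hbot hbotFin hT hdeg
  have hπL : algebraMap R ΩΩ ϖ ∈ L := (bot_le : ⊥ ≤ L) hπK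
  obtain ⟨hDVR, hmax⟩ := isDVR hπ hπ0 hπL (fun x hx => (hL x hx).2.1)
  have hKL : ∀ a : R, φV a ∈ OL V L := fun a => (bot_le : ⊥ ≤ L) (hbotmem a)
  let φ : R →+* OL V L := φV.codRestrict (OL V L) hKL
  letI : Algebra R (OL V L) := φ.toAlgebra
  -- membership in the maximal ideal
  have hmaxmem : ∀ x : OL V L, x ∈ maximalIdeal (OL V L) ↔ residue V (x : V) = 0 := by
    intro x
    rw [mem_maximalIdeal, mem_nonunits_iff, DVRResExt.isUnit_iff, residue_eq_zero_iff,
      V.valuation_lt_one_iff]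
    exact ⟨fun h => lt_of_le_of_ne ((V.valuation_le_one_iff _).mpr (x : V).2) h, fun h => h.ne⟩
  -- finite free subalgebras
  let ιΩ : OL V L →ₐ[R] ΩΩ :=
    { toRingHom := V.subtype.comp (OL V L).subtype
      commutes' := fun r => rfl }
  have hιinj : Function.Injective ιΩ := fun a b h => Subtype.ext (Subtype.ext h)
  have hsub : ∀ s : Finset (OL V L), ∃ S : Subalgebra R (OL V L), (↑s : Set (OL V L)) ⊆ ↑S ∧
      Module.Finite R S ∧ Module.Free R S ∧ ∃ m : ℕ, Module.finrank R S = q ^ m := by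
    intro s
    obtain ⟨S, hsS, hSLV, hSfin, hSfree, m, hm⟩ := hFin (s.image ιΩ) (by
      intro x hx
      obtain ⟨y, -, rfl⟩ := Finset.mem_image.mp hx
      exact ⟨y.2, (y : V).2⟩)
    let f : S.comap ιΩ →ₐ[R] S := (ιΩ.comp (S.comap ιΩ).val).codRestrict S (fun x => x.2)
    have hf : Function.Bijective f := by
      constructor
      · intro a b h
        have h1 : ιΩ (a : OL V L) = ιΩ (b : OL V L) := congrArg (fun z : S => (z : ΩΩ)) h
        exact Subtype.ext (hιinj h1)
      · rintro ⟨y, hy⟩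
        obtain ⟨hyL, hyV⟩ := hSLV y hy
        exact ⟨⟨⟨⟨y, hyV⟩, hyL⟩, hy⟩, rfl⟩
    let e : S.comap ιΩ ≃ₐ[R] S := AlgEquiv.ofBijective f hf
    haveI := hSfin
    haveI := hSfree
    refine ⟨S.comap ιΩ, ?_, Module.Finite.equiv e.symm.toLinearEquiv,
      Module.Free.of_equiv e.symm.toLinearEquiv, m, ?_⟩
    · intro x hx
      exact hsS (Finset.mem_image_of_mem ιΩ hx)
    · rw [LinearEquiv.finrank_eq e.toLinearEquiv, hm]
  haveI : HenselianLocalRing (OL V L) :=
    henselian_of_directed R (OL V L) (fun s => by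
      obtain ⟨S, h1, h2, -⟩ := hsub s
      exact ⟨S, h1, h2⟩)
  refine ⟨OL V L, inferInstance, inferInstance, hDVR, inferInstance, inferInstance, ?_, ?_, hsub,
    ?_, ?_⟩
  · intro a a' h
    exact algebraMap_injective' R (congrArg (fun z : OL V L => ((z : V) : ΩΩ)) h)
  · rw [hϖ.maximalIdeal_eq, Ideal.map_span, Set.image_singleton, hmax]
    rfl
  · intro y
    have hyT : residue V (y : V) ∈ T := (hL _ y.2).2.2 (y : V).2
    obtain ⟨c, hc⟩ := IsAlgClosed.exists_pow_nat_eq (residue V (y : V)) hq0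
    have hcT : c ∈ T := by
      obtain ⟨n, hn⟩ := (hTmem _).mp hyT
      refine (hTmem c).mpr ⟨n + 1, ?_⟩
      rw [pow_succ', pow_mul, hc]
      exact hn
    obtain ⟨z, hzL, rfl⟩ := hLT c hcT
    refine ⟨⟨z, hzL⟩, ?_⟩
    rw [hmaxmem]
    show residue V (z ^ q - (y : V)) = 0
    rw [map_sub, map_pow, hc, sub_self]
  · intro y
    have hyT : residue V (y : V) ∈ T := (hL _ y.2).2.2 (y : V).2
    obtain ⟨m, z, hz⟩ := (hTmem _).mp hyT
    obtain ⟨a, rfl⟩ := residue_surjective z
    refine ⟨m, a, ?_⟩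
    rw [hmaxmem]
    show residue V (φV a - (y : V) ^ q ^ m) = 0
    rw [map_sub, map_pow, ← hz, sub_eq_zero]
    rfl

end Main2

end Groth.Agent.H10.DVRPerfExt
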