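import Mathlib

/-!
# Ring-level lemmas for shrinking a complete dévissage (helper10, for helper20's S12246/S12247)
-/

set_option autoImplicit false
set_option linter.style.haveILetI false
set_option linter.unusedVariables false
universe u

namespace Groth.Agent.H10.DevX

open TensorProduct CategoryTheory AlgebraicGeometry

theorem exists_prime_tensor_liesOver (R S T : Type u) [CommRing R] [CommRing S] [CommRing T]
    [Algebra R S] [Algebra R T] (P : Ideal S) [P.IsPrime] (Q : Ideal T) [Q.IsPrime]
    (h : P.comap (algebraMap R S) = Q.comap (algebraMap R T)) :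
    ∃ J : Ideal (S ⊗[R] T), J.IsPrime ∧
      J.comap (Algebra.TensorProduct.includeLeft : S →ₐ[R] S ⊗[R] T).toRingHom = P ∧
      J.comap (Algebra.TensorProduct.includeRight : T →ₐ[R] S ⊗[R] T).toRingHom = Q := by
  let x : Spec (CommRingCat.of S) := ⟨P, inferInstance⟩
  let y : Spec (CommRingCat.of T) := ⟨Q, inferInstance⟩
  have hxy : (Spec.map (CommRingCat.ofHom (algebraMap R S))) x =
      (Spec.map (CommRingCat.ofHom (algebraMap R T))) y := by
    apply PrimeSpectrum.ext
    exact h
  obtain ⟨z, hz1, hz2⟩ := Scheme.Pullback.exists_preimage_pullback x y hxy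
  let w : Spec (CommRingCat.of (S ⊗[R] T)) := (pullbackSpecIso R S T).hom z
  refine ⟨w.asIdeal, w.isPrime, ?_, ?_⟩
  · have h1 : (Spec.map (CommRingCat.ofHom
        (Algebra.TensorProduct.includeLeft : S →ₐ[R] S ⊗[R] T).toRingHom)) w = x := by
      rw [← hz1]
      show ((pullbackSpecIso R S T).hom ≫ Spec.map _) z = _
      erw [pullbackSpecIso_hom_fst]
    exact congrArg PrimeSpectrum.asIdeal h1
  · have h1 : (Spec.map (CommRingCat.ofHom
        (Algebra.TensorProduct.includeRight : T →ₐ[R] S ⊗[R] T).toRingHom)) w = y := by
      rw [← hz2]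
      show ((pullbackSpecIso R S T).hom ≫ Spec.map _) z = _
      erw [pullbackSpecIso_hom_snd]
    exact congrArg PrimeSpectrum.asIdeal h1

theorem comap_map_away (B B' A A' : Type u) [CommRing B] [CommRing B'] [CommRing A]
    [CommRing A'] [Algebra B B'] [Algebra B A] [Algebra A A'] [Algebra B' A'] [Algebra B A']
    [IsScalarTower B B' A'] [IsScalarTower B A A'] (b : B) (a : A)
    [IsLocalization.Away b B'] [IsLocalization.Away a A']
    (P : Ideal B) [P.IsPrime] (Q : Ideal A) [Q.IsPrime] (hb : b ∉ P) (ha : a ∉ Q)
    (h : Q.comap (algebraMap B A) = P) :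
    (Q.map (algebraMap A A')).comap (algebraMap B' A') = P.map (algebraMap B B') := by
  have hdisj : Disjoint (Submonoid.powers a : Set A) (Q : Set A) := by
    rw [Set.disjoint_left]
    rintro _ ⟨n, rfl⟩ hmem
    exact ha (Ideal.IsPrime.mem_of_pow_mem inferInstance n hmem)
  have h1 : ((Q.map (algebraMap A A')).comap (algebraMap B' A')).comap (algebraMap B B') = P := by
    have key : (Q.map (algebraMap A A')).comap (algebraMap A A') = Q :=
      IsLocalization.under_map_of_isPrime_disjoint (Submonoid.powers a) A' inferInstance hdisj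
    rw [Ideal.comap_comap, ← IsScalarTower.algebraMap_eq, IsScalarTower.algebraMap_eq B A A',
      ← Ideal.comap_comap, key, h]
  rw [← h1]
  exact (IsLocalization.map_under (Submonoid.powers b) B' _).symm

theorem uniq_map_away (B B' A A' : Type u) [CommRing B] [CommRing B'] [CommRing A]
    [CommRing A'] [Algebra B B'] [Algebra B A] [Algebra A A'] [Algebra B' A'] [Algebra B A']
    [IsScalarTower B B' A'] [IsScalarTower B A A'] (b : B) (a : A)
    [IsLocalization.Away b B'] [IsLocalization.Away a A']
    (P : Ideal B) [P.IsPrime] (Q : Ideal A) [Q.IsPrime] (hb : b ∉ P) (ha : a ∉ Q)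
    (huniq : ∀ (Q₁ : Ideal A) [Q₁.IsPrime], Q₁.LiesOver P → Q₁ = Q)
    (Q' : Ideal A') [Q'.IsPrime] (hQ' : Q'.LiesOver (P.map (algebraMap B B'))) :
    Q' = Q.map (algebraMap A A') := by
  have hdisj : Disjoint (Submonoid.powers b : Set B) (P : Set B) := by
    rw [Set.disjoint_left]
    rintro _ ⟨n, rfl⟩ hmem
    exact hb (Ideal.IsPrime.mem_of_pow_mem inferInstance n hmem)
  have : (Q'.comap (algebraMap A A')).IsPrime := Ideal.comap_isPrime _ _
  have h1 : (Q'.comap (algebraMap A A')).LiesOver P := by
    constructor
    show P = (Q'.comap (algebraMap A A')).comap (algebraMap B A)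
    have h2 : P.map (algebraMap B B') = Q'.comap (algebraMap B' A') := hQ'.over
    have key : (P.map (algebraMap B B')).comap (algebraMap B B') = P :=
      IsLocalization.under_map_of_isPrime_disjoint (Submonoid.powers b) B' inferInstance hdisj
    rw [Ideal.comap_comap, ← IsScalarTower.algebraMap_eq, IsScalarTower.algebraMap_eq B B' A',
      ← Ideal.comap_comap, ← h2, key]
  have h3 := huniq _ h1
  rw [← h3]
  exact (IsLocalization.map_under (Submonoid.powers a) A' _).symm

theorem smooth_away (R B : Type u) [CommRing R] [CommRing B] [Algebra R B] [Algebra.Smooth R B]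
    (g : R) (b : B) [Algebra (Localization.Away g) (Localization.Away b)]
    [IsScalarTower R (Localization.Away g) (Localization.Away b)] :
    Algebra.Smooth (Localization.Away g) (Localization.Away b) := by
  haveI : Algebra.Smooth B (Localization.Away b) := Algebra.Smooth.of_isLocalization_Away b
  haveI : Algebra.Smooth R (Localization.Away b) := Algebra.Smooth.comp R B _
  haveI : Algebra.FormallySmooth R (Localization.Away b) := Algebra.Smooth.formallySmooth
  haveI : Algebra.FinitePresentation R (Localization.Away b) := Algebra.Smooth.finitePresentation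
  haveI : Algebra.FormallySmooth (Localization.Away g) (Localization.Away b) :=
    Algebra.FormallySmooth.localization_base (Submonoid.powers g)
  haveI : Algebra.FinitePresentation (Localization.Away g) (Localization.Away b) :=
    Algebra.FinitePresentation.of_restrict_scalars_finitePresentation R _ _
  exact ⟨inferInstance, inferInstance⟩

end Groth.Agent.H10.DevX
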