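import Mathlib
import Groth.Prelude.Def_PBC
import Groth.Prelude.Def_ProEtS
import Groth.Agent.H23.EpsDefs
import Groth.Agent.H23.WCDefs
import Groth.Agent.H23.EpsIndDefs

/-!
# helper10 squad pieces (LB)+(LB') for helper23 (S0717)
-/

set_option autoImplicit false
set_option backward.isDefEq.respectTransparency.types false
universe u
open CategoryTheory CategoryTheory.Limits AlgebraicGeometry Opposite
open Groth.Agent.H23.EpsDefs Groth.Agent.H23.WCDefs Groth.Agent.H23.EpsIndDefs

namespace Groth.Agent.H10.Eps_LB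

variable (X : Scheme.{u})

/-- the structure maps of the stages, as a natural transformation to the constant diagram. -/
noncomputable def tNat {U : X.Etale} (D : IndData X U) :
    (D.St ⋙ Scheme.Etale.forget X ⋙ Over.forget X) ⟶ (Functor.const D.J).obj X where
  app j := (D.St.obj j).hom
  naturality i j f := by
    dsimp only [Functor.const_obj_obj, Functor.const_obj_map, Functor.comp_obj, Functor.comp_map]
    rw [Category.comp_id]
    exact MorphismProperty.Over.w (D.St.map f)

theorem l1_of_indData {U : X.Etale} (D : IndData X U) (V : X.Etale)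
    (φ : D.W ⟶ (ProEtS.eps X).obj V) :
    ∃ (j : D.J) (c : D.St.obj j ⟶ V), D.π j ≫ (ProEtS.eps X).map c = φ := by
  haveI : ∀ j, IsAffine ((D.St ⋙ Scheme.Etale.forget X ⋙ Over.forget X).obj j) := D.affSt
  haveI : ∀ {i j : D.J} (f : i ⟶ j),
      IsAffineHom ((D.St ⋙ Scheme.Etale.forget X ⋙ Over.forget X).map f) := fun f => by
    haveI := D.affSt
    infer_instance
  haveI : LocallyOfFinitePresentation V.hom := inferInstance
  have ha : D.toIndPre.cone.π ≫ tNat X D = (Functor.const _).map (φ.left ≫ V.hom) := by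
    ext j
    dsimp only [NatTrans.comp_app, Functor.const_map_app]
    change (D.π j).left ≫ (D.St.obj j).hom = φ.left ≫ V.hom
    have h1 := MorphismProperty.Over.w (D.π j)
    have h2 := MorphismProperty.Over.w φ
    exact h1.trans h2.symm
  obtain ⟨i, g, hg1, hg2⟩ := Scheme.exists_π_app_comp_eq_of_locallyOfFinitePresentation
    (D.St ⋙ Scheme.Etale.forget X ⋙ Over.forget X) (tNat X D) V.hom D.toIndPre.cone D.isLimit
    φ.left ha
  refine ⟨i, MorphismProperty.Over.homMk g hg2 trivial, ?_⟩
  apply MorphismProperty.Over.Hom.ext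
  exact hg1

theorem l1'_of_indData {U : X.Etale} (D : IndData X U) (V : X.Etale) (j : D.J)
    (c c' : D.St.obj j ⟶ V)
    (h : D.π j ≫ (ProEtS.eps X).map c = D.π j ≫ (ProEtS.eps X).map c') :
    ∃ (i : D.J) (f : i ⟶ j), D.St.map f ≫ c = D.St.map f ≫ c' := by
  haveI : ∀ j, IsAffine ((D.St ⋙ Scheme.Etale.forget X ⋙ Over.forget X).obj j) := D.affSt
  haveI : ∀ {i j : D.J} (f : i ⟶ j),
      IsAffineHom ((D.St ⋙ Scheme.Etale.forget X ⋙ Over.forget X).map f) := fun f => by
    haveI := D.affSt
    infer_instance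
  haveI : LocallyOfFiniteType V.hom := inferInstance
  have hab : D.toIndPre.cone.π.app j ≫ c.left = D.toIndPre.cone.π.app j ≫ c'.left :=
    congrArg (fun t => t.left) h
  obtain ⟨k, hik, hk⟩ := Scheme.exists_hom_comp_eq_comp_of_locallyOfFiniteType
    (D.St ⋙ Scheme.Etale.forget X ⋙ Over.forget X) (tNat X D) V.hom D.toIndPre.cone D.isLimit
    (i := j) c.left c'.left (MorphismProperty.Over.w c).symm (MorphismProperty.Over.w c').symm hab
  refine ⟨k, hik, ?_⟩
  apply MorphismProperty.Over.Hom.ext
  exact hk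

end Groth.Agent.H10.Eps_LB
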