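import Mathlib
import Groth.Prelude.Def_PBC
import Groth.Prelude.Def_ProEtS
import Groth.Agent.H23.EpsDefs
import Groth.Agent.H23.WCDefs
import Groth.Agent.H23.EpsIndDefs

/-!
# helper10 squad piece (LC) for helper23 (S0717)

NOTE: an extra hypothesis `hU : IsAffine U.left` is needed (the statement is false for
non-quasi-separated `U`: the fibre products `St i ×_U St i` need not be quasi-compact).
-/

set_option autoImplicit false
universe u v w

namespace Groth.Agent.H10.Eps_LC

open CategoryTheory CategoryTheory.Limits

section Abstract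

variable {C : Type u} [Category.{v} C] [HasPullbacks C] {J : Type w} [Category.{w} J]
  (F : J ⥤ C) (S : C) (b : ∀ j, F.obj j ⟶ S)
  (hb : ∀ {i j : J} (f : i ⟶ j), F.map f ≫ b j = b i)

/-- the system of self fibre products over `S`. -/
noncomputable def PD : J ⥤ C where
  obj i := pullback (b i) (b i)
  map {i j} f := pullback.map (b i) (b i) (b j) (b j) (F.map f) (F.map f) (𝟙 _)
    (by rw [Category.comp_id, hb f]) (by rw [Category.comp_id, hb f])
  map_id i := by
    apply pullback.hom_ext <;> simp [pullback.map, pullback.lift_fst, pullback.lift_snd, pullback.lift_fst_assoc, pullback.lift_snd_assoc]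
  map_comp {i j k} f g := by
    apply pullback.hom_ext <;> simp [pullback.map, pullback.lift_fst, pullback.lift_snd, pullback.lift_fst_assoc, pullback.lift_snd_assoc]

variable (c : Cone F) (w : c.pt ⟶ S) (hw : ∀ j, c.π.app j ≫ b j = w)

/-- the cone with apex `W ×_S W`. -/
noncomputable def PC : Cone (PD F S b hb) where
  pt := pullback w w
  π :=
    { app := fun i => pullback.map w w (b i) (b i) (c.π.app i) (c.π.app i) (𝟙 _)
        (by rw [Category.comp_id, hw i]) (by rw [Category.comp_id, hw i])
      naturality := fun i j f => by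
        apply pullback.hom_ext <;> simp [PD, pullback.map, pullback.lift_fst, pullback.lift_snd, pullback.lift_fst_assoc, pullback.lift_snd_assoc] }

@[reassoc]
theorem PD_map_fst {i j : J} (f : i ⟶ j) :
    (PD F S b hb).map f ≫ pullback.fst (b j) (b j) = pullback.fst (b i) (b i) ≫ F.map f :=
  pullback.lift_fst _ _ _

@[reassoc]
theorem PD_map_snd {i j : J} (f : i ⟶ j) :
    (PD F S b hb).map f ≫ pullback.snd (b j) (b j) = pullback.snd (b i) (b i) ≫ F.map f :=
  pullback.lift_snd _ _ _

@[reassoc]
theorem PC_π_fst (i : J) :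
    (PC F S b hb c w hw).π.app i ≫ pullback.fst (b i) (b i) = pullback.fst w w ≫ c.π.app i :=
  pullback.lift_fst _ _ _

@[reassoc]
theorem PC_π_snd (i : J) :
    (PC F S b hb c w hw).π.app i ≫ pullback.snd (b i) (b i) = pullback.snd w w ≫ c.π.app i :=
  pullback.lift_snd _ _ _

/-- auxiliary cone: first projections. -/
noncomputable def coneFst (s : Cone (PD F S b hb)) : Cone F where
  pt := s.pt
  π :=
    { app := fun i => s.π.app i ≫ pullback.fst (b i) (b i)
      naturality := fun i j f => by
        have := s.π.naturality f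
        simp only [Functor.const_obj_obj, Functor.const_obj_map, Category.id_comp] at this ⊢
        exact (congrArg (· ≫ pullback.fst (b j) (b j)) this).trans ((Category.assoc _ _ _).trans
          ((congrArg (s.π.app i ≫ ·) (PD_map_fst F S b hb f)).trans (Category.assoc _ _ _).symm)) }

/-- auxiliary cone: second projections. -/
noncomputable def coneSnd (s : Cone (PD F S b hb)) : Cone F where
  pt := s.pt
  π :=
    { app := fun i => s.π.app i ≫ pullback.snd (b i) (b i)
      naturality := fun i j f => by
        have := s.π.naturality f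
        simp only [Functor.const_obj_obj, Functor.const_obj_map, Category.id_comp] at this ⊢
        exact (congrArg (· ≫ pullback.snd (b j) (b j)) this).trans ((Category.assoc _ _ _).trans
          ((congrArg (s.π.app i ≫ ·) (PD_map_snd F S b hb f)).trans (Category.assoc _ _ _).symm)) }

include hw in
theorem lift_cond [Nonempty J] (hc : IsLimit c) (s : Cone (PD F S b hb)) :
    hc.lift (coneFst F S b hb s) ≫ w = hc.lift (coneSnd F S b hb s) ≫ w := by
  obtain ⟨i⟩ := ‹Nonempty J›
  have h1 : hc.lift (coneFst F S b hb s) ≫ c.π.app i = s.π.app i ≫ pullback.fst (b i) (b i) :=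
    hc.fac _ i
  have h2 : hc.lift (coneSnd F S b hb s) ≫ c.π.app i = s.π.app i ≫ pullback.snd (b i) (b i) :=
    hc.fac _ i
  have e1 : hc.lift (coneFst F S b hb s) ≫ w = (s.π.app i ≫ pullback.fst (b i) (b i)) ≫ b i :=
    (congrArg (hc.lift (coneFst F S b hb s) ≫ ·) (hw i).symm).trans
      ((Category.assoc _ _ _).symm.trans (congrArg (· ≫ b i) h1))
  have e2 : hc.lift (coneSnd F S b hb s) ≫ w = (s.π.app i ≫ pullback.snd (b i) (b i)) ≫ b i :=
    (congrArg (hc.lift (coneSnd F S b hb s) ≫ ·) (hw i).symm).trans
      ((Category.assoc _ _ _).symm.trans (congrArg (· ≫ b i) h2))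
  exact e1.trans (((Category.assoc _ _ _).trans ((congrArg (s.π.app i ≫ ·)
    pullback.condition).trans (Category.assoc _ _ _).symm)).trans e2.symm)

/-- the cone `PC` is a limit cone when `c` is (and `J` is nonempty). -/
noncomputable def isLimitPC [Nonempty J] (hc : IsLimit c) : IsLimit (PC F S b hb c w hw) where
  lift s := pullback.lift (hc.lift (coneFst F S b hb s)) (hc.lift (coneSnd F S b hb s))
    (lift_cond F S b hb c w hw hc s)
  fac s i := by
    have h1 : hc.lift (coneFst F S b hb s) ≫ c.π.app i = s.π.app i ≫ pullback.fst (b i) (b i) :=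
      hc.fac _ i
    have h2 : hc.lift (coneSnd F S b hb s) ≫ c.π.app i = s.π.app i ≫ pullback.snd (b i) (b i) :=
      hc.fac _ i
    apply pullback.hom_ext
    · exact (Category.assoc _ _ _).trans ((congrArg (pullback.lift _ _ _ ≫ ·)
        (PC_π_fst F S b hb c w hw i)).trans ((Category.assoc _ _ _).symm.trans
          ((congrArg (· ≫ c.π.app i) (pullback.lift_fst _ _ _)).trans h1)))
    · exact (Category.assoc _ _ _).trans ((congrArg (pullback.lift _ _ _ ≫ ·)
        (PC_π_snd F S b hb c w hw i)).trans ((Category.assoc _ _ _).symm.trans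
          ((congrArg (· ≫ c.π.app i) (pullback.lift_snd _ _ _)).trans h2)))
  uniq s m hm := by
    apply pullback.hom_ext
    · refine Eq.trans ?_ (pullback.lift_fst _ _ _).symm
      refine hc.hom_ext fun i => ?_
      exact (Category.assoc _ _ _).trans ((congrArg (m ≫ ·) (PC_π_fst F S b hb c w hw i).symm).trans
        ((Category.assoc _ _ _).symm.trans ((congrArg (· ≫ pullback.fst (b i) (b i)) (hm i)).trans
          (hc.fac (coneFst F S b hb s) i).symm)))
    · refine Eq.trans ?_ (pullback.lift_snd _ _ _).symm
      refine hc.hom_ext fun i => ?_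
      exact (Category.assoc _ _ _).trans ((congrArg (m ≫ ·) (PC_π_snd F S b hb c w hw i).symm).trans
        ((Category.assoc _ _ _).symm.trans ((congrArg (· ≫ pullback.snd (b i) (b i)) (hm i)).trans
          (hc.fac (coneSnd F S b hb s) i).symm)))

end Abstract

section Main

set_option backward.isDefEq.respectTransparency.types false
open AlgebraicGeometry Opposite
open Groth.Agent.H23.EpsDefs Groth.Agent.H23.WCDefs Groth.Agent.H23.EpsIndDefs

variable (X : Scheme.{u})

/-- (LC), with the extra hypothesis that `U` is affine. -/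
theorem spectral_of_indData {U : X.Etale} (hU : IsAffine U.left) (D : IndData X U) (j : D.J)
    (Ω : (pullback (D.b j).left (D.b j).left).Opens)
    (h : ∀ (x y : D.W.left) (z : ↥(pullback (D.b j).left (D.b j).left)),
      (pullback.fst (D.b j).left (D.b j).left) z = (D.π j).left x →
      (pullback.snd (D.b j).left (D.b j).left) z = (D.π j).left y → z ∈ Ω) :
    ∃ (i : D.J) (f : i ⟶ j), ∀ (z : ↥(pullback (D.b i).left (D.b i).left)),
      (pullback.map (D.b i).left (D.b i).left (D.b j).left (D.b j).left
        (D.St.map f).left (D.St.map f).left (𝟙 _)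
        (by rw [Category.comp_id]; exact (congrArg (fun t => t.left) (D.b_nat f)).symm)
        (by rw [Category.comp_id]; exact (congrArg (fun t => t.left) (D.b_nat f)).symm)) z ∈ Ω := by
  let F : D.J ⥤ Scheme.{u} := D.St ⋙ Scheme.Etale.forget X ⋙ Over.forget X
  let b : ∀ j, F.obj j ⟶ U.left := fun j => (D.b j).left
  have hb : ∀ {i j : D.J} (f : i ⟶ j), F.map f ≫ b j = b i := fun f =>
    congrArg (fun t => t.left) (D.b_nat f)
  let c : Cone F := D.toIndPre.cone
  let w : c.pt ⟶ U.left := D.w.left
  have hw : ∀ j, c.π.app j ≫ b j = w := fun j => congrArg (fun t => t.left) (D.π_b j)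
  haveI : Nonempty D.J := IsCofiltered.nonempty
  have hlim : IsLimit (PC F U.left b hb c w hw) := isLimitPC F U.left b hb c w hw D.isLimit
  haveI : ∀ i, IsAffine (F.obj i) := D.affSt
  haveI : ∀ i, IsAffine ((PD F U.left b hb).obj i) := fun i => by
    change IsAffine (pullback (b i) (b i))
    infer_instance
  haveI : ∀ {i j : D.J} (f : i ⟶ j), IsAffineHom ((PD F U.left b hb).map f) := fun f => by
    infer_instance
  have hΩ : (PC F U.left b hb c w hw).π.app j ⁻¹ᵁ Ω = ⊤ := by
    rw [← top_le_iff]
    intro p _
    refine h ((pullback.fst w w) p) ((pullback.snd w w) p) _ ?_ ?_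
    · exact congrArg (fun φ => φ p) (PC_π_fst F U.left b hb c w hw j)
    · exact congrArg (fun φ => φ p) (PC_π_snd F U.left b hb c w hw j)
  obtain ⟨k, f, hk⟩ := exists_map_eq_top (PD F U.left b hb) (PC F U.left b hb c w hw) hlim Ω hΩ
  refine ⟨k, f, fun z => ?_⟩
  have : z ∈ (PD F U.left b hb).map f ⁻¹ᵁ Ω := by
    rw [hk]; trivial
  exact this

end Main

end Groth.Agent.H10.Eps_LC
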