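import Mathlib
import Groth.Prelude.Def_PBC
import Groth.Prelude.Def_ProEtS
import Groth.Agent.H23.EpsDefs
import Groth.Agent.H23.EpsIndDefs
import Groth.Agent.H23.EpsPairDefs
import Groth.Agent.H10.Eps_LC

/-!
# helper10 squad piece (LE) for helper23 (S0717): `W ×_U W = lim St j ×_U St j`
-/

set_option autoImplicit false
set_option backward.isDefEq.respectTransparency.types false
universe u
open CategoryTheory CategoryTheory.Limits AlgebraicGeometry Opposite
open Groth.Agent.H23.EpsDefs Groth.Agent.H23.EpsIndDefs Groth.Agent.H23.EpsPairDefs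

namespace Groth.Agent.H10.Eps_LE

open Groth.Agent.H10.Eps_LC

variable {X : Scheme.{u}}

theorem weaklyEtale_left {A B : X.ProEt} (f : A ⟶ B) : WeaklyEtale f.left := by
  have h : WeaklyEtale (f.left ≫ B.hom) := by
    have e : f.left ≫ B.hom = A.hom := MorphismProperty.Over.w f
    exact e ▸ (inferInstance : WeaklyEtale A.hom)
  exact WeaklyEtale.of_comp f.left B.hom

variable {U : X.Etale} (D : IndData X U)

/-- the diagram of stages as schemes -/
noncomputable abbrev Fd : D.J ⥤ Scheme.{u} := D.St ⋙ Scheme.Etale.forget X ⋙ Over.forget X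

/-- structure maps to `U` -/
noncomputable abbrev bd (j : D.J) : (Fd D).obj j ⟶ U.left := (D.b j).left

theorem hbd {i j : D.J} (f : i ⟶ j) : (Fd D).map f ≫ bd D j = bd D i :=
  congrArg (fun t => t.left) (D.b_nat f)

noncomputable abbrev cd : Cone (Fd D) := D.toIndPre.cone

noncomputable abbrev wd : (cd D).pt ⟶ U.left := D.w.left

theorem hwd (j : D.J) : (cd D).π.app j ≫ bd D j = wd D :=
  congrArg (fun t => t.left) (D.π_b j)

noncomputable abbrev PDd : D.J ⥤ Scheme.{u} := PD (Fd D) U.left (bd D) (hbd D)

noncomputable abbrev PCd : Cone (PDd D) := PC (Fd D) U.left (bd D) (hbd D) (cd D) (wd D) (hwd D)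

instance : WeaklyEtale (wd D) := weaklyEtale_left D.w

instance : WeaklyEtale (pullback.fst (wd D) (wd D) ≫ D.W.hom) := by
  exact MorphismProperty.comp_mem (W := @WeaklyEtale) _ _
    (inferInstance : WeaklyEtale (pullback.fst (wd D) (wd D))) (inferInstance : WeaklyEtale D.W.hom)

instance (j : D.J) : Etale (bd D j) := by
  change Etale (D.b j).left
  infer_instance

instance (j : D.J) : Etale (pullback.fst (bd D j) (bd D j) ≫ (D.St.obj j).hom) := by
  exact MorphismProperty.comp_mem (W := @Etale) _ _
    (inferInstance : Etale (pullback.fst (bd D j) (bd D j))) (inferInstance : Etale (D.St.obj j).hom)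

/-- `W ×_U W` as a pro-etale object. -/
noncomputable def W2 : X.ProEt := Scheme.ProEt.mk (pullback.fst (wd D) (wd D) ≫ D.W.hom)

/-- `St j ×_U St j` as an etale object. -/
noncomputable def St2 (j : D.J) : X.Etale :=
  Scheme.Etale.mk (pullback.fst (bd D j) (bd D j) ≫ (D.St.obj j).hom)

theorem W_hom_eq : D.W.hom = wd D ≫ U.hom := (MorphismProperty.Over.w D.w).symm

theorem St_hom_eq (j : D.J) : (D.St.obj j).hom = bd D j ≫ U.hom :=
  (MorphismProperty.Over.w (D.b j)).symm

/-- first projection `W ×_U W ⟶ W`. -/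
noncomputable def p1 : W2 D ⟶ D.W :=
  MorphismProperty.Over.homMk (pullback.fst (wd D) (wd D)) rfl trivial

/-- second projection `W ×_U W ⟶ W`. -/
noncomputable def p2 : W2 D ⟶ D.W :=
  MorphismProperty.Over.homMk (pullback.snd (wd D) (wd D)) (by
    change pullback.snd (wd D) (wd D) ≫ D.W.hom = pullback.fst (wd D) (wd D) ≫ D.W.hom
    rw [W_hom_eq, ← Category.assoc, ← Category.assoc, pullback.condition]) trivial

theorem p_comm : p1 D ≫ D.w = p2 D ≫ D.w := by
  apply MorphismProperty.Over.Hom.ext
  exact pullback.condition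

/-- first projection `St j ×_U St j ⟶ St j`. -/
noncomputable def q1 (j : D.J) : St2 D j ⟶ D.St.obj j :=
  MorphismProperty.Over.homMk (pullback.fst (bd D j) (bd D j)) rfl trivial

/-- second projection `St j ×_U St j ⟶ St j`. -/
noncomputable def q2 (j : D.J) : St2 D j ⟶ D.St.obj j :=
  MorphismProperty.Over.homMk (pullback.snd (bd D j) (bd D j)) (by
    change pullback.snd (bd D j) (bd D j) ≫ (D.St.obj j).hom =
      pullback.fst (bd D j) (bd D j) ≫ (D.St.obj j).hom
    rw [St_hom_eq, ← Category.assoc, ← Category.assoc, pullback.condition]) trivial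

/-- transition maps of the stages `St j ×_U St j`. -/
noncomputable def St2map {i j : D.J} (f : i ⟶ j) : St2 D i ⟶ St2 D j :=
  MorphismProperty.Over.homMk ((PDd D).map f) (by
    change (PDd D).map f ≫ pullback.fst (bd D j) (bd D j) ≫ (D.St.obj j).hom =
      pullback.fst (bd D i) (bd D i) ≫ (D.St.obj i).hom
    exact (Category.assoc _ _ _).symm.trans ((congrArg (· ≫ (D.St.obj j).hom)
      (PD_map_fst (Fd D) U.left (bd D) (hbd D) f)).trans ((Category.assoc _ _ _).trans
        (congrArg (pullback.fst (bd D i) (bd D i) ≫ ·)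
          (MorphismProperty.Over.w (D.St.map f)))))) trivial

/-- the functor of stages. -/
noncomputable def St2F : D.J ⥤ X.Etale where
  obj j := St2 D j
  map f := St2map D f
  map_id j := by
    apply MorphismProperty.Over.Hom.ext
    exact (PDd D).map_id j
  map_comp f g := by
    apply MorphismProperty.Over.Hom.ext
    exact (PDd D).map_comp f g

/-- the projections `W ×_U W ⟶ St j ×_U St j`. -/
noncomputable def π2 (j : D.J) : W2 D ⟶ (ProEtS.eps X).obj (St2 D j) :=
  MorphismProperty.Over.homMk ((PCd D).π.app j) (by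
    change (PCd D).π.app j ≫ pullback.fst (bd D j) (bd D j) ≫ (D.St.obj j).hom =
      pullback.fst (wd D) (wd D) ≫ D.W.hom
    exact (Category.assoc _ _ _).symm.trans ((congrArg (· ≫ (D.St.obj j).hom)
      (PC_π_fst (Fd D) U.left (bd D) (hbd D) (cd D) (wd D) (hwd D) j)).trans
        ((Category.assoc _ _ _).trans (congrArg (pullback.fst (wd D) (wd D) ≫ ·)
          (MorphismProperty.Over.w (D.π j)))))) trivial

/-- the `IndPre` structure on `W ×_U W`. -/
noncomputable def pairPre : IndPre X U where
  W := W2 D
  w := p1 D ≫ D.w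
  J := D.J
  St := St2F D
  b j := q1 D j ≫ D.b j
  b_nat {i j} f := by
    apply MorphismProperty.Over.Hom.ext
    change (PDd D).map f ≫ pullback.fst (bd D j) (bd D j) ≫ bd D j =
      pullback.fst (bd D i) (bd D i) ≫ bd D i
    exact (Category.assoc _ _ _).symm.trans ((congrArg (· ≫ bd D j)
      (PD_map_fst (Fd D) U.left (bd D) (hbd D) f)).trans ((Category.assoc _ _ _).trans
        (congrArg (pullback.fst (bd D i) (bd D i) ≫ ·) (hbd D f))))
  π j := π2 D j
  π_nat {i j} f := by
    apply MorphismProperty.Over.Hom.ext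
    exact (PCd D).w f
  π_b j := by
    apply MorphismProperty.Over.Hom.ext
    change (PCd D).π.app j ≫ pullback.fst (bd D j) (bd D j) ≫ bd D j =
      pullback.fst (wd D) (wd D) ≫ wd D
    exact (Category.assoc _ _ _).symm.trans ((congrArg (· ≫ bd D j)
      (PC_π_fst (Fd D) U.left (bd D) (hbd D) (cd D) (wd D) (hwd D) j)).trans
        ((Category.assoc _ _ _).trans (congrArg (pullback.fst (wd D) (wd D) ≫ ·) (hwd D j))))

/-- (LE) -/
theorem nonempty_pairData' (hU : IsAffine U.left) : Nonempty (PairData X D) := by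
  haveI : ∀ j, IsAffine ((Fd D).obj j) := D.affSt
  haveI : IsAffine (cd D).pt := D.affW
  haveI : Nonempty D.J := IsCofiltered.nonempty
  refine ⟨{
    P := pairPre D
    affSt := fun k => by
      change IsAffine (pullback (bd D k) (bd D k))
      infer_instance
    affW := by
      change IsAffine (pullback (wd D) (wd D))
      infer_instance
    isLimit := isLimitPC (Fd D) U.left (bd D) (hbd D) (cd D) (wd D) (hwd D) D.isLimit
    G := 𝟭 D.J
    hG := fun j => ⟨j, ⟨𝟙 j⟩⟩
    p₁ := p1 D
    p₂ := p2 D
    comm := p_comm D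
    pr₁ := fun k => q1 D k
    pr₂ := fun k => q2 D k
    pr₁_nat := fun {k k'} f => by
      apply MorphismProperty.Over.Hom.ext
      exact PD_map_fst (Fd D) U.left (bd D) (hbd D) f
    pr₂_nat := fun {k k'} f => by
      apply MorphismProperty.Over.Hom.ext
      exact PD_map_snd (Fd D) U.left (bd D) (hbd D) f
    π_pr₁ := fun k => by
      apply MorphismProperty.Over.Hom.ext
      exact PC_π_fst (Fd D) U.left (bd D) (hbd D) (cd D) (wd D) (hwd D) k
    π_pr₂ := fun k => by
      apply MorphismProperty.Over.Hom.ext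
      exact PC_π_snd (Fd D) U.left (bd D) (hbd D) (cd D) (wd D) (hwd D) k
    lift := fun k T t₁ t₂ h => by
      have hl : t₁.left ≫ bd D k = t₂.left ≫ bd D k := congrArg (fun t => t.left) h
      refine ⟨MorphismProperty.Over.homMk (pullback.lift t₁.left t₂.left hl) ?_ trivial, ?_, ?_⟩
      · change pullback.lift t₁.left t₂.left hl ≫ pullback.fst (bd D k) (bd D k) ≫
          (D.St.obj k).hom = T.hom
        exact (Category.assoc _ _ _).symm.trans ((congrArg (· ≫ (D.St.obj k).hom)
          (pullback.lift_fst _ _ _)).trans (MorphismProperty.Over.w t₁))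
      · apply MorphismProperty.Over.Hom.ext
        exact pullback.lift_fst _ _ _
      · apply MorphismProperty.Over.Hom.ext
        exact pullback.lift_snd _ _ _ }⟩

/-- (LE), EXACT statement (X explicit first). -/
theorem nonempty_pairData (X : Scheme.{u}) {U : X.Etale} (hU : IsAffine U.left)
    (D : IndData X U) : Nonempty (PairData X D) :=
  nonempty_pairData' D hU

end Groth.Agent.H10.Eps_LE
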