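import Mathlib
import Groth.Agent.H48.RegEtale
import Groth.Agent.H23.RegularLocal

/-!
# Étale algebras over Dedekind domains

* `local_structure`: every local ring of an étale algebra over a Dedekind domain is a domain with
  principal maximal ideal.
* `isDedekindDomain_of_etale`: an étale algebra over a Dedekind domain which is a domain is Dedekind.
* `exists_pi_equiv`: an étale algebra over a Dedekind domain is a finite product of Dedekind domains.
-/

set_option autoImplicit false
universe u

namespace Groth.Agent.H10.EtDedekind

open IsLocalRing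

/-- Local structure of an étale algebra over a Dedekind domain: every local ring is a domain with
principal maximal ideal. -/
theorem local_structure (A B : Type u) [CommRing A] [IsDedekindDomain A] [CommRing B] [Algebra A B]
    [Algebra.Etale A B] (q : Ideal B) [q.IsPrime] :
    IsDomain (Localization.AtPrime q) ∧ (maximalIdeal (Localization.AtPrime q)).IsPrincipal := by
  have hNB : IsNoetherianRing B := Algebra.FiniteType.isNoetherianRing A B
  let p : Ideal A := q.under A
  have hpq : q.LiesOver p := ⟨rfl⟩
  let _ : Algebra (Localization.AtPrime p) (Localization.AtPrime q) :=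
    Localization.AtPrime.algebraOfLiesOver p q
  have hunrA : Algebra.FormallyUnramified A (Localization.AtPrime q) :=
    have : Algebra.FormallyUnramified B (Localization.AtPrime q) :=
      Algebra.FormallyUnramified.of_isLocalization q.primeCompl
    Algebra.FormallyUnramified.comp A B _
  have hunr : Algebra.FormallyUnramified (Localization.AtPrime p) (Localization.AtPrime q) :=
    .of_restrictScalars A _ _
  have hessA : Algebra.EssFiniteType A (Localization.AtPrime q) := inferInstance
  have hess : Algebra.EssFiniteType (Localization.AtPrime p) (Localization.AtPrime q) :=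
    .of_comp A _ _
  have hm := Algebra.FormallyUnramified.map_maximalIdeal (R := Localization.AtPrime p)
    (S := Localization.AtPrime q)
  have hregA : IsRegularLocalRing (Localization.AtPrime p) := inferInstance
  have hreg : IsRegularLocalRing (Localization.AtPrime q) :=
    (Groth.Agent.H48.isRegularLocalRing_iff_of_flat_of_map_maximalIdeal hm).mpr hregA
  refine ⟨Groth.Agent.H23.isDomain_of_isRegularLocalRing _, ?_⟩
  rw [← hm]
  have hD : IsDedekindDomain (Localization.AtPrime p) := inferInstance
  have hprin : (maximalIdeal (Localization.AtPrime p)).IsPrincipal :=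
    ((tfae_of_isNoetherianRing_of_isLocalRing_of_isDomain (Localization.AtPrime p)).out 2 4).mp hD
  exact Submodule.IsPrincipal.map_ringHom _ hprin

/-- An étale algebra over a Dedekind domain which is a domain is a Dedekind domain. -/
theorem isDedekindDomain_of_etale (A B : Type u) [CommRing A] [IsDedekindDomain A] [CommRing B]
    [Algebra A B] [Algebra.Etale A B] [IsDomain B] : IsDedekindDomain B := by
  have hNB : IsNoetherianRing B := Algebra.FiniteType.isNoetherianRing A B
  have : IsDedekindDomainDvr B :=
    { toIsNoetherian := hNB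
      is_dvr_at_nonzero_prime := by
        intro P hP0 hP
        obtain ⟨_, hprin⟩ := local_structure A B P
        exact ((IsDiscreteValuationRing.TFAE (Localization.AtPrime P)
          (IsLocalization.AtPrime.not_isField B hP0 (Localization.AtPrime P))).out 4 0).mp hprin }
  infer_instance

/-- In a ring all of whose localizations at prime ideals are domains, distinct minimal primes are
coprime. -/
theorem isCoprime_of_mem_minimalPrimes {B : Type u} [CommRing B]
    (hloc : ∀ (q : Ideal B) [q.IsPrime], IsDomain (Localization.AtPrime q))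
    {P Q : Ideal B} (hP : P ∈ minimalPrimes B) (hQ : Q ∈ minimalPrimes B) (hne : P ≠ Q) :
    IsCoprime P Q := by
  rw [Ideal.isCoprime_iff_sup_eq]
  by_contra hsup
  obtain ⟨m, hm, hle⟩ := Ideal.exists_le_maximal _ hsup
  have hmp : m.IsPrime := hm.isPrime
  have hdom := hloc m
  let K : Ideal B := RingHom.ker (algebraMap B (Localization.AtPrime m))
  have hKprime : K.IsPrime := RingHom.ker_isPrime _
  have hK : ∀ P' : Ideal B, P'.IsPrime → P' ≤ m → K ≤ P' := by
    intro P' hP' hle' x hx
    rw [RingHom.mem_ker, IsLocalization.map_eq_zero_iff m.primeCompl] at hx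
    obtain ⟨s, hs⟩ := hx
    have hmem : (s : B) * x ∈ P' := by rw [hs]; exact zero_mem _
    exact (hP'.mem_or_mem hmem).resolve_left (fun h => s.2 (hle' h))
  have hPm : P ≤ m := le_sup_left.trans hle
  have hQm : Q ≤ m := le_sup_right.trans hle
  have e1 : P = K :=
    le_antisymm (hP.2 ⟨hKprime, bot_le⟩ (hK P hP.1.1 hPm)) (hK P hP.1.1 hPm)
  have e2 : Q = K :=
    le_antisymm (hQ.2 ⟨hKprime, bot_le⟩ (hK Q hQ.1.1 hQm)) (hK Q hQ.1.1 hQm)
  exact hne (e1.trans e2.symm)

/-- An étale algebra over a Dedekind domain is a finite product of Dedekind domains. -/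
theorem exists_pi_equiv (A B : Type u) [CommRing A] [IsDedekindDomain A] [CommRing B] [Algebra A B]
    [Algebra.Etale A B] :
    ∃ (n : ℕ) (D : Fin n → Type u) (_ : ∀ i, CommRing (D i)) (_ : ∀ i, IsDedekindDomain (D i)),
      Nonempty (B ≃+* ∀ i, D i) := by
  classical
  have hNB : IsNoetherianRing B := Algebra.FiniteType.isNoetherianRing A B
  have hloc : ∀ (q : Ideal B) [q.IsPrime], IsDomain (Localization.AtPrime q) :=
    fun q _ => (local_structure A B q).1
  have hred : IsReduced B := isReduced_ofLocalizationMaximal B (fun J hJ => by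
    have := hJ.isPrime
    have := hloc J
    infer_instance)
  have hfin : (minimalPrimes B).Finite := minimalPrimes.finite_of_isNoetherianRing B
  have hfin' : Finite (minimalPrimes B) := hfin.to_subtype
  let e := Finite.equivFin (minimalPrimes B)
  let f : Fin (Nat.card (minimalPrimes B)) → Ideal B := fun k => (e.symm k).1
  have hfmin : ∀ k, f k ∈ minimalPrimes B := fun k => (e.symm k).2
  have hfprime : ∀ k, (f k).IsPrime := fun k => (hfmin k).1.1
  have hcop : Pairwise (Function.onFun IsCoprime f) := by
    intro i j hij
    refine isCoprime_of_mem_minimalPrimes hloc (hfmin i) (hfmin j) ?_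
    intro h
    exact hij (e.symm.injective (Subtype.ext h))
  have hinf : ⨅ k, f k = ⊥ := by
    have h1 : ⨅ k, f k = ⨅ i : minimalPrimes B, (i : Ideal B) :=
      e.symm.surjective.iInf_comp (fun i : minimalPrimes B => (i : Ideal B))
    rw [h1, ← sInf_eq_iInf']
    show sInf (⊥ : Ideal B).minimalPrimes = ⊥
    rw [Ideal.sInf_minimalPrimes, Ideal.radical_bot_of_isReduced]
  let φ : B →+* ∀ k, B ⧸ f k := RingHom.pi fun k => Ideal.Quotient.mk (f k)
  have hφinj : Function.Injective φ := by
    rw [RingHom.injective_iff_ker_eq_bot]
    show RingHom.ker (RingHom.pi fun k => Ideal.Quotient.mk (f k)) = ⊥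
    rw [Ideal.ker_Pi_Quotient_mk, hinf]
  have hφsurj : Function.Surjective φ := by
    intro x
    obtain ⟨r, hr⟩ := Ideal.pi_quotient_surjective hcop x
    exact ⟨r, funext hr⟩
  let Φ : B ≃+* ∀ k, B ⧸ f k := RingEquiv.ofBijective φ ⟨hφinj, hφsurj⟩
  refine ⟨Nat.card (minimalPrimes B), fun k => B ⧸ f k, fun k => inferInstance, fun k => ?_, ⟨Φ⟩⟩
  have hdomk : IsDomain (B ⧸ f k) := Ideal.Quotient.isDomain (f k)
  obtain ⟨ek, hek⟩ := hφsurj (Pi.single k 1)
  have hek' : ∀ j, Ideal.Quotient.mk (f j) ek = (Pi.single k 1 : ∀ k, B ⧸ f k) j :=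
    fun j => congrFun hek j
  have hidem : IsIdempotentElem ek := by
    apply hφinj
    funext j
    show Ideal.Quotient.mk (f j) (ek * ek) = Ideal.Quotient.mk (f j) ek
    rw [map_mul, hek' j]
    by_cases hj : j = k
    · subst hj; rw [Pi.single_eq_same, one_mul]
    · rw [Pi.single_eq_of_ne hj, zero_mul]
  have haway : IsLocalization.Away ek (B ⧸ f k) := by
    refine IsLocalization.away_of_isIdempotentElem_of_mul hidem ?_ Ideal.Quotient.mk_surjective
    intro x y
    constructor
    · intro hxy
      apply hφinj
      funext j
      show Ideal.Quotient.mk (f j) (ek * x) = Ideal.Quotient.mk (f j) (ek * y)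
      rw [map_mul, map_mul, hek' j]
      by_cases hj : j = k
      · subst hj
        have hxy' : Ideal.Quotient.mk (f j) x = Ideal.Quotient.mk (f j) y := hxy
        rw [hxy']
      · rw [Pi.single_eq_of_ne hj, zero_mul, zero_mul]
    · intro hxy
      have h2 := congrArg (Ideal.Quotient.mk (f k)) hxy
      rw [map_mul, map_mul, hek' k, Pi.single_eq_same, one_mul, one_mul] at h2
      exact h2
  have hetB : Algebra.Etale B (B ⧸ f k) := Algebra.Etale.of_isLocalizationAway ek
  have hetA : Algebra.Etale A (B ⧸ f k) := Algebra.Etale.comp A B (B ⧸ f k)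
  exact isDedekindDomain_of_etale A (B ⧸ f k)

end Groth.Agent.H10.EtDedekind
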