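import Mathlib

/-!
# Cutting out a section of an unramified algebra modulo an ideal

Let `E` be a finite type, formally unramified `A`-algebra and `σ : E →ₐ[A] A ⧸ I`.
Then there is `f ∈ E` with `σ f = 1` such that `A ⧸ I → E_f ⧸ I E_f` is bijective and
`x ≡ a` in `E_f ⧸ I E_f` whenever `σ x = a`.
-/

set_option autoImplicit false
universe u

namespace Groth.Agent.H10.EtaleSection

variable {A E : Type u} [CommRing A] [CommRing E] [Algebra A E]

section ker

variable [Algebra.FormallyUnramified A E] (I : Ideal A) (σ : E →ₐ[A] A ⧸ I)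

theorem ker_le_sq_sup :
    RingHom.ker (σ : E →+* A ⧸ I) ≤
      (RingHom.ker (σ : E →+* A ⧸ I)) ^ 2 ⊔ I.map (algebraMap A E) := by
  set K := RingHom.ker (σ : E →+* A ⧸ I) with hK
  set J := K ^ 2 ⊔ I.map (algebraMap A E) with hJ
  let q₁ : E →ₐ[A] E ⧸ J := Ideal.Quotient.mkₐ A J
  have hI : ∀ i ∈ I, (Algebra.ofId A (E ⧸ J)) i = 0 := by
    intro i hi
    show algebraMap A (E ⧸ J) i = 0
    rw [IsScalarTower.algebraMap_apply A E (E ⧸ J), Ideal.Quotient.algebraMap_eq,
      Ideal.Quotient.eq_zero_iff_mem]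
    exact (le_sup_right : I.map (algebraMap A E) ≤ J) (Ideal.mem_map_of_mem _ hi)
  let s : A ⧸ I →ₐ[A] E ⧸ J := Ideal.Quotient.liftₐ I (Algebra.ofId A (E ⧸ J)) hI
  let q₂ : E →ₐ[A] E ⧸ J := s.comp σ
  let N : Ideal (E ⧸ J) := K.map (Ideal.Quotient.mk J)
  have hN : IsNilpotent N := by
    refine ⟨2, ?_⟩
    rw [← Ideal.map_pow, Ideal.zero_eq_bot, Ideal.map_eq_bot_iff_le_ker, Ideal.mk_ker]
    exact le_sup_left
  have hq : q₁ = q₂ := by
    refine Algebra.FormallyUnramified.ext N hN (fun x => ?_)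
    rw [← sub_eq_zero, ← map_sub, Ideal.Quotient.eq_zero_iff_mem]
    obtain ⟨a, ha⟩ := Ideal.Quotient.mk_surjective (σ x)
    have h2 : q₂ x = Ideal.Quotient.mk J (algebraMap A E a) := by
      show s (σ x) = _
      rw [← ha]
      rfl
    rw [h2]
    show Ideal.Quotient.mk J x - Ideal.Quotient.mk J (algebraMap A E a) ∈ N
    rw [← map_sub]
    apply Ideal.mem_map_of_mem
    rw [hK, RingHom.mem_ker]
    show σ (x - algebraMap A E a) = 0
    rw [map_sub, ← ha, AlgHom.commutes]
    exact sub_self _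
  intro x hx
  have h1 : q₁ x = q₂ x := by rw [hq]
  have h2 : q₂ x = 0 := by
    show s (σ x) = 0
    have : σ x = 0 := hx
    rw [this, map_zero]
  rw [h2] at h1
  exact Ideal.Quotient.eq_zero_iff_mem.mp h1

end ker

section fg

variable [Algebra.FiniteType A E] (I : Ideal A) (σ : E →ₐ[A] A ⧸ I)

theorem exists_fg_ker :
    ∃ K₀ : Ideal E, K₀.FG ∧ K₀ ≤ RingHom.ker (σ : E →+* A ⧸ I) ∧
      RingHom.ker (σ : E →+* A ⧸ I) ≤ K₀ ⊔ I.map (algebraMap A E) := by
  classical
  obtain ⟨t, ht⟩ := (Algebra.FiniteType.out : (⊤ : Subalgebra A E).FG)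
  have hex : ∀ x : E, ∃ a : A, Ideal.Quotient.mk I a = σ x :=
    fun x => Ideal.Quotient.mk_surjective (σ x)
  choose a ha using hex
  let K₀ : Ideal E := Ideal.span ((fun x => x - algebraMap A E (a x)) '' (t : Set E))
  have hK₀fg : K₀.FG := by
    refine ⟨t.image (fun x => x - algebraMap A E (a x)), ?_⟩
    rw [Finset.coe_image]
  have hK₀le : K₀ ≤ RingHom.ker (σ : E →+* A ⧸ I) := by
    rw [Ideal.span_le]
    rintro _ ⟨x, -, rfl⟩
    show σ (x - algebraMap A E (a x)) = 0
    rw [map_sub, AlgHom.commutes, ← ha]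
    exact sub_self _
  have hall : ∀ x : E, ∃ b : A, x - algebraMap A E b ∈ K₀ := by
    intro x
    have hx : x ∈ Algebra.adjoin A (t : Set E) := by rw [ht]; trivial
    induction hx using Algebra.adjoin_induction with
    | mem x hx => exact ⟨a x, Ideal.subset_span ⟨x, hx, rfl⟩⟩
    | algebraMap r => exact ⟨r, by rw [sub_self]; exact K₀.zero_mem⟩
    | add x y _ _ hx hy =>
      obtain ⟨b₁, h₁⟩ := hx
      obtain ⟨b₂, h₂⟩ := hy
      refine ⟨b₁ + b₂, ?_⟩
      have e : x + y - algebraMap A E (b₁ + b₂) =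
          (x - algebraMap A E b₁) + (y - algebraMap A E b₂) := by rw [map_add]; ring
      rw [e]
      exact K₀.add_mem h₁ h₂
    | mul x y _ _ hx hy =>
      obtain ⟨b₁, h₁⟩ := hx
      obtain ⟨b₂, h₂⟩ := hy
      refine ⟨b₁ * b₂, ?_⟩
      have e : x * y - algebraMap A E (b₁ * b₂) =
          (x - algebraMap A E b₁) * y + algebraMap A E b₁ * (y - algebraMap A E b₂) := by
        rw [map_mul]; ring
      rw [e]
      exact K₀.add_mem (K₀.mul_mem_right _ h₁) (K₀.mul_mem_left _ h₂)
  refine ⟨K₀, hK₀fg, hK₀le, ?_⟩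
  intro x hx
  obtain ⟨b, hb⟩ := hall x
  have hbK : algebraMap A E b ∈ RingHom.ker (σ : E →+* A ⧸ I) := by
    have e : algebraMap A E b = x - (x - algebraMap A E b) := by ring
    rw [e]
    exact Ideal.sub_mem _ hx (hK₀le hb)
  have hbI : b ∈ I := by
    have h1 : σ (algebraMap A E b) = 0 := hbK
    rw [AlgHom.commutes] at h1
    exact Ideal.Quotient.eq_zero_iff_mem.mp h1
  have e : x = (x - algebraMap A E b) + algebraMap A E b := by ring
  rw [e]
  exact Submodule.add_mem_sup hb (Ideal.mem_map_of_mem _ hbI)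

end fg

section main

variable [Algebra.FiniteType A E] [Algebra.FormallyUnramified A E] (I : Ideal A)
  (σ : E →ₐ[A] A ⧸ I)

theorem exists_elem :
    ∃ f : E, σ f = 1 ∧ ∀ k ∈ RingHom.ker (σ : E →+* A ⧸ I), f * k ∈ I.map (algebraMap A E) := by
  set K := RingHom.ker (σ : E →+* A ⧸ I) with hK
  set J := I.map (algebraMap A E) with hJ
  obtain ⟨K₀, hK₀fg, hK₀le, hKle⟩ := exists_fg_ker I σ
  have hsq := ker_le_sq_sup I σ
  let π : E →ₗ[E] E ⧸ J := (Ideal.Quotient.mkₐ E J).toLinearMap
  have hπ : ∀ x, π x = Ideal.Quotient.mk J x := fun _ => rfl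
  have hπJ : ∀ j ∈ J, π j = 0 := fun j hj => by
    rw [hπ]; exact Ideal.Quotient.eq_zero_iff_mem.mpr hj
  let N : Submodule E (E ⧸ J) := Submodule.map π K
  have hN0 : N = Submodule.map π K₀ := by
    apply le_antisymm
    · rintro _ ⟨x, hx, rfl⟩
      obtain ⟨k₀, hk₀, j, hj, rfl⟩ := Submodule.mem_sup.mp (hKle hx)
      rw [map_add, hπJ j hj, add_zero]
      exact Submodule.mem_map_of_mem hk₀
    · exact Submodule.map_mono hK₀le
  have hNfg : N.FG := by
    rw [hN0]
    exact Submodule.FG.map π hK₀fg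
  have hNle : N ≤ K • N := by
    rintro _ ⟨x, hx, rfl⟩
    obtain ⟨z, hz, j, hj, rfl⟩ := Submodule.mem_sup.mp (hsq hx)
    rw [map_add, hπJ j hj, add_zero]
    have h1 : z ∈ K • K := by
      rw [smul_eq_mul, ← pow_two]; exact hz
    have h2 : π z ∈ Submodule.map π (K • K) := Submodule.mem_map_of_mem h1
    rw [Submodule.map_smul''] at h2
    exact h2
  obtain ⟨r, hr1, hr2⟩ :=
    Submodule.exists_sub_one_mem_and_smul_eq_zero_of_fg_of_le_smul K N hNfg hNle
  refine ⟨r, ?_, ?_⟩
  · have h1 : σ (r - 1) = 0 := hr1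
    rw [map_sub, map_one, sub_eq_zero] at h1
    exact h1
  · intro k hk
    have h1 := hr2 (π k) (Submodule.mem_map_of_mem hk)
    rw [← map_smul, smul_eq_mul, hπ] at h1
    exact Ideal.Quotient.eq_zero_iff_mem.mp h1

theorem exists_away :
    ∃ f : E, σ f = 1 ∧
      (∀ (x : E) (a : A), σ x = Ideal.Quotient.mk I a →
        algebraMap E (Localization.Away f) x - algebraMap A (Localization.Away f) a ∈
          I.map (algebraMap A (Localization.Away f))) ∧
      Function.Bijective (algebraMap (A ⧸ I)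
        (Localization.Away f ⧸ I.map (algebraMap A (Localization.Away f)))) := by
  obtain ⟨f, hf1, hf2⟩ := exists_elem I σ
  have hunit : IsUnit (algebraMap E (Localization.Away f) f) :=
    IsLocalization.Away.algebraMap_isUnit f
  have hker : ∀ k : E, σ k = 0 →
      algebraMap E (Localization.Away f) k ∈ I.map (algebraMap A (Localization.Away f)) := by
    intro k hk
    have h1 : f * k ∈ I.map (algebraMap A E) := hf2 k hk
    have h2 : algebraMap E (Localization.Away f) (f * k) ∈
        (I.map (algebraMap A E)).map (algebraMap E (Localization.Away f)) :=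
      Ideal.mem_map_of_mem _ h1
    rw [Ideal.map_map, ← IsScalarTower.algebraMap_eq, map_mul] at h2
    obtain ⟨u, hu⟩ := hunit
    rw [← hu] at h2
    have h3 := Ideal.mul_mem_left _ (↑u⁻¹ : Localization.Away f) h2
    rw [← mul_assoc, Units.inv_mul, one_mul] at h3
    exact h3
  refine ⟨f, hf1, ?_, ?_, ?_⟩
  · intro x a hxa
    have h1 := hker (x - algebraMap A E a) (by
      rw [map_sub, hxa, AlgHom.commutes]; exact sub_self _)
    rw [map_sub, ← IsScalarTower.algebraMap_apply] at h1
    exact h1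
  · -- injective
    rw [injective_iff_map_eq_zero]
    intro y hy
    obtain ⟨a, rfl⟩ := Ideal.Quotient.mk_surjective y
    have hy' : Ideal.Quotient.mk (I.map (algebraMap A (Localization.Away f)))
        (algebraMap A (Localization.Away f) a) = 0 := hy
    rw [Ideal.Quotient.eq_zero_iff_mem] at hy'
    have hu1 : IsUnit ((σ : E →+* A ⧸ I) f) := by
      show IsUnit (σ f)
      rw [hf1]; exact isUnit_one
    let ρ : Localization.Away f →+* A ⧸ I := IsLocalization.Away.lift f hu1
    have hρ : ∀ e : E, ρ (algebraMap E (Localization.Away f) e) = σ e :=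
      fun e => IsLocalization.Away.lift_eq f hu1 e
    have hle : I.map (algebraMap A (Localization.Away f)) ≤ RingHom.ker ρ := by
      rw [Ideal.map_le_iff_le_comap]
      intro i hi
      rw [Ideal.mem_comap, RingHom.mem_ker, IsScalarTower.algebraMap_apply A E, hρ,
        AlgHom.commutes]
      exact Ideal.Quotient.eq_zero_iff_mem.mpr hi
    have h1 : ρ (algebraMap A (Localization.Away f) a) = 0 := hle hy'
    rw [IsScalarTower.algebraMap_apply A E, hρ, AlgHom.commutes] at h1
    exact h1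
  · -- surjective
    intro y
    obtain ⟨z, rfl⟩ := Ideal.Quotient.mk_surjective y
    obtain ⟨n, x, hzx⟩ := IsLocalization.Away.surj f z
    obtain ⟨a, ha⟩ := Ideal.Quotient.mk_surjective (σ x)
    refine ⟨Ideal.Quotient.mk I a, ?_⟩
    show Ideal.Quotient.mk (I.map (algebraMap A (Localization.Away f)))
        (algebraMap A (Localization.Away f) a) = _
    rw [eq_comm, Ideal.Quotient.eq]
    have h1 := hker (x - algebraMap A E a * f ^ n) (by
      rw [map_sub, map_mul, map_pow, hf1, one_pow, mul_one, AlgHom.commutes, ← ha]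
      exact sub_self _)
    rw [map_sub, map_mul, map_pow, ← IsScalarTower.algebraMap_apply, ← hzx, ← sub_mul] at h1
    obtain ⟨u, hu⟩ := hunit.pow n
    rw [← hu] at h1
    have h3 := Ideal.mul_mem_right (↑u⁻¹ : Localization.Away f) _ h1
    rw [mul_assoc, Units.mul_inv, mul_one] at h3
    exact h3

end main

end Groth.Agent.H10.EtaleSection
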