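-- Helper library for the Beauville–Laszlo / glueing pair cluster (EtGlue).
import Groth.Prelude.Def_EtGlue
import Mathlib.LinearAlgebra.TensorProduct.Quotient
import Mathlib.LinearAlgebra.TensorProduct.RightExactness
import Mathlib.RingTheory.TensorProduct.DirectLimitFG
import Mathlib.LinearAlgebra.TensorProduct.Finiteness
import Mathlib.Algebra.Module.LocalizedModule.Exact
import Mathlib.RingTheory.Localization.BaseChange
import Mathlib.Tactic
import Mathlib.RingTheory.TensorProduct.Maps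
import Mathlib.LinearAlgebra.DirectSum.Finsupp

set_option autoImplicit false
universe u
open TensorProduct

namespace Groth.Agent.H10.Glue

variable {R R' : Type u} [CommRing R] [CommRing R'] [Algebra R R'] {f : R}

/-- Every element of `R'` is congruent to an element of `R` modulo `f ^ n`. -/
theorem exists_add (hq : EtGlue.QuotPowBijective R R' f) (n : ℕ) (x : R') :
    ∃ (r : R) (s : R'), x = algebraMap R R' r + algebraMap R R' f ^ n * s := by
  rcases Nat.eq_zero_or_pos n with rfl | hn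
  · exact ⟨0, x, by simp⟩
  · obtain ⟨y, hy⟩ := (hq n hn).2 (Ideal.Quotient.mk _ x)
    obtain ⟨r, rfl⟩ := Ideal.Quotient.mk_surjective y
    rw [Ideal.quotientMap_mk, Ideal.Quotient.eq, Ideal.map_span, Set.image_singleton,
      Ideal.mem_span_singleton'] at hy
    obtain ⟨a, ha⟩ := hy
    refine ⟨r, -a, ?_⟩
    rw [map_pow] at ha
    linear_combination ha

/-- If the image of `r` is divisible by `f ^ n` in `R'`, then `r` is divisible by `f ^ n`. -/
theorem dvd_of_map_dvd (hq : EtGlue.QuotPowBijective R R' f) (n : ℕ) (r : R) (s : R')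
    (h : algebraMap R R' r = algebraMap R R' f ^ n * s) : ∃ t : R, r = f ^ n * t := by
  rcases Nat.eq_zero_or_pos n with rfl | hn
  · exact ⟨r, by simp⟩
  · have h0 : Ideal.quotientMap (Ideal.map (algebraMap R R') (Ideal.span {f ^ n})) (algebraMap R R')
        Ideal.le_comap_map (Ideal.Quotient.mk _ r) = 0 := by
      rw [Ideal.quotientMap_mk, Ideal.Quotient.eq_zero_iff_mem, Ideal.map_span, Set.image_singleton,
        Ideal.mem_span_singleton']
      exact ⟨s, by rw [h, map_pow, mul_comm]⟩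
    have h1 := (hq n hn).1 (h0.trans (map_zero _).symm)
    rw [Ideal.Quotient.eq_zero_iff_mem, Ideal.mem_span_singleton'] at h1
    obtain ⟨a, ha⟩ := h1
    exact ⟨a, by rw [← ha, mul_comm]⟩

/-- The `R`-linear retraction `R' → R / f ^ n`. -/
noncomputable def sigma (hq : EtGlue.QuotPowBijective R R' f) (n : ℕ) (hn : 0 < n) :
    R' →ₗ[R] R ⧸ Ideal.span {f ^ n} where
  toFun x := (RingEquiv.ofBijective _ (hq n hn)).symm (Ideal.Quotient.mk _ x)
  map_add' x y := by simp
  map_smul' r x := by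
    apply (RingEquiv.ofBijective _ (hq n hn)).injective
    rw [RingEquiv.apply_symm_apply, RingHom.id_apply, Algebra.smul_def, Algebra.smul_def, map_mul,
      map_mul, RingEquiv.apply_symm_apply]
    rfl

theorem sigma_one (hq : EtGlue.QuotPowBijective R R' f) (n : ℕ) (hn : 0 < n) :
    sigma hq n hn 1 = 1 := by
  simp [sigma]

variable {M : Type u} [AddCommGroup M] [Module R M]

/-- `M / f ^ n M → (R' ⊗ M) / f ^ n (R' ⊗ M)` is injective. -/
theorem exists_smul_of_tmul_eq (hq : EtGlue.QuotPowBijective R R' f) (n : ℕ) (m : M)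
    (y : R' ⊗[R] M) (h : (1 : R') ⊗ₜ[R] m = f ^ n • y) : ∃ m₂ : M, m = f ^ n • m₂ := by
  rcases Nat.eq_zero_or_pos n with rfl | hn
  · exact ⟨m, by simp⟩
  · let Φ : R' ⊗[R] M →ₗ[R] M ⧸ (Ideal.span {f ^ n} • (⊤ : Submodule R M)) :=
      (quotTensorEquivQuotSMul M (Ideal.span {f ^ n})).toLinearMap ∘ₗ
        LinearMap.rTensor M (sigma hq n hn)
    have h1 : Φ ((1 : R') ⊗ₜ[R] m) = Submodule.Quotient.mk m := by
      simp only [Φ, LinearMap.comp_apply, LinearMap.rTensor_tmul, sigma_one]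
      exact quotTensorEquivQuotSMul_mk_one_tmul _ _
    have h2 : Φ (f ^ n • y) = 0 := by
      rw [map_smul]
      obtain ⟨z, hz⟩ := Submodule.Quotient.mk_surjective _ (Φ y)
      rw [← hz, ← Submodule.Quotient.mk_smul, Submodule.Quotient.mk_eq_zero]
      exact Submodule.smul_mem_smul (Ideal.mem_span_singleton_self _) Submodule.mem_top
    rw [h, h2] at h1
    have h3 : m ∈ Ideal.span {f ^ n} • (⊤ : Submodule R M) :=
      (Submodule.Quotient.mk_eq_zero _).mp h1.symm
    rw [Submodule.ideal_span_singleton_smul, Submodule.mem_smul_pointwise_iff_exists] at h3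
    obtain ⟨m₂, -, hm₂⟩ := h3
    exact ⟨m₂, hm₂.symm⟩

/-- Every element of `R' ⊗ M` is congruent to an element `1 ⊗ m` modulo `f ^ n`. -/
theorem exists_tmul_add (hq : EtGlue.QuotPowBijective R R' f) (n : ℕ) (z : R' ⊗[R] M) :
    ∃ (m : M) (z₁ : R' ⊗[R] M), z = (1 : R') ⊗ₜ[R] m + f ^ n • z₁ := by
  induction z using TensorProduct.induction_on with
  | zero => exact ⟨0, 0, by simp⟩
  | tmul x m =>
    obtain ⟨r, s, rfl⟩ := exists_add hq n x
    refine ⟨r • m, s ⊗ₜ[R] m, ?_⟩
    rw [add_tmul, TensorProduct.smul_tmul', Algebra.smul_def, map_pow, ← TensorProduct.smul_tmul,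
      Algebra.smul_def, mul_one]
  | add x y hx hy =>
    obtain ⟨m₁, z₁, rfl⟩ := hx
    obtain ⟨m₂, z₂, rfl⟩ := hy
    exact ⟨m₁ + m₂, z₁ + z₂, by rw [tmul_add, smul_add]; abel⟩

/-- For a glueing pair, the `f ^ n`-torsion of `R'` comes from the `f ^ n`-torsion of `R`. -/
theorem exists_torsion_lift (h : EtGlue.IsGlueingPair R R' f) (n : ℕ) (x' : R')
    (hx : algebraMap R R' f ^ n * x' = 0) : ∃ x : R, f ^ n * x = 0 ∧ algebraMap R R' x = x' := by
  obtain ⟨-, hinj, hmid, -⟩ := h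
  have h0 : algebraMap R' (Localization.Away (algebraMap R R' f)) x' =
      Localization.awayMap (algebraMap R R') f 0 := by
    rw [map_zero]
    have hu : IsUnit (algebraMap R' (Localization.Away (algebraMap R R' f))
        (algebraMap R R' f ^ n)) := by
      rw [map_pow]
      exact (IsLocalization.Away.algebraMap_isUnit (algebraMap R R' f)).pow n
    apply hu.mul_left_cancel
    rw [← map_mul, hx, map_zero, mul_zero]
  obtain ⟨r, hr1, hr2⟩ := hmid x' 0 h0
  refine ⟨r, ?_, hr1⟩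
  apply hinj
  simp only [Prod.mk.injEq, map_mul, map_pow, map_zero, hr1, hr2, mul_zero, and_true]
  exact hx

/-- If the `f ^ n`-torsion of `R' ⊗ F` comes from `F`, then `R' ⊗ K → R' ⊗ F` is injective for every
submodule `K` containing `f ^ n F`. -/
theorem lTensor_injective_of_torsionLifts (hq : EtGlue.QuotPowBijective R R' f) (n : ℕ)
    {F : Type u} [AddCommGroup F] [Module R F]
    (hF : ∀ w : R' ⊗[R] F, f ^ n • w = 0 → ∃ p : F, f ^ n • p = 0 ∧ (1 : R') ⊗ₜ[R] p = w)
    (K : Submodule R F) (hK : ∀ p : F, f ^ n • p ∈ K) :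
    Function.Injective (K.subtype.lTensor R') := by
  rw [injective_iff_map_eq_zero]
  intro z hz
  let φ : F →ₗ[R] K := LinearMap.codRestrict K (f ^ n • LinearMap.id) (fun p => hK p)
  have hφ1 : K.subtype ∘ₗ φ = f ^ n • LinearMap.id := by ext p; rfl
  have hφ2 : φ ∘ₗ K.subtype = f ^ n • LinearMap.id := by ext p; rfl
  obtain ⟨k, z₁, rfl⟩ := exists_tmul_add hq n z
  rw [map_add, LinearMap.lTensor_tmul, map_smul] at hz
  have h1 : (1 : R') ⊗ₜ[R] (k : F) = f ^ n • (-(K.subtype.lTensor R' z₁)) := by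
    rw [smul_neg]; exact eq_neg_of_add_eq_zero_left hz
  obtain ⟨p, hp⟩ := exists_smul_of_tmul_eq hq n (k : F) _ h1
  set w := (1 : R') ⊗ₜ[R] p + K.subtype.lTensor R' z₁ with hw
  have hw1 : φ.lTensor R' w = (1 : R') ⊗ₜ[R] k + f ^ n • z₁ := by
    rw [hw, map_add, LinearMap.lTensor_tmul]
    congr 1
    · congr 1; exact Subtype.ext hp.symm
    · rw [← LinearMap.comp_apply, ← LinearMap.lTensor_comp, hφ2, LinearMap.lTensor_smul,
        LinearMap.lTensor_id]; rfl
  have hw2 : f ^ n • w = 0 := by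
    have : f ^ n • w = (K.subtype ∘ₗ φ).lTensor R' w := by
      rw [hφ1, LinearMap.lTensor_smul, LinearMap.lTensor_id]; rfl
    rw [this, LinearMap.lTensor_comp, LinearMap.comp_apply, hw1, map_add, LinearMap.lTensor_tmul,
      map_smul]
    exact hz
  obtain ⟨p₀, hp₀, hp₀w⟩ := hF w hw2
  rw [← hw1, ← hp₀w, LinearMap.lTensor_tmul]
  have : φ p₀ = 0 := Subtype.ext hp₀
  rw [this, tmul_zero]

/-- For a glueing pair, the `f ^ n`-torsion of `R' ⊗ F` comes from `F` for `F` free. -/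
theorem torsionLifts_finsupp (h : EtGlue.IsGlueingPair R R' f) (n : ℕ) (ι : Type u)
    (w : R' ⊗[R] (ι →₀ R)) (hw : f ^ n • w = 0) :
    ∃ p : ι →₀ R, f ^ n • p = 0 ∧ (1 : R') ⊗ₜ[R] p = w := by
  classical
  let e := TensorProduct.finsuppScalarRight R R R' ι
  have hcoord : ∀ i, algebraMap R R' f ^ n * (e w i) = 0 := by
    intro i
    have h1 : e (f ^ n • w) = 0 := by rw [hw, map_zero]
    rw [map_smul] at h1
    have h2 := DFunLike.congr_fun h1 i
    rw [Finsupp.smul_apply, Algebra.smul_def, map_pow] at h2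
    exact h2
  let g : R' → R := fun x' =>
    if hx : algebraMap R R' f ^ n * x' = 0 ∧ x' ≠ 0 then
      (exists_torsion_lift h n x' hx.1).choose else 0
  have hg0 : g 0 = 0 := by simp [g]
  have hg : ∀ x', algebraMap R R' f ^ n * x' = 0 → f ^ n * g x' = 0 ∧ algebraMap R R' (g x') = x' := by
    intro x' hx'
    by_cases h0 : x' = 0
    · subst h0; simp [hg0]
    · have hx : algebraMap R R' f ^ n * x' = 0 ∧ x' ≠ 0 := ⟨hx', h0⟩
      simp only [g, dif_pos hx]
      exact (exists_torsion_lift h n x' hx.1).choose_spec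
  refine ⟨(e w).mapRange g hg0, ?_, ?_⟩
  · ext i
    rw [Finsupp.smul_apply, Finsupp.mapRange_apply, smul_eq_mul, (hg _ (hcoord i)).1]
    rfl
  · apply e.injective
    ext i
    rw [TensorProduct.finsuppScalarRight_apply_tmul_apply, Finsupp.mapRange_apply,
      Algebra.smul_def, mul_one, (hg _ (hcoord i)).2]

/-- Torsion lifting descends along surjections. -/
theorem torsionLifts_of_surjective (hq : EtGlue.QuotPowBijective R R' f) (n : ℕ)
    {F X : Type u} [AddCommGroup F] [Module R F] [AddCommGroup X] [Module R X]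
    (π : F →ₗ[R] X) (hπ : Function.Surjective π)
    (hF : ∀ w : R' ⊗[R] F, f ^ n • w = 0 → ∃ p : F, f ^ n • p = 0 ∧ (1 : R') ⊗ₜ[R] p = w)
    (z : R' ⊗[R] X) (hz : f ^ n • z = 0) :
    ∃ x : X, f ^ n • x = 0 ∧ (1 : R') ⊗ₜ[R] x = z := by
  -- `Y = f ^ n X` and `ψ : X → Y`
  let ψ₀ : X →ₗ[R] X := f ^ n • LinearMap.id
  let Y : Submodule R X := LinearMap.range ψ₀
  let ψ : X →ₗ[R] Y := ψ₀.rangeRestrict
  have hψ : Function.Surjective ψ := ψ₀.surjective_rangeRestrict
  -- `K = π⁻¹ Y`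
  let K : Submodule R F := Y.comap π
  have hK : ∀ p : F, f ^ n • p ∈ K := fun p => ⟨π p, by simp [ψ₀]⟩
  let πK : K →ₗ[R] Y := π.restrict (p := K) (q := Y) (fun p hp => hp)
  let φ : F →ₗ[R] K := LinearMap.codRestrict K (f ^ n • LinearMap.id) (fun p => hK p)
  have hsq : ψ ∘ₗ π = πK ∘ₗ φ := by
    ext p : 1; apply Subtype.ext; simp [ψ, ψ₀, πK, φ]
  have hinj := lTensor_injective_of_torsionLifts hq n hF K hK
  -- lift `z`
  obtain ⟨y, rfl⟩ := LinearMap.lTensor_surjective R' hπ z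
  -- `f ^ n • y` comes from the kernel of `π`
  let L : Submodule R F := LinearMap.ker π
  have hex : Function.Exact L.subtype π := LinearMap.exact_subtype_ker_map π
  have hexT := lTensor_exact R' hex hπ
  have hy : f ^ n • y ∈ LinearMap.ker (π.lTensor R') := by
    rw [LinearMap.mem_ker, map_smul]; exact hz
  obtain ⟨l₀, hl₀⟩ := (hexT (f ^ n • y)).mp hy
  have hLK : L ≤ K := fun p hp => by
    change π p ∈ Y
    rw [LinearMap.mem_ker.mp hp]; exact Y.zero_mem
  let j : L →ₗ[R] K := Submodule.inclusion hLK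
  have hj : K.subtype ∘ₗ j = L.subtype := by ext p; rfl
  have hφ1 : K.subtype ∘ₗ φ = f ^ n • LinearMap.id := by ext p : 1; rfl
  have heq : j.lTensor R' l₀ = φ.lTensor R' y := by
    apply hinj
    rw [← LinearMap.comp_apply, ← LinearMap.lTensor_comp, hj, hl₀, ← LinearMap.comp_apply,
      ← LinearMap.lTensor_comp, hφ1, LinearMap.lTensor_smul, LinearMap.lTensor_id]
    rfl
  have hπj : πK ∘ₗ j = 0 := by
    ext p : 1; apply Subtype.ext
    have : π (p : F) = 0 := LinearMap.mem_ker.mp p.2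
    simp [πK, j]
  have hψz : ψ.lTensor R' (π.lTensor R' y) = 0 := by
    rw [← LinearMap.comp_apply, ← LinearMap.lTensor_comp, hsq, LinearMap.lTensor_comp,
      LinearMap.comp_apply, ← heq, ← LinearMap.comp_apply, ← LinearMap.lTensor_comp, hπj,
      LinearMap.lTensor_zero, LinearMap.zero_apply]
  -- so `z` comes from `R' ⊗ X[f ^ n]`
  let T : Submodule R X := LinearMap.ker ψ
  have hexψ : Function.Exact T.subtype ψ := LinearMap.exact_subtype_ker_map ψ
  obtain ⟨z₀, hz₀⟩ := (lTensor_exact R' hexψ hψ (π.lTensor R' y)).mp hψz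
  have hT : ∀ t : T, f ^ n • (t : X) = 0 := by
    intro t
    have h1 : ψ (t : X) = 0 := LinearMap.mem_ker.mp t.2
    have h2 : ((ψ (t : X) : Y) : X) = 0 := by rw [h1]; rfl
    exact h2
  obtain ⟨x₀, z₁, rfl⟩ := exists_tmul_add hq n z₀
  have hz₁ : f ^ n • z₁ = 0 := by
    have : f ^ n • z₁ = (f ^ n • LinearMap.id : T →ₗ[R] T).lTensor R' z₁ := by
      rw [LinearMap.lTensor_smul, LinearMap.lTensor_id]; rfl
    rw [this]
    have h0 : (f ^ n • LinearMap.id : T →ₗ[R] T) = 0 := by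
      ext t : 1; apply Subtype.ext; simpa using hT t
    rw [h0, LinearMap.lTensor_zero, LinearMap.zero_apply]
  refine ⟨(x₀ : X), hT x₀, ?_⟩
  rw [← hz₀, hz₁, add_zero, LinearMap.lTensor_tmul]
  rfl

/-- For a glueing pair, the `f ^ n`-torsion of `R' ⊗ X` comes from the `f ^ n`-torsion of `X`, for
every `R`-module `X`. -/
theorem torsionLifts (h : EtGlue.IsGlueingPair R R' f) (n : ℕ) (X : Type u) [AddCommGroup X]
    [Module R X] (z : R' ⊗[R] X) (hz : f ^ n • z = 0) :
    ∃ x : X, f ^ n • x = 0 ∧ (1 : R') ⊗ₜ[R] x = z :=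
  torsionLifts_of_surjective h.1 n (Finsupp.linearCombination R (id : X → X))
    (Finsupp.linearCombination_id_surjective R X) (torsionLifts_finsupp h n X) z hz

theorem mkLinearMap_eq_zero_iff {M : Type u} [AddCommGroup M] [Module R M] (m : M) :
    LocalizedModule.mkLinearMap (Submonoid.powers f) M m = 0 ↔ ∃ n : ℕ, f ^ n • m = 0 := by
  rw [IsLocalizedModule.eq_zero_iff (Submonoid.powers f)]
  constructor
  · rintro ⟨⟨_, n, rfl⟩, hs⟩
    exact ⟨n, hs⟩
  · rintro ⟨n, hn⟩
    exact ⟨⟨f ^ n, n, rfl⟩, hn⟩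

theorem isGlueable_iff (hq : EtGlue.QuotPowBijective R R' f) (M : Type u) [AddCommGroup M]
    [Module R M] :
    EtGlue.IsGlueable R R' f M ↔
      ((∀ m : M, (∃ n : ℕ, f ^ n • m = 0) → (1 : R') ⊗ₜ[R] m = 0 → m = 0) ∧
       (∀ x : R' ⊗[R] M, (∃ n : ℕ, f ^ n • x = 0) →
          ∃ m : M, (∃ n : ℕ, f ^ n • m = 0) ∧ (1 : R') ⊗ₜ[R] m = x)) := by
  constructor
  · rintro ⟨hinj, hmid⟩
    refine ⟨fun m hm h1 => ?_, fun x hx => ?_⟩
    · apply hinj
      simp only [Prod.mk.injEq, h1, tmul_zero, map_zero, true_and]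
      exact (mkLinearMap_eq_zero_iff m).mpr hm
    · obtain ⟨m, hm1, hm2⟩ := hmid x 0 (by
        rw [map_zero]; exact (mkLinearMap_eq_zero_iff x).mpr hx)
      exact ⟨m, (mkLinearMap_eq_zero_iff m).mp hm2, hm1⟩
  · rintro ⟨h1, h2⟩
    refine ⟨fun a b hab => ?_, fun x y hxy => ?_⟩
    · simp only [Prod.mk.injEq] at hab
      have : a - b = 0 := h1 (a - b)
        ((mkLinearMap_eq_zero_iff _).mp (by rw [map_sub, hab.2, sub_self]))
        (by rw [tmul_sub, hab.1, sub_self])
      exact sub_eq_zero.mp this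
    · obtain ⟨⟨m, s⟩, rfl⟩ := IsLocalizedModule.mk'_surjective (Submonoid.powers f)
        (LocalizedModule.mkLinearMap (Submonoid.powers f) M) y
      obtain ⟨k, hk⟩ := (Submonoid.mem_powers_iff _ _).mp s.2
      simp only [Function.uncurry_apply_pair] at hxy ⊢
      rw [EtGlue.tensorOfLoc, IsLocalizedModule.map_mk', eq_comm, IsLocalizedModule.mk'_eq_iff,
        Submonoid.smul_def, ← map_smul, IsLocalizedModule.eq_iff_exists (Submonoid.powers f)] at hxy
      obtain ⟨c, hj⟩ := hxy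
      obtain ⟨j, hc⟩ := (Submonoid.mem_powers_iff _ _).mp c.2
      simp only [Submonoid.smul_def, TensorProduct.mk_apply, ← hk, ← hc] at hj
      have hj' : (1 : R') ⊗ₜ[R] (f ^ j • m) = f ^ (j + k) • x := by
        rw [tmul_smul, hj, smul_smul, pow_add]
      obtain ⟨m₂, hm₂⟩ := exists_smul_of_tmul_eq hq (j + k) (f ^ j • m) x hj'
      have ht : f ^ (j + k) • (x - (1 : R') ⊗ₜ[R] m₂) = 0 := by
        rw [smul_sub, ← hj', ← tmul_smul, ← hm₂, sub_self]
      obtain ⟨m₃, hm₃, hm₃x⟩ := h2 _ ⟨_, ht⟩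
      refine ⟨m₂ + m₃, by rw [tmul_add, hm₃x]; abel, ?_⟩
      rw [map_add, (mkLinearMap_eq_zero_iff m₃).mpr hm₃, add_zero, eq_comm,
        IsLocalizedModule.mk'_eq_iff, Submonoid.smul_def, ← map_smul,
        IsLocalizedModule.eq_iff_exists (Submonoid.powers f)]
      refine ⟨c, ?_⟩
      simp only [Submonoid.smul_def, ← hk, ← hc]
      rw [hm₂, smul_smul, pow_add]

/-- If `g : M → M₁` is a localization at the powers of `f`, the kernel of `R' ⊗ M → R' ⊗ M₁` is
`f`-power torsion. -/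
theorem exists_pow_smul_eq_zero_of_lTensor {M M₁ : Type u} [AddCommGroup M] [Module R M]
    [AddCommGroup M₁] [Module R M₁] (g : M →ₗ[R] M₁) [IsLocalizedModule (Submonoid.powers f) g]
    (z : R' ⊗[R] M) (hz : g.lTensor R' z = 0) : ∃ k : ℕ, f ^ k • z = 0 := by
  have inst : IsLocalizedModule (Submonoid.powers f)
      (TensorProduct.AlgebraTensorModule.rTensor R R' g) :=
    IsLocalizedModule.rTensor (R := R) (A := R) (N := R') (Submonoid.powers f) g
  have h1 : TensorProduct.AlgebraTensorModule.rTensor R R' g (TensorProduct.comm R R' M z) = 0 := by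
    change LinearMap.rTensor R' g (TensorProduct.comm R R' M z) = 0
    rw [LinearMap.rTensor_comm, hz, map_zero]
  obtain ⟨c, hc⟩ := (IsLocalizedModule.eq_zero_iff (Submonoid.powers f)
    (TensorProduct.AlgebraTensorModule.rTensor R R' g)).mp h1
  obtain ⟨k, hk⟩ := (Submonoid.mem_powers_iff _ _).mp c.2
  refine ⟨k, ?_⟩
  apply (TensorProduct.comm R R' M).injective
  rw [map_smul, map_zero, hk]
  exact hc

/-- `f ^ k` acts bijectively when `f` does. -/
theorem pow_smul_bijective {M₁ : Type u} [AddCommGroup M₁] [Module R M₁]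
    (hf : Function.Bijective fun x : M₁ => f • x) (k : ℕ) :
    Function.Bijective fun x : M₁ => f ^ k • x := by
  induction k with
  | zero => simp only [pow_zero, one_smul]; exact Function.bijective_id
  | succ k ih =>
    have : (fun x : M₁ => f ^ (k + 1) • x) = (fun x : M₁ => f ^ k • x) ∘ (fun x : M₁ => f • x) := by
      funext x; simp [pow_succ, mul_smul]
    rw [this]
    exact ih.comp hf

theorem isUnit_algebraMap_end {M₁ : Type u} [AddCommGroup M₁] [Module R M₁]
    (hf : Function.Bijective fun x : M₁ => f • x) (s : Submonoid.powers f) :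
    IsUnit (algebraMap R (Module.End R M₁) s) := by
  obtain ⟨k, hk⟩ := (Submonoid.mem_powers_iff _ _).mp s.2
  rw [Module.End.isUnit_iff, ← hk]
  exact pow_smul_bijective hf k

theorem isUnit_algebraMap_end_tensor {M₁ : Type u} [AddCommGroup M₁] [Module R M₁]
    (hf : Function.Bijective fun x : M₁ => f • x) (s : Submonoid.powers f) :
    IsUnit (algebraMap R (Module.End R (R' ⊗[R] M₁)) s) := by
  rw [← (Module.End.lTensorAlgHom R M₁ R').commutes]
  exact (isUnit_algebraMap_end hf s).map _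

section Core

variable {M' : Type u} [AddCommGroup M'] [Module R M'] [Module R' M'] [IsScalarTower R R' M']
  {M₁ : Type u} [AddCommGroup M₁] [Module R M₁]

/-- The glued module: pairs `(m', m₁)` with `β m' = 1 ⊗ m₁`. -/
def glueSub (β : M' →ₗ[R'] R' ⊗[R] M₁) : Submodule R (M' × M₁) where
  carrier := {p | β p.1 = (1 : R') ⊗ₜ[R] p.2}
  add_mem' := fun {a b} (ha : β a.1 = (1 : R') ⊗ₜ[R] a.2) (hb : β b.1 = (1 : R') ⊗ₜ[R] b.2) =>
    show β (a + b).1 = (1 : R') ⊗ₜ[R] (a + b).2 by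
      rw [Prod.fst_add, Prod.snd_add, map_add, tmul_add, ha, hb]
  zero_mem' := show β (0 : M' × M₁).1 = (1 : R') ⊗ₜ[R] (0 : M' × M₁).2 by simp
  smul_mem' := fun c {a} (ha : β a.1 = (1 : R') ⊗ₜ[R] a.2) =>
    show β (c • a).1 = (1 : R') ⊗ₜ[R] (c • a).2 by
      rw [Prod.smul_fst, Prod.smul_snd, tmul_smul, LinearMap.map_smul_of_tower, ha]

theorem mem_glueSub (β : M' →ₗ[R'] R' ⊗[R] M₁) (p : M' × M₁) :
    p ∈ glueSub β ↔ β p.1 = (1 : R') ⊗ₜ[R] p.2 := Iff.rfl

/-- Second projection from the glued module. -/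
def glueSnd (β : M' →ₗ[R'] R' ⊗[R] M₁) : glueSub β →ₗ[R] M₁ :=
  (LinearMap.snd R M' M₁) ∘ₗ (glueSub β).subtype

/-- First projection from the glued module. -/
def glueFst (β : M' →ₗ[R'] R' ⊗[R] M₁) : glueSub β →ₗ[R] M' :=
  (LinearMap.fst R M' M₁) ∘ₗ (glueSub β).subtype

theorem glueSnd_isLocalizedModule (β : M' →ₗ[R'] R' ⊗[R] M₁)
    (hf : Function.Bijective fun x : M₁ => f • x)
    (hβ1 : ∀ m', β m' = 0 → ∃ k : ℕ, f ^ k • m' = 0)
    (hβ2 : ∀ y, ∃ (k : ℕ) (m' : M'), β m' = f ^ k • y) :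
    IsLocalizedModule (Submonoid.powers f) (glueSnd β) where
  map_units s := isUnit_algebraMap_end hf s
  surj y := by
    obtain ⟨k, m', hm'⟩ := hβ2 ((1 : R') ⊗ₜ[R] y)
    refine ⟨(⟨(m', f ^ k • y), ?_⟩, ⟨f ^ k, k, rfl⟩), rfl⟩
    rw [mem_glueSub, hm', tmul_smul]
  exists_of_eq {p q} hpq := by
    have hpq' : (p : M' × M₁).2 = (q : M' × M₁).2 := hpq
    have h0 : β ((p : M' × M₁).1 - (q : M' × M₁).1) = 0 := by
      rw [map_sub, (mem_glueSub β _).mp p.2, (mem_glueSub β _).mp q.2, hpq', sub_self]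
    obtain ⟨k, hk⟩ := hβ1 _ h0
    refine ⟨⟨f ^ k, k, rfl⟩, ?_⟩
    apply Subtype.ext
    rw [Submonoid.smul_def, Submonoid.smul_def]
    apply Prod.ext
    · have := hk
      rw [smul_sub, sub_eq_zero] at this
      exact this
    · show f ^ k • (p : M' × M₁).2 = f ^ k • (q : M' × M₁).2
      rw [hpq']

/-- The comparison map `R' ⊗ M → M'`. -/
noncomputable def glueMap (β : M' →ₗ[R'] R' ⊗[R] M₁) : R' ⊗[R] glueSub β →ₗ[R'] M' :=
  (glueFst β).liftBaseChange R'

theorem glueMap_tmul (β : M' →ₗ[R'] R' ⊗[R] M₁) (x : R') (p : glueSub β) :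
    glueMap β (x ⊗ₜ[R] p) = x • (p : M' × M₁).1 := rfl

theorem beta_glueMap (β : M' →ₗ[R'] R' ⊗[R] M₁) (z : R' ⊗[R] glueSub β) :
    β (glueMap β z) = (glueSnd β).lTensor R' z := by
  induction z using TensorProduct.induction_on with
  | zero => simp
  | tmul x p =>
    rw [glueMap_tmul, map_smul, (mem_glueSub β _).mp p.2, LinearMap.lTensor_tmul,
      TensorProduct.smul_tmul', smul_eq_mul, mul_one]
    rfl
  | add a b ha hb => rw [map_add, map_add, map_add, ha, hb]

theorem glueMap_surjective (hq : EtGlue.QuotPowBijective R R' f) (β : M' →ₗ[R'] R' ⊗[R] M₁)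
    (hβ2 : ∀ y, ∃ (k : ℕ) (m' : M'), β m' = f ^ k • y) :
    Function.Surjective (glueMap β) := by
  have key : ∀ y : R' ⊗[R] M₁, ∃ (n₀ : M₁) (l : R' ⊗[R] glueSub β),
      y = (1 : R') ⊗ₜ[R] n₀ + β (glueMap β l) := by
    intro y
    induction y using TensorProduct.induction_on with
    | zero => exact ⟨0, 0, by simp⟩
    | tmul x n =>
      obtain ⟨k, m'', hm''⟩ := hβ2 ((1 : R') ⊗ₜ[R] n)
      obtain ⟨r, s, rfl⟩ := exists_add hq k x
      have hp : (m'', f ^ k • n) ∈ glueSub β := by rw [mem_glueSub, hm'', tmul_smul]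
      refine ⟨r • n, s ⊗ₜ[R] ⟨(m'', f ^ k • n), hp⟩, ?_⟩
      rw [glueMap_tmul, map_smul, hm'', add_tmul, ← map_pow, ← Algebra.smul_def,
        Algebra.algebraMap_eq_smul_one, TensorProduct.smul_tmul, TensorProduct.smul_tmul' (f ^ k),
        TensorProduct.smul_tmul' s, smul_eq_mul, mul_smul_comm, mul_one]
    | add a b ha hb =>
      obtain ⟨n₁, l₁, rfl⟩ := ha
      obtain ⟨n₂, l₂, rfl⟩ := hb
      exact ⟨n₁ + n₂, l₁ + l₂, by rw [tmul_add, map_add, map_add]; abel⟩
  intro m'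
  obtain ⟨n₀, l, hl⟩ := key (β m')
  have hp : (m' - glueMap β l, n₀) ∈ glueSub β := by
    rw [mem_glueSub, map_sub, hl]; simp
  refine ⟨(1 : R') ⊗ₜ[R] ⟨_, hp⟩ + l, ?_⟩
  rw [map_add, glueMap_tmul, one_smul]
  simp

theorem glueMap_injective (h : EtGlue.IsGlueingPair R R' f) (β : M' →ₗ[R'] R' ⊗[R] M₁)
    (hf : Function.Bijective fun x : M₁ => f • x)
    (hβ1 : ∀ m', β m' = 0 → ∃ k : ℕ, f ^ k • m' = 0)
    (hβ2 : ∀ y, ∃ (k : ℕ) (m' : M'), β m' = f ^ k • y) :
    Function.Injective (glueMap β) := by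
  rw [injective_iff_map_eq_zero]
  intro z hz
  have := glueSnd_isLocalizedModule β hf hβ1 hβ2
  have h1 : (glueSnd β).lTensor R' z = 0 := by rw [← beta_glueMap, hz, map_zero]
  obtain ⟨k, hk⟩ := exists_pow_smul_eq_zero_of_lTensor (f := f) (glueSnd β) z h1
  obtain ⟨p, hp, rfl⟩ := torsionLifts h k _ z hk
  rw [glueMap_tmul, one_smul] at hz
  have hp2 : (p : M' × M₁).2 = 0 := by
    apply (pow_smul_bijective hf k).1
    have := congrArg (fun q : glueSub β => (q : M' × M₁).2) hp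
    simpa using this
  have : p = 0 := Subtype.ext (Prod.ext hz hp2)
  rw [this, tmul_zero]

theorem glueSub_isGlueable (h : EtGlue.IsGlueingPair R R' f) (β : M' →ₗ[R'] R' ⊗[R] M₁)
    (hf : Function.Bijective fun x : M₁ => f • x)
    (hβ1 : ∀ m', β m' = 0 → ∃ k : ℕ, f ^ k • m' = 0)
    (hβ2 : ∀ y, ∃ (k : ℕ) (m' : M'), β m' = f ^ k • y) :
    EtGlue.IsGlueable R R' f (glueSub β) := by
  have inst := glueSnd_isLocalizedModule β hf hβ1 hβ2
  let e₁ := IsLocalizedModule.iso (Submonoid.powers f) (glueSnd β)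
  have he₁ : ∀ p, e₁ (LocalizedModule.mkLinearMap (Submonoid.powers f) _ p) = glueSnd β p :=
    fun p => IsLocalizedModule.iso_mk_one (Submonoid.powers f) (glueSnd β) p
  have hinj := glueMap_injective h β hf hβ1 hβ2
  refine ⟨fun a b hab => ?_, fun x y hxy => ?_⟩
  · simp only [Prod.mk.injEq] at hab
    have h1 : (a : M' × M₁).1 = (b : M' × M₁).1 := by
      have := congrArg (glueMap β) hab.1
      simpa [glueMap_tmul] using this
    have h2 : (a : M' × M₁).2 = (b : M' × M₁).2 := by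
      have := congrArg e₁ hab.2
      rw [he₁, he₁] at this
      exact this
    exact Subtype.ext (Prod.ext h1 h2)
  · let Θ : LocalizedModule (Submonoid.powers f) (R' ⊗[R] glueSub β) →ₗ[R] R' ⊗[R] M₁ :=
      IsLocalizedModule.lift (Submonoid.powers f)
        (LocalizedModule.mkLinearMap (Submonoid.powers f) (R' ⊗[R] glueSub β))
        ((glueSnd β).lTensor R') (isUnit_algebraMap_end_tensor hf)
    have hΘ : ∀ x, Θ (LocalizedModule.mkLinearMap (Submonoid.powers f) _ x) =
        (glueSnd β).lTensor R' x := fun x => IsLocalizedModule.lift_apply _ _ _ _ x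
    have hΘ2 : Θ ∘ₗ EtGlue.tensorOfLoc R R' f (glueSub β) =
        (TensorProduct.mk R R' M₁ 1) ∘ₗ e₁.toLinearMap := by
      apply IsLocalizedModule.ext (Submonoid.powers f)
        (LocalizedModule.mkLinearMap (Submonoid.powers f) (glueSub β))
        (isUnit_algebraMap_end_tensor hf)
      ext p
      simp only [LinearMap.comp_apply]
      rw [EtGlue.tensorOfLoc, IsLocalizedModule.map_apply, hΘ, TensorProduct.mk_apply,
        LinearMap.lTensor_tmul, LinearEquiv.coe_coe, he₁, TensorProduct.mk_apply]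
    have hxy' : LocalizedModule.mkLinearMap (Submonoid.powers f) _ x =
        EtGlue.tensorOfLoc R R' f (glueSub β) y := hxy
    have hkey : β (glueMap β x) = (1 : R') ⊗ₜ[R] e₁ y := by
      rw [beta_glueMap, ← hΘ, hxy']
      exact LinearMap.congr_fun hΘ2 y
    refine ⟨⟨(glueMap β x, e₁ y), hkey⟩, ?_, ?_⟩
    · apply hinj
      rw [glueMap_tmul, one_smul]
    · apply e₁.injective
      rw [he₁]
      rfl

end Core

theorem exists_pow_smul_eq_zero_of_fg {N : Type u} [AddCommGroup N] [Module R N]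
    (Q : Submodule R N) (hQ : Q.FG) (hN : ∀ n ∈ Q, ∃ k : ℕ, f ^ k • n = 0) :
    ∃ k : ℕ, ∀ n ∈ Q, f ^ k • n = 0 := by
  classical
  obtain ⟨s, rfl⟩ := hQ
  have hN' : ∀ n : N, ∃ k : ℕ, n ∈ Submodule.span R (s : Set N) → f ^ k • n = 0 := by
    intro n
    by_cases hn : n ∈ Submodule.span R (s : Set N)
    · obtain ⟨k, hk⟩ := hN n hn
      exact ⟨k, fun _ => hk⟩
    · exact ⟨0, fun h => absurd h hn⟩
  choose k hk using hN'
  refine ⟨s.sup k, fun n hn => ?_⟩
  induction hn using Submodule.span_induction with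
  | mem x hx =>
    have hle : k x ≤ s.sup k := Finset.le_sup hx
    rw [← Nat.sub_add_cancel hle, pow_add, mul_smul, hk x (Submodule.subset_span hx), smul_zero]
  | zero => exact smul_zero _
  | add x y _ _ hx hy => rw [smul_add, hx, hy, add_zero]
  | smul r x _ hx => rw [smul_comm, hx, smul_zero]

/-- For `f`-power torsion modules `N`, the map `N → R' ⊗ N` is injective. -/
theorem eq_zero_of_tmul_eq_zero (hq : EtGlue.QuotPowBijective R R' f) {N : Type u} [AddCommGroup N]
    [Module R N] (hN : ∀ n : N, ∃ k : ℕ, f ^ k • n = 0) (n : N) (h : (1 : R') ⊗ₜ[R] n = 0) :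
    n = 0 := by
  let P₀ : Submodule R N := Submodule.span R {n}
  have hP₀ : P₀.FG := Submodule.fg_span_singleton n
  let n₀ : P₀ := ⟨n, Submodule.mem_span_singleton_self n⟩
  let t : P₀ ⊗[R] R' := n₀ ⊗ₜ[R] (1 : R')
  have ht : LinearMap.rTensor R' P₀.subtype t = 0 := by
    change (n ⊗ₜ[R] (1 : R')) = 0
    have := congrArg (TensorProduct.comm R R' N) h
    simpa using this
  obtain ⟨Q, hPQ, hQfg, hQ0⟩ := TensorProduct.eq_zero_of_fg_of_subtype_eq_zero hP₀ ht
  obtain ⟨k, hk⟩ := exists_pow_smul_eq_zero_of_fg (f := f) (⊤ : Submodule R Q)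
    (Module.Finite.fg_top (self := Module.Finite.iff_fg.mpr hQfg))
    (fun x _ => by
      obtain ⟨k, hk⟩ := hN (x : N)
      exact ⟨k, Subtype.ext (by simpa using hk)⟩)
  have h1 : (1 : R') ⊗ₜ[R] (Submodule.inclusion hPQ n₀) = f ^ k • (0 : R' ⊗[R] Q) := by
    rw [smul_zero]
    have := congrArg (TensorProduct.comm R Q R') hQ0
    simpa [t] using this
  obtain ⟨m₂, hm₂⟩ := exists_smul_of_tmul_eq hq k _ _ h1
  rw [hk m₂ Submodule.mem_top] at hm₂
  have := congrArg (fun x : Q => (x : N)) hm₂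
  simpa [n₀] using this

/-- `R' ⊕ R_f` is faithful: a module killed by both base changes is zero. -/
theorem subsingleton_of_tensor_of_localized (hq : EtGlue.QuotPowBijective R R' f) (Q : Type u)
    [AddCommGroup Q] [Module R Q] (h1 : Subsingleton (R' ⊗[R] Q))
    (h2 : Subsingleton (LocalizedModule (Submonoid.powers f) Q)) : Subsingleton Q := by
  have htors : ∀ q : Q, ∃ k : ℕ, f ^ k • q = 0 := fun q =>
    (mkLinearMap_eq_zero_iff q).mp (Subsingleton.elim _ _)
  refine ⟨fun a b => ?_⟩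
  rw [eq_zero_of_tmul_eq_zero hq htors a (Subsingleton.elim _ _),
    eq_zero_of_tmul_eq_zero hq htors b (Subsingleton.elim _ _)]

/-- A submodule whose base changes to `R'` and `R_f` are everything is everything. -/
theorem eq_top_of_tensor_of_localized (hq : EtGlue.QuotPowBijective R R' f) {B : Type u}
    [AddCommGroup B] [Module R B] (P : Submodule R B)
    (h1 : Function.Surjective (P.subtype.lTensor R'))
    (h2 : ∀ b : B, ∃ k : ℕ, f ^ k • b ∈ P) : P = ⊤ := by
  rw [← Submodule.Quotient.subsingleton_iff]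
  apply subsingleton_of_tensor_of_localized hq
  · have hsur : Function.Surjective (P.mkQ.lTensor R') :=
      LinearMap.lTensor_surjective R' (Submodule.mkQ_surjective P)
    have hzero : ∀ x, P.mkQ.lTensor R' x = 0 := by
      intro x
      obtain ⟨y, rfl⟩ := h1 x
      rw [← LinearMap.comp_apply, ← LinearMap.lTensor_comp]
      have : P.mkQ ∘ₗ P.subtype = 0 := by
        ext n
        simp
      rw [this, LinearMap.lTensor_zero, LinearMap.zero_apply]
    refine ⟨fun a b => ?_⟩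
    obtain ⟨a', rfl⟩ := hsur a
    obtain ⟨b', rfl⟩ := hsur b
    rw [hzero, hzero]
  · rw [LocalizedModule.subsingleton_iff]
    intro q
    obtain ⟨b, rfl⟩ := Submodule.Quotient.mk_surjective P q
    obtain ⟨k, hk⟩ := h2 b
    refine ⟨f ^ k, ⟨k, rfl⟩, ?_⟩
    rw [← Submodule.Quotient.mk_smul, Submodule.Quotient.mk_eq_zero]
    exact hk

section AlgebraDescent

variable {A B : Type u} [CommRing A] [Algebra R A] [CommRing B] [Algebra R B] (φ : A →ₐ[R] B)

/-- The image of `R' ⊗ P → R' ⊗ B` is stable under `R' ⊗ A` when `P` is stable under `A`. -/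
theorem lTensor_range_mul_mem (P : Submodule R B) (hP : ∀ a p, p ∈ P → φ a * p ∈ P)
    (c : R' ⊗[R] A) (z : R' ⊗[R] B) (hz : z ∈ LinearMap.range (P.subtype.lTensor R')) :
    Algebra.TensorProduct.map (AlgHom.id R R') φ c * z ∈
      LinearMap.range (P.subtype.lTensor R') := by
  obtain ⟨w, rfl⟩ := hz
  induction c using TensorProduct.induction_on with
  | zero => simp
  | tmul x a =>
    induction w using TensorProduct.induction_on with
    | zero => simp
    | tmul y p =>
      refine ⟨(x * y) ⊗ₜ[R] ⟨φ a * p, hP a p p.2⟩, ?_⟩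
      simp [Algebra.TensorProduct.tmul_mul_tmul]
    | add w₁ w₂ h₁ h₂ =>
      rw [map_add, mul_add]
      exact Submodule.add_mem _ h₁ h₂
  | add c₁ c₂ h₁ h₂ =>
    rw [map_add, add_mul]
    exact Submodule.add_mem _ h₁ h₂

/-- The image of `R' ⊗ P → R' ⊗ B` is stable under multiplication when `P` is a subalgebra. -/
theorem lTensor_range_mul_mem' (P : Subalgebra R B) (z₁ z₂ : R' ⊗[R] B)
    (h₁ : z₁ ∈ LinearMap.range ((Subalgebra.toSubmodule P).subtype.lTensor R'))
    (h₂ : z₂ ∈ LinearMap.range ((Subalgebra.toSubmodule P).subtype.lTensor R')) :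
    z₁ * z₂ ∈ LinearMap.range ((Subalgebra.toSubmodule P).subtype.lTensor R') := by
  have key : ∀ w : R' ⊗[R] P, (Subalgebra.toSubmodule P).subtype.lTensor R' w =
      Algebra.TensorProduct.map (AlgHom.id R R') P.val w := by
    intro w
    induction w using TensorProduct.induction_on with
    | zero => simp
    | tmul x p => simp
    | add a b ha hb => rw [map_add, map_add, ha, hb]
  obtain ⟨w₁, rfl⟩ := h₁
  obtain ⟨w₂, rfl⟩ := h₂
  let v₁ : R' ⊗[R] P := w₁
  let v₂ : R' ⊗[R] P := w₂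
  refine ⟨(v₁ * v₂ : R' ⊗[R] P), ?_⟩
  rw [key w₁, key w₂, key]
  exact map_mul _ v₁ v₂

/-- Elements of `B_g` having a multiple by a power of `g` in the image of `P`. -/
def locSet (g : B) (P : Submodule R B) : Set (Localization.Away g) :=
  {y | ∃ (k : ℕ) (p : B), p ∈ P ∧
    y * algebraMap B (Localization.Away g) g ^ k = algebraMap B _ p}

theorem pow_mul_mem (g : B) (P : Submodule R B) (hg : ∀ p, p ∈ P → g * p ∈ P) (k : ℕ) {p : B}
    (hp : p ∈ P) : g ^ k * p ∈ P := by
  induction k with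
  | zero => simpa using hp
  | succ k ih => rw [pow_succ', mul_assoc]; exact hg _ ih

theorem locSet_zero (g : B) (P : Submodule R B) : (0 : Localization.Away g) ∈ locSet g P :=
  ⟨0, 0, P.zero_mem, by simp⟩

theorem locSet_add (g : B) (P : Submodule R B) (hg : ∀ p, p ∈ P → g * p ∈ P)
    {y₁ y₂ : Localization.Away g}
    (h₁ : y₁ ∈ locSet g P) (h₂ : y₂ ∈ locSet g P) : y₁ + y₂ ∈ locSet g P := by
  obtain ⟨k₁, p₁, hp₁, e₁⟩ := h₁
  obtain ⟨k₂, p₂, hp₂, e₂⟩ := h₂
  refine ⟨k₁ + k₂, g ^ k₂ * p₁ + g ^ k₁ * p₂,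
    P.add_mem (pow_mul_mem g P hg _ hp₁) (pow_mul_mem g P hg _ hp₂), ?_⟩
  rw [map_add, map_mul, map_mul, ← e₁, ← e₂, map_pow, map_pow]
  ring

theorem locSet_mul (g : B) (P : Submodule R B) (hP : ∀ p q, p ∈ P → q ∈ P → p * q ∈ P)
    {y₁ y₂ : Localization.Away g}
    (h₁ : y₁ ∈ locSet g P) (h₂ : y₂ ∈ locSet g P) : y₁ * y₂ ∈ locSet g P := by
  obtain ⟨k₁, p₁, hp₁, e₁⟩ := h₁
  obtain ⟨k₂, p₂, hp₂, e₂⟩ := h₂
  refine ⟨k₁ + k₂, p₁ * p₂, hP _ _ hp₁ hp₂, ?_⟩
  rw [map_mul, ← e₁, ← e₂]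
  ring

theorem locSet_algebraMap (g : B) (P : Submodule R B) {p : B} (hp : p ∈ P) :
    algebraMap B (Localization.Away g) p ∈ locSet g P :=
  ⟨0, p, hp, by simp⟩

theorem exists_pow_mul_mem_of_mem_locSet (g : B) (P : Submodule R B)
    (hg : ∀ p, p ∈ P → g * p ∈ P) (b : B)
    (hb : algebraMap B (Localization.Away g) b ∈ locSet g P) :
    ∃ k : ℕ, g ^ k * b ∈ P := by
  obtain ⟨k, p, hp, e⟩ := hb
  rw [← map_pow, ← map_mul] at e
  obtain ⟨j, hj⟩ := IsLocalization.Away.exists_of_eq g e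
  refine ⟨j + k, ?_⟩
  have : g ^ (j + k) * b = g ^ j * p := by
    rw [← hj, pow_add]
    ring
  rw [this]
  exact pow_mul_mem g P hg _ hp

theorem locSet_awayMap_mul (a₀ : A) (P : Submodule R B) (hPmul : ∀ a p, p ∈ P → φ a * p ∈ P)
    (c : Localization.Away a₀) {y : Localization.Away (φ.toRingHom a₀)}
    (hy : y ∈ locSet (φ.toRingHom a₀) P) :
    Localization.awayMap φ.toRingHom a₀ c * y ∈ locSet (φ.toRingHom a₀) P := by
  have hθ : ∀ a : A, Localization.awayMap φ.toRingHom a₀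
      (algebraMap A (Localization.Away a₀) a) =
        algebraMap B (Localization.Away (φ.toRingHom a₀)) (φ a) := fun a => IsLocalization.map_eq _ a
  obtain ⟨k, p, hp, e⟩ := hy
  obtain ⟨j, a, ha⟩ := IsLocalization.Away.surj a₀ c
  refine ⟨j + k, φ a * p, hPmul a p hp, ?_⟩
  have h3 : Localization.awayMap φ.toRingHom a₀ c *
      algebraMap B (Localization.Away (φ.toRingHom a₀)) (φ.toRingHom a₀) ^ j =
        algebraMap B _ (φ a) := by
    have := congrArg (Localization.awayMap φ.toRingHom a₀) ha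
    rw [map_mul, map_pow, hθ, hθ] at this
    exact this
  rw [map_mul, ← h3, ← e, pow_add]
  ring

end AlgebraDescent

/-- Glueability is invariant under linear equivalences. -/
theorem isGlueable_of_linearEquiv (hq : EtGlue.QuotPowBijective R R' f) {M N : Type u}
    [AddCommGroup M] [Module R M] [AddCommGroup N] [Module R N] (e : M ≃ₗ[R] N)
    (hN : EtGlue.IsGlueable R R' f N) : EtGlue.IsGlueable R R' f M := by
  rw [isGlueable_iff hq] at hN ⊢
  obtain ⟨h1, h2⟩ := hN
  have he : ∀ m : M, (e.toLinearMap.lTensor R') ((1 : R') ⊗ₜ[R] m) = (1 : R') ⊗ₜ[R] e m :=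
    fun m => LinearMap.lTensor_tmul _ _ _ _
  refine ⟨fun m ⟨n, hn⟩ hm => ?_, fun x ⟨n, hn⟩ => ?_⟩
  · apply e.injective
    rw [map_zero]
    apply h1 (e m) ⟨n, by rw [← map_smul, hn, map_zero]⟩
    rw [← he, hm, map_zero]
  · obtain ⟨m, ⟨k, hk⟩, hm⟩ := h2 (e.toLinearMap.lTensor R' x) ⟨n, by rw [← map_smul, hn, map_zero]⟩
    refine ⟨e.symm m, ⟨k, by rw [← map_smul, hk, map_zero]⟩, ?_⟩
    have hinj : Function.Injective (e.toLinearMap.lTensor R') :=
      (e.lTensor R').injective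
    apply hinj
    rw [he, LinearEquiv.apply_symm_apply, hm]

end Groth.Agent.H10.Glue
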