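-- Formal glueing along a flat ring map `R → S` with `R / I ≅ S / I S`, `I` finitely generated:
-- `I`-power torsion modules are unchanged by base change, and the glueing complex is exact.
import Groth.Agent.H10.Glue
import Mathlib.RingTheory.Flat.Basic
import Mathlib.LinearAlgebra.TensorProduct.Pi
import Mathlib.RingTheory.Finiteness.Ideal
import Mathlib.RingTheory.Ideal.Operations

set_option autoImplicit false
universe u

namespace Groth.Agent.H10.FlatGlue

open TensorProduct

variable {R S : Type u} [CommRing R] [CommRing S] [Algebra R S] {I : Ideal R}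

/-- `R / I → S / I S` is bijective. -/
abbrev QuotBij (R S : Type u) [CommRing R] [CommRing S] [Algebra R S] (I : Ideal R) : Prop :=
  Function.Bijective
    (Ideal.quotientMap (I.map (algebraMap R S)) (algebraMap R S) Ideal.le_comap_map)

theorem exists_add (hq : QuotBij R S I) (s : S) :
    ∃ r : R, ∃ z ∈ I.map (algebraMap R S), s = algebraMap R S r + z := by
  obtain ⟨y, hy⟩ := hq.2 (Ideal.Quotient.mk _ s)
  obtain ⟨r, rfl⟩ := Ideal.Quotient.mk_surjective y
  rw [Ideal.quotientMap_mk, Ideal.Quotient.eq] at hy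
  refine ⟨r, s - algebraMap R S r, ?_, by ring⟩
  have := (I.map (algebraMap R S)).neg_mem hy
  rwa [neg_sub] at this

/-- The `R`-linear retraction `S → R / I`. -/
noncomputable def sigma (hq : QuotBij R S I) : S →ₗ[R] R ⧸ I where
  toFun x := (RingEquiv.ofBijective _ hq).symm (Ideal.Quotient.mk _ x)
  map_add' x y := by simp
  map_smul' r x := by
    apply (RingEquiv.ofBijective _ hq).injective
    rw [RingEquiv.apply_symm_apply, RingHom.id_apply, Algebra.smul_def, Algebra.smul_def, map_mul,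
      map_mul, RingEquiv.apply_symm_apply]
    rfl

theorem sigma_one (hq : QuotBij R S I) : sigma hq 1 = 1 := by
  simp [sigma]

section Killed

variable {T : Type u} [AddCommGroup T] [Module R T]

theorem map_tmul_eq_zero (hT : ∀ a ∈ I, ∀ t : T, a • t = 0) (z : S)
    (hz : z ∈ I.map (algebraMap R S)) (t : T) : z ⊗ₜ[R] t = 0 := by
  unfold Ideal.map at hz
  induction hz using Submodule.span_induction with
  | mem x hx =>
    obtain ⟨a, ha, rfl⟩ := hx
    rw [Algebra.algebraMap_eq_smul_one, TensorProduct.smul_tmul, hT a ha, tmul_zero]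
  | zero => exact zero_tmul _ _
  | add x y _ _ hx hy => rw [add_tmul, hx, hy, add_zero]
  | smul s x _ hx => rw [← TensorProduct.smul_tmul', hx, smul_zero]

theorem mk_surjective_of_smul_eq_zero (hq : QuotBij R S I) (hT : ∀ a ∈ I, ∀ t : T, a • t = 0) :
    Function.Surjective (TensorProduct.mk R S T 1) := by
  intro z
  induction z using TensorProduct.induction_on with
  | zero => exact ⟨0, map_zero _⟩
  | tmul s t =>
    obtain ⟨r, z₀, hz₀, rfl⟩ := exists_add hq s
    refine ⟨r • t, ?_⟩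
    rw [TensorProduct.mk_apply, add_tmul, map_tmul_eq_zero hT z₀ hz₀ t, add_zero,
      Algebra.algebraMap_eq_smul_one, TensorProduct.smul_tmul]
  | add x y hx hy =>
    obtain ⟨a, rfl⟩ := hx
    obtain ⟨b, rfl⟩ := hy
    exact ⟨a + b, map_add _ _ _⟩

theorem mk_injective_of_smul_eq_zero (hq : QuotBij R S I) (hT : ∀ a ∈ I, ∀ t : T, a • t = 0) :
    Function.Injective (TensorProduct.mk R S T 1) := by
  rw [injective_iff_map_eq_zero]
  intro t ht
  rw [TensorProduct.mk_apply] at ht
  let Φ : S ⊗[R] T →ₗ[R] T ⧸ (I • (⊤ : Submodule R T)) :=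
    (quotTensorEquivQuotSMul T I).toLinearMap ∘ₗ LinearMap.rTensor T (sigma hq)
  have h1 : Φ ((1 : S) ⊗ₜ[R] t) = Submodule.Quotient.mk t := by
    simp only [Φ, LinearMap.comp_apply, LinearMap.rTensor_tmul, sigma_one]
    exact quotTensorEquivQuotSMul_mk_one_tmul _ _
  rw [ht, map_zero] at h1
  have h3 : t ∈ I • (⊤ : Submodule R T) := (Submodule.Quotient.mk_eq_zero _).mp h1.symm
  exact Submodule.smul_induction_on (p := fun y => y = 0) h3 (fun a ha y _ => hT a ha y)
    (fun y z hy hz => by rw [hy, hz, add_zero])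

end Killed

/-- For `T` killed by a power of `I`, the map `T → S ⊗ T` is bijective. -/
theorem mk_bijective_of_pow_smul_eq_zero [Module.Flat R S] (hq : QuotBij R S I) :
    ∀ (n : ℕ) (T : Type u) [AddCommGroup T] [Module R T],
      (∀ a ∈ I ^ n, ∀ t : T, a • t = 0) → Function.Bijective (TensorProduct.mk R S T 1) := by
  intro n
  induction n with
  | zero =>
    intro T _ _ hT
    have hT' : ∀ a ∈ I, ∀ t : T, a • t = 0 := fun a _ t => hT a (by simp) t
    exact ⟨mk_injective_of_smul_eq_zero hq hT', mk_surjective_of_smul_eq_zero hq hT'⟩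
  | succ n ih =>
    intro T _ _ hT
    let T₁ : Submodule R T := I • (⊤ : Submodule R T)
    have hT₁ : ∀ a ∈ I ^ n, ∀ t : T₁, a • t = 0 := by
      intro a ha t
      apply Subtype.ext
      change a • (t : T) = 0
      refine Submodule.smul_induction_on (p := fun y => a • y = 0) t.2 ?_ ?_
      · intro b hb y _
        rw [← mul_smul]
        exact hT _ (by rw [pow_succ]; exact Ideal.mul_mem_mul ha hb) y
      · intro y z hy hz
        rw [smul_add, hy, hz, add_zero]
    have hQ : ∀ a ∈ I, ∀ q : T ⧸ T₁, a • q = 0 := by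
      intro a ha q
      obtain ⟨t, rfl⟩ := Submodule.Quotient.mk_surjective _ q
      rw [← Submodule.Quotient.mk_smul, Submodule.Quotient.mk_eq_zero]
      exact Submodule.smul_mem_smul ha Submodule.mem_top
    have ih₁ := ih T₁ hT₁
    have hQinj := mk_injective_of_smul_eq_zero hq hQ
    have hQsurj := mk_surjective_of_smul_eq_zero hq hQ
    have hflat : Function.Injective (T₁.subtype.lTensor S) :=
      Module.Flat.lTensor_preserves_injective_linearMap _ (Submodule.subtype_injective _)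
    have hex := lTensor_exact S (LinearMap.exact_subtype_mkQ T₁) (Submodule.mkQ_surjective T₁)
    constructor
    · rw [injective_iff_map_eq_zero]
      intro t ht
      rw [TensorProduct.mk_apply] at ht
      have h1 : (1 : S) ⊗ₜ[R] (T₁.mkQ t) = 0 := by
        have := congrArg (T₁.mkQ.lTensor S) ht
        rwa [LinearMap.lTensor_tmul, map_zero] at this
      have h2 : T₁.mkQ t = 0 := (injective_iff_map_eq_zero _).mp hQinj _ h1
      have h3 : t ∈ T₁ := by rwa [Submodule.mkQ_apply, Submodule.Quotient.mk_eq_zero] at h2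
      have h4 : (1 : S) ⊗ₜ[R] (⟨t, h3⟩ : T₁) = 0 :=
        hflat (by rw [LinearMap.lTensor_tmul, map_zero]; exact ht)
      have h5 : (⟨t, h3⟩ : T₁) = 0 := (injective_iff_map_eq_zero _).mp ih₁.1 _ h4
      exact congrArg Subtype.val h5
    · intro z
      obtain ⟨q, hq'⟩ := hQsurj (T₁.mkQ.lTensor S z)
      obtain ⟨t₀, rfl⟩ := Submodule.mkQ_surjective T₁ q
      have h1 : T₁.mkQ.lTensor S (z - (1 : S) ⊗ₜ[R] t₀) = 0 := by
        rw [map_sub, LinearMap.lTensor_tmul, ← hq', TensorProduct.mk_apply, sub_self]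
      obtain ⟨z₁, hz₁⟩ := (hex _).mp h1
      obtain ⟨t₁, ht₁⟩ := ih₁.2 z₁
      refine ⟨t₀ + t₁, ?_⟩
      rw [TensorProduct.mk_apply, tmul_add]
      have h2 : (1 : S) ⊗ₜ[R] (t₁ : T) = z - (1 : S) ⊗ₜ[R] t₀ := by
        rw [← hz₁, ← ht₁, TensorProduct.mk_apply, LinearMap.lTensor_tmul]
        rfl
      rw [h2]
      abel

/-- The elements of `T` killed by `I ^ n`. -/
def tors (I : Ideal R) (n : ℕ) (T : Type u) [AddCommGroup T] [Module R T] : Submodule R T where
  carrier := {t | ∀ a ∈ I ^ n, a • t = 0}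
  zero_mem' := fun a _ => smul_zero a
  add_mem' := fun {x y} hx hy a ha => by rw [smul_add, hx a ha, hy a ha, add_zero]
  smul_mem' := fun c x hx a ha => by rw [smul_comm, hx a ha, smul_zero]

theorem tors_kill (n : ℕ) (T : Type u) [AddCommGroup T] [Module R T] :
    ∀ a ∈ I ^ n, ∀ t : tors I n T, a • t = 0 := fun a ha t => Subtype.ext (t.2 a ha)

/-- An `I`-power torsion element with `1 ⊗ m = 0` vanishes. -/
theorem eq_zero_of_tmul_eq_zero [Module.Flat R S] (hq : QuotBij R S I) {M : Type u}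
    [AddCommGroup M] [Module R M] (m : M) (hm : ∃ n : ℕ, ∀ a ∈ I ^ n, a • m = 0)
    (h : (1 : S) ⊗ₜ[R] m = 0) : m = 0 := by
  obtain ⟨n, hn⟩ := hm
  have hflat : Function.Injective ((tors I n M).subtype.lTensor S) :=
    Module.Flat.lTensor_preserves_injective_linearMap _ (Submodule.subtype_injective _)
  have h4 : (1 : S) ⊗ₜ[R] (⟨m, hn⟩ : tors I n M) = 0 :=
    hflat (by rw [LinearMap.lTensor_tmul, map_zero]; exact h)
  have h5 := (injective_iff_map_eq_zero _).mp
    (mk_bijective_of_pow_smul_eq_zero hq n (tors I n M) (tors_kill n M)).1 _ h4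
  exact congrArg Subtype.val h5

/-- For `I`-power torsion `T`, the map `T → S ⊗ T` is bijective. -/
theorem mk_bijective_of_torsion [Module.Flat R S] (hq : QuotBij R S I) {T : Type u}
    [AddCommGroup T] [Module R T] (hT : ∀ t : T, ∃ n : ℕ, ∀ a ∈ I ^ n, a • t = 0) :
    Function.Bijective (TensorProduct.mk R S T 1) := by
  constructor
  · rw [injective_iff_map_eq_zero]
    intro t ht
    exact eq_zero_of_tmul_eq_zero hq t (hT t) ht
  · intro z
    induction z using TensorProduct.induction_on with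
    | zero => exact ⟨0, map_zero _⟩
    | tmul s t =>
      obtain ⟨n, hn⟩ := hT t
      obtain ⟨t', ht'⟩ := (mk_bijective_of_pow_smul_eq_zero hq n (tors I n T) (tors_kill n T)).2
        (s ⊗ₜ[R] (⟨t, hn⟩ : tors I n T))
      refine ⟨(t' : T), ?_⟩
      have := congrArg ((tors I n T).subtype.lTensor S) ht'
      rw [TensorProduct.mk_apply, LinearMap.lTensor_tmul, LinearMap.lTensor_tmul] at this
      exact this
    | add x y hx hy =>
      obtain ⟨a, rfl⟩ := hx
      obtain ⟨b, rfl⟩ := hy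
      exact ⟨a + b, map_add _ _ _⟩

/-- Torsion elements of `S ⊗ E` killed by `g₁, …, g_t` come from such elements of `E`. -/
theorem exists_torsion_lift [Module.Flat R S] (hq : QuotBij R S I) {E : Type u} [AddCommGroup E]
    [Module R E] {t : ℕ} (g : Fin t → R) (K : ℕ) (hK : I ^ K ≤ Ideal.span (Set.range g))
    (z : S ⊗[R] E) (hz : ∀ j, g j • z = 0) :
    ∃ ε : E, (∀ j, g j • ε = 0) ∧ (1 : S) ⊗ₜ[R] ε = z := by
  let ψ : E →ₗ[R] (Fin t → E) := LinearMap.pi (fun j => g j • LinearMap.id)
  let EJ : Submodule R E := LinearMap.ker ψ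
  have hEJ : ∀ (ε : EJ) (j : Fin t), g j • (ε : E) = 0 := fun ε j => by
    have : ψ ε = 0 := LinearMap.mem_ker.mp ε.2
    exact congrFun this j
  have hkill : ∀ a ∈ I ^ K, ∀ ε : EJ, a • ε = 0 := by
    intro a ha ε
    obtain ⟨c, rfl⟩ := Ideal.mem_span_range_iff_exists_fun.mp (hK ha)
    apply Subtype.ext
    change (∑ j, c j * g j) • (ε : E) = 0
    rw [Finset.sum_smul]
    exact Finset.sum_eq_zero (fun j _ => by rw [mul_smul, hEJ ε j, smul_zero])
  have hex := Module.Flat.lTensor_exact S (LinearMap.exact_subtype_ker_map ψ)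
  have key : ∀ w : S ⊗[R] E,
      (TensorProduct.piRight R R S (fun _ : Fin t => E)) (ψ.lTensor S w) = fun j => g j • w := by
    intro w
    induction w using TensorProduct.induction_on with
    | zero =>
      rw [map_zero, map_zero]
      funext j
      simp
    | tmul s e =>
      rw [LinearMap.lTensor_tmul, TensorProduct.piRight_apply, TensorProduct.piRightHom_tmul]
      funext j
      simp [ψ, TensorProduct.tmul_smul]
    | add x y hx hy =>
      rw [map_add, map_add, hx, hy]
      funext j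
      simp [smul_add]
  have hψz : ψ.lTensor S z = 0 := by
    apply (TensorProduct.piRight R R S (fun _ : Fin t => E)).injective
    rw [map_zero, key]
    funext j
    exact hz j
  obtain ⟨z', hz'⟩ := (hex z).mp hψz
  obtain ⟨ε', hε'⟩ := (mk_bijective_of_pow_smul_eq_zero hq K EJ hkill).2 z'
  refine ⟨(ε' : E), hEJ ε', ?_⟩
  rw [← hz', ← hε', TensorProduct.mk_apply, LinearMap.lTensor_tmul]
  rfl

theorem exists_pow_le {t : ℕ} (f : Fin t → R) (hI : Ideal.span (Set.range f) = I) (g : Fin t → R)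
    (hg : ∀ i, ∃ k : ℕ, f i ^ k = g i) : ∃ K : ℕ, I ^ K ≤ Ideal.span (Set.range g) := by
  apply Ideal.exists_pow_le_of_le_radical_of_fg
  · rw [← hI, Ideal.span_le]
    rintro _ ⟨i, rfl⟩
    obtain ⟨k, hk⟩ := hg i
    exact ⟨k, by rw [hk]; exact Ideal.subset_span ⟨i, rfl⟩⟩
  · rw [← hI]
    exact Submodule.fg_span (Set.finite_range f)

/-- An element vanishing in all `M_{f_i}` is killed by a power of `I`. -/
theorem exists_pow_kill {t : ℕ} (f : Fin t → R) (hI : Ideal.span (Set.range f) = I) {M : Type u}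
    [AddCommGroup M] [Module R M] (m : M)
    (h2 : ∀ i, LocalizedModule.mkLinearMap (Submonoid.powers (f i)) M m = 0) :
    ∃ K : ℕ, ∀ a ∈ I ^ K, a • m = 0 := by
  have hk : ∀ i, ∃ k : ℕ, f i ^ k • m = 0 := fun i => (Glue.mkLinearMap_eq_zero_iff m).mp (h2 i)
  choose k hk using hk
  obtain ⟨K, hK⟩ := exists_pow_le f hI (fun i => f i ^ k i) (fun i => ⟨k i, rfl⟩)
  refine ⟨K, fun a ha => ?_⟩
  obtain ⟨c, rfl⟩ := Ideal.mem_span_range_iff_exists_fun.mp (hK ha)
  rw [Finset.sum_smul]
  exact Finset.sum_eq_zero (fun j _ => by rw [mul_smul, hk j, smul_zero])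

/-- First half of the exactness of the glueing complex. -/
theorem eq_zero_of_tmul_eq_zero_of_localized [Module.Flat R S] (hq : QuotBij R S I) {t : ℕ}
    (f : Fin t → R) (hI : Ideal.span (Set.range f) = I) {M : Type u} [AddCommGroup M] [Module R M]
    (m : M) (h1 : (1 : S) ⊗ₜ[R] m = 0)
    (h2 : ∀ i, LocalizedModule.mkLinearMap (Submonoid.powers (f i)) M m = 0) : m = 0 :=
  eq_zero_of_tmul_eq_zero hq m (exists_pow_kill f hI m h2) h1

/-- Second half of the exactness of the glueing complex. -/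
theorem exists_glue [Module.Flat R S] (hq : QuotBij R S I) {t : ℕ}
    (f : Fin t → R) (hI : Ideal.span (Set.range f) = I) (M : Type u) [AddCommGroup M] [Module R M]
    (x : S ⊗[R] M) (N : ℕ) (m : Fin t → M)
    (hA : ∀ i, ∃ e : ℕ, f i ^ e • (f i ^ N • x - (1 : S) ⊗ₜ[R] m i) = 0)
    (hB : ∀ i j, ∃ e : ℕ, (f i * f j) ^ e • (f j ^ N • m i - f i ^ N • m j) = 0) :
    ∃ μ : M, (1 : S) ⊗ₜ[R] μ = x ∧
      ∀ i, LocalizedModule.mkLinearMap (Submonoid.powers (f i)) M μ =
        LocalizedModule.mk (m i) (⟨f i ^ N, N, rfl⟩ : Submonoid.powers (f i)) := by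
  classical
  choose eA hA using hA
  choose eB hB using hB
  let e : ℕ := Finset.univ.sup eA + Finset.univ.sup (fun i => Finset.univ.sup (eB i))
  have heA : ∀ i, eA i ≤ e := fun i =>
    le_trans (Finset.le_sup (Finset.mem_univ i)) (Nat.le_add_right _ _)
  have heB : ∀ i j, eB i j ≤ e := fun i j =>
    le_trans (le_trans (Finset.le_sup (f := eB i) (Finset.mem_univ j))
      (Finset.le_sup (f := fun i => Finset.univ.sup (eB i)) (Finset.mem_univ i)))
      (Nat.le_add_left _ _)
  have hA' : ∀ i, f i ^ e • (f i ^ N • x - (1 : S) ⊗ₜ[R] m i) = 0 := fun i => by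
    rw [← Nat.sub_add_cancel (heA i), pow_add, mul_smul, hA i, smul_zero]
  have hB' : ∀ i j, (f i * f j) ^ e • (f j ^ N • m i - f i ^ N • m j) = 0 := fun i j => by
    rw [← Nat.sub_add_cancel (heB i j), pow_add, mul_smul, hB i j, smul_zero]
  let g : Fin t → R := fun k => f k ^ (N + e)
  let n : Fin t → M := fun k => f k ^ e • m k
  obtain ⟨K, hK⟩ := exists_pow_le f hI g (fun i => ⟨N + e, rfl⟩)
  let c : M →ₗ[R] (∀ k : Fin t, LocalizedModule (Submonoid.powers (f k)) M) :=
    LinearMap.pi (fun k => LocalizedModule.mkLinearMap (Submonoid.powers (f k)) M)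
  let sN : ∀ k, Submonoid.powers (f k) := fun k => ⟨f k ^ N, N, rfl⟩
  let ξ : ∀ k : Fin t, LocalizedModule (Submonoid.powers (f k)) M :=
    fun k => LocalizedModule.mk (m k) (sN k)
  have hgx : ∀ k, g k • x = (1 : S) ⊗ₜ[R] n k := by
    intro k
    have := hA' k
    rw [smul_sub, sub_eq_zero] at this
    rw [show g k • x = f k ^ e • f k ^ N • x by rw [← mul_smul, ← pow_add, add_comm], this,
      TensorProduct.tmul_smul]
  have hgξ : ∀ k, g k • ξ = c (n k) := by
    intro k
    funext j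
    change g k • LocalizedModule.mk (m j) (sN j) =
      LocalizedModule.mkLinearMap (Submonoid.powers (f j)) M (n k)
    rw [LocalizedModule.mkLinearMap_apply, LocalizedModule.smul'_mk, LocalizedModule.mk_eq]
    refine ⟨(⟨f j ^ e, e, rfl⟩ : Submonoid.powers (f j)), ?_⟩
    have := hB' k j
    rw [smul_sub, sub_eq_zero] at this
    simp only [Submonoid.smul_def, one_smul, smul_smul, g, n, sN] at this ⊢
    convert this.symm using 2 <;> ring
  let E : Submodule R (∀ k : Fin t, LocalizedModule (Submonoid.powers (f k)) M) :=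
    LinearMap.range c ⊔ Submodule.span R {ξ}
  let cE : M →ₗ[R] E := c.codRestrict E (fun μ => Submodule.mem_sup_left ⟨μ, rfl⟩)
  let ξE : E := ⟨ξ, Submodule.mem_sup_right (Submodule.subset_span rfl)⟩
  have hgξE : ∀ k, g k • ξE = cE (n k) := fun k => Subtype.ext (hgξ k)
  let C : Submodule R E := LinearMap.range cE
  have hEC : ∀ (y : E) (k : Fin t), g k • y ∈ C := by
    intro y k
    obtain ⟨y, hy⟩ := y
    obtain ⟨_, ⟨μ', rfl⟩, z, hz, rfl⟩ := Submodule.mem_sup.mp hy
    obtain ⟨b, rfl⟩ := Submodule.mem_span_singleton.mp hz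
    refine ⟨g k • μ' + b • n k, Subtype.ext ?_⟩
    change c (g k • μ' + b • n k) = g k • (c μ' + b • ξ)
    rw [map_add, map_smul, map_smul, ← hgξ k, smul_add, smul_comm]
  have hQkill : ∀ a ∈ I ^ K, ∀ q : E ⧸ C, a • q = 0 := by
    intro a ha q
    obtain ⟨y, rfl⟩ := Submodule.Quotient.mk_surjective _ q
    obtain ⟨cf, rfl⟩ := Ideal.mem_span_range_iff_exists_fun.mp (hK ha)
    rw [← Submodule.Quotient.mk_smul, Submodule.Quotient.mk_eq_zero, Finset.sum_smul]
    exact Submodule.sum_mem _ (fun j _ => by rw [mul_smul]; exact C.smul_mem _ (hEC y j))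
  let εS : S ⊗[R] E := (1 : S) ⊗ₜ[R] ξE - cE.lTensor S x
  have hεS : ∀ k, g k • εS = 0 := by
    intro k
    change g k • ((1 : S) ⊗ₜ[R] ξE - cE.lTensor S x) = 0
    rw [smul_sub, ← TensorProduct.tmul_smul, hgξE k, ← map_smul, hgx k, LinearMap.lTensor_tmul,
      sub_self]
  obtain ⟨ε, hε, hε1⟩ := exists_torsion_lift hq g K hK εS hεS
  have h1 : (1 : S) ⊗ₜ[R] (ξE - ε) = cE.lTensor S x := by
    rw [tmul_sub, hε1]
    simp only [εS]
    abel
  have hmem : ξE - ε ∈ C := by
    rw [← Submodule.Quotient.mk_eq_zero C]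
    have hbij := mk_bijective_of_pow_smul_eq_zero hq K (E ⧸ C) hQkill
    apply (injective_iff_map_eq_zero _).mp hbij.1
    rw [TensorProduct.mk_apply]
    have h2 : C.mkQ.lTensor S ((1 : S) ⊗ₜ[R] (ξE - ε)) = 0 := by
      rw [h1, ← LinearMap.comp_apply, ← LinearMap.lTensor_comp]
      have h0 : C.mkQ ∘ₗ cE = 0 := by
        ext μ'
        simp only [LinearMap.comp_apply, Submodule.mkQ_apply, LinearMap.zero_apply,
          Submodule.Quotient.mk_eq_zero]
        exact ⟨μ', rfl⟩
      rw [h0, LinearMap.lTensor_zero, LinearMap.zero_apply]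
    rwa [LinearMap.lTensor_tmul] at h2
  obtain ⟨μ₀, hμ₀⟩ := hmem
  -- correct `μ₀` by a torsion element
  let Kc : Submodule R M := LinearMap.ker cE
  have hKc : ∀ τ : Kc, ∃ n : ℕ, ∀ a ∈ I ^ n, a • τ = 0 := by
    intro τ
    have h0 : cE τ.1 = 0 := LinearMap.mem_ker.mp τ.2
    have h2 : ∀ i, LocalizedModule.mkLinearMap (Submonoid.powers (f i)) M τ.1 = 0 :=
      fun i => congrFun (congrArg Subtype.val h0) i
    obtain ⟨K', hK'⟩ := exists_pow_kill f hI τ.1 h2
    exact ⟨K', fun a ha => Subtype.ext (hK' a ha)⟩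
  have hexK := Module.Flat.lTensor_exact S (LinearMap.exact_subtype_ker_map cE)
  have h3 : cE.lTensor S ((1 : S) ⊗ₜ[R] μ₀ - x) = 0 := by
    rw [map_sub, LinearMap.lTensor_tmul, hμ₀, h1, sub_self]
  obtain ⟨z', hz'⟩ := (hexK _).mp h3
  obtain ⟨τ, hτ⟩ := (mk_bijective_of_torsion hq hKc).2 z'
  have h4 : (1 : S) ⊗ₜ[R] (τ : M) = (1 : S) ⊗ₜ[R] μ₀ - x := by
    rw [← hz', ← hτ, TensorProduct.mk_apply, LinearMap.lTensor_tmul]
    rfl
  refine ⟨μ₀ - τ, ?_, ?_⟩
  · rw [tmul_sub, h4]
    abel
  · intro k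
    have hτ0 : cE τ.1 = 0 := LinearMap.mem_ker.mp τ.2
    have h5 : c (μ₀ - τ) = ξ - (ε : ∀ k : Fin t, LocalizedModule (Submonoid.powers (f k)) M) := by
      have h6 : cE (μ₀ - τ) = ξE - ε := by rw [map_sub, hτ0, sub_zero, hμ₀]
      exact congrArg Subtype.val h6
    have h7 : LocalizedModule.mkLinearMap (Submonoid.powers (f k)) M (μ₀ - τ) =
        LocalizedModule.mk (m k) (sN k) -
          (ε : ∀ k : Fin t, LocalizedModule (Submonoid.powers (f k)) M) k :=
      congrFun h5 k
    have h8 : (ε : ∀ k : Fin t, LocalizedModule (Submonoid.powers (f k)) M) k = 0 := by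
      have h9 : g k • (ε : ∀ k : Fin t, LocalizedModule (Submonoid.powers (f k)) M) k = 0 :=
        congrFun (congrArg Subtype.val (hε k)) k
      have hu : IsUnit (algebraMap R (Module.End R (LocalizedModule (Submonoid.powers (f k)) M))
          (g k)) :=
        IsLocalizedModule.map_units (LocalizedModule.mkLinearMap (Submonoid.powers (f k)) M)
          (⟨g k, N + e, rfl⟩ : Submonoid.powers (f k))
      have hb := (Module.End.isUnit_iff _).mp hu
      exact hb.1 (by rw [Module.algebraMap_end_apply, h9, map_zero])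
    rw [h7, h8, sub_zero]

end Groth.Agent.H10.FlatGlue
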