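-- Formal glueing of maps: for `R → S` flat with `R/I ≃ S/IS`, a map `φ : M' → X ≃ S ⊗ N` with
-- `I`-power torsion kernel and cokernel is the base change of the projection of the fibre product
-- `M' ×_X N → N`.
import Groth.Agent.H10.FlatGlue
import Mathlib.RingTheory.TensorProduct.Basic

set_option autoImplicit false
universe u

namespace Groth.Agent.H10.FormalGlue

open TensorProduct
open Groth.Agent.H10.FlatGlue

variable {R S : Type u} [CommRing R] [CommRing S] [Algebra R S] {I : Ideal R}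

/-- `S = R + I ^ k S`. -/
theorem exists_add_pow [Module.Flat R S] (hq : QuotBij R S I) (k : ℕ) (s : S) :
    ∃ (r : R) (z : S), z ∈ (I ^ k).map (algebraMap R S) ∧ s = algebraMap R S r + z := by
  have hkill : ∀ a ∈ I ^ k, ∀ t : R ⧸ I ^ k, a • t = 0 := by
    intro a ha t
    obtain ⟨r, rfl⟩ := Ideal.Quotient.mk_surjective t
    show Ideal.Quotient.mk (I ^ k) (a * r) = 0
    exact Ideal.Quotient.eq_zero_iff_mem.mpr ((I ^ k).mul_mem_right r ha)
  obtain ⟨t, ht⟩ := (mk_bijective_of_pow_smul_eq_zero hq k (R ⧸ I ^ k) hkill).2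
    (s ⊗ₜ[R] (Ideal.Quotient.mk (I ^ k) 1))
  obtain ⟨r, rfl⟩ := Ideal.Quotient.mk_surjective t
  refine ⟨r, s - algebraMap R S r, ?_, by ring⟩
  have h := congrArg (Algebra.TensorProduct.quotIdealMapEquivTensorQuot S (I ^ k)).symm ht
  rw [TensorProduct.mk_apply, Algebra.TensorProduct.quotIdealMapEquivTensorQuot_symm_tmul,
    Algebra.TensorProduct.quotIdealMapEquivTensorQuot_symm_tmul, Algebra.smul_def, mul_one,
    one_smul] at h
  have h' := (Submodule.Quotient.eq _).mp h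
  have h'' := ((I ^ k).map (algebraMap R S)).neg_mem h'
  rwa [neg_sub] at h''

variable {N X M' : Type u} [AddCommGroup N] [Module R N]
  [AddCommGroup X] [Module R X] [Module S X] [IsScalarTower R S X]
  [AddCommGroup M'] [Module R M'] [Module S M'] [IsScalarTower R S M']

theorem map_smul_mem (P : Submodule S X) (J : Ideal R) (x : X) (h : ∀ a ∈ J, a • x ∈ P) (z : S)
    (hz : z ∈ J.map (algebraMap R S)) : z • x ∈ P := by
  refine Submodule.span_induction (p := fun z _ => z • x ∈ P) ?_ ?_ ?_ ?_ hz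
  · rintro _ ⟨a, ha, rfl⟩
    rw [algebraMap_smul]
    exact h a ha
  · rw [zero_smul]
    exact P.zero_mem
  · intro z₁ z₂ _ _ h₁ h₂
    rw [add_smul]
    exact P.add_mem h₁ h₂
  · intro s z _ hz
    rw [smul_eq_mul, mul_smul]
    exact P.smul_mem s hz

/-- The fibre product `M' ×_X N`. -/
def fibre (ι : N →ₗ[R] X) (φ : M' →ₗ[S] X) : Submodule R (M' × N) :=
  LinearMap.ker ((φ.restrictScalars R) ∘ₗ LinearMap.fst R M' N - ι ∘ₗ LinearMap.snd R M' N)

theorem mem_fibre (ι : N →ₗ[R] X) (φ : M' →ₗ[S] X) (p : M' × N) :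
    p ∈ fibre ι φ ↔ φ p.1 = ι p.2 := by
  rw [fibre, LinearMap.mem_ker, LinearMap.sub_apply, sub_eq_zero]
  rfl

/-- The base change of `M' ×_X N → M'` is bijective. -/
theorem liftBaseChange_fst_bijective [Module.Flat R S] (hq : QuotBij R S I)
    (ι : N →ₗ[R] X) (hX : Function.Bijective (LinearMap.liftBaseChange S ι))
    (φ : M' →ₗ[S] X)
    (hker : ∀ x : M', φ x = 0 → ∃ n : ℕ, ∀ a ∈ I ^ n, a • x = 0)
    (hcoker : ∀ y : X, ∃ n : ℕ, ∀ a ∈ I ^ n, a • y ∈ LinearMap.range φ) :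
    Function.Bijective (LinearMap.liftBaseChange S
      (LinearMap.fst R M' N ∘ₗ (fibre ι φ).subtype)) := by
  classical
  let M : Submodule R (M' × N) := fibre ι φ
  let pr : M →ₗ[R] M' := LinearMap.fst R M' N ∘ₗ M.subtype
  let ψ : M →ₗ[R] N := LinearMap.snd R M' N ∘ₗ M.subtype
  let e₀ : S ⊗[R] M →ₗ[S] M' := LinearMap.liftBaseChange S pr
  let ℓ : S ⊗[R] N →ₗ[S] X := LinearMap.liftBaseChange S ι
  have hM : ∀ m : M, φ (pr m) = ι (ψ m) := fun m => (mem_fibre ι φ m.1).mp m.2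
  have hφe : ∀ z : S ⊗[R] M, φ (e₀ z) = ℓ (ψ.lTensor S z) := by
    intro z
    induction z using TensorProduct.induction_on with
    | zero => simp
    | tmul s m =>
      rw [LinearMap.liftBaseChange_tmul, map_smul, hM, LinearMap.lTensor_tmul,
        LinearMap.liftBaseChange_tmul]
    | add a b ha hb => rw [map_add, map_add, ha, hb, map_add, map_add]
  let P : Submodule S X := LinearMap.range φ
  let PR : Submodule R X := P.restrictScalars R
  let N₁ : Submodule R N := Submodule.comap ι PR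
  let K' : Submodule R M' := LinearMap.ker (φ.restrictScalars R)
  have hK' : ∀ κ : K', φ (κ : M') = 0 := fun κ => LinearMap.mem_ker.mp κ.2
  let j : K' →ₗ[R] M := LinearMap.codRestrict M (LinearMap.inl R M' N ∘ₗ K'.subtype)
    (fun κ => (mem_fibre ι φ _).mpr (by
      show φ (κ : M') = ι 0
      rw [hK', map_zero]))
  have hj : ∀ κ : K', pr (j κ) = (κ : M') := fun κ => rfl
  have hexact : Function.Exact j ψ := by
    intro m
    constructor
    · intro hm
      have h0 : φ (pr m) = 0 := by rw [hM, hm, map_zero]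
      refine ⟨⟨pr m, LinearMap.mem_ker.mpr h0⟩, Subtype.ext (Prod.ext rfl ?_)⟩
      exact hm.symm
    · rintro ⟨κ, rfl⟩
      rfl
  have hK'tors : ∀ κ : K', ∃ n : ℕ, ∀ a ∈ I ^ n, a • κ = 0 := by
    intro κ
    obtain ⟨n, hn⟩ := hker (κ : M') (hK' κ)
    exact ⟨n, fun a ha => Subtype.ext (hn a ha)⟩
  constructor
  · -- injectivity
    rw [injective_iff_map_eq_zero]
    intro z hz
    have hz' : e₀ z = 0 := hz
    have h1 : ψ.lTensor S z = 0 := hX.1 (by
      show ℓ (ψ.lTensor S z) = ℓ 0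
      rw [← hφe, hz', map_zero, map_zero])
    obtain ⟨u, rfl⟩ := (Module.Flat.lTensor_exact S hexact z).mp h1
    obtain ⟨κ, rfl⟩ := (mk_bijective_of_torsion hq hK'tors).2 u
    have h2 : e₀ (j.lTensor S (TensorProduct.mk R S K' 1 κ)) = (κ : M') := by
      rw [TensorProduct.mk_apply, LinearMap.lTensor_tmul, LinearMap.liftBaseChange_tmul, one_smul,
        hj]
    rw [h2] at hz'
    have hκ : κ = 0 := Subtype.ext hz'
    rw [hκ, map_zero, map_zero]
  · -- surjectivity
    have hA : ∀ n : N, ∃ k : ℕ, ∀ a ∈ I ^ k, a • n ∈ N₁ := by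
      intro n
      obtain ⟨k, hk⟩ := hcoker (ι n)
      refine ⟨k, fun a ha => ?_⟩
      show ι (a • n) ∈ P
      rw [map_smul]
      exact hk a ha
    let T := N ⧸ N₁
    have hT : ∀ t : T, ∃ k : ℕ, ∀ a ∈ I ^ k, a • t = 0 := by
      intro t
      obtain ⟨n, rfl⟩ := Submodule.Quotient.mk_surjective _ t
      obtain ⟨k, hk⟩ := hA n
      refine ⟨k, fun a ha => ?_⟩
      rw [← Submodule.Quotient.mk_smul, Submodule.Quotient.mk_eq_zero]
      exact hk a ha
    let b₀ : N →ₗ[R] S →ₗ[R] X ⧸ PR :=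
      LinearMap.mk₂ R (fun n s => PR.mkQ (s • ι n))
        (fun n₁ n₂ s => by rw [map_add, smul_add, map_add])
        (fun c n s => by rw [LinearMap.map_smul, smul_comm s c (ι n), LinearMap.map_smul])
        (fun n s₁ s₂ => by rw [add_smul, map_add])
        (fun c n s => by rw [smul_assoc, LinearMap.map_smul])
    have hb₀ : N₁ ≤ LinearMap.ker b₀ := by
      intro n hn
      rw [LinearMap.mem_ker]
      ext s
      show PR.mkQ (s • ι n) = 0
      rw [Submodule.mkQ_apply, Submodule.Quotient.mk_eq_zero]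
      exact P.smul_mem s hn
    let b₁ : T →ₗ[R] S →ₗ[R] X ⧸ PR := N₁.liftQ b₀ hb₀
    let β : S ⊗[R] T →ₗ[R] X ⧸ PR := TensorProduct.lift b₁.flip
    have hβ : ∀ w : S ⊗[R] N, β (N₁.mkQ.lTensor S w) = PR.mkQ (ℓ w) := by
      intro w
      induction w using TensorProduct.induction_on with
      | zero => simp
      | tmul s n =>
        rw [LinearMap.lTensor_tmul, LinearMap.liftBaseChange_tmul]
        rfl
      | add a b ha hb => rw [map_add, map_add, ha, hb, map_add, map_add]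
    have hB : ∀ y ∈ P, ∃ w : S ⊗[R] N₁, ℓ (N₁.subtype.lTensor S w) = y := by
      intro y hy
      obtain ⟨w, rfl⟩ := hX.2 y
      have h0 : β (N₁.mkQ.lTensor S w) = 0 := by
        rw [hβ, Submodule.mkQ_apply, Submodule.Quotient.mk_eq_zero]
        exact hy
      obtain ⟨τ, hτ⟩ := (mk_bijective_of_torsion hq hT).2 (N₁.mkQ.lTensor S w)
      obtain ⟨n, rfl⟩ := Submodule.Quotient.mk_surjective _ τ
      have h1 : β ((1 : S) ⊗ₜ[R] (Submodule.Quotient.mk n : T)) = PR.mkQ (ι n) := by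
        show PR.mkQ ((1 : S) • ι n) = _
        rw [one_smul]
      rw [TensorProduct.mk_apply] at hτ
      rw [← hτ, h1, Submodule.mkQ_apply, Submodule.Quotient.mk_eq_zero] at h0
      have hn : (Submodule.Quotient.mk n : T) = 0 := (Submodule.Quotient.mk_eq_zero _).mpr h0
      rw [hn, tmul_zero] at hτ
      obtain ⟨w', hw'⟩ := (Module.Flat.lTensor_exact S (LinearMap.exact_subtype_mkQ N₁) w).mp hτ.symm
      exact ⟨w', by rw [hw']⟩
    intro m'
    obtain ⟨w, hw⟩ := hB (φ m') ⟨m', rfl⟩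
    let ψ' : M →ₗ[R] N₁ := ψ.codRestrict N₁ (fun m => by
      show ι (ψ m) ∈ P
      rw [← hM]
      exact ⟨_, rfl⟩)
    have hψ' : Function.Surjective ψ' := by
      rintro ⟨n, hn⟩
      obtain ⟨x, hx⟩ := hn
      exact ⟨⟨(x, n), (mem_fibre ι φ _).mpr hx⟩, Subtype.ext rfl⟩
    obtain ⟨v, hv⟩ := LinearMap.lTensor_surjective S hψ' w
    have h1 : φ (e₀ v) = φ m' := by
      rw [hφe, ← hw, ← hv, ← LinearMap.comp_apply (N₁.subtype.lTensor S), ← LinearMap.lTensor_comp]
      rfl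
    let κ : K' := ⟨m' - e₀ v, LinearMap.mem_ker.mpr (by
      show φ (m' - e₀ v) = 0
      rw [map_sub, h1, sub_self])⟩
    refine ⟨v + (1 : S) ⊗ₜ[R] (j κ), ?_⟩
    show e₀ (v + (1 : S) ⊗ₜ[R] (j κ)) = m'
    rw [map_add, LinearMap.liftBaseChange_tmul, one_smul, hj]
    show e₀ v + (m' - e₀ v) = m'
    abel

end Groth.Agent.H10.FormalGlue
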