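-- Lifting extensions of an `I`-power torsion module along `R → S` flat with `R/I ≃ S/IS`.
import Groth.Agent.H10.FormalGlue

set_option autoImplicit false
universe u

namespace Groth.Agent.H10.ExtGlue

open TensorProduct
open Groth.Agent.H10.FlatGlue

variable {R S : Type u} [CommRing R] [CommRing S] [Algebra R S] {I : Ideal R}

section Koszul

variable {N : Type u} [AddCommGroup N] [Module R N]

/-- Surjectivity of `H¹(K(g; N)) → H¹(K(g; S ⊗ N))` for the Koszul complex on `g`. -/
theorem exists_koszul_decomp [Module.Flat R S] (hq : QuotBij R S I) {t : ℕ} (g : Fin t → R) (K : ℕ)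
    (hK : I ^ K ≤ Ideal.span (Set.range g)) (z : Fin t → S ⊗[R] N)
    (hz : ∀ i j, g j • z i = g i • z j) :
    ∃ (y : S ⊗[R] N) (n : Fin t → N), (∀ i j, g j • n i = g i • n j) ∧
      ∀ i, z i = g i • y + (1 : S) ⊗ₜ[R] n i := by
  classical
  let ψ : (Fin t → N) →ₗ[R] (Fin t × Fin t → N) :=
    LinearMap.pi (fun p => g p.2 • LinearMap.proj p.1 - g p.1 • LinearMap.proj p.2)
  have hψ : ∀ (v : Fin t → N) (p : Fin t × Fin t), ψ v p = g p.2 • v p.1 - g p.1 • v p.2 :=
    fun v p => rfl
  let Z : Submodule R (Fin t → N) := LinearMap.ker ψ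
  have hZ : ∀ (n : Z) (i j : Fin t), g j • (n : Fin t → N) i = g i • (n : Fin t → N) j := by
    intro n i j
    have h1 : ψ n = 0 := LinearMap.mem_ker.mp n.2
    have h2 := congrFun h1 (i, j)
    rw [hψ] at h2
    exact sub_eq_zero.mp h2
  let d₀ : N →ₗ[R] (Fin t → N) := LinearMap.pi (fun i => g i • LinearMap.id)
  have hd₀ : ∀ (n : N) (i : Fin t), d₀ n i = g i • n := fun n i => rfl
  let d : N →ₗ[R] Z := LinearMap.codRestrict Z d₀ (fun n => by
    rw [LinearMap.mem_ker]
    funext p
    rw [hψ, hd₀, hd₀, smul_comm, sub_self]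
    rfl)
  have hd : ∀ (n : N) (i : Fin t), ((d n : Z) : Fin t → N) i = g i • n := fun n i => rfl
  let B : Submodule R Z := LinearMap.range d
  have hkill : ∀ a ∈ I ^ K, ∀ h : Z ⧸ B, a • h = 0 := by
    intro a ha h
    obtain ⟨n, rfl⟩ := Submodule.Quotient.mk_surjective _ h
    obtain ⟨c, rfl⟩ := Ideal.mem_span_range_iff_exists_fun.mp (hK ha)
    rw [← Submodule.Quotient.mk_smul, Submodule.Quotient.mk_eq_zero, Finset.sum_smul]
    refine Submodule.sum_mem _ (fun k _ => ?_)
    rw [mul_smul]
    refine B.smul_mem _ ⟨(n : Fin t → N) k, Subtype.ext ?_⟩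
    funext i
    show g i • (n : Fin t → N) k = g k • (n : Fin t → N) i
    exact hZ n k i
  let e := TensorProduct.piRight R R S (fun _ : Fin t => N)
  have he : ∀ (s : S) (v : Fin t → N) (i : Fin t), e (s ⊗ₜ[R] v) i = s ⊗ₜ[R] v i := by
    intro s v i
    simp [e]
  let w : S ⊗[R] (Fin t → N) := e.symm z
  have key : ∀ w : S ⊗[R] (Fin t → N),
      (TensorProduct.piRight R R S (fun _ : Fin t × Fin t => N)) (ψ.lTensor S w) =
        fun p => g p.2 • e w p.1 - g p.1 • e w p.2 := by
    intro w
    induction w using TensorProduct.induction_on with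
    | zero =>
      rw [map_zero, map_zero, map_zero]
      funext p
      simp
    | tmul s v =>
      rw [LinearMap.lTensor_tmul, TensorProduct.piRight_apply, TensorProduct.piRightHom_tmul]
      funext p
      rw [he, he, hψ, tmul_sub, tmul_smul, tmul_smul]
    | add x y hx hy =>
      rw [map_add, map_add, hx, hy, map_add]
      funext p
      simp only [Pi.add_apply, smul_add]
      abel
  have hψw : ψ.lTensor S w = 0 := by
    apply (TensorProduct.piRight R R S (fun _ : Fin t × Fin t => N)).injective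
    rw [map_zero, key]
    funext p
    have hew : e w = z := e.apply_symm_apply z
    rw [hew]
    exact sub_eq_zero.mpr (hz p.1 p.2)
  obtain ⟨zh, hzh⟩ := (Module.Flat.lTensor_exact S (LinearMap.exact_subtype_ker_map ψ) w).mp hψw
  obtain ⟨h, hh⟩ := (mk_bijective_of_pow_smul_eq_zero hq K (Z ⧸ B) hkill).2 (B.mkQ.lTensor S zh)
  obtain ⟨n, rfl⟩ := Submodule.Quotient.mk_surjective _ h
  have h0 : B.mkQ.lTensor S (zh - (1 : S) ⊗ₜ[R] n) = 0 := by
    rw [map_sub, ← hh, LinearMap.lTensor_tmul, TensorProduct.mk_apply]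
    exact sub_self _
  have hexd : Function.Exact d B.mkQ := LinearMap.exact_map_mkQ_range d
  obtain ⟨y, hy⟩ := (Module.Flat.lTensor_exact S hexd _).mp h0
  refine ⟨y, fun i => (n : Fin t → N) i, fun i j => hZ n i j, fun i => ?_⟩
  have h1 : zh = d.lTensor S y + (1 : S) ⊗ₜ[R] n := by
    rw [hy]
    abel
  have h2 : z i = e (Z.subtype.lTensor S zh) i := by
    rw [hzh]
    show z i = e (e.symm z) i
    rw [e.apply_symm_apply]
  have h3 : ∀ y : S ⊗[R] N, e (Z.subtype.lTensor S (d.lTensor S y)) i = g i • y := by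
    intro y
    induction y using TensorProduct.induction_on with
    | zero => simp
    | tmul s n₀ =>
      rw [LinearMap.lTensor_tmul, LinearMap.lTensor_tmul, he]
      show s ⊗ₜ[R] (g i • n₀) = _
      rw [tmul_smul]
    | add a b ha hb =>
      rw [map_add, map_add, map_add, Pi.add_apply, ha, hb, smul_add]
  rw [h2, h1, map_add, map_add, Pi.add_apply, h3, LinearMap.lTensor_tmul, he]
  rfl

end Koszul

section Loc

variable {N : Type u} [AddCommGroup N] [Module R N]

theorem isUnit_end_of_dvd {a b : R} (h : a ∣ b) (x : Submonoid.powers a) :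
    IsUnit (algebraMap R (Module.End R (LocalizedModule (Submonoid.powers b) N)) x) := by
  obtain ⟨k, hk⟩ := (Submonoid.mem_powers_iff _ _).mp x.2
  obtain ⟨c, rfl⟩ := h
  have hu : IsUnit (algebraMap R (Module.End R (LocalizedModule (Submonoid.powers (a * c)) N))
      ((a * c) ^ k)) :=
    IsLocalizedModule.map_units (LocalizedModule.mkLinearMap (Submonoid.powers (a * c)) N)
      (⟨(a * c) ^ k, k, rfl⟩ : Submonoid.powers (a * c))
  rw [mul_pow, map_mul] at hu
  rw [← hk]
  have hc : Commute (algebraMap R (Module.End R (LocalizedModule (Submonoid.powers (a * c)) N))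
      (a ^ k)) (algebraMap R (Module.End R (LocalizedModule (Submonoid.powers (a * c)) N))
      (c ^ k)) := Algebra.commutes (a ^ k) _
  exact (hc.isUnit_mul_iff.mp hu).1

/-- The canonical map `N_a → N_b` for `a ∣ b`. -/
noncomputable def locTo {a b : R} (h : a ∣ b) :
    LocalizedModule (Submonoid.powers a) N →ₗ[R] LocalizedModule (Submonoid.powers b) N :=
  IsLocalizedModule.lift (Submonoid.powers a) (LocalizedModule.mkLinearMap (Submonoid.powers a) N)
    (LocalizedModule.mkLinearMap (Submonoid.powers b) N) (isUnit_end_of_dvd h)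

theorem locTo_mkLinearMap {a b : R} (h : a ∣ b) (n : N) :
    locTo h (LocalizedModule.mkLinearMap (Submonoid.powers a) N n) =
      LocalizedModule.mkLinearMap (Submonoid.powers b) N n :=
  IsLocalizedModule.lift_apply _ _ _ _ n

theorem pow_smul_mk {a : R} (k : ℕ) (n : N) :
    a ^ k • LocalizedModule.mk n (⟨a ^ k, k, rfl⟩ : Submonoid.powers a) =
      LocalizedModule.mkLinearMap (Submonoid.powers a) N n := by
  rw [LocalizedModule.mkLinearMap_apply, LocalizedModule.smul'_mk, LocalizedModule.mk_eq]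
  exact ⟨1, by simp [Submonoid.smul_def]⟩

theorem pow_smul_locTo_mk {a b : R} (h : a ∣ b) (k : ℕ) (n : N) :
    a ^ k • locTo h (LocalizedModule.mk n (⟨a ^ k, k, rfl⟩ : Submonoid.powers a)) =
      LocalizedModule.mkLinearMap (Submonoid.powers b) N n := by
  rw [← map_smul, pow_smul_mk, locTo_mkLinearMap]

theorem smul_injective_of_dvd {a b : R} (h : a ∣ b) (k : ℕ)
    {x y : LocalizedModule (Submonoid.powers b) N} (hxy : a ^ k • x = a ^ k • y) : x = y := by
  have hu := isUnit_end_of_dvd (N := N) h (⟨a ^ k, k, rfl⟩ : Submonoid.powers a)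
  have hb := (Module.End.isUnit_iff _).mp hu
  exact hb.1 (by rw [Module.algebraMap_end_apply, Module.algebraMap_end_apply]; exact hxy)

/-- Every family of elements of the `N_{f_i}` has a common exponent. -/
theorem exists_common_exponent {t : ℕ} (f : Fin t → R)
    (ν : ∀ i, LocalizedModule (Submonoid.powers (f i)) N) :
    ∃ (k : ℕ) (m : Fin t → N), ∀ i,
      ν i = LocalizedModule.mk (m i) (⟨f i ^ k, k, rfl⟩ : Submonoid.powers (f i)) := by
  classical
  have h1 : ∀ i, ∃ (a : N) (k : ℕ),
      ν i = LocalizedModule.mk a (⟨f i ^ k, k, rfl⟩ : Submonoid.powers (f i)) := by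
    intro i
    induction ν i using LocalizedModule.induction_on with
    | h a s =>
      obtain ⟨k, hk⟩ := (Submonoid.mem_powers_iff _ _).mp s.2
      refine ⟨a, k, ?_⟩
      congr 1
      exact Subtype.ext hk.symm
  choose a k hak using h1
  refine ⟨Finset.univ.sup k, fun i => f i ^ (Finset.univ.sup k - k i) • a i, fun i => ?_⟩
  have hle : k i ≤ Finset.univ.sup k := Finset.le_sup (Finset.mem_univ i)
  rw [hak i, LocalizedModule.mk_eq]
  refine ⟨1, ?_⟩
  simp only [Submonoid.smul_def, one_smul, ← mul_smul, ← pow_add]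
  rw [Nat.add_sub_cancel' hle]

end Loc

section Ext

variable {N M E' : Type u} [AddCommGroup N] [Module R N] [AddCommGroup M] [Module R M]
  [AddCommGroup E'] [Module S E'] [Module R E'] [IsScalarTower R S E']
variable {t : ℕ} (f : Fin t → R) (i' : S ⊗[R] N →ₗ[S] E')

/-- `n ↦ i' (1 ⊗ n)`. -/
noncomputable def uMap : N →ₗ[R] E' := (i'.restrictScalars R) ∘ₗ (TensorProduct.mk R S N 1)

/-- The localized map `N_{f_i} → E'_{f_i}`. -/
noncomputable def uLoc (i : Fin t) :
    LocalizedModule (Submonoid.powers (f i)) N →ₗ[R]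
      LocalizedModule (Submonoid.powers (f i)) E' :=
  IsLocalizedModule.map (Submonoid.powers (f i))
    (LocalizedModule.mkLinearMap (Submonoid.powers (f i)) N)
    (LocalizedModule.mkLinearMap (Submonoid.powers (f i)) E') (uMap i')

/-- The module glued from `E'` and the `N_{f_i}`. -/
def extSub : Submodule R (E' × (∀ i, LocalizedModule (Submonoid.powers (f i)) N)) where
  carrier := {x | (∀ i, LocalizedModule.mkLinearMap (Submonoid.powers (f i)) E' x.1 =
      uLoc f i' i (x.2 i)) ∧
    ∀ i j, locTo (dvd_mul_right (f i) (f j)) (x.2 i) = locTo (dvd_mul_left (f j) (f i)) (x.2 j)}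
  add_mem' := fun {x y} hx hy =>
    ⟨fun i => by
      rw [Prod.fst_add, map_add, hx.1 i, hy.1 i, Prod.snd_add, Pi.add_apply, map_add],
    fun i j => by
      rw [Prod.snd_add, Pi.add_apply, Pi.add_apply, map_add, map_add, hx.2 i j, hy.2 i j]⟩
  zero_mem' := ⟨fun i => by simp, fun i j => by simp⟩
  smul_mem' := fun c x hx =>
    ⟨fun i => by
      rw [Prod.smul_fst, map_smul, hx.1 i, Prod.smul_snd, Pi.smul_apply, map_smul],
    fun i j => by
      rw [Prod.smul_snd, Pi.smul_apply, Pi.smul_apply, map_smul, map_smul, hx.2 i j]⟩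

theorem mem_extSub (x : E' × (∀ i, LocalizedModule (Submonoid.powers (f i)) N)) :
    x ∈ extSub f i' ↔
      (∀ i, LocalizedModule.mkLinearMap (Submonoid.powers (f i)) E' x.1 = uLoc f i' i (x.2 i)) ∧
      ∀ i j, locTo (dvd_mul_right (f i) (f j)) (x.2 i) =
        locTo (dvd_mul_left (f j) (f i)) (x.2 j) := Iff.rfl

/-- Extensions of an `I`-power torsion module lift. -/
theorem exists_extension [Module.Flat R S] (hq : QuotBij R S I)
    (hI : Ideal.span (Set.range f) = I)
    (hM : ∀ m : M, ∃ n : ℕ, ∀ a ∈ I ^ n, a • m = 0)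
    (p' : E' →ₗ[S] S ⊗[R] M)
    (hi' : Function.Injective i') (hp' : Function.Surjective p')
    (hex' : LinearMap.range i' = LinearMap.ker p') :
    ∃ (i : N →ₗ[R] extSub f i') (p : extSub f i' →ₗ[R] M),
      Function.Injective i ∧ Function.Surjective p ∧ LinearMap.range i = LinearMap.ker p ∧
      (∀ n : N, (i n).1.1 = i' ((1 : S) ⊗ₜ[R] n)) ∧
      (∀ e : extSub f i', p' e.1.1 = (1 : S) ⊗ₜ[R] p e) := by
  classical
  let E := extSub f i'
  let u : N →ₗ[R] E' := uMap i'
  have hu : ∀ n, u n = i' ((1 : S) ⊗ₜ[R] n) := fun n => rfl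
  let eM : M ≃ₗ[R] S ⊗[R] M :=
    LinearEquiv.ofBijective (TensorProduct.mk R S M 1) (mk_bijective_of_torsion hq hM)
  have heM : ∀ m, eM m = (1 : S) ⊗ₜ[R] m := fun m => rfl
  have hp'i' : ∀ x, p' (i' x) = 0 := fun x => by
    have h : i' x ∈ LinearMap.ker p' := hex' ▸ ⟨x, rfl⟩
    exact h
  let i₀ : N →ₗ[R] E' × (∀ i, LocalizedModule (Submonoid.powers (f i)) N) :=
    LinearMap.prod u (LinearMap.pi (fun i => LocalizedModule.mkLinearMap (Submonoid.powers (f i)) N))
  have hi₀ : ∀ n, i₀ n ∈ E := by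
    intro n
    refine ⟨fun i => ?_, fun i j => ?_⟩
    · show LocalizedModule.mkLinearMap _ E' (u n) =
        uLoc f i' i (LocalizedModule.mkLinearMap _ N n)
      exact (IsLocalizedModule.map_apply _ _ _ _ n).symm
    · show locTo _ (LocalizedModule.mkLinearMap _ N n) =
        locTo _ (LocalizedModule.mkLinearMap _ N n)
      rw [locTo_mkLinearMap, locTo_mkLinearMap]
  let i : N →ₗ[R] E := LinearMap.codRestrict E i₀ hi₀
  let p : E →ₗ[R] M :=
    eM.symm.toLinearMap ∘ₗ (p'.restrictScalars R) ∘ₗ LinearMap.fst R E' _ ∘ₗ E.subtype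
  have hp : ∀ e : E, p e = eM.symm (p' e.1.1) := fun e => rfl
  refine ⟨i, p, ?_, ?_, ?_, fun n => rfl, fun e => ?_⟩
  · -- injectivity of `i`
    rw [injective_iff_map_eq_zero]
    intro n hn
    have h0 : i₀ n = 0 := congrArg Subtype.val hn
    have h1 : u n = 0 := congrArg Prod.fst h0
    have h2 : ∀ j, LocalizedModule.mkLinearMap (Submonoid.powers (f j)) N n = 0 :=
      fun j => congrFun (congrArg Prod.snd h0) j
    have h3 : (1 : S) ⊗ₜ[R] n = 0 := hi' (by rw [← hu, h1, map_zero])
    exact eq_zero_of_tmul_eq_zero_of_localized hq f hI n h3 h2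
  · -- surjectivity of `p`
    intro m
    obtain ⟨k, hk⟩ := hM m
    have hfI : ∀ j, f j ∈ I := fun j => hI ▸ Ideal.subset_span ⟨j, rfl⟩
    let g : Fin t → R := fun j => f j ^ k
    have hgm : ∀ j, g j • m = 0 := fun j => hk _ (Ideal.pow_mem_pow (hfI j) k)
    obtain ⟨e'₀, he'₀⟩ := hp' ((1 : S) ⊗ₜ[R] m)
    have hz : ∀ j, ∃ z : S ⊗[R] N, i' z = g j • e'₀ := by
      intro j
      have h : g j • e'₀ ∈ LinearMap.ker p' := by
        rw [LinearMap.mem_ker, ← algebraMap_smul S (g j) e'₀, map_smul, he'₀, algebraMap_smul,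
          ← tmul_smul, hgm, tmul_zero]
      rw [← hex'] at h
      exact h
    choose z hz using hz
    have hcoc : ∀ a b, g b • z a = g a • z b := by
      intro a b
      apply hi'
      rw [← algebraMap_smul S (g b) (z a), map_smul, hz, ← algebraMap_smul S (g a) (z b), map_smul,
        hz, algebraMap_smul, algebraMap_smul, smul_comm]
    obtain ⟨K, hK⟩ := exists_pow_le f hI g (fun j => ⟨k, rfl⟩)
    obtain ⟨y, n, hn, hzy⟩ := exists_koszul_decomp hq g K hK z hcoc
    let e' : E' := e'₀ - i' y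
    let ν : ∀ j, LocalizedModule (Submonoid.powers (f j)) N :=
      fun j => LocalizedModule.mk (n j) (⟨f j ^ k, k, rfl⟩ : Submonoid.powers (f j))
    have hge' : ∀ j, g j • e' = u (n j) := by
      intro j
      show g j • (e'₀ - i' y) = i' ((1 : S) ⊗ₜ[R] n j)
      rw [smul_sub, ← hz, hzy j, map_add, ← algebraMap_smul S (g j) y, map_smul, algebraMap_smul]
      abel
    have hmem : (e', ν) ∈ E := by
      refine ⟨fun j => ?_, fun a b => ?_⟩
      · show LocalizedModule.mkLinearMap _ E' e' = uLoc f i' j (LocalizedModule.mk (n j) _)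
        rw [uLoc, IsLocalizedModule.map_LocalizedModules, LocalizedModule.mkLinearMap_apply,
          LocalizedModule.mk_eq]
        refine ⟨1, ?_⟩
        simp only [one_smul, Submonoid.smul_def]
        exact hge' j
      · have h1 : f a ^ k • locTo (dvd_mul_right (f a) (f b)) (ν a) =
            LocalizedModule.mkLinearMap _ N (n a) := pow_smul_locTo_mk _ k (n a)
        have h2 : f b ^ k • locTo (dvd_mul_left (f b) (f a)) (ν b) =
            LocalizedModule.mkLinearMap _ N (n b) := pow_smul_locTo_mk _ k (n b)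
        apply smul_injective_of_dvd (N := N) (dvd_mul_right (f a) (f b)) k
        apply smul_injective_of_dvd (N := N) (dvd_mul_left (f b) (f a)) k
        rw [h1, smul_comm (f b ^ k) (f a ^ k), h2, ← map_smul, ← map_smul]
        exact congrArg _ (hn a b)
    refine ⟨⟨(e', ν), hmem⟩, ?_⟩
    rw [hp]
    show eM.symm (p' (e'₀ - i' y)) = m
    rw [map_sub, hp'i', sub_zero, he'₀, ← heM, LinearEquiv.symm_apply_apply]
  · -- exactness
    apply le_antisymm
    · rintro _ ⟨n, rfl⟩
      rw [LinearMap.mem_ker, hp]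
      show eM.symm (p' (u n)) = 0
      rw [hu, hp'i', map_zero]
    · intro x hx
      rw [LinearMap.mem_ker, hp] at hx
      have hx1 : p' x.1.1 = 0 := by
        have h := congrArg eM hx
        rwa [LinearEquiv.apply_symm_apply, map_zero] at h
      have hx2 : x.1.1 ∈ LinearMap.range i' := hex' ▸ LinearMap.mem_ker.mpr hx1
      obtain ⟨x₀, hx₀⟩ := hx2
      obtain ⟨Nexp, m, hm⟩ := exists_common_exponent f x.1.2
      obtain ⟨hC1, hC2⟩ := (mem_extSub f i' _).mp x.2
      have hA : ∀ j, ∃ e : ℕ, f j ^ e • (f j ^ Nexp • x₀ - (1 : S) ⊗ₜ[R] m j) = 0 := by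
        intro j
        have h1 := hC1 j
        rw [hm j, uLoc, IsLocalizedModule.map_LocalizedModules, LocalizedModule.mkLinearMap_apply,
          LocalizedModule.mk_eq] at h1
        obtain ⟨c, hc⟩ := h1
        obtain ⟨e, he⟩ := (Submonoid.mem_powers_iff _ _).mp c.2
        refine ⟨e, hi' ?_⟩
        simp only [Submonoid.smul_def, one_smul] at hc
        rw [map_zero, ← algebraMap_smul S (f j ^ e), map_smul, map_sub,
          ← algebraMap_smul S (f j ^ Nexp) x₀, map_smul, hx₀, algebraMap_smul, algebraMap_smul,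
          smul_sub, he, sub_eq_zero]
        exact hc
      have hB : ∀ a b, ∃ e : ℕ,
          (f a * f b) ^ e • (f b ^ Nexp • m a - f a ^ Nexp • m b) = 0 := by
        intro a b
        have h2 := hC2 a b
        rw [hm a, hm b] at h2
        have h3 : LocalizedModule.mkLinearMap (Submonoid.powers (f a * f b)) N
            (f b ^ Nexp • m a - f a ^ Nexp • m b) = 0 := by
          rw [map_sub, map_smul, map_smul,
            ← pow_smul_locTo_mk (dvd_mul_right (f a) (f b)) Nexp (m a),
            ← pow_smul_locTo_mk (dvd_mul_left (f b) (f a)) Nexp (m b), h2, smul_comm, sub_self]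
        exact (Glue.mkLinearMap_eq_zero_iff _).mp h3
      obtain ⟨μ, hμ1, hμ2⟩ := exists_glue hq f hI N x₀ Nexp m hA hB
      refine ⟨μ, Subtype.ext (Prod.ext ?_ (funext fun j => ?_))⟩
      · show u μ = _
        rw [hu, hμ1, hx₀]
      · show LocalizedModule.mkLinearMap _ N μ = _
        rw [hμ2 j, hm j]
  · rw [← heM, hp, LinearEquiv.apply_symm_apply]

end Ext

end Groth.Agent.H10.ExtGlue
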