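import Mathlib

/-!
# Constant field extensions of (abstract) discrete valuation rings

`O` a `k`-algebra with fraction-like field `K = O[1/π]`, `k'/k` finite, `K' = k' ⊗ K` a field.
If `k' ⊗ (O/π)` is reduced then the integral closure of `O` in `K'` is `O[k']`.
-/

set_option autoImplicit false

open TensorProduct Polynomial

namespace Groth.Agent.H10.FFConst

variable {k k' O K K' : Type*} [Field k] [Field k'] [CommRing O] [Field K] [Field K']
  [Algebra k k'] [Algebra k O] [Algebra k K] [Algebra O K] [IsScalarTower k O K]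
  [Algebra K K'] [Algebra k' K'] [Algebra k K'] [IsScalarTower k k' K'] [IsScalarTower k K K']
  [Algebra O K'] [IsScalarTower O K K'] [IsScalarTower k O K']

variable (k k' O K') in
/-- `ψ : k' ⊗ O → K'`. -/
noncomputable def psi : k' ⊗[k] O →ₐ[k] K' :=
  Algebra.TensorProduct.productMap (IsScalarTower.toAlgHom k k' K') (IsScalarTower.toAlgHom k O K')

@[simp] lemma psi_tmul (c : k') (a : O) :
    psi k k' O K' (c ⊗ₜ a) = algebraMap k' K' c * algebraMap O K' a := by
  simp [psi]

variable (K) in
lemma psi_injective (hinj : Function.Injective (algebraMap O K))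
    (h : Function.Bijective (Algebra.TensorProduct.productMap
      (IsScalarTower.toAlgHom k k' K') (IsScalarTower.toAlgHom k K K'))) :
    Function.Injective (psi k k' O K') := by
  have h1 : Function.Injective (LinearMap.lTensor k' (IsScalarTower.toAlgHom k O K).toLinearMap) :=
    Module.Flat.lTensor_preserves_injective_linearMap _ hinj
  have h2 : ∀ t : k' ⊗[k] O, psi k k' O K' t = Algebra.TensorProduct.productMap
      (IsScalarTower.toAlgHom k k' K') (IsScalarTower.toAlgHom k K K')
      (LinearMap.lTensor k' (IsScalarTower.toAlgHom k O K).toLinearMap t) := by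
    intro t
    induction t using TensorProduct.induction_on with
    | zero => simp
    | tmul c a => simp [IsScalarTower.algebraMap_apply O K K']
    | add x y hx hy => simp only [map_add, hx, hy]
  intro x y hxy
  rw [h2, h2] at hxy
  exact h1 (h.1 hxy)

omit [IsScalarTower k O K] in
/-- `K' = R[1/π]`. -/
lemma exists_psi_eq_pow_mul
    (h : Function.Bijective (Algebra.TensorProduct.productMap
      (IsScalarTower.toAlgHom k k' K') (IsScalarTower.toAlgHom k K K')))
    (π : O) (hloc : ∀ a : K, ∃ (m : ℕ) (b : O), algebraMap O K b = algebraMap O K π ^ m * a)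
    (x : K') : ∃ (m : ℕ) (t : k' ⊗[k] O), psi k k' O K' t = algebraMap O K' π ^ m * x := by
  obtain ⟨s, rfl⟩ := h.2 x
  induction s using TensorProduct.induction_on with
  | zero => exact ⟨0, 0, by simp⟩
  | tmul c a =>
    obtain ⟨m, b, hb⟩ := hloc a
    refine ⟨m, c ⊗ₜ b, ?_⟩
    rw [psi_tmul, Algebra.TensorProduct.productMap_apply_tmul, IsScalarTower.algebraMap_apply O K K',
      hb, map_mul, map_pow, ← IsScalarTower.algebraMap_apply O K K']
    simp only [IsScalarTower.coe_toAlgHom']
    ring
  | add x y hx hy =>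
    obtain ⟨m₁, t₁, h₁⟩ := hx
    obtain ⟨m₂, t₂, h₂⟩ := hy
    refine ⟨m₁ + m₂, (1 ⊗ₜ (π ^ m₂)) * t₁ + (1 ⊗ₜ (π ^ m₁)) * t₂, ?_⟩
    rw [map_add, map_mul, map_mul, h₁, h₂, psi_tmul, psi_tmul, map_add]
    simp only [map_one, one_mul, map_pow]
    ring

section rho

variable {κ : Type*} [CommRing κ] [Algebra k κ]

variable (k') in
/-- `ρ : k' ⊗ O → k' ⊗ κ`. -/
noncomputable def rho (res : O →ₐ[k] κ) : k' ⊗[k] O →ₐ[k] k' ⊗[k] κ :=
  Algebra.TensorProduct.map (AlgHom.id k k') res

@[simp] lemma rho_tmul (res : O →ₐ[k] κ) (c : k') (a : O) :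
    rho k' res (c ⊗ₜ a) = c ⊗ₜ res a := by
  simp [rho]

lemma rho_surjective (res : O →ₐ[k] κ) (hres : Function.Surjective res) :
    Function.Surjective (rho k' res) := by
  intro y
  induction y using TensorProduct.induction_on with
  | zero => exact ⟨0, map_zero _⟩
  | tmul c b =>
    obtain ⟨a, rfl⟩ := hres b
    exact ⟨c ⊗ₜ a, rho_tmul res c a⟩
  | add x y hx hy =>
    obtain ⟨x', rfl⟩ := hx
    obtain ⟨y', rfl⟩ := hy
    exact ⟨x' + y', map_add _ _ _⟩

lemma rho_eq_zero_iff (res : O →ₐ[k] κ) (hres : Function.Surjective res) (π : O)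
    (hker : RingHom.ker res = Ideal.span {π}) (t : k' ⊗[k] O) :
    rho k' res t = 0 ↔ ∃ t', t = (1 ⊗ₜ π) * t' := by
  have h1 := Algebra.TensorProduct.lTensor_ker (A := k') res hres
  have h2 : rho k' res t = 0 ↔ t ∈ RingHom.ker (Algebra.TensorProduct.map (AlgHom.id k k') res) :=
    Iff.rfl
  rw [h2, h1, hker, Ideal.map_span, Set.image_singleton, Ideal.mem_span_singleton']
  simp only [Algebra.TensorProduct.includeRight_apply]
  constructor
  · rintro ⟨a, rfl⟩; exact ⟨a, mul_comm _ _⟩
  · rintro ⟨a, rfl⟩; exact ⟨a, mul_comm _ _⟩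

/-- Descent step: if `y` is integral over `O` and `π y ∈ R` then `y ∈ R`. -/
lemma descent_step (hpsi : Function.Injective (psi k k' O K'))
    (res : O →ₐ[k] κ) (hres : Function.Surjective res) (π : O)
    (hπ : algebraMap O K' π ≠ 0)
    (hker : RingHom.ker res = Ideal.span {π}) [IsReduced (k' ⊗[k] κ)]
    (t : k' ⊗[k] O) (y : K') (hy : IsIntegral O y)
    (hty : psi k k' O K' t = algebraMap O K' π * y) :
    ∃ t', psi k k' O K' t' = y := by
  obtain ⟨p, hpm, hpy⟩ := hy
  have hq : aeval (algebraMap O K' π * y) (p.scaleRoots π) = 0 :=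
    scaleRoots_aeval_eq_zero hpy
  rw [← hty] at hq
  -- transport to `T`
  let φT : O →+* k' ⊗[k] O := (Algebra.TensorProduct.includeRight : O →ₐ[k] k' ⊗[k] O).toRingHom
  have hcomp : (psi k k' O K').toRingHom.comp φT = algebraMap O K' := by
    ext a
    simp [φT]
  have h0 : eval₂ φT t (p.scaleRoots π) = 0 := by
    apply hpsi
    rw [map_zero]
    have := hom_eval₂ (p.scaleRoots π) φT (psi k k' O K').toRingHom t
    rw [hcomp] at this
    exact this.trans hq
  -- apply `ρ`
  have h1 := congrArg (rho k' res).toRingHom h0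
  rw [hom_eval₂, map_zero] at h1
  have hcomp2 : (rho k' res).toRingHom.comp φT =
      (Algebra.TensorProduct.includeRight : κ →ₐ[k] k' ⊗[k] κ).toRingHom.comp res.toRingHom := by
    ext a
    simp [φT]
  rw [hcomp2, ← eval₂_map] at h1
  have hresπ : res.toRingHom π = 0 := by
    have : π ∈ RingHom.ker res := hker ▸ Ideal.mem_span_singleton_self π
    exact this
  have hmap : (p.scaleRoots π).map res.toRingHom = X ^ p.natDegree := by
    rcases subsingleton_or_nontrivial κ with hs | hn
    · exact Subsingleton.elim _ _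
    · rw [map_scaleRoots _ _ _ (by rw [hpm.leadingCoeff, map_one]; exact one_ne_zero), hresπ,
        scaleRoots_zero, (hpm.map _).leadingCoeff, one_smul, hpm.natDegree_map]
  rw [hmap, eval₂_pow, eval₂_X] at h1
  have h2 : (rho k' res) t = 0 := IsReduced.eq_zero _ ⟨_, h1⟩
  obtain ⟨t', rfl⟩ := (rho_eq_zero_iff res hres π hker t).mp h2
  refine ⟨t', ?_⟩
  rw [map_mul, psi_tmul, map_one, one_mul] at hty
  exact mul_left_cancel₀ hπ hty

omit [IsScalarTower k O K] in
/-- Every element of `K'` integral over `O` lies in the image of `ψ`. -/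
lemma exists_psi_eq_of_isIntegral (hpsi : Function.Injective (psi k k' O K'))
    (h : Function.Bijective (Algebra.TensorProduct.productMap
      (IsScalarTower.toAlgHom k k' K') (IsScalarTower.toAlgHom k K K')))
    (π : O) (hπ : algebraMap O K' π ≠ 0)
    (hloc : ∀ a : K, ∃ (m : ℕ) (b : O), algebraMap O K b = algebraMap O K π ^ m * a)
    (res : O →ₐ[k] κ) (hres : Function.Surjective res)
    (hker : RingHom.ker res = Ideal.span {π}) [IsReduced (k' ⊗[k] κ)]
    (x : K') (hx : IsIntegral O x) : ∃ t, psi k k' O K' t = x := by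
  obtain ⟨m, t, ht⟩ := exists_psi_eq_pow_mul h π hloc x
  induction m generalizing t with
  | zero => exact ⟨t, by simpa using ht⟩
  | succ m ih =>
    have hy : IsIntegral O (algebraMap O K' π ^ m * x) := (isIntegral_algebraMap.pow m).mul hx
    obtain ⟨t', ht'⟩ := descent_step hpsi res hres π hπ hker t _ hy (by rw [ht]; ring)
    exact ih t' ht'

end rho

/-- The range of `ψ` is `O[k']`. -/
lemma range_psi :
    (Set.range (psi k k' O K') : Set K') =
      (Algebra.adjoin O (Set.range (algebraMap k' K')) : Subalgebra O K') := by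
  apply Set.Subset.antisymm
  · rintro _ ⟨t, rfl⟩
    induction t using TensorProduct.induction_on with
    | zero => simp
    | tmul c a =>
      rw [psi_tmul, mul_comm, ← Algebra.smul_def]
      exact Subalgebra.smul_mem _ (Algebra.subset_adjoin (Set.mem_range_self c)) a
    | add x y hx hy => rw [map_add]; exact add_mem hx hy
  · have hmem : ∀ a : O, algebraMap O K' a ∈ (psi k k' O K').range.toSubsemiring :=
      fun a => ⟨1 ⊗ₜ a, by simp⟩
    let S : Subalgebra O K' :=
      { (psi k k' O K').range.toSubsemiring with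
        algebraMap_mem' := hmem }
    have hS : Algebra.adjoin O (Set.range (algebraMap k' K')) ≤ S := by
      apply Algebra.adjoin_le
      rintro _ ⟨c, rfl⟩
      exact (⟨c ⊗ₜ 1, by simp⟩ : algebraMap k' K' c ∈ (psi k k' O K').range)
    intro x hx
    exact hS hx

theorem integralClosure_eq_adjoin [FiniteDimensional k k']
    (hinj : Function.Injective (algebraMap O K))
    (h : Function.Bijective (Algebra.TensorProduct.productMap
      (IsScalarTower.toAlgHom k k' K') (IsScalarTower.toAlgHom k K K')))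
    (π : O) (hπ : π ≠ 0)
    (hloc : ∀ a : K, ∃ (m : ℕ) (b : O), algebraMap O K b = algebraMap O K π ^ m * a)
    {κ : Type*} [CommRing κ] [Algebra k κ] (res : O →ₐ[k] κ) (hres : Function.Surjective res)
    (hker : RingHom.ker res = Ideal.span {π}) [IsReduced (k' ⊗[k] κ)] :
    integralClosure O K' = Algebra.adjoin O (Set.range (algebraMap k' K')) := by
  have hπ' : algebraMap O K' π ≠ 0 := by
    rw [IsScalarTower.algebraMap_apply O K K']
    intro h0
    have h1 := (algebraMap K K').injective (h0.trans (map_zero _).symm)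
    exact hπ (hinj (h1.trans (map_zero _).symm))
  apply le_antisymm
  · intro x hx
    obtain ⟨t, rfl⟩ := exists_psi_eq_of_isIntegral (psi_injective K hinj h) h π hπ' hloc res hres hker
      x hx
    have : psi k k' O K' t ∈ Set.range (psi k k' O K') := ⟨t, rfl⟩
    rw [range_psi] at this
    exact this
  · apply Algebra.adjoin_le
    rintro _ ⟨c, rfl⟩
    have h1 : IsIntegral k c := IsIntegral.of_finite k c
    have h2 : IsIntegral k (algebraMap k' K' c) := h1.map (IsScalarTower.toAlgHom k k' K')
    exact h2.tower_top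

section Ram

open WithZero

variable {κ : Type*} [Field κ] [Algebra k κ]

omit [IsScalarTower k O K] [Algebra K K'] [Algebra O K] [IsScalarTower k K K'] [IsScalarTower O K K']
  [Algebra k K] in
lemma val_psi_le_one (Q : Valuation K' ℤᵐ⁰) (hQk' : ∀ c : k', Q (algebraMap k' K' c) ≤ 1)
    (hQO : ∀ a : O, Q (algebraMap O K' a) ≤ 1) (t : k' ⊗[k] O) : Q (psi k k' O K' t) ≤ 1 := by
  induction t using TensorProduct.induction_on with
  | zero => simp
  | tmul c a =>
    rw [psi_tmul, map_mul]
    exact mul_le_one' (hQk' c) (hQO a)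
  | add x y hx hy =>
    rw [map_add]
    exact (Q.map_add _ _).trans (max_le hx hy)

omit [IsScalarTower k O K] [Algebra K K'] [Algebra O K] [IsScalarTower k K K'] [IsScalarTower O K K']
  [Algebra k K] in
/-- Values of `Q` on `R = ψ(T)` are powers of `Q π`. -/
lemma exists_pow_eq_val [Module.Finite k κ]
    (Q : Valuation K' ℤᵐ⁰) (hQk' : ∀ c : k', Q (algebraMap k' K' c) ≤ 1)
    (hQO : ∀ a : O, Q (algebraMap O K' a) ≤ 1)
    (res : O →ₐ[k] κ) (hres : Function.Surjective res) (π : O)
    (hker : RingHom.ker res = Ideal.span {π}) [IsReduced (k' ⊗[k] κ)]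
    (hπ : Q (algebraMap O K' π) < 1) (hπ0 : algebraMap O K' π ≠ 0)
    (t : k' ⊗[k] O) (ht : psi k k' O K' t ≠ 0) :
    ∃ j : ℕ, Q (psi k k' O K' t) = Q (algebraMap O K' π) ^ j := by
  classical
  have hle : ∀ t : k' ⊗[k] O, Q (psi k k' O K' t) ≤ 1 := val_psi_le_one Q hQk' hQO
  have : IsArtinianRing (k' ⊗[k] κ) := IsArtinianRing.of_finite k' _
  -- the prime ideal `𝔫`
  let 𝔫 : Ideal (k' ⊗[k] O) :=
    { carrier := {t | Q (psi k k' O K' t) < 1}
      add_mem' := fun {a b} ha hb => by
        change Q (psi k k' O K' (a + b)) < 1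
        rw [map_add]
        exact (Q.map_add _ _).trans_lt (max_lt ha hb)
      zero_mem' := by simp
      smul_mem' := fun c a ha => by
        change Q (psi k k' O K' (c • a)) < 1
        rw [smul_eq_mul, map_mul, map_mul]
        exact (mul_le_mul' (hle c) le_rfl).trans_lt (by rwa [one_mul]) }
  have hmem𝔫 : ∀ t, t ∈ 𝔫 ↔ Q (psi k k' O K' t) < 1 := fun _ => Iff.rfl
  have h𝔫prime : 𝔫.IsPrime := by
    refine ⟨?_, ?_⟩
    · rw [Ideal.ne_top_iff_one, hmem𝔫]
      simp
    · intro a b hab
      rw [hmem𝔫, map_mul, map_mul] at hab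
      by_contra hcon
      rw [not_or, hmem𝔫, hmem𝔫, not_lt, not_lt] at hcon
      have h1 : Q (psi k k' O K' a) = 1 := le_antisymm (hle a) hcon.1
      have h2 : Q (psi k k' O K' b) = 1 := le_antisymm (hle b) hcon.2
      rw [h1, h2, one_mul] at hab
      exact lt_irrefl _ hab
  have hπ𝔫 : (1 : k') ⊗ₜ[k] π ∈ 𝔫 := by
    rw [hmem𝔫, psi_tmul, map_one, one_mul]; exact hπ
  have hker𝔫 : RingHom.ker (rho k' res) ≤ 𝔫 := by
    intro x hx
    obtain ⟨x', rfl⟩ := (rho_eq_zero_iff res hres π hker x).mp hx
    exact 𝔫.mul_mem_right _ hπ𝔫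
  have hρsurj := rho_surjective (k' := k') res hres
  have hprime : (𝔫.map (rho k' res)).IsPrime := Ideal.map_isPrime_of_surjective hρsurj hker𝔫
  have hmax : (𝔫.map (rho k' res)).IsMaximal := IsArtinianRing.isMaximal_of_isPrime _
  let M : MaximalSpectrum (k' ⊗[k] κ) := ⟨𝔫.map (rho k' res), hmax⟩
  have hcomap : ∀ x, rho k' res x ∈ 𝔫.map (rho k' res) ↔ x ∈ 𝔫 := by
    intro x
    rw [← Ideal.mem_comap, Ideal.comap_map_of_surjective _ hρsurj, ← RingHom.ker_eq_comap_bot,
      sup_eq_left.mpr hker𝔫]
  -- the idempotent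
  obtain ⟨ε, hε⟩ := hρsurj ((IsArtinianRing.equivPi (k' ⊗[k] κ)).symm (Pi.single M 1))
  have hεM : ε ∉ 𝔫 := by
    rw [← hcomap, hε]
    intro hmem
    have h1 : IsArtinianRing.equivPi (k' ⊗[k] κ)
        ((IsArtinianRing.equivPi (k' ⊗[k] κ)).symm (Pi.single M 1)) M = 0 := by
      rw [IsArtinianRing.equivPi_apply, Ideal.Quotient.eq_zero_iff_mem]
      exact hmem
    rw [AlgEquiv.apply_symm_apply, Pi.single_eq_same] at h1
    exact one_ne_zero h1
  have hQε : Q (psi k k' O K' ε) = 1 := le_antisymm (hle ε) (not_lt.mp hεM)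
  have hstep : ∀ x ∈ 𝔫, ∃ x', Q (psi k k' O K' x) =
      Q (algebraMap O K' π) * Q (psi k k' O K' x') := by
    intro x hx
    have h0 : rho k' res (ε * x) = 0 := by
      rw [map_mul, hε]
      apply (IsArtinianRing.equivPi (k' ⊗[k] κ)).injective
      rw [map_mul, AlgEquiv.apply_symm_apply, map_zero]
      funext I
      by_cases hI : I = M
      · subst hI
        rw [Pi.mul_apply, IsArtinianRing.equivPi_apply,
          Ideal.Quotient.eq_zero_iff_mem.mpr ((hcomap x).mpr hx), mul_zero, Pi.zero_apply]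
      · rw [Pi.mul_apply, Pi.single_eq_of_ne hI, zero_mul, Pi.zero_apply]
    obtain ⟨x', hx'⟩ := (rho_eq_zero_iff res hres π hker _).mp h0
    refine ⟨x', ?_⟩
    have := congrArg (fun z => Q (psi k k' O K' z)) hx'
    simp only [map_mul, psi_tmul, map_one, one_mul, hQε] at this
    exact this
  -- induction on the order
  have hmain : ∀ (n : ℕ) (x : k' ⊗[k] O), Q (psi k k' O K' x) = exp (-(n : ℤ)) →
      ∃ j : ℕ, Q (psi k k' O K' x) = Q (algebraMap O K' π) ^ j := by
    intro n
    induction n using Nat.strong_induction_on with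
    | _ n ih =>
      intro x hx
      by_cases hx𝔫 : x ∈ 𝔫
      · obtain ⟨x', hx'⟩ := hstep x hx𝔫
        have hπne : Q (algebraMap O K' π) ≠ 0 := (Q.ne_zero_iff).mpr hπ0
        obtain ⟨e, he⟩ : ∃ e : ℤ, Q (algebraMap O K' π) = exp e := ⟨_, (exp_log hπne).symm⟩
        have he1 : e ≤ -1 := by
          have := hπ
          rw [he, ← exp_zero, exp_lt_exp] at this
          omega
        have hx'ne : Q (psi k k' O K' x') ≠ 0 := by
          intro h0
          rw [h0, mul_zero, hx] at hx'
          exact exp_ne_zero hx'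
        obtain ⟨m, hm⟩ : ∃ m : ℤ, Q (psi k k' O K' x') = exp m := ⟨_, (exp_log hx'ne).symm⟩
        have hm0 : m ≤ 0 := by
          have := hle x'
          rwa [hm, ← exp_zero, exp_le_exp] at this
        have hrel : -(n : ℤ) = e + m := by
          rw [hx, he, hm, ← exp_add] at hx'
          exact exp_injective hx'
        have hmn : m.natAbs < n := by omega
        obtain ⟨j, hj⟩ := ih m.natAbs hmn x' (by rw [hm]; congr 1; omega)
        exact ⟨j + 1, by rw [hx', hj, pow_succ, mul_comm]⟩
      · exact ⟨0, by rw [pow_zero]; exact le_antisymm (hle x) (not_lt.mp hx𝔫)⟩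
  have hne : Q (psi k k' O K' t) ≠ 0 := (Q.ne_zero_iff).mpr ht
  have hlog : Q (psi k k' O K' t) = exp (log (Q (psi k k' O K' t))) := (exp_log hne).symm
  have hlog0 : log (Q (psi k k' O K' t)) ≤ 0 := by
    have := hle t
    rwa [hlog, ← exp_zero, exp_le_exp] at this
  exact hmain (log (Q (psi k k' O K' t))).natAbs t (by rw [hlog]; congr 1; rw [log_exp]; omega)

end Ram

section Reduced

lemma isReduced_tensor_of_isSeparable_right (k k' κ : Type*) [Field k] [Field k'] [Field κ]
    [Algebra k k'] [Algebra k κ] [Module.Finite k κ] [Algebra.IsSeparable k κ] :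
    IsReduced (k' ⊗[k] κ) := by
  have h0 : Algebra.FormallyUnramified k κ := Algebra.FormallyUnramified.of_isSeparable k κ
  have : Algebra.FormallyUnramified k' (k' ⊗[k] κ) := inferInstance
  have : Algebra.EssFiniteType k' (k' ⊗[k] κ) := inferInstance
  exact Algebra.FormallyUnramified.isReduced_of_field k' (k' ⊗[k] κ)

lemma isReduced_tensor_of_isSeparable_left (k k' κ : Type*) [Field k] [Field k'] [Field κ]
    [Algebra k k'] [Algebra k κ] [Module.Finite k k'] [Algebra.IsSeparable k k'] :
    IsReduced (k' ⊗[k] κ) := by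
  have := isReduced_tensor_of_isSeparable_right k κ k'
  exact isReduced_of_injective (Algebra.TensorProduct.comm k k' κ).toRingHom
    (Algebra.TensorProduct.comm k k' κ).injective

end Reduced

end Groth.Agent.H10.FFConst
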