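import Groth.Prelude.Def_W4bk4goldsch23FF
import Groth.Prelude.Def_W4bk4goldsch23Ext
import Groth.Agent.H55.FFIndep
import Groth.Agent.H10.FFConst

/-!
# Constant field extensions of function fields: integral closure of `O_P` in `k' ⊗ K`
-/

set_option autoImplicit false

open FunFld WithZero TensorProduct
open Groth.Agent.H55 Groth.Agent.H10.FFConst

namespace Groth.Agent.H10.FFConstPlace

section Basic

variable {k : Type*} {K : Type*} [Field k] [Field K] [Algebra k K] (P : Place k K)

instance instTowerO : IsScalarTower k P.O K := IsScalarTower.of_algebraMap_eq (fun _ => rfl)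

/-- The residue map as a `k`-algebra map (for the prelude's algebra structure on the residue
field). -/
noncomputable def resAlg : P.O →ₐ[k] IsLocalRing.ResidueField P.O :=
  { IsLocalRing.residue P.O with commutes' := fun _ => rfl }

lemma resAlg_surjective : Function.Surjective (resAlg P) := IsLocalRing.residue_surjective

lemma resAlg_eq_zero_iff (a : P.O) : resAlg P a = 0 ↔ P.1 (a : K) < 1 := by
  change IsLocalRing.residue P.O a = 0 ↔ _
  rw [IsLocalRing.residue_eq_zero_iff]
  exact Valuation.mem_maximalIdeal_iff K P.1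

lemma exists_uniformizer : ∃ π : P.O, π ≠ 0 ∧ P.1 (π : K) = exp (-1 : ℤ) ∧
    RingHom.ker (resAlg P) = Ideal.span {π} ∧
    (∀ a : K, ∃ (m : ℕ) (b : P.O), algebraMap P.O K b = algebraMap P.O K π ^ m * a) := by
  obtain ⟨y, hy0, hy⟩ := pl_exists_val_eq_exp P (-1)
  have hyO : y ∈ P.O := by
    rw [Valuation.mem_valuationSubring_iff, hy, ← exp_zero, exp_le_exp]; omega
  refine ⟨⟨y, hyO⟩, ?_, hy, ?_, ?_⟩
  · intro h; exact hy0 (congrArg Subtype.val h)
  · ext a
    rw [RingHom.mem_ker, Ideal.mem_span_singleton']
    rw [resAlg_eq_zero_iff, zm0_lt_one_iff]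
    constructor
    · intro ha
      have hmem : (a : K) / y ∈ P.O := by
        rw [Valuation.mem_valuationSubring_iff, map_div₀, hy]
        rw [div_le_iff₀ (by simp), one_mul]
        exact ha
      refine ⟨⟨(a : K) / y, hmem⟩, ?_⟩
      apply Subtype.ext
      change (a : K) / y * y = a
      field_simp
    · rintro ⟨b, rfl⟩
      change P.1 ((b : K) * y) ≤ _
      rw [map_mul, hy]
      have hb : P.1 (b : K) ≤ 1 := (Valuation.mem_valuationSubring_iff _ _).mp b.2
      exact (mul_le_mul' hb le_rfl).trans_eq (one_mul _)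
  · intro a
    by_cases ha : a = 0
    · exact ⟨0, 0, by simp [ha]⟩
    · have hva := pl_val_eq_exp_neg_ord P ha
      set n : ℤ := -(P.ord a) with hn
      have hmem : y ^ n.toNat * a ∈ P.O := by
        rw [Valuation.mem_valuationSubring_iff, map_mul, map_pow, hy, hva, ← exp_nsmul, ← exp_add,
          ← exp_zero, exp_le_exp]
        have := Int.self_le_toNat n
        simp only [nsmul_eq_mul]
        omega
      exact ⟨n.toNat, ⟨_, hmem⟩, rfl⟩

end Basic

section Main

universe u v

variable {k k' : Type u} {K K' : Type v} [Field k] [Field k'] [Field K] [Field K']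
    [Algebra k k'] [Algebra k K] [Algebra K K'] [Algebra k' K'] [Algebra k K']
    [IsScalarTower k k' K'] [IsScalarTower k K K']

lemma towerO' (P : Place k K) [Algebra P.O K'] [IsScalarTower P.O K K'] :
    IsScalarTower k P.O K' := by
  refine IsScalarTower.of_algebraMap_eq (fun c => ?_)
  rw [IsScalarTower.algebraMap_apply k K K', IsScalarTower.algebraMap_apply P.O K K']
  rfl

theorem integralClosure_eq_adjoin_of_reduced [FiniteDimensional k k']
    (h : Function.Bijective (Algebra.TensorProduct.productMap
      (IsScalarTower.toAlgHom k k' K') (IsScalarTower.toAlgHom k K K')))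
    (P : Place k K) [Algebra P.O K'] [IsScalarTower P.O K K']
    {κ : Type*} [Field κ] [Algebra k κ] (res : P.O →ₐ[k] κ) (hres : Function.Surjective res)
    (hker : RingHom.ker res = RingHom.ker (resAlg P)) [IsReduced (k' ⊗[k] κ)] :
    integralClosure P.O K' = Algebra.adjoin P.O (Set.range (algebraMap k' K')) := by
  have := towerO' (K' := K') P
  obtain ⟨π, hπ0, -, hker', hloc⟩ := exists_uniformizer P
  exact integralClosure_eq_adjoin (K := K) Subtype.val_injective h π hπ0 hloc res
    hres (hker.trans hker')

theorem integralClosure_eq_adjoin_of_isSeparable_residue [FiniteDimensional k k']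
    (h : Function.Bijective (Algebra.TensorProduct.productMap
      (IsScalarTower.toAlgHom k k' K') (IsScalarTower.toAlgHom k K K')))
    (hK : FunFld.IsFunctionField k K)
    (P : Place k K) [hsep : Algebra.IsSeparable k (IsLocalRing.ResidueField P.O)]
    [Algebra P.O K'] [IsScalarTower P.O K K'] :
    integralClosure P.O K' = Algebra.adjoin P.O (Set.range (algebraMap k' K')) := by
  have hfin : @Module.Finite k (IsLocalRing.ResidueField P.O) _ _ (Place.algRes P).toModule :=
    residue_finiteDimensional hK P
  have hred := @isReduced_tensor_of_isSeparable_right k k' (IsLocalRing.ResidueField P.O) _ _ _ _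
    (Place.algRes P) hfin hsep
  exact integralClosure_eq_adjoin_of_reduced h P (resAlg P) (resAlg_surjective P) rfl

theorem integralClosure_eq_adjoin_of_isSeparable [FiniteDimensional k k']
    [Algebra.IsSeparable k k']
    (h : Function.Bijective (Algebra.TensorProduct.productMap
      (IsScalarTower.toAlgHom k k' K') (IsScalarTower.toAlgHom k K K')))
    (P : Place k K) [Algebra P.O K'] [IsScalarTower P.O K K'] :
    integralClosure P.O K' = Algebra.adjoin P.O (Set.range (algebraMap k' K')) := by
  have hred := @isReduced_tensor_of_isSeparable_left k k' (IsLocalRing.ResidueField P.O) _ _ _ _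
    (Place.algRes P) _ _
  exact integralClosure_eq_adjoin_of_reduced h P (resAlg P) (resAlg_surjective P) rfl

lemma val_algebraMap_le_one [FiniteDimensional k k'] (Q : Place k K') (c : k') :
    Q.1 (algebraMap k' K' c) ≤ 1 := by
  have h1 : IsIntegral k c := IsIntegral.of_finite k c
  have h2 : IsIntegral k (algebraMap k' K' c) := h1.map (IsScalarTower.toAlgHom k k' K')
  have h3 : IsIntegral Q.O (algebraMap k' K' c) := h2.tower_top
  obtain ⟨y, hy⟩ := (IsIntegrallyClosed.isIntegral_iff (R := Q.O) (K := K')).mp h3
  rw [← hy]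
  exact (Valuation.mem_valuationSubring_iff _ _).mp y.2

theorem isOverWith_one [FiniteDimensional k k'] [Algebra.IsSeparable k k']
    (h : Function.Bijective (Algebra.TensorProduct.productMap
      (IsScalarTower.toAlgHom k k' K') (IsScalarTower.toAlgHom k K K')))
    (hK : FunFld.IsFunctionField k K)
    (P : Place k K) [Algebra P.O K'] [IsScalarTower P.O K K']
    (Q : Place k K') (hQ : IsOver Q P) : IsOverWith Q P 1 := by
  obtain ⟨e, he⟩ := hQ
  have := towerO' (K' := K') P
  have hfin : @Module.Finite k (IsLocalRing.ResidueField P.O) _ _ (Place.algRes P).toModule :=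
    residue_finiteDimensional hK P
  have hred := @isReduced_tensor_of_isSeparable_left k k' (IsLocalRing.ResidueField P.O) _ _ _ _
    (Place.algRes P) _ _
  obtain ⟨π, hπ0, hπv, hker, hloc⟩ := exists_uniformizer P
  have he0 : e ≠ 0 := by
    rintro rfl
    have := he 0
    simp at this
  have hπK' : algebraMap P.O K' π = algebraMap K K' (π : K) :=
    IsScalarTower.algebraMap_apply P.O K K' π
  have hQπ : Q.1 (algebraMap P.O K' π) = exp (-(e : ℤ)) := by
    rw [hπK', he, hπv, ← exp_nsmul]
    congr 1
    simp
  have hπ0' : algebraMap P.O K' π ≠ 0 := by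
    intro h0
    have := hQπ
    rw [h0, map_zero] at this
    exact exp_ne_zero this.symm
  have hQO : ∀ a : P.O, Q.1 (algebraMap P.O K' a) ≤ 1 := by
    intro a
    rw [IsScalarTower.algebraMap_apply P.O K K', he]
    exact pow_le_one' ((Valuation.mem_valuationSubring_iff _ _).mp a.2) e
  have hπlt : Q.1 (algebraMap P.O K' π) < 1 := by
    rw [hQπ, ← exp_zero, exp_lt_exp]
    omega
  obtain ⟨x, hx⟩ := Q.2.2 (exp (-1 : ℤ))
  obtain ⟨m, t, ht⟩ := exists_psi_eq_pow_mul h π hloc x
  have hx0 : x ≠ 0 := by
    rintro rfl
    rw [map_zero] at hx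
    exact exp_ne_zero hx.symm
  have htne : psi k k' P.O K' t ≠ 0 := by
    rw [ht]
    exact mul_ne_zero (pow_ne_zero _ hπ0') hx0
  obtain ⟨j, hj⟩ := exists_pow_eq_val Q.1 (val_algebraMap_le_one Q) hQO (resAlg P)
    (resAlg_surjective P) π hker hπlt hπ0' t htne
  rw [ht, map_mul, map_pow, hQπ, hx, ← exp_nsmul, ← exp_nsmul, ← exp_add] at hj
  have hj' := exp_injective hj
  simp only [nsmul_eq_mul] at hj'
  have he1 : e = 1 := by
    have h1 : (e : ℤ) ∣ 1 := ⟨(j : ℤ) - m, by linarith⟩
    have h2 := Int.eq_one_of_dvd_one (by omega) h1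
    exact_mod_cast h2
  subst he1
  exact he

end Main

end Groth.Agent.H10.FFConstPlace
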