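-- Bridge between `DRing.Tor R 1 M N` (Mathlib's categorical Tor on `ModuleCat`) and the elementary
-- criterion: for the canonical free presentation `0 → K → F → N → 0`, `M ⊗ K → M ⊗ F` is injective.
import Groth.Prelude.Def_DRing2
import Groth.Agent.H72.Splice
import Mathlib.CategoryTheory.Abelian.LeftDerived
import Mathlib.Algebra.Homology.ShortComplex.ModuleCat
import Mathlib.Algebra.Category.ModuleCat.Projective
import Mathlib.LinearAlgebra.TensorProduct.RightExactness

set_option autoImplicit false
universe u

namespace Groth.Agent.H10.TorBridge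

open CategoryTheory CategoryTheory.Limits TensorProduct

variable {R : Type u} [CommRing R]

/-- A short exact sequence of modules as a short complex in `ModuleCat`. -/
noncomputable def presSC {K F N : Type u} [AddCommGroup K] [Module R K] [AddCommGroup F] [Module R F]
    [AddCommGroup N] [Module R N] (i : K →ₗ[R] F) (p : F →ₗ[R] N) (h : p ∘ₗ i = 0) :
    ShortComplex (ModuleCat.{u} R) :=
  ShortComplex.mk (ModuleCat.ofHom i) (ModuleCat.ofHom p) (by
    apply ModuleCat.hom_ext
    exact h)

/-- If `0 → K → F → N → 0` is exact with `F` projective and `M ⊗ K → M ⊗ F` is injective, then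
`Tor₁(M, N) = 0`. -/
theorem tor_one_subsingleton {M K F N : Type u} [AddCommGroup M] [Module R M]
    [AddCommGroup K] [Module R K] [AddCommGroup F] [Module R F] [Module.Projective R F]
    [AddCommGroup N] [Module R N] (i : K →ₗ[R] F) (p : F →ₗ[R] N)
    (hi : Function.Injective i) (hp : Function.Surjective p) (hex : Function.Exact i p)
    (hinj : Function.Injective (i.lTensor M)) :
    Subsingleton (DRing.Tor R 1 M N) := by
  let Fun : ModuleCat.{u} R ⥤ ModuleCat.{u} R :=
    (MonoidalCategory.tensoringLeft (ModuleCat.{u} R)).obj (ModuleCat.of R M)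
  let S : ShortComplex (ModuleCat.{u} R) := presSC i p hex.linearMap_comp_eq_zero
  have hS : S.ShortExact := ModuleCat.shortComplex_shortExact _ hex hi hp
  have : Projective S.X₂ := (inferInstance : Projective (ModuleCat.of R F))
  let Q := ProjectiveResolution.of S.X₁
  let P := Groth.Agent.H72.splice S hS Q
  have hz : IsZero ((Fun.leftDerived 1).obj (ModuleCat.of R N)) := by
    refine IsZero.of_iso ?_ (P.isoLeftDerivedObj Fun 1)
    erw [← HomologicalComplex.exactAt_iff_isZero_homology]
    rw [HomologicalComplex.exactAt_iff' _ 2 1 0 (by simp) (by simp)]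
    rw [ShortComplex.moduleCat_exact_iff]
    intro x hx
    -- `x : M ⊗ Q₀` is killed by `M ⊗ (aug ≫ i)`
    have hx0 : (Fun.map (Groth.Agent.H72.aug Q ≫ S.f)).hom x = 0 := hx
    rw [Fun.map_comp] at hx0
    have hx' : (i.lTensor M) ((Groth.Agent.H72.aug Q).hom.lTensor M x) = 0 := hx0
    have hx'' : (Groth.Agent.H72.aug Q).hom.lTensor M x = 0 :=
      hinj (hx'.trans (map_zero (i.lTensor M)).symm)
    have hQex : Function.Exact (Q.complex.d 1 0).hom (Groth.Agent.H72.aug Q).hom := by
      have h := (Groth.Agent.H72.aug_exact Q).moduleCat_range_eq_ker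
      exact (LinearMap.exact_iff.mpr h.symm)
    have hQsurj : Function.Surjective (Groth.Agent.H72.aug Q).hom :=
      (ModuleCat.epi_iff_surjective _).mp inferInstance
    obtain ⟨y, hy⟩ := (lTensor_exact M hQex hQsurj x).mp hx''
    exact ⟨y, hy⟩
  exact ModuleCat.subsingleton_of_isZero hz

/-- Version with the canonical free presentation of `N`. -/
theorem tor_one_subsingleton_of_free_presentation (M N : Type u) [AddCommGroup M] [Module R M]
    [AddCommGroup N] [Module R N]
    (hinj : Function.Injective
      ((LinearMap.ker (Finsupp.linearCombination R (id : N → N))).subtype.lTensor M)) :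
    Subsingleton (DRing.Tor R 1 M N) := by
  let p : (N →₀ R) →ₗ[R] N := Finsupp.linearCombination R (id : N → N)
  let i : LinearMap.ker p →ₗ[R] (N →₀ R) := (LinearMap.ker p).subtype
  have hi : Function.Injective i := Submodule.subtype_injective _
  have hp : Function.Surjective p := Finsupp.linearCombination_id_surjective R N
  have hex : Function.Exact i p := LinearMap.exact_subtype_ker_map p
  exact tor_one_subsingleton (M := M) (K := LinearMap.ker p) (F := N →₀ R) (N := N) i p hi hp hex hinj

end Groth.Agent.H10.TorBridge
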