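-- Tor-vanishing for glueing pairs: injectivity of `R' ⊗ K → R' ⊗ F` when `F / K` is `f`-power torsion,
-- and for torsion ideals `K ⊆ R`; consequences for `DRing.Tor R 1 R' _`.
import Groth.Agent.H10.Glue
import Groth.Agent.H10.TorBridge
import Mathlib.RingTheory.TensorProduct.Finite
import Mathlib.RingTheory.TensorProduct.DirectLimitFG

set_option autoImplicit false
universe u

namespace Groth.Agent.H10.GlueTor

open TensorProduct

variable {R R' : Type u} [CommRing R] [CommRing R'] [Algebra R R'] {f : R}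

/-- For a glueing pair and `f ^ n F ⊆ K ⊆ F`, the map `R' ⊗ K → R' ⊗ F` is injective. -/
theorem lTensor_subtype_injective_of_pow_smul_mem (h : EtGlue.IsGlueingPair R R' f) (n : ℕ)
    {F : Type u} [AddCommGroup F] [Module R F] (K : Submodule R F) (hK : ∀ p : F, f ^ n • p ∈ K) :
    Function.Injective (K.subtype.lTensor R') :=
  Glue.lTensor_injective_of_torsionLifts h.1 n (Glue.torsionLifts h n F) K hK

/-- For a glueing pair and `K ⊆ F` with `F / K` an `f`-power torsion module, the map
`R' ⊗ K → R' ⊗ F` is injective. -/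
theorem lTensor_subtype_injective_of_torsion_quotient (h : EtGlue.IsGlueingPair R R' f)
    {F : Type u} [AddCommGroup F] [Module R F] (K : Submodule R F)
    (hK : ∀ p : F, ∃ n : ℕ, f ^ n • p ∈ K) :
    Function.Injective (K.subtype.lTensor R') := by
  rw [injective_iff_map_eq_zero]
  intro z hz
  obtain ⟨J, hJfg, hJK, y, hy⟩ := Submodule.exists_fg_le_eq_rTensor_inclusion (M := R') (I := K)
    (TensorProduct.comm R R' K z)
  have hy0 : LinearMap.rTensor R' J.subtype y = 0 := by
    have hcomp : J.subtype = K.subtype ∘ₗ Submodule.inclusion hJK := rfl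
    rw [hcomp, LinearMap.rTensor_comp, LinearMap.comp_apply, ← hy, LinearMap.rTensor_comm, hz,
      map_zero]
  obtain ⟨Q, hJQ, hQfg, hQ0⟩ := TensorProduct.eq_zero_of_fg_of_subtype_eq_zero hJfg hy0
  obtain ⟨n, hn⟩ : ∃ n : ℕ, ∀ q ∈ Q, f ^ n • q ∈ K := by
    obtain ⟨n, hn⟩ := Glue.exists_pow_smul_eq_zero_of_fg (f := f) (Q.map K.mkQ) (hQfg.map _) (by
      rintro _ ⟨q, -, rfl⟩
      obtain ⟨k, hk⟩ := hK q
      exact ⟨k, by rw [← map_smul, Submodule.mkQ_apply, Submodule.Quotient.mk_eq_zero]; exact hk⟩)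
    refine ⟨n, fun q hq => ?_⟩
    have := hn (K.mkQ q) (Submodule.mem_map_of_mem hq)
    rwa [← map_smul, Submodule.mkQ_apply, Submodule.Quotient.mk_eq_zero] at this
  let K₁ : Submodule R Q := K.comap Q.subtype
  have hK₁ : ∀ q : Q, f ^ n • q ∈ K₁ := fun q => by
    change f ^ n • (q : F) ∈ K
    exact hn q.1 q.2
  have hinj := lTensor_subtype_injective_of_pow_smul_mem h n K₁ hK₁
  let a : J →ₗ[R] K₁ := LinearMap.codRestrict K₁ (Submodule.inclusion hJQ) (fun j => by
    change (j : F) ∈ K
    exact hJK j.2)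
  let b : K₁ →ₗ[R] K := LinearMap.codRestrict K (Q.subtype ∘ₗ K₁.subtype) (fun k => k.2)
  have hba : b ∘ₗ a = Submodule.inclusion hJK := by ext j; rfl
  have hKa : K₁.subtype ∘ₗ a = Submodule.inclusion hJQ := by ext j; rfl
  set y' : R' ⊗[R] J := (TensorProduct.comm R R' J).symm y with hy'
  have hyy' : TensorProduct.comm R R' J y' = y := LinearEquiv.apply_symm_apply _ _
  have hz_eq : z = (Submodule.inclusion hJK).lTensor R' y' := by
    apply (TensorProduct.comm R R' K).injective
    rw [hy, ← LinearMap.rTensor_comm, hyy']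
  have hQ0' : (Submodule.inclusion hJQ).lTensor R' y' = 0 := by
    apply (TensorProduct.comm R R' Q).injective
    rw [← LinearMap.rTensor_comm, hyy', hQ0, map_zero]
  have h1 : a.lTensor R' y' = 0 := by
    apply hinj
    rw [map_zero, ← LinearMap.comp_apply, ← LinearMap.lTensor_comp, hKa, hQ0']
  rw [hz_eq, ← hba, LinearMap.lTensor_comp, LinearMap.comp_apply, h1, map_zero]

/-- For an `f`-power torsion module `T`, every element of `R' ⊗ T` is of the form `1 ⊗ t`. -/
theorem exists_one_tmul_eq (hq : EtGlue.QuotPowBijective R R' f) {T : Type u} [AddCommGroup T]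
    [Module R T] (hT : ∀ t : T, ∃ k : ℕ, f ^ k • t = 0) (z : R' ⊗[R] T) :
    ∃ t : T, (1 : R') ⊗ₜ[R] t = z := by
  induction z using TensorProduct.induction_on with
  | zero => exact ⟨0, tmul_zero _ _⟩
  | tmul x t =>
    obtain ⟨k, hk⟩ := hT t
    obtain ⟨r, s, rfl⟩ := Glue.exists_add hq k x
    refine ⟨r • t, ?_⟩
    have h2 : (algebraMap R R' f ^ k * s) ⊗ₜ[R] t = 0 := by
      have : algebraMap R R' f ^ k * s = f ^ k • s := by rw [Algebra.smul_def, map_pow]
      rw [this, TensorProduct.smul_tmul, hk, tmul_zero]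
    rw [add_tmul, h2, add_zero, Algebra.algebraMap_eq_smul_one, TensorProduct.smul_tmul]
  | add x y hx hy =>
    obtain ⟨a, rfl⟩ := hx
    obtain ⟨b, rfl⟩ := hy
    exact ⟨a + b, tmul_add _ _ _⟩

/-- For a glueing pair and an ideal `I ⊆ R` of `f`-power torsion elements, `R' ⊗ I → R' ⊗ R` is
injective. -/
theorem lTensor_subtype_injective_of_torsion_ideal (h : EtGlue.IsGlueingPair R R' f)
    (I : Submodule R R) (hI : ∀ t ∈ I, ∃ k : ℕ, f ^ k * t = 0) :
    Function.Injective (I.subtype.lTensor R') := by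
  rw [injective_iff_map_eq_zero]
  intro z hz
  have hT : ∀ t : I, ∃ k : ℕ, f ^ k • t = 0 := fun t => by
    obtain ⟨k, hk⟩ := hI t.1 t.2
    exact ⟨k, Subtype.ext (by simpa using hk)⟩
  obtain ⟨t, rfl⟩ := exists_one_tmul_eq h.1 hT z
  rw [LinearMap.lTensor_tmul] at hz
  have h1 : algebraMap R R' (t : R) = 0 := by
    have := congrArg (TensorProduct.rid R R') hz
    rw [TensorProduct.rid_tmul, map_zero] at this
    rw [Algebra.algebraMap_eq_smul_one]
    exact this
  have h2 : algebraMap R (Localization.Away f) (t : R) = 0 := by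
    rw [IsLocalization.map_eq_zero_iff (Submonoid.powers f)]
    obtain ⟨k, hk⟩ := hI t.1 t.2
    exact ⟨⟨f ^ k, k, rfl⟩, hk⟩
  have h3 : (t : R) = 0 := by
    apply h.2.1
    simp only [h1, h2, map_zero]
  have : t = 0 := Subtype.ext h3
  rw [this, tmul_zero]

/-- For a glueing pair and an `f`-power torsion module `T`, `Tor₁(R', T) = 0`. -/
theorem tor_one_subsingleton_of_torsion (h : EtGlue.IsGlueingPair R R' f) (T : Type u)
    [AddCommGroup T] [Module R T] (hT : ∀ t : T, ∃ k : ℕ, f ^ k • t = 0) :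
    Subsingleton (DRing.Tor R 1 R' T) := by
  apply TorBridge.tor_one_subsingleton_of_free_presentation
  apply lTensor_subtype_injective_of_torsion_quotient h
  intro p
  obtain ⟨k, hk⟩ := hT (Finsupp.linearCombination R (id : T → T) p)
  exact ⟨k, by rw [LinearMap.mem_ker, map_smul, hk]⟩

end Groth.Agent.H10.GlueTor
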