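-- Dimension shifting for left derived functors / `DRing.Tor`, and vanishing of Tor for flat modules.
import Groth.Agent.H10.TorBridge
import Mathlib.RingTheory.Flat.CategoryTheory
import Mathlib.RingTheory.Flat.Equalizer

set_option autoImplicit false
universe v u v' u'

namespace Groth.Agent.H10.TorFlat

open CategoryTheory CategoryTheory.Limits TensorProduct

section General

variable {C : Type u} [Category.{v} C] [Abelian C] [EnoughProjectives C]
  {D : Type u'} [Category.{v'} D] [Abelian D]

/-- Dimension shifting (vanishing form): for `0 → X₁ → X₂ → X₃ → 0` with `X₂` projective,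
`L_{n+1} F X₁ = 0` implies `L_{n+2} F X₃ = 0`. -/
theorem isZero_leftDerived_succ_of_shortExact (F : C ⥤ D) [F.Additive]
    (S : ShortComplex C) (hS : S.ShortExact) [Projective S.X₂] (n : ℕ)
    (h : IsZero ((F.leftDerived (n + 1)).obj S.X₁)) :
    IsZero ((F.leftDerived (n + 2)).obj S.X₃) := by
  let Q := ProjectiveResolution.of S.X₁
  let P := Groth.Agent.H72.splice S hS Q
  refine IsZero.of_iso ?_ (P.isoLeftDerivedObj F (n + 2))
  have hQ : IsZero ((HomologicalComplex.homologyFunctor D _ (n + 1)).obj
      ((F.mapHomologicalComplex _).obj Q.complex)) :=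
    IsZero.of_iso h (Q.isoLeftDerivedObj F (n + 1)).symm
  erw [← HomologicalComplex.exactAt_iff_isZero_homology] at hQ ⊢
  rw [HomologicalComplex.exactAt_iff' _ (n + 3) (n + 2) (n + 1) (by simp) (by simp)]
  rw [HomologicalComplex.exactAt_iff' _ (n + 2) (n + 1) n (by simp) (by simp)] at hQ
  exact hQ

end General

variable {R : Type u} [CommRing R]

/-- Dimension shifting for `Tor`: if `0 → K → F → N → 0` is exact with `F` projective and
`Tor_{n+1}(M, K) = 0`, then `Tor_{n+2}(M, N) = 0`. -/
theorem tor_succ_subsingleton {M K F N : Type u} [AddCommGroup M] [Module R M]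
    [AddCommGroup K] [Module R K] [AddCommGroup F] [Module R F] [Module.Projective R F]
    [AddCommGroup N] [Module R N] (i : K →ₗ[R] F) (p : F →ₗ[R] N)
    (hi : Function.Injective i) (hp : Function.Surjective p) (hex : Function.Exact i p) (n : ℕ)
    (h : Subsingleton (DRing.Tor R (n + 1) M K)) :
    Subsingleton (DRing.Tor R (n + 2) M N) := by
  let Fun : ModuleCat.{u} R ⥤ ModuleCat.{u} R :=
    (MonoidalCategory.tensoringLeft (ModuleCat.{u} R)).obj (ModuleCat.of R M)
  let S : ShortComplex (ModuleCat.{u} R) := TorBridge.presSC i p hex.linearMap_comp_eq_zero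
  have hS : S.ShortExact := ModuleCat.shortComplex_shortExact _ hex hi hp
  have : Projective S.X₂ := (inferInstance : Projective (ModuleCat.of R F))
  have hz : IsZero ((Fun.leftDerived (n + 1)).obj S.X₁) :=
    @ModuleCat.isZero_of_subsingleton _ _ _ h
  exact ModuleCat.subsingleton_of_isZero (isZero_leftDerived_succ_of_shortExact Fun S hS n hz)

/-- The kernel of a surjection from a flat module onto a flat module is flat. -/
theorem flat_of_exact {K F N : Type u} [AddCommGroup K] [Module R K] [AddCommGroup F] [Module R F]
    [AddCommGroup N] [Module R N] [Module.Flat R F] [Module.Flat R N]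
    (i : K →ₗ[R] F) (p : F →ₗ[R] N)
    (hi : Function.Injective i) (hp : Function.Surjective p) (hex : Function.Exact i p) :
    Module.Flat R K := by
  rw [Module.Flat.iff_rTensor_preserves_injective_linearMap]
  intro A B _ _ _ _ g hg
  -- `A ⊗ K → A ⊗ F → B ⊗ F` is injective and equals `A ⊗ K → B ⊗ K → B ⊗ F`
  have h1 : Function.Injective (i.lTensor A) :=
    LinearMap.lTensor_injective_of_exact_of_flat p hp i hi hex A
  have h2 : Function.Injective (g.rTensor F) :=
    Module.Flat.rTensor_preserves_injective_linearMap g hg
  have hcomm : (i.lTensor B) ∘ₗ (g.rTensor K) = (g.rTensor F) ∘ₗ (i.lTensor A) := by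
    ext a k
    simp
  have h3 : Function.Injective ((i.lTensor B) ∘ₗ (g.rTensor K)) := by
    rw [hcomm]
    exact h2.comp h1
  exact Function.Injective.of_comp h3

/-- `Tor_{p+1}(N, M) = 0` for `M` flat. -/
theorem tor_succ_subsingleton_of_flat_right (N : Type u) [AddCommGroup N] [Module R N] :
    ∀ (p : ℕ) (M : Type u) [AddCommGroup M] [Module R M] [Module.Flat R M],
      Subsingleton (DRing.Tor R (p + 1) N M)
  | 0, M, _, _, _ => by
    apply TorBridge.tor_one_subsingleton_of_free_presentation
    exact LinearMap.lTensor_injective_of_exact_of_flat (Finsupp.linearCombination R (id : M → M))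
      (Finsupp.linearCombination_id_surjective R M) _ (Submodule.subtype_injective _)
      (LinearMap.exact_subtype_ker_map _) N
  | p + 1, M, _, _, _ => by
    let π : (M →₀ R) →ₗ[R] M := Finsupp.linearCombination R (id : M → M)
    let K : Submodule R (M →₀ R) := LinearMap.ker π
    have hπ : Function.Surjective π := Finsupp.linearCombination_id_surjective R M
    have hex : Function.Exact K.subtype π := LinearMap.exact_subtype_ker_map π
    have hK : Module.Flat R K := flat_of_exact (K := K) (F := M →₀ R) (N := M) K.subtype π
      (Submodule.subtype_injective _) hπ hex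
    exact tor_succ_subsingleton (M := N) (K := K) (F := M →₀ R) (N := M) K.subtype π
      (Submodule.subtype_injective _) hπ hex p (tor_succ_subsingleton_of_flat_right N p K)

/-- `Tor_{p+1}(M, N) = 0` for `M` flat. -/
theorem tor_succ_subsingleton_of_flat_left (M N : Type u) [AddCommGroup M] [Module R M]
    [AddCommGroup N] [Module R N] [Module.Flat R M] (p : ℕ) :
    Subsingleton (DRing.Tor R (p + 1) M N) := by
  let Fun : ModuleCat.{u} R ⥤ ModuleCat.{u} R :=
    (MonoidalCategory.tensoringLeft (ModuleCat.{u} R)).obj (ModuleCat.of R M)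
  let P := ProjectiveResolution.of (ModuleCat.of R N)
  have hz : IsZero ((Fun.leftDerived (p + 1)).obj (ModuleCat.of R N)) := by
    refine IsZero.of_iso ?_ (P.isoLeftDerivedObj Fun (p + 1))
    erw [← HomologicalComplex.exactAt_iff_isZero_homology]
    rw [HomologicalComplex.exactAt_iff' _ (p + 2) (p + 1) p (by simp) (by simp)]
    have : Module.Flat R (ModuleCat.of R M) := ‹Module.Flat R M›
    have h1 := Module.Flat.lTensor_shortComplex_exact (ModuleCat.of R M) _ (P.exact_succ p)
    exact h1
  exact ModuleCat.subsingleton_of_isZero hz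

end Groth.Agent.H10.TorFlat
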