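-- Flatness descends along a glueing pair: elementary `Tor₁` calculus with the canonical free
-- presentation `0 → rel M → (M →₀ R) → M → 0`.
import Groth.Agent.H10.GlueTor
import Groth.Agent.H10.TorFlat
import Mathlib.RingTheory.Flat.Stability
import Mathlib.RingTheory.TensorProduct.DirectLimitFG
import Mathlib.RingTheory.TensorProduct.Finite
import Mathlib.RingTheory.Flat.Localization
import Mathlib.RingTheory.Flat.Tensor
import Mathlib.RingTheory.Localization.BaseChange

set_option autoImplicit false
universe u

namespace Groth.Agent.H10.FlatDescent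

open TensorProduct

section General

variable {R : Type u} [CommRing R]

/-- Commutation of the two tensor functors. -/
theorem sq {N P X Y : Type u} [AddCommMonoid N] [Module R N] [AddCommMonoid P] [Module R P]
    [AddCommMonoid X] [Module R X] [AddCommMonoid Y] [Module R Y] (u : N →ₗ[R] P) (v : X →ₗ[R] Y)
    (z : N ⊗[R] X) : v.lTensor P (u.rTensor X z) = u.rTensor Y (v.lTensor N z) := by
  rw [← LinearMap.comp_apply, ← LinearMap.comp_apply, LinearMap.lTensor_comp_rTensor,
    LinearMap.rTensor_comp_lTensor]

section Chase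

variable {N N₁ N₂ N₃ P : Type u} [AddCommGroup N] [Module R N] [AddCommGroup N₁] [Module R N₁]
  [AddCommGroup N₂] [Module R N₂] [AddCommGroup N₃] [Module R N₃] [AddCommGroup P] [Module R P]
  {L G M : Type u} [AddCommGroup L] [Module R L] [AddCommGroup G] [Module R G]
  [AddCommGroup M] [Module R M] (ι : L →ₗ[R] G) (π : G →ₗ[R] M)

theorem chase_rTensor_injective [Module.Flat R G] (hπ : Function.Surjective π)
    (hιπ : Function.Exact ι π) (h : Function.Injective (ι.lTensor N₃))
    (i : N₁ →ₗ[R] N₂) (p : N₂ →ₗ[R] N₃)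
    (hi : Function.Injective i) (hp : Function.Surjective p) (hex : Function.Exact i p) :
    Function.Injective (i.rTensor M) := by
  have hπι : π ∘ₗ ι = 0 := hιπ.linearMap_comp_eq_zero
  have hpi : p ∘ₗ i = 0 := hex.linearMap_comp_eq_zero
  have hiG : Function.Injective (i.rTensor G) :=
    Module.Flat.rTensor_preserves_injective_linearMap i hi
  rw [injective_iff_map_eq_zero]
  intro x hx
  obtain ⟨g₁, rfl⟩ := LinearMap.lTensor_surjective N₁ hπ x
  have h2 : π.lTensor N₂ (i.rTensor _ g₁) = 0 := by
    rw [sq]; exact hx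
  obtain ⟨l₂, hl₂⟩ := (lTensor_exact N₂ hιπ hπ _).mp h2
  have h3 : ι.lTensor N₃ (p.rTensor _ l₂) = 0 := by
    rw [sq, hl₂, ← LinearMap.comp_apply, ← LinearMap.rTensor_comp, hpi, LinearMap.rTensor_zero,
      LinearMap.zero_apply]
  have h4 : p.rTensor _ l₂ = 0 := h (h3.trans (map_zero _).symm)
  obtain ⟨l₁, rfl⟩ := (rTensor_exact _ hex hp _).mp h4
  have h5 : ι.lTensor N₁ l₁ = g₁ := by
    apply hiG
    rw [← hl₂, sq]
  rw [← h5, ← LinearMap.comp_apply, ← LinearMap.lTensor_comp, hπι, LinearMap.lTensor_zero,
    LinearMap.zero_apply]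

theorem chase_of_exact [Module.Flat R G] (h₁ : Function.Injective (ι.lTensor N₁))
    (h₃ : Function.Injective (ι.lTensor N₃)) (i : N₁ →ₗ[R] N₂) (p : N₂ →ₗ[R] N₃)
    (hi : Function.Injective i) (hp : Function.Surjective p) (hex : Function.Exact i p) :
    Function.Injective (ι.lTensor N₂) := by
  have hiG : Function.Injective (i.rTensor G) :=
    Module.Flat.rTensor_preserves_injective_linearMap i hi
  rw [injective_iff_map_eq_zero]
  intro x hx
  have h4 : p.rTensor _ x = 0 := h₃ (by rw [sq, hx, map_zero, map_zero])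
  obtain ⟨x₁, rfl⟩ := (rTensor_exact _ hex hp _).mp h4
  have h5 : ι.lTensor N₁ x₁ = 0 := hiG (by rw [← sq, hx, map_zero])
  rw [h₁ (h5.trans (map_zero _).symm), map_zero]

theorem chase_of_injective (h₂ : Function.Injective (ι.lTensor N₂)) (i : N₁ →ₗ[R] N₂)
    (hiL : Function.Injective (i.rTensor L)) : Function.Injective (ι.lTensor N₁) := by
  rw [injective_iff_map_eq_zero]
  intro x hx
  apply hiL
  rw [map_zero]
  apply h₂
  rw [sq, hx, map_zero, map_zero]

theorem chase_of_retract (s : N →ₗ[R] P) (r : P →ₗ[R] N) (hrs : r ∘ₗ s = LinearMap.id)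
    (h : Function.Injective (ι.lTensor P)) : Function.Injective (ι.lTensor N) := by
  have hid : ∀ z : N ⊗[R] L, r.rTensor _ (s.rTensor _ z) = z := fun z => by
    rw [← LinearMap.comp_apply, ← LinearMap.rTensor_comp, hrs, LinearMap.rTensor_id,
      LinearMap.id_apply]
  intro x y hxy
  have h1 : s.rTensor _ x = s.rTensor _ y := h (by rw [sq, sq, hxy])
  rw [← hid x, ← hid y, h1]

theorem chase_of_rTensor_injective (hπ : Function.Surjective π) (hιπ : Function.Exact ι π)
    (h₂ : Function.Injective (ι.lTensor N₂)) (i : N₁ →ₗ[R] N₂) (p : N₂ →ₗ[R] N₃)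
    (hp : Function.Surjective p) (hex : Function.Exact i p)
    (hinj : Function.Injective (i.rTensor M)) : Function.Injective (ι.lTensor N₃) := by
  have hπι : π ∘ₗ ι = 0 := hιπ.linearMap_comp_eq_zero
  have hpi : p ∘ₗ i = 0 := hex.linearMap_comp_eq_zero
  rw [injective_iff_map_eq_zero]
  intro x hx
  obtain ⟨l₂, rfl⟩ := LinearMap.rTensor_surjective L hp x
  have h1 : p.rTensor G (ι.lTensor N₂ l₂) = 0 := by rw [← sq]; exact hx
  obtain ⟨g₁, hg₁⟩ := (rTensor_exact G hex hp _).mp h1
  have h2 : i.rTensor M (π.lTensor N₁ g₁) = 0 := by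
    rw [← sq, hg₁, ← LinearMap.comp_apply, ← LinearMap.lTensor_comp, hπι, LinearMap.lTensor_zero,
      LinearMap.zero_apply]
  have h3 : π.lTensor N₁ g₁ = 0 := hinj (h2.trans (map_zero _).symm)
  obtain ⟨l₁, hl₁⟩ := (lTensor_exact N₁ hιπ hπ _).mp h3
  have h4 : i.rTensor L l₁ = l₂ := by
    apply h₂
    rw [sq, hl₁, hg₁]
  rw [← h4, ← LinearMap.comp_apply, ← LinearMap.rTensor_comp, hpi, LinearMap.rTensor_zero,
    LinearMap.zero_apply]

theorem chase_of_fg_le
    (h : ∀ Q : Submodule R N, Q.FG → ∃ N' : Submodule R N, Q ≤ N' ∧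
      Function.Injective (ι.lTensor N')) : Function.Injective (ι.lTensor N) := by
  rw [injective_iff_map_eq_zero]
  intro x hx
  obtain ⟨J, hJ, y, rfl⟩ := Submodule.exists_fg_le_eq_rTensor_subtype x
  have ht : LinearMap.rTensor G J.subtype (ι.lTensor J y) = 0 := by rw [← sq]; exact hx
  obtain ⟨Q, hJQ, hQfg, hQ0⟩ := TensorProduct.eq_zero_of_fg_of_subtype_eq_zero hJ ht
  obtain ⟨N', hQN', hN'⟩ := h Q hQfg
  have hJN' : J ≤ N' := hJQ.trans hQN'
  have h1 : ι.lTensor N' ((Submodule.inclusion hJN').rTensor L y) = 0 := by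
    rw [sq]
    have hc : Submodule.inclusion hJN' = Submodule.inclusion hQN' ∘ₗ Submodule.inclusion hJQ := rfl
    rw [hc, LinearMap.rTensor_comp, LinearMap.comp_apply, hQ0, map_zero]
  have h2 : (Submodule.inclusion hJN').rTensor L y = 0 := hN' (h1.trans (map_zero _).symm)
  have hc : J.subtype = N'.subtype ∘ₗ Submodule.inclusion hJN' := rfl
  rw [hc, LinearMap.rTensor_comp, LinearMap.comp_apply, h2, map_zero]

theorem chase_of_algebra (hπ : Function.Surjective π) (hιπ : Function.Exact ι π)
    (A : Type u) [CommRing A] [Algebra R A] [Module A N]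
    [IsScalarTower R A N] (hA : Function.Injective (ι.lTensor A))
    (hflat : Module.Flat A (A ⊗[R] M)) :
    Function.Injective (ι.lTensor N) := by
  let ιA : A ⊗[R] L →ₗ[A] A ⊗[R] G := ι.baseChange A
  let πA : A ⊗[R] G →ₗ[A] A ⊗[R] M := π.baseChange A
  have hιA : Function.Injective ιA := hA
  have hπA : Function.Surjective πA := LinearMap.lTensor_surjective A hπ
  have hexA : Function.Exact ιA πA := lTensor_exact A hιπ hπ
  have key : Function.Injective (ιA.lTensor N) :=
    LinearMap.lTensor_injective_of_exact_of_flat πA hπA ιA hιA hexA N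
  let e₁ := TensorProduct.AlgebraTensorModule.cancelBaseChange R A A N L
  let e₂ := TensorProduct.AlgebraTensorModule.cancelBaseChange R A A N G
  have hsq : ∀ z, e₂ (ιA.lTensor N z) = ι.lTensor N (e₁ z) := by
    intro z
    induction z using TensorProduct.induction_on with
    | zero => simp
    | tmul n w =>
      induction w using TensorProduct.induction_on with
      | zero => simp
      | tmul a l => rfl
      | add w₁ w₂ h₁ h₂ => rw [tmul_add, map_add, map_add, h₁, h₂, map_add, map_add]
    | add z₁ z₂ h₁ h₂ => rw [map_add, map_add, h₁, h₂, map_add, map_add]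
  intro x y hxy
  have h1 : e₁.symm x = e₁.symm y := key (e₂.injective (by
    rw [hsq, hsq, LinearEquiv.apply_symm_apply, LinearEquiv.apply_symm_apply, hxy]))
  exact e₁.symm.injective h1

theorem chase_flat_baseChange [Module.Flat R G] (hπ : Function.Surjective π)
    (hιπ : Function.Exact ι π) (A : Type u) [CommRing A] [Algebra R A]
    (hA : Function.Injective (ι.lTensor A)) (hflat : Module.Flat A (A ⊗[R] M)) :
    Module.Flat A (A ⊗[R] L) := by
  let ιA : A ⊗[R] L →ₗ[A] A ⊗[R] G := ι.baseChange A
  let πA : A ⊗[R] G →ₗ[A] A ⊗[R] M := π.baseChange A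
  have hιA : Function.Injective ιA := hA
  have hπA : Function.Surjective πA := LinearMap.lTensor_surjective A hπ
  have hexA : Function.Exact ιA πA := lTensor_exact A hιπ hπ
  exact TorFlat.flat_of_exact ιA πA hιA hπA hexA

end Chase

/-- A presentation of `M` by a flat module, with abstract carrier (so that instance paths are the
generic ones). -/
structure FlatPres (R : Type u) [CommRing R] (M : Type u) [AddCommGroup M] [Module R M] where
  /-- the carrier -/
  G : Type u
  [acg : AddCommGroup G]
  [mod : Module R G]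
  [flat : Module.Flat R G]
  [proj : Module.Projective R G]
  /-- the surjection -/
  π : G →ₗ[R] M
  surj : Function.Surjective π

attribute [instance] FlatPres.acg FlatPres.mod FlatPres.flat FlatPres.proj

/-- The canonical free presentation of `M`. -/
noncomputable def flatPres (M : Type u) [AddCommGroup M] [Module R M] : FlatPres R M :=
  @FlatPres.mk R _ M _ _ (M →₀ R) inferInstance inferInstance inferInstance inferInstance
    (Finsupp.linearCombination R (id : M → M)) (Finsupp.linearCombination_id_surjective R M)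

attribute [irreducible] flatPres

/-- The carrier of the canonical presentation. -/
abbrev FG (M : Type u) [AddCommGroup M] [Module R M] : Type u := (flatPres (R := R) M).G

/-- The canonical free presentation of `M`. -/
noncomputable def pres (M : Type u) [AddCommGroup M] [Module R M] : FG (R := R) M →ₗ[R] M :=
  (flatPres (R := R) M).π

/-- The module of relations of the canonical free presentation. -/
noncomputable def rel (M : Type u) [AddCommGroup M] [Module R M] : Submodule R (FG (R := R) M) :=
  LinearMap.ker (pres (R := R) M)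

/-- `Tor₁(N, M) = 0`, expressed with the canonical presentation of `M`. -/
def TorZero (N M : Type u) [AddCommGroup N] [Module R N] [AddCommGroup M] [Module R M] : Prop :=
  Function.Injective ((rel (R := R) M).subtype.lTensor N)

theorem pres_surjective (M : Type u) [AddCommGroup M] [Module R M] :
    Function.Surjective (pres (R := R) M) :=
  (flatPres (R := R) M).surj

theorem pres_exact (M : Type u) [AddCommGroup M] [Module R M] :
    Function.Exact (rel (R := R) M).subtype (pres (R := R) M) :=
  LinearMap.exact_subtype_ker_map _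

attribute [irreducible] rel pres

variable {N N₁ N₂ N₃ P M : Type u} [AddCommGroup N] [Module R N] [AddCommGroup N₁] [Module R N₁]
  [AddCommGroup N₂] [Module R N₂] [AddCommGroup N₃] [Module R N₃] [AddCommGroup P] [Module R P]
  [AddCommGroup M] [Module R M]

theorem torZero_iff : TorZero (R := R) N M ↔
    Function.Injective ((rel (R := R) M).subtype.lTensor N) := Iff.rfl

/-- If `Tor₁(N₃, M) = 0` and `0 → N₁ → N₂ → N₃ → 0` is exact, then `N₁ ⊗ M → N₂ ⊗ M` is
injective. -/
theorem TorZero.rTensor_injective (h : TorZero (R := R) N₃ M) (i : N₁ →ₗ[R] N₂) (p : N₂ →ₗ[R] N₃)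
    (hi : Function.Injective i) (hp : Function.Surjective p) (hex : Function.Exact i p) :
    Function.Injective (i.rTensor M) := by
  rw [torZero_iff] at h
  have key := chase_rTensor_injective (R := R) (L := rel (R := R) M) (G := FG (R := R) M) (M := M)
    (rel (R := R) M).subtype (pres (R := R) M) (pres_surjective M) (pres_exact M) h i p hi hp hex
  exact key

/-- `Tor₁(-, M) = 0` is closed under extensions. -/
theorem TorZero.of_exact (h₁ : TorZero (R := R) N₁ M) (h₃ : TorZero (R := R) N₃ M)
    (i : N₁ →ₗ[R] N₂) (p : N₂ →ₗ[R] N₃)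
    (hi : Function.Injective i) (hp : Function.Surjective p) (hex : Function.Exact i p) :
    TorZero (R := R) N₂ M := by
  rw [torZero_iff] at h₁ h₃ ⊢
  have key := chase_of_exact (R := R) (L := rel (R := R) M) (G := FG (R := R) M) (rel (R := R) M).subtype h₁ h₃ i p
    hi hp hex
  exact key

/-- If `Tor₁(N₂, M) = 0` and `N₁ ⊗ rel M → N₂ ⊗ rel M` is injective, then `Tor₁(N₁, M) = 0`. -/
theorem TorZero.of_injective (h₂ : TorZero (R := R) N₂ M) (i : N₁ →ₗ[R] N₂)
    (hiL : Function.Injective (i.rTensor (rel (R := R) M))) : TorZero (R := R) N₁ M := by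
  rw [torZero_iff] at h₂ ⊢
  have key := chase_of_injective (R := R) (L := rel (R := R) M) (G := FG (R := R) M) (rel (R := R) M).subtype h₂ i hiL
  exact key

/-- `Tor₁(-, M) = 0` passes to retracts. -/
theorem TorZero.of_retract (s : N →ₗ[R] P) (r : P →ₗ[R] N) (hrs : r ∘ₗ s = LinearMap.id)
    (h : TorZero (R := R) P M) : TorZero (R := R) N M := by
  rw [torZero_iff] at h ⊢
  have key := chase_of_retract (R := R) (L := rel (R := R) M) (G := FG (R := R) M) (rel (R := R) M).subtype s r hrs h
  exact key

/-- If `Tor₁(N₂, M) = 0` and `N₁ ⊗ M → N₂ ⊗ M` is injective, then `Tor₁(N₃, M) = 0`. -/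
theorem TorZero.of_rTensor_injective (h₂ : TorZero (R := R) N₂ M) (i : N₁ →ₗ[R] N₂)
    (p : N₂ →ₗ[R] N₃) (hp : Function.Surjective p) (hex : Function.Exact i p)
    (hinj : Function.Injective (i.rTensor M)) : TorZero (R := R) N₃ M := by
  rw [torZero_iff] at h₂ ⊢
  have key := chase_of_rTensor_injective (R := R) (L := rel (R := R) M) (G := FG (R := R) M)
    (M := M) (rel (R := R) M).subtype (pres (R := R) M) (pres_surjective M) (pres_exact M) h₂ i p
    hp hex hinj
  exact key

/-- `Tor₁(N, M) = 0` if every finitely generated submodule of `N` is contained in a submodule `N'`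
with `Tor₁(N', M) = 0`. -/
theorem TorZero.of_fg_le
    (h : ∀ Q : Submodule R N, Q.FG → ∃ N' : Submodule R N, Q ≤ N' ∧ TorZero (R := R) N' M) :
    TorZero (R := R) N M := by
  rw [torZero_iff]
  have key := chase_of_fg_le (R := R) (N := N) (L := rel (R := R) M) (G := FG (R := R) M)
    (rel (R := R) M).subtype (fun Q hQ => by
      obtain ⟨N', hQN', hN'⟩ := h Q hQ
      rw [torZero_iff] at hN'
      exact ⟨N', hQN', hN'⟩)
  exact key

/-- `Tor₁(N, M) = 0` for `N` flat. -/
theorem TorZero.of_flat [Module.Flat R N] : TorZero (R := R) N M := by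
  rw [torZero_iff]
  exact Module.Flat.lTensor_preserves_injective_linearMap _ (Submodule.subtype_injective _)

/-- If `Tor₁(A, M) = 0` and `A ⊗ M` is flat over `A`, then `Tor₁(N, M) = 0` for every
`A`-module `N`. -/
theorem TorZero.of_algebra (A : Type u) [CommRing A] [Algebra R A] [Module A N]
    [IsScalarTower R A N] (hA : TorZero (R := R) A M) (hflat : Module.Flat A (A ⊗[R] M)) :
    TorZero (R := R) N M := by
  rw [torZero_iff] at hA ⊢
  have key := chase_of_algebra (R := R) (N := N) (L := rel (R := R) M) (G := FG (R := R) M) (M := M)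
    (rel (R := R) M).subtype (pres (R := R) M) (pres_surjective M) (pres_exact M) A hA hflat
  exact key

/-- If `Tor₁(R ⧸ I, M) = 0` for all ideals `I`, then `M` is flat. -/
theorem flat_of_torZero (h : ∀ I : Ideal R, TorZero (R := R) (R ⧸ I) M) : Module.Flat R M := by
  rw [Module.Flat.iff_rTensor_injective']
  intro I
  exact (h I).rTensor_injective I.subtype I.mkQ (Submodule.subtype_injective _)
    (Submodule.mkQ_surjective _) (LinearMap.exact_subtype_mkQ I)

/-- If `Tor₁(A, M) = 0` and `A ⊗ M` is `A`-flat, then `A ⊗ rel M` is `A`-flat. -/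
theorem flat_baseChange_rel (A : Type u) [CommRing A] [Algebra R A]
    (hA : TorZero (R := R) A M) (hflat : Module.Flat A (A ⊗[R] M)) :
    Module.Flat A (A ⊗[R] rel (R := R) M) := by
  rw [torZero_iff] at hA
  have key := chase_flat_baseChange (R := R) (L := rel (R := R) M) (G := FG (R := R) M) (M := M)
    (rel (R := R) M).subtype (pres (R := R) M) (pres_surjective M) (pres_exact M) A hA hflat
  exact key

/-- If `Tor₁(R ⧸ I, M) = 0` and `M / I M` is flat over `R ⧸ I`, then `Tor₁(N, M) = 0` for every `N`
annihilated by a power of `I`. -/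
theorem torZero_of_pow_annihilates (I : Ideal R) (hI : TorZero (R := R) (R ⧸ I) M)
    (hflat : Module.Flat (R ⧸ I) ((R ⧸ I) ⊗[R] M)) :
    ∀ (m : ℕ) (N : Type u) [AddCommGroup N] [Module R N],
      (∀ a : R, a ∈ I ^ m → ∀ x : N, a • x = 0) → TorZero (R := R) N M := by
  intro m
  induction m with
  | zero =>
    intro N _ _ hN
    have hsub : Subsingleton N := ⟨fun a b => by
      rw [← one_smul R a, ← one_smul R b, hN 1 (by simp), hN 1 (by simp)]⟩
    rw [torZero_iff]
    intro x y _
    exact Subsingleton.elim _ _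
  | succ m ih =>
    intro N _ _ hN
    let N₁ : Submodule R N := I • (⊤ : Submodule R N)
    have h₁ : TorZero (R := R) N₁ M := by
      apply ih
      intro a ha x
      apply Subtype.ext
      change a • (x : N) = 0
      have hx : (x : N) ∈ I • (⊤ : Submodule R N) := x.2
      refine Submodule.smul_induction_on (p := fun y => a • y = 0) hx ?_ ?_
      · intro b hb y _
        rw [← mul_smul]
        exact hN _ (by rw [pow_succ]; exact Ideal.mul_mem_mul ha hb) y
      · intro y z hy hz
        rw [smul_add, hy, hz, add_zero]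
    have h₃ : TorZero (R := R) (N ⧸ N₁) M := TorZero.of_algebra (R ⧸ I) hI hflat
    exact TorZero.of_exact h₁ h₃ N₁.subtype N₁.mkQ (Submodule.subtype_injective _)
      (Submodule.mkQ_surjective _) (LinearMap.exact_subtype_mkQ N₁)

/-- If `Tor₁(T, M) = 0 = Tor₁(T, rel M)` for all `f`-power torsion `T` and `M_f` is flat over
`R_f`, then `Tor₁(N, M) = 0` for all `N`. -/
theorem torZero_all_of_torsion (f : R)
    (H1 : ∀ (T : Type u) [AddCommGroup T] [Module R T],
      (∀ t : T, ∃ k : ℕ, f ^ k • t = 0) → TorZero (R := R) T M)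
    (H2 : ∀ (T : Type u) [AddCommGroup T] [Module R T],
      (∀ t : T, ∃ k : ℕ, f ^ k • t = 0) → TorZero (R := R) T (rel (R := R) M))
    (H3 : Module.Flat (Localization.Away f) (Localization.Away f ⊗[R] M))
    (N : Type u) [AddCommGroup N] [Module R N] : TorZero (R := R) N M := by
  let S := Submonoid.powers f
  let ℓ : N →ₗ[R] LocalizedModule S N := LocalizedModule.mkLinearMap S N
  let Nbar : Submodule R (LocalizedModule S N) := LinearMap.range ℓ
  let q : N →ₗ[R] Nbar := ℓ.rangeRestrict
  let K : Submodule R N := LinearMap.ker q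
  have hK : TorZero (R := R) K M := H1 K (fun t => by
    have h1 : q t.1 = 0 := LinearMap.mem_ker.mp t.2
    have h2 : ℓ t.1 = 0 := congrArg Subtype.val h1
    obtain ⟨k, hk⟩ := (Glue.mkLinearMap_eq_zero_iff t.1).mp h2
    exact ⟨k, Subtype.ext hk⟩)
  have hNf : TorZero (R := R) (LocalizedModule S N) M :=
    TorZero.of_algebra (Localization.Away f) TorZero.of_flat H3
  have hQ : TorZero (R := R) (LocalizedModule S N ⧸ Nbar) (rel (R := R) M) :=
    H2 _ (fun t => by
      obtain ⟨x, rfl⟩ := Submodule.Quotient.mk_surjective _ t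
      induction x using LocalizedModule.induction_on with
      | h m s =>
        obtain ⟨k, hk⟩ := (Submonoid.mem_powers_iff _ _).mp s.2
        refine ⟨k, ?_⟩
        rw [← Submodule.Quotient.mk_smul, Submodule.Quotient.mk_eq_zero]
        refine ⟨m, ?_⟩
        rw [LocalizedModule.mkLinearMap_apply, LocalizedModule.smul'_mk, LocalizedModule.mk_eq]
        refine ⟨1, ?_⟩
        simp only [one_smul, Submonoid.smul_def, ← hk])
  have hNbar : TorZero (R := R) Nbar M :=
    TorZero.of_injective hNf Nbar.subtype
      (hQ.rTensor_injective Nbar.subtype Nbar.mkQ (Submodule.subtype_injective _)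
        (Submodule.mkQ_surjective _) (LinearMap.exact_subtype_mkQ Nbar))
  exact TorZero.of_exact hK hNbar K.subtype q (Submodule.subtype_injective _)
    ℓ.surjective_rangeRestrict (LinearMap.exact_subtype_ker_map q)

end General

section Glue

variable {R R' : Type u} [CommRing R] [CommRing R'] [Algebra R R'] {f : R}

/-- The two base changes of `M` are flat. -/
def Good (R' : Type u) [CommRing R'] [Algebra R R'] (f : R) (M : Type u) [AddCommGroup M]
    [Module R M] : Prop :=
  Module.Flat R' (R' ⊗[R] M) ∧
    Module.Flat (Localization.Away f) (Localization.Away f ⊗[R] M)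

variable {M : Type u} [AddCommGroup M] [Module R M]

/-- `Tor₁(R', M) = 0` for a glueing pair, if `M_f` is flat over `R_f`. -/
theorem torZero_base (h : EtGlue.IsGlueingPair R R' f)
    (hM : Module.Flat (Localization.Away f) (Localization.Away f ⊗[R] M)) :
    TorZero (R := R) R' M := by
  let A := Localization.Away f
  let B := Localization.Away (algebraMap R R' f)
  let algAB : Algebra A B := (Localization.awayMap (algebraMap R R') f).toAlgebra
  have hAB : ∀ y : A, algebraMap A B y = Localization.awayMap (algebraMap R R') f y := fun y => rfl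
  have hmap : ∀ r : R, Localization.awayMap (algebraMap R R') f (algebraMap R A r) =
      algebraMap R' B (algebraMap R R' r) := fun r => IsLocalization.map_eq _ r
  have : IsScalarTower R A B := IsScalarTower.of_algebraMap_eq (fun r => by
    rw [hAB, hmap, ← IsScalarTower.algebraMap_apply])
  have hA : TorZero (R := R) A M := TorZero.of_flat
  have hB : TorZero (R := R) B M := TorZero.of_algebra A hA hM
  have hR : TorZero (R := R) R M := TorZero.of_flat
  let i : R →ₗ[R] R' × A := LinearMap.prod (Algebra.linearMap R R') (Algebra.linearMap R A)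
  let p : R' × A →ₗ[R] B :=
    (Algebra.linearMap R' B).restrictScalars R ∘ₗ LinearMap.fst R R' A -
      (Algebra.linearMap A B).restrictScalars R ∘ₗ LinearMap.snd R R' A
  have hp_apply : ∀ w : R' × A, p w = algebraMap R' B w.1 -
      Localization.awayMap (algebraMap R R') f w.2 := fun w => rfl
  have hi : Function.Injective i := fun a b hab => h.2.1 hab
  have hp : Function.Surjective p := fun z => by
    obtain ⟨x, y, hxy⟩ := h.2.2.2 z
    exact ⟨(x, y), hxy⟩
  have hex : Function.Exact i p := by
    intro w
    constructor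
    · intro hw
      rw [hp_apply, sub_eq_zero] at hw
      obtain ⟨r, hr1, hr2⟩ := h.2.2.1 w.1 w.2 hw
      exact ⟨r, Prod.ext hr1 hr2⟩
    · rintro ⟨r, rfl⟩
      rw [hp_apply, sub_eq_zero]
      exact (hmap r).symm
  have hprod : TorZero (R := R) (R' × A) M := TorZero.of_exact hR hB i p hi hp hex
  exact TorZero.of_retract (LinearMap.inl R R' A) (LinearMap.fst R R' A) (LinearMap.fst_comp_inl ..)
    hprod

/-- The hypotheses pass to the module of relations. -/
theorem Good.rel (h : EtGlue.IsGlueingPair R R' f) (hM : Good R' f M) :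
    Good R' f (rel (R := R) M) :=
  ⟨flat_baseChange_rel R' (torZero_base h hM.2) hM.1,
    flat_baseChange_rel (Localization.Away f) TorZero.of_flat hM.2⟩

/-- `Tor₁(T, M) = 0` for `f`-power torsion `T`. -/
theorem torZero_of_torsion (h : EtGlue.IsGlueingPair R R' f) (hM : Good R' f M) (T : Type u)
    [AddCommGroup T] [Module R T] (hT : ∀ t : T, ∃ k : ℕ, f ^ k • t = 0) :
    TorZero (R := R) T M := by
  have hR' : TorZero (R := R) R' M := torZero_base h hM.2
  have hbij : Function.Bijective (TensorProduct.mk R R' T 1) :=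
    ⟨(injective_iff_map_eq_zero _).mpr (fun t ht => Glue.eq_zero_of_tmul_eq_zero h.1 hT t ht),
      fun z => GlueTor.exists_one_tmul_eq h.1 hT z⟩
  let e : T ≃ₗ[R] R' ⊗[R] T := LinearEquiv.ofBijective (TensorProduct.mk R R' T 1) hbij
  have h1 : TorZero (R := R) (R' ⊗[R] T) M := TorZero.of_algebra R' hR' hM.1
  exact TorZero.of_retract e.toLinearMap e.symm.toLinearMap (by ext t; simp) h1

/-- `Tor₁(N, M) = 0` for every `N`. -/
theorem torZero_all (h : EtGlue.IsGlueingPair R R' f) (hM : Good R' f M) (N : Type u)
    [AddCommGroup N] [Module R N] : TorZero (R := R) N M :=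
  torZero_all_of_torsion f (fun T _ _ hT => torZero_of_torsion h hM T hT)
    (fun T _ _ hT => torZero_of_torsion h (hM.rel h) T hT) hM.2 N

/-- Flatness descends along a glueing pair. -/
theorem flat_of_good (h : EtGlue.IsGlueingPair R R' f) (hM : Good R' f M) : Module.Flat R M :=
  flat_of_torZero (fun I => torZero_all h hM (R ⧸ I))

/-- Flatness descends along a glueing pair (with `LocalizedModule`). -/
theorem flat_of_flat_of_flat (h : EtGlue.IsGlueingPair R R' f)
    (h1 : Module.Flat R' (R' ⊗[R] M))
    (h2 : Module.Flat (Localization.Away f) (LocalizedModule (Submonoid.powers f) M)) :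
    Module.Flat R M := by
  refine flat_of_good h ⟨h1, ?_⟩
  exact Module.Flat.of_linearEquiv
    (LocalizedModule.isBaseChange (Submonoid.powers f) M).equiv

end Glue

end Groth.Agent.H10.FlatDescent
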