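import Mathlib

/-!
# p-th powers span a finite unramified algebra in characteristic p
-/

set_option autoImplicit false

open TensorProduct

namespace Groth.Agent.H10.FrobSpan

/-- Field case: for a finite formally unramified algebra over a field of characteristic `p`,
the `p`-th powers of a basis are linearly independent. -/
lemma linearIndependent_pow_of_field (p : ℕ) [hp : Fact p.Prime] (κ : Type*) [Field κ] [CharP κ p]
    (B : Type*) [CommRing B] [Algebra κ B] [Module.Finite κ B] [Algebra.FormallyUnramified κ B]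
    {ι : Type*} [Fintype ι] (e : Module.Basis ι κ B) :
    LinearIndependent κ (fun j => e j ^ p) := by
  classical
  rcases isEmpty_or_nonempty ι with hι | ⟨⟨j₀⟩⟩
  · exact linearIndependent_empty_type
  let Ω := AlgebraicClosure κ
  have : Algebra.FormallyUnramified Ω (Ω ⊗[κ] B) := inferInstance
  have : Algebra.EssFiniteType Ω (Ω ⊗[κ] B) := inferInstance
  have hred : IsReduced (Ω ⊗[κ] B) := Algebra.FormallyUnramified.isReduced_of_field Ω _
  let hb := Algebra.TensorProduct.basis Ω e
  have hbj : ∀ j, hb j = (1 : Ω) ⊗ₜ[κ] e j := fun j => Algebra.TensorProduct.basis_apply e j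
  have hnt : Nontrivial (Ω ⊗[κ] B) := ⟨⟨hb j₀, 0, hb.ne_zero j₀⟩⟩
  have hchar : CharP (Ω ⊗[κ] B) p :=
    charP_of_injective_algebraMap (algebraMap Ω (Ω ⊗[κ] B)).injective p
  rw [Fintype.linearIndependent_iff]
  intro c hc j
  choose d hd using fun j => IsAlgClosed.exists_pow_nat_eq (algebraMap κ Ω (c j)) hp.out.pos
  let y : Ω ⊗[κ] B := ∑ j, d j ⊗ₜ[κ] e j
  have hy : y ^ p = 0 := by
    rw [sum_pow_char]
    have h1 : ∀ j, (d j ⊗ₜ[κ] e j) ^ p = (1 : Ω) ⊗ₜ[κ] (c j • e j ^ p) := by
      intro j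
      rw [Algebra.TensorProduct.tmul_pow, hd, Algebra.algebraMap_eq_smul_one,
        TensorProduct.smul_tmul]
    simp only [h1, ← TensorProduct.tmul_sum, hc, TensorProduct.tmul_zero]
  have hy0 : y = 0 := IsReduced.eq_zero _ ⟨p, hy⟩
  have hsum : ∑ j, d j • hb j = 0 := by
    rw [← hy0]
    refine Finset.sum_congr rfl (fun j _ => ?_)
    rw [hbj, TensorProduct.smul_tmul', smul_eq_mul, mul_one]
  have hdj := Fintype.linearIndependent_iff.mp hb.linearIndependent d hsum j
  have h2 := hd j
  rw [hdj, zero_pow hp.out.ne_zero] at h2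
  exact (map_eq_zero_iff _ (algebraMap κ Ω).injective).mp h2.symm

/-- Field case: `p`-th powers span. -/
lemma span_pow_eq_top_of_field (p : ℕ) [hp : Fact p.Prime] (κ : Type*) [Field κ] [CharP κ p]
    (B : Type*) [CommRing B] [Algebra κ B] [Module.Finite κ B] [Algebra.FormallyUnramified κ B] :
    Submodule.span κ (Set.range fun x : B => x ^ p) = ⊤ := by
  classical
  let e := Module.finBasis κ B
  have hli := linearIndependent_pow_of_field p κ B e
  have h1 : Submodule.span κ (Set.range fun j => e j ^ p) = ⊤ :=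
    hli.span_eq_top_of_card_eq_finrank' (by simp)
  rw [eq_top_iff, ← h1]
  apply Submodule.span_mono
  rintro _ ⟨j, rfl⟩
  exact ⟨e j, rfl⟩

/-- Local-global Nakayama: a submodule of a finite module which is everything modulo each maximal
ideal is everything. -/
lemma eq_top_of_forall_maximal_sup_smul_eq_top {A M : Type*} [CommRing A] [AddCommGroup M] [Module A M]
    [Module.Finite A M] (N : Submodule A M)
    (h : ∀ 𝔪 : Ideal A, 𝔪.IsMaximal → N ⊔ 𝔪 • (⊤ : Submodule A M) = ⊤) : N = ⊤ := by
  let J : Ideal A := N.colon (⊤ : Submodule A M)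
  have hJ : J = ⊤ := by
    by_contra hne
    obtain ⟨𝔪, h𝔪, hJ𝔪⟩ := Ideal.exists_le_maximal J hne
    have h1 : (⊤ : Submodule A (M ⧸ N)) ≤ 𝔪 • (⊤ : Submodule A (M ⧸ N)) := by
      rintro q -
      obtain ⟨y, rfl⟩ := N.mkQ_surjective q
      have hy : y ∈ N ⊔ 𝔪 • (⊤ : Submodule A M) := by rw [h 𝔪 h𝔪]; exact Submodule.mem_top
      obtain ⟨n, hn, m, hm, rfl⟩ := Submodule.mem_sup.mp hy
      have hn0 : N.mkQ n = 0 := by rw [Submodule.mkQ_apply]; exact (Submodule.Quotient.mk_eq_zero N).mpr hn
      rw [map_add, hn0, zero_add]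
      have : N.mkQ m ∈ (𝔪 • (⊤ : Submodule A M)).map N.mkQ := Submodule.mem_map_of_mem hm
      rw [Submodule.map_smul''] at this
      exact (smul_mono_right 𝔪 (le_top : Submodule.map N.mkQ ⊤ ≤ ⊤)) this
    obtain ⟨r, hr1, hr⟩ := Submodule.exists_sub_one_mem_and_smul_eq_zero_of_fg_of_le_smul 𝔪
      (⊤ : Submodule A (M ⧸ N)) (Module.Finite.fg_top) h1
    have hrJ : r ∈ J := by
      rw [Submodule.mem_colon]
      intro y _
      have := hr (N.mkQ y) Submodule.mem_top
      rwa [← map_smul, Submodule.mkQ_apply, Submodule.Quotient.mk_eq_zero] at this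
    have : (1 : A) ∈ 𝔪 := by
      have h2 := 𝔪.sub_mem (hJ𝔪 hrJ) hr1
      simpa using h2
    exact h𝔪.ne_top ((Ideal.eq_top_iff_one _).mpr this)
  have h1 : (1 : A) ∈ J := hJ ▸ Submodule.mem_top
  rw [Submodule.mem_colon] at h1
  rw [eq_top_iff]
  intro y hy
  simpa using h1 y hy

/-- For a finite formally unramified algebra in characteristic `p`, the `p`-th powers of a spanning
family span. -/
theorem span_pow_eq_top (p : ℕ) [hp : Fact p.Prime] (A B : Type*) [CommRing A] [CommRing B]
    [Algebra A B] (hpA : (p : A) = 0) [Module.Finite A B] [Algebra.FormallyUnramified A B]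
    {ι : Type*} (b : ι → B) (hb : Submodule.span A (Set.range b) = ⊤) :
    Submodule.span A (Set.range fun i => b i ^ p) = ⊤ := by
  classical
  rcases subsingleton_or_nontrivial B with hB | hB
  · exact Subsingleton.elim _ _
  have hpB : (p : B) = 0 := by
    have := congrArg (algebraMap A B) hpA
    simpa using this
  have hcB : CharP B p := (CharP.charP_iff_prime_eq_zero hp.out).mpr hpB
  set N := Submodule.span A (Set.range fun i => b i ^ p) with hN
  have hpow : ∀ x : B, x ^ p ∈ N := by
    intro x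
    have hx : x ∈ Submodule.span A (Set.range b) := hb ▸ Submodule.mem_top
    induction hx using Submodule.span_induction with
    | mem x hx =>
      obtain ⟨i, rfl⟩ := hx
      exact Submodule.subset_span ⟨i, rfl⟩
    | zero => rw [zero_pow hp.out.ne_zero]; exact zero_mem _
    | add x y _ _ hx hy => rw [add_pow_char]; exact add_mem hx hy
    | smul a x _ hx =>
      rw [Algebra.smul_def, mul_pow, ← map_pow, ← Algebra.smul_def]
      exact N.smul_mem _ hx
  apply eq_top_of_forall_maximal_sup_smul_eq_top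
  intro 𝔪 h𝔪
  let _ : Field (A ⧸ 𝔪) := Ideal.Quotient.field 𝔪
  have hcκ : CharP (A ⧸ 𝔪) p := (CharP.charP_iff_prime_eq_zero hp.out).mpr (by
    have := congrArg (Ideal.Quotient.mk 𝔪) hpA
    simpa using this)
  have hfin : Module.Finite (A ⧸ 𝔪) (B ⧸ 𝔪.map (algebraMap A B)) :=
    Module.Finite.of_restrictScalars_finite A _ _
  have h1 := span_pow_eq_top_of_field p (A ⧸ 𝔪) (B ⧸ 𝔪.map (algebraMap A B))
  have hmem𝔪 : ∀ y : B, y ∈ 𝔪.map (algebraMap A B) → y ∈ N ⊔ 𝔪 • (⊤ : Submodule A B) := by
    intro y hy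
    have hy' : y ∈ (𝔪 • (⊤ : Submodule A B)) := by
      have := Ideal.smul_top_eq_map (R := A) (S := B) 𝔪
      rw [this]
      exact hy
    exact Submodule.mem_sup_right hy'
  have key : ∀ z ∈ Submodule.span (A ⧸ 𝔪)
      (Set.range fun x : B ⧸ 𝔪.map (algebraMap A B) => x ^ p),
      ∀ y : B, Ideal.Quotient.mk _ y = z → y ∈ N ⊔ 𝔪 • (⊤ : Submodule A B) := by
    intro z hz
    induction hz using Submodule.span_induction with
    | mem z hz =>
      obtain ⟨x', rfl⟩ := hz
      obtain ⟨x, rfl⟩ := Ideal.Quotient.mk_surjective x'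
      intro y hy
      have h2 : y - x ^ p ∈ 𝔪.map (algebraMap A B) := by
        rw [← Ideal.Quotient.eq, hy, map_pow]
      have h3 : y = x ^ p + (y - x ^ p) := by ring
      rw [h3]
      exact add_mem (Submodule.mem_sup_left (hpow x)) (hmem𝔪 _ h2)
    | zero =>
      intro y hy
      exact hmem𝔪 y (Ideal.Quotient.eq_zero_iff_mem.mp hy)
    | add z w _ _ hz hw =>
      intro y hy
      obtain ⟨z', rfl⟩ := Ideal.Quotient.mk_surjective z
      have h3 : y = z' + (y - z') := by ring
      rw [h3]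
      refine add_mem (hz z' rfl) (hw (y - z') ?_)
      rw [map_sub, hy]; ring
    | smul a z _ hz =>
      intro y hy
      obtain ⟨a', rfl⟩ := Ideal.Quotient.mk_surjective a
      obtain ⟨z', rfl⟩ := Ideal.Quotient.mk_surjective z
      have h2 : y - a' • z' ∈ 𝔪.map (algebraMap A B) := by
        rw [← Ideal.Quotient.eq, hy, Algebra.smul_def, Algebra.smul_def, map_mul]
        rfl
      have h3 : y = a' • z' + (y - a' • z') := by ring
      rw [h3]
      exact add_mem (Submodule.smul_mem _ _ (hz z' rfl)) (hmem𝔪 _ h2)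
  rw [eq_top_iff]
  intro y _
  exact key _ (h1 ▸ Submodule.mem_top) y rfl

end Groth.Agent.H10.FrobSpan
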