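import Groth.Agent.H34.KeyGysin

set_option autoImplicit false
set_option linter.style.haveILetI false
universe u
open CategoryTheory CategoryTheory.Limits AlgebraicGeometry TopologicalSpace Opposite

namespace Groth.Agent.H10.GG_SYM

open Groth.Agent.H34.KeyRel
open Groth.Agent.H34.Key Groth.Agent.H34.KeyRelP
open Groth.Agent.H95.C1Cap (ordAt_one)
open Groth.Agent.H95.SecOrd
open Groth.Agent.H18.TensorGen (IsGen exists_isGen_pair)

variable {X D D' : Scheme.{u}}

/-- (SYM) mirror image of `gRel_eq_one_of_common_section`: the common global section is a section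
of the FIRST module `L`. -/
theorem gRel_eq_one_of_common_section_left (δ : X → ℤ) (hX : Cyc.IsSetup X δ) {L N : X.Modules}
    (hL : PicF.IsInvertible L) (hN : PicF.IsInvertible N) (ζ : X)
    (s : Cyc.secFibre L ζ) (hs : s ≠ 0) (t : Cyc.secFibre N ζ) (ht : t ≠ 0)
    (u : (ξ : X) → Cyc.secFibre N ξ) (v : (ξ : X) → Cyc.secFibre L ξ) (ξ : X)
    (σ : L.presheaf.obj (Opposite.op ⊤))
    (hσζ : s = (Submodule.Quotient.mk (L.presheaf.germ ⊤ ζ trivial σ) : Cyc.secFibre L ζ))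
    (hσξ : v ξ = (Submodule.Quotient.mk (L.presheaf.germ ⊤ ξ trivial σ) : Cyc.secFibre L ξ))
    (hvξ : v ξ ≠ 0) : gRel δ hL hN ζ s t u v ξ = 1 := by
  classical
  haveI : IsLocallyNoetherian X := hX.1
  unfold gRel
  split_ifs with hc
  · have hd1 : ringKrullDim (Cyc.LocQuot ξ ζ hc.1) = 1 :=
      dim_locQuot_eq δ hX hc.1 1 (by push_cast; omega)
    obtain ⟨V, τ, ν, hξV, hτ, hν⟩ := exists_isGen_pair hL hN ξ
    have hζV : ζ ∈ V := hc.1.mem_open V.2 hξV
    obtain ⟨c, hcτ⟩ := (hτ V le_rfl).2 (L.presheaf.map (homOfLE (le_top : V ≤ ⊤)).op σ)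
    have hcτ' : c • τ = L.presheaf.map (homOfLE (le_top : V ≤ ⊤)).op σ := by
      have h0 : c • L.presheaf.map (homOfLE (le_rfl : V ≤ V)).op τ =
          L.presheaf.map (homOfLE (le_top : V ≤ ⊤)).op σ := hcτ
      have h1 : L.presheaf.map (homOfLE (le_rfl : V ≤ V)).op τ = τ := by
        have : (homOfLE (le_rfl : V ≤ V)).op = 𝟙 (Opposite.op V) := rfl
        rw [this, L.presheaf.map_id]
        rfl
      rw [h1] at h0
      exact h0
    have hgerm : ∀ (z : X) (hz : z ∈ V), L.presheaf.germ ⊤ z trivial σ =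
        X.presheaf.germ V z hz c • L.presheaf.germ V z hz τ := by
      intro z hz
      rw [← Mero.germ_smul, hcτ', TopCat.Presheaf.germ_res_apply]
    obtain ⟨ψt, hψt⟩ := exists_eq_smul_mk hν ζ hζV t
    obtain ⟨φu, hφu⟩ := exists_eq_smul_mk hν ξ hξV (u ξ)
    have hψs : s = X.presheaf.germ V ζ hζV c •
        (Submodule.Quotient.mk (L.presheaf.germ V ζ hζV τ) : Cyc.secFibre L ζ) := by
      rw [hσζ, hgerm ζ hζV, Submodule.Quotient.mk_smul]
    have hφv : v ξ = X.presheaf.germ V ξ hξV c •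
        (Submodule.Quotient.mk (L.presheaf.germ V ξ hξV τ) : Cyc.secFibre L ξ) := by
      rw [hσξ, hgerm ξ hξV, Submodule.Quotient.mk_smul]
    have hcv : IsUnit (X.presheaf.germ V ξ hξV c) :=
      isUnit_of_mk_ne_zero ξ hξV (v ξ) hvξ _ hφv
    have hψt0 : X.residue ζ ψt ≠ 0 := residue_ne_zero_of_isUnit
      (isUnit_of_mk_ne_zero ζ hζV t ht _ hψt)
    unfold gFunRel
    rw [dif_pos hc.1, gDataRel_val_eq hs ht hc.1 hd1 _
      (⟨V, hξV, hζV, τ, ν, hτ, hν, X.presheaf.germ V ζ hζV c, ψt, φu, X.presheaf.germ V ξ hξV c,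
        hψs, hψt, hφu, hφv⟩ : GDataRel L N ζ s t ξ (u ξ) (v ξ))]
    unfold GDataRel.val gOfRel
    dsimp only
    rw [← specMap_germ hc.1 hξV hζV c, tameRel_unit_left hc.1 hd1 _ hcv _ hψt0,
      ordAt_specMap_unit hc.1 hcv, zpow_zero, mul_one,
      mul_inv_cancel₀ (zpow_ne_zero _ (residue_ne_zero_of_isUnit hcv))]
  · rfl

end Groth.Agent.H10.GG_SYM
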