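import Mathlib
import Groth.Prelude.Def_RelProj3
import Groth.Agent.H41.GrModQCoh
import Groth.Agent.H41.GrModSections

/-! (XI) of helper98's S8341 squad: dehomogenization of a graded module into sections over `D₊(f)`. -/

set_option autoImplicit false
universe u
open CategoryTheory CategoryTheory.Limits AlgebraicGeometry Opposite TopologicalSpace TensorProduct
open scoped HomogeneousIdeal

namespace Groth.Agent.H10.GMBC_XI

variable {A σ : Type u} [CommRing A] [SetLike σ A]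
    [AddSubgroupClass σ A] {𝒜 : ℕ → σ} [GradedRing 𝒜]
    {M τ : Type u} [AddCommGroup M] [Module A M] [SetLike τ M] [AddSubgroupClass τ M] (ℳ : ℕ → τ)
    [SetLike.GradedSMul 𝒜 ℳ] [DirectSum.Decomposition ℳ]
    (n : ℤ)

/-- (XI) dehomogenization of the module into sections over `D₊(f)`, `f ∈ 𝒜 1`:
`m ↦ f ^ n⁺ • m / f ^ (d + n⁻)` for `m ∈ ℳ d`; semilinear over the ring dehomogenization. -/
theorem exists_modDehom (f : A) (hf : f ∈ 𝒜 1) (δ : A →+* HomogeneousLocalization.Away 𝒜 f)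
    (hδ : ∀ (k : ℕ) (a : A) (ha : a ∈ 𝒜 k),
      δ a = HomogeneousLocalization.Away.mk 𝒜 hf k a (by simpa using ha)) :
    ∃ ξ : M →+ Γ(GrMod.tilde 𝒜 ℳ n, Proj.basicOpen 𝒜 f),
      (∀ (a : A) (m : M), ξ (a • m) = (Proj.awayToSection 𝒜 f).hom (δ a) • ξ m) ∧
      ∀ (k i : ℕ) (m : ℳ i) (hik : (i : ℤ) = k + n) (x : Proj.basicOpen 𝒜 f),
        GrMod.val (ξ (m : M)) x = LocalizedModule.mk (m : M) (⟨f ^ k, fun h =>
            (ProjectiveSpectrum.mem_basicOpen 𝒜 f x.1).mp x.2
              (x.1.isPrime.mem_of_pow_mem k h)⟩ : x.1.asHomogeneousIdeal.toIdeal.primeCompl) := by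
  classical
  have hfpow : ∀ k : ℕ, f ^ k ∈ 𝒜 k := fun k => by simpa using SetLike.pow_mem_graded k hf
  have hnin : ∀ (k : ℕ) (x : Proj.basicOpen 𝒜 f), f ^ k ∉ x.1.asHomogeneousIdeal := fun k x h =>
    (ProjectiveSpectrum.mem_basicOpen 𝒜 f x.1).mp x.2 (x.1.isPrime.mem_of_pow_mem k h)
  have hdeg : ∀ d : ℕ, ((d + n.toNat : ℕ) : ℤ) = ((d + (-n).toNat : ℕ) : ℤ) + n := fun d => by
    omega
  have hmem : ∀ (d : ℕ) (m : M), m ∈ ℳ d → f ^ n.toNat • m ∈ ℳ (d + n.toNat) := fun d m hm => by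
    rw [add_comm]; exact SetLike.GradedSMul.smul_mem (hfpow _) hm
  -- arithmetic of fractions
  have hmk : ∀ (x : Proj.basicOpen 𝒜 f) (a b c : ℕ) (m : M), b = a + c →
      LocalizedModule.mk (f ^ a • m)
        (⟨f ^ b, hnin b x⟩ : x.1.asHomogeneousIdeal.toIdeal.primeCompl) =
      LocalizedModule.mk m ⟨f ^ c, hnin c x⟩ := by
    intro x a b c m h
    subst h
    have e : (⟨f ^ (a + c), hnin (a + c) x⟩ : x.1.asHomogeneousIdeal.toIdeal.primeCompl) =
        ⟨f ^ a, hnin a x⟩ * ⟨f ^ c, hnin c x⟩ := Subtype.ext (pow_add f a c)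
    rw [e]
    exact LocalizedModule.mk_cancel_common_left
      (⟨f ^ a, hnin a x⟩ : x.1.asHomogeneousIdeal.toIdeal.primeCompl) ⟨f ^ c, hnin c x⟩ m
  have hadd : ∀ (x : Proj.basicOpen 𝒜 f) (s : x.1.asHomogeneousIdeal.toIdeal.primeCompl)
      (m m' : M), LocalizedModule.mk (m + m') s =
        LocalizedModule.mk m s + LocalizedModule.mk m' s := by
    intro x s m m'
    rw [LocalizedModule.mk_add_mk (m1 := m) (m2 := m') (s1 := s) (s2 := s), ← smul_add s m m',
      LocalizedModule.mk_cancel_common_left]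
  let comp : ∀ d : ℕ, ℳ d →+ Γ(GrMod.tilde 𝒜 ℳ n, Proj.basicOpen 𝒜 f) := fun d =>
    { toFun := fun m => H41.GrModQCoh.fracSect 𝒜 ℳ n (Proj.basicOpen 𝒜 f) (hdeg d)
        ⟨f ^ n.toNat • (m : M), hmem d m m.2⟩ ⟨f ^ (d + (-n).toNat), hfpow _⟩ (hnin _)
      map_zero' := by
        refine H41.GrModQCoh.sect_ext 𝒜 ℳ n _ _ fun x => ?_
        rw [H41.GrModQCoh.val_fracSect, H41.GrModQCoh.val_zero]
        simp
      map_add' := fun m m' => by
        refine H41.GrModQCoh.sect_ext 𝒜 ℳ n _ _ fun x => ?_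
        change GrMod.val _ x = GrMod.val _ x + GrMod.val _ x
        rw [H41.GrModQCoh.val_fracSect, H41.GrModQCoh.val_fracSect, H41.GrModQCoh.val_fracSect]
        rw [← hadd]
        simp [smul_add] }
  have hcomp_val : ∀ (d : ℕ) (m : ℳ d) (x : Proj.basicOpen 𝒜 f),
      GrMod.val (comp d m) x = LocalizedModule.mk (f ^ n.toNat • (m : M))
        (⟨f ^ (d + (-n).toNat), hnin _ x⟩ : x.1.asHomogeneousIdeal.toIdeal.primeCompl) :=
    fun d m x => rfl
  let ξ : M →+ Γ(GrMod.tilde 𝒜 ℳ n, Proj.basicOpen 𝒜 f) :=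
    (DirectSum.toAddMonoid comp).comp (DirectSum.decomposeAddEquiv ℳ).toAddMonoidHom
  have hξ : ∀ (d : ℕ) (m : ℳ d), ξ (m : M) = comp d m := by
    intro d m
    change DirectSum.toAddMonoid comp (DirectSum.decompose ℳ (m : M)) = _
    rw [DirectSum.decompose_coe, DirectSum.toAddMonoid_of]
  refine ⟨ξ, ?_, ?_⟩
  · intro a m
    induction a using DirectSum.Decomposition.inductionOn 𝒜 with
    | zero => simp
    | add a a' ha ha' => rw [add_smul, map_add, ha, ha', map_add, map_add, add_smul]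
    | homogeneous a =>
      rename_i p
      induction m using DirectSum.Decomposition.inductionOn ℳ with
      | zero => simp
      | add m m' hm hm' => rw [smul_add, map_add, hm, hm', map_add, smul_add]
      | homogeneous m =>
        rename_i d
        have ham : (a : A) • (m : M) ∈ ℳ (p + d) := SetLike.GradedSMul.smul_mem a.2 m.2
        have h1 : ξ ((a : A) • (m : M)) = comp (p + d) ⟨(a : A) • (m : M), ham⟩ :=
          hξ (p + d) ⟨_, ham⟩
        rw [h1, hξ d m, hδ p a a.2]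
        refine H41.GrModQCoh.sect_ext 𝒜 ℳ n _ _ fun x => ?_
        rw [H41.GrModQCoh.val_smul, hcomp_val, hcomp_val]
        have h2 : (H41.GrModQCoh.rval 𝒜 ((Proj.awayToSection 𝒜 f).hom
            (HomogeneousLocalization.Away.mk 𝒜 hf p a (by simp))) x).val =
            Localization.mk (a : A) (⟨f ^ p, hnin p x⟩ :
              x.1.asHomogeneousIdeal.toIdeal.primeCompl) := rfl
        rw [h2, LocalizedModule.mk_smul_mk]
        have e : (⟨f ^ (p + d + (-n).toNat), hnin _ x⟩ :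
            x.1.asHomogeneousIdeal.toIdeal.primeCompl) =
            ⟨f ^ p, hnin p x⟩ * ⟨f ^ (d + (-n).toNat), hnin _ x⟩ :=
          Subtype.ext (show f ^ (p + d + (-n).toNat) = f ^ p * f ^ (d + (-n).toNat) by
            rw [add_assoc, pow_add])
        rw [e, smul_comm]
  · intro k i m hik x
    rw [hξ i m, hcomp_val]
    exact hmk x _ _ _ _ (by omega)

end Groth.Agent.H10.GMBC_XI
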