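-- Glueing pairs and algebras: `(A → R' ⊗ A, f)` is again a glueing pair for glueable `A`, and descent
-- of flatness and finite presentation of algebras along a glueing pair.
import Groth.Agent.H10.FlatDescent
import Groth.Agent.S2004
import Mathlib.RingTheory.RingHom.Flat
import Mathlib.RingTheory.RingHom.FinitePresentation
import Mathlib.RingTheory.Localization.Away.AdjoinRoot
import Mathlib.RingTheory.Flat.Equalizer
import Mathlib.RingTheory.IsTensorProduct
import Mathlib.RingTheory.Localization.Ideal

set_option autoImplicit false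
universe u

namespace Groth.Agent.H10.GlueAlg

open TensorProduct

attribute [local instance] Algebra.TensorProduct.rightAlgebra

variable {R R' : Type u} [CommRing R] [CommRing R'] [Algebra R R'] {f : R}

section Tensor

variable (A : Type u) [CommRing A] [Algebra R A]

theorem algebraMap_pow_mul (n : ℕ) (w : R' ⊗[R] A) :
    algebraMap A (R' ⊗[R] A) (algebraMap R A f) ^ n * w = f ^ n • w := by
  rw [← IsScalarTower.algebraMap_apply R A (R' ⊗[R] A), ← map_pow, ← Algebra.smul_def]

/-- The quotients of `A` and `R' ⊗ A` modulo powers of `f` agree. -/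
theorem quotPowBijective_tensor (hq : EtGlue.QuotPowBijective R R' f) :
    EtGlue.QuotPowBijective A (R' ⊗[R] A) (algebraMap R A f) := by
  intro n hn
  have hmap : ∀ w : R' ⊗[R] A,
      w * algebraMap A (R' ⊗[R] A) (algebraMap R A f ^ n) = f ^ n • w := fun w => by
    rw [map_pow, mul_comm, algebraMap_pow_mul]
  constructor
  · rw [injective_iff_map_eq_zero]
    intro x hx
    obtain ⟨a, rfl⟩ := Ideal.Quotient.mk_surjective x
    rw [Ideal.quotientMap_mk, Ideal.Quotient.eq_zero_iff_mem, Ideal.map_span, Set.image_singleton,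
      Ideal.mem_span_singleton'] at hx
    obtain ⟨w, hw⟩ := hx
    rw [hmap] at hw
    have hw' : (1 : R') ⊗ₜ[R] a = f ^ n • w := hw.symm
    obtain ⟨a₂, ha₂⟩ := Glue.exists_smul_of_tmul_eq hq n a w hw'
    rw [Ideal.Quotient.eq_zero_iff_mem, Ideal.mem_span_singleton']
    exact ⟨a₂, by rw [ha₂, Algebra.smul_def, map_pow, mul_comm]⟩
  · intro y
    obtain ⟨z, rfl⟩ := Ideal.Quotient.mk_surjective y
    obtain ⟨a, z₁, hz⟩ := Glue.exists_tmul_add hq n z
    refine ⟨Ideal.Quotient.mk _ a, ?_⟩
    rw [Ideal.quotientMap_mk, Ideal.Quotient.eq, Ideal.map_span, Set.image_singleton,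
      Ideal.mem_span_singleton']
    refine ⟨-z₁, ?_⟩
    rw [hmap, hz, smul_neg]
    show -(f ^ n • z₁) = (1 : R') ⊗ₜ[R] a - ((1 : R') ⊗ₜ[R] a + f ^ n • z₁)
    abel

/-- If `A` is glueable, `(A → R' ⊗ A, f)` is a glueing pair. -/
theorem isGlueingPair_tensor (hq : EtGlue.QuotPowBijective R R' f)
    (hA : EtGlue.IsGlueable R R' f A) :
    EtGlue.IsGlueingPair A (R' ⊗[R] A) (algebraMap R A f) := by
  have hqA := quotPowBijective_tensor A hq
  rw [Groth.Agent.S2004.result A (R' ⊗[R] A) (algebraMap R A f) hqA]
  rw [Glue.isGlueable_iff hq] at hA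
  obtain ⟨h1, h2⟩ := hA
  have hpow : ∀ (n : ℕ) (x : A), algebraMap R A f ^ n * x = f ^ n • x := fun n x => by
    rw [Algebra.smul_def, map_pow]
  refine ⟨fun x ⟨n, hn⟩ hx => h1 x ⟨n, by rw [← hpow, hn]⟩ hx, fun x' ⟨n, hn⟩ => ?_⟩
  obtain ⟨m, ⟨k, hk⟩, hm⟩ := h2 x' ⟨n, by rw [← algebraMap_pow_mul, hn]⟩
  exact ⟨m, ⟨k, by rw [hpow, hk]⟩, hm⟩

end Tensor

section Descent

variable (B B' : Type u) [CommRing B] [CommRing B'] [Algebra R B] [Algebra R' B'] [Algebra R B']
  [Algebra B B'] [IsScalarTower R R' B'] [IsScalarTower R B B'] [Algebra.IsPushout R R' B B']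

/-- `R_f ⊗ B` is flat over `R_f` if `B_f` is. -/
theorem flat_away_tensor (h2 : (Localization.awayMap (algebraMap R B) f).Flat) :
    Module.Flat (Localization.Away f) (Localization.Away f ⊗[R] B) := by
  let Rf := Localization.Away f
  let fB : B := algebraMap R B f
  let Bf := Localization.Away fB
  let algRfBf : Algebra Rf Bf := (Localization.awayMap (algebraMap R B) f).toAlgebra
  have hmap : ∀ r : R, Localization.awayMap (algebraMap R B) f (algebraMap R Rf r) =
      algebraMap B Bf (algebraMap R B r) := fun r => IsLocalization.map_eq _ r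
  have tow : IsScalarTower R Rf Bf := IsScalarTower.of_algebraMap_eq (fun r => by
    rw [RingHom.algebraMap_toAlgebra, hmap, ← IsScalarTower.algebraMap_apply])
  have hflat : Module.Flat Rf Bf := h2
  have hloc : IsLocalization (Algebra.algebraMapSubmonoid B (Submonoid.powers f)) Bf := by
    have heq : Algebra.algebraMapSubmonoid B (Submonoid.powers f) = Submonoid.powers fB := by
      simp [Algebra.algebraMapSubmonoid, Submonoid.map_powers, fB]
    rw [heq]
    infer_instance
  have hlm : IsLocalizedModule (Submonoid.powers f) (IsScalarTower.toAlgHom R B Bf).toLinearMap :=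
    (isLocalizedModule_iff_isLocalization).mpr hloc
  have hbc : IsBaseChange Rf (IsScalarTower.toAlgHom R B Bf).toLinearMap :=
    IsLocalizedModule.isBaseChange (Submonoid.powers f) Rf _
  exact Module.Flat.of_linearEquiv hbc.equiv

/-- Flatness of an algebra descends along a glueing pair. -/
theorem flat_of_glueingPair (h : EtGlue.IsGlueingPair R R' f) (h1 : Module.Flat R' B')
    (h2 : (Localization.awayMap (algebraMap R B) f).Flat) : Module.Flat R B := by
  apply FlatDescent.flat_of_good h
  refine ⟨?_, flat_away_tensor B h2⟩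
  exact Module.Flat.of_linearEquiv (Algebra.IsPushout.equiv R R' B B').toLinearEquiv

/-- The localization part of the descent of finite presentation: finitely many elements of the
kernel generate it up to `f`-power torsion. -/
theorem exists_finset_pow_smul_mem {n : ℕ} (π : MvPolynomial (Fin n) R →ₐ[R] B)
    (hπ : Function.Surjective π)
    (h2 : (Localization.awayMap (algebraMap R B) f).FinitePresentation) :
    ∃ t : Finset (MvPolynomial (Fin n) R), (↑t : Set (MvPolynomial (Fin n) R)) ⊆ RingHom.ker π.toRingHom ∧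
      ∀ j ∈ RingHom.ker π.toRingHom, ∃ k : ℕ, f ^ k • j ∈ Ideal.span (t : Set (MvPolynomial (Fin n) R)) := by
  classical
  let P := MvPolynomial (Fin n) R
  let J : Ideal P := RingHom.ker π.toRingHom
  let fP : P := algebraMap R P f
  let fB : B := algebraMap R B f
  have hπf : π fP = fB := π.commutes f
  let Rf := Localization.Away f
  let Pf := Localization.Away fP
  let Bf := Localization.Away fB
  let algRfBf : Algebra Rf Bf := (Localization.awayMap (algebraMap R B) f).toAlgebra
  have hmap : ∀ r : R, Localization.awayMap (algebraMap R B) f (algebraMap R Rf r) =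
      algebraMap B Bf (algebraMap R B r) := fun r => IsLocalization.map_eq _ r
  have tow : IsScalarTower R Rf Bf := IsScalarTower.of_algebraMap_eq (fun r => by
    rw [RingHom.algebraMap_toAlgebra, hmap, ← IsScalarTower.algebraMap_apply])
  have fp1 : Algebra.FinitePresentation Rf Bf := h2
  have fp2 : Algebra.FinitePresentation R Bf := Algebra.FinitePresentation.trans R Rf Bf
  let algPBf : Algebra P Bf := ((algebraMap B Bf).comp π.toRingHom).toAlgebra
  have halgP : ∀ p : P, algebraMap P Bf p = algebraMap B Bf (π p) := fun p => rfl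
  have tow2 : IsScalarTower R P Bf := IsScalarTower.of_algebraMap_eq (fun r => by
    rw [halgP, π.commutes, ← IsScalarTower.algebraMap_apply])
  have fp3 : Algebra.FinitePresentation P Bf :=
    Algebra.FinitePresentation.of_restrict_scalars_finitePresentation R P Bf
  have hunit : IsUnit (algebraMap P Bf fP) := by
    rw [halgP, hπf]
    exact IsLocalization.Away.algebraMap_isUnit fB
  let θ : Pf →ₐ[P] Bf :=
    { IsLocalization.Away.lift fP hunit with
      commutes' := fun p => IsLocalization.Away.lift_eq fP hunit p }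
  have hθ : ∀ p : P, θ (algebraMap P Pf p) = algebraMap B Bf (π p) := fun p => θ.commutes p
  have hθsurj : Function.Surjective θ := by
    intro y
    obtain ⟨k, b, hb⟩ := IsLocalization.Away.surj fB y
    obtain ⟨p, rfl⟩ := hπ b
    let s : Submonoid.powers fP := ⟨fP ^ k, k, rfl⟩
    refine ⟨IsLocalization.mk' Pf p s, ?_⟩
    have hc : IsUnit (algebraMap B Bf fB ^ k) := (IsLocalization.Away.algebraMap_isUnit fB).pow k
    have h3 : θ (IsLocalization.mk' Pf p s) * θ (algebraMap P Pf (s : P)) =
        θ (algebraMap P Pf p) := by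
      rw [← map_mul, IsLocalization.mk'_spec]
    have h4 : θ (algebraMap P Pf (s : P)) = algebraMap B Bf fB ^ k := by
      rw [hθ]
      show algebraMap B Bf (π (fP ^ k)) = _
      rw [map_pow, hπf, map_pow]
    rw [h4, hθ] at h3
    exact hc.mul_left_injective (h3.trans hb.symm)
  have hKfg : (RingHom.ker θ.toRingHom).FG :=
    Algebra.FinitePresentation.ker_fG_of_surjective θ hθsurj
  have hKeq : RingHom.ker θ.toRingHom = Ideal.map (algebraMap P Pf) J := by
    apply le_antisymm
    · intro x hx
      obtain ⟨p, s, rfl⟩ := IsLocalization.exists_mk'_eq (Submonoid.powers fP) x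
      rw [IsLocalization.mk'_mem_map_algebraMap_iff (Submonoid.powers fP)]
      have hx' : θ (IsLocalization.mk' Pf p s) = 0 := hx
      have h0 : θ (algebraMap P Pf p) = 0 := by
        rw [← IsLocalization.mk'_spec Pf p s, map_mul, hx', zero_mul]
      rw [hθ, IsLocalization.map_eq_zero_iff (Submonoid.powers fB)] at h0
      obtain ⟨⟨c, e, rfl⟩, hc⟩ := h0
      refine ⟨fP ^ e, ⟨e, rfl⟩, ?_⟩
      show π (fP ^ e * p) = 0
      rw [map_mul, map_pow, hπf]
      exact hc
    · rw [Ideal.map_le_iff_le_comap]
      intro j hj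
      have hj' : π j = 0 := hj
      show θ (algebraMap P Pf j) = 0
      rw [hθ, hj', map_zero]
  rw [hKeq] at hKfg
  have hKfg' : (Submodule.span Pf (algebraMap P Pf '' (J : Set P))).FG := hKfg
  obtain ⟨s', hs'sub, hs'eq⟩ := (Submodule.fg_span_iff_fg_span_finset_subset _).mp hKfg'
  obtain ⟨t, htJ, hts'⟩ := Finset.subset_set_image_iff.mp hs'sub
  refine ⟨t, htJ, fun j hj => ?_⟩
  have hmem : algebraMap P Pf j ∈ Ideal.map (algebraMap P Pf) (Ideal.span (t : Set P)) := by
    rw [Ideal.map_span]
    have himg : algebraMap P Pf '' (t : Set P) = (s' : Set Pf) := by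
      rw [← hts', Finset.coe_image]
    rw [himg]
    show algebraMap P Pf j ∈ Submodule.span Pf (s' : Set Pf)
    rw [← hs'eq]
    exact Submodule.subset_span ⟨j, hj, rfl⟩
  rw [IsLocalization.algebraMap_mem_map_algebraMap_iff (Submonoid.powers fP)] at hmem
  obtain ⟨m, ⟨k, rfl⟩, hm⟩ := hmem
  exact ⟨k, by rw [Algebra.smul_def, map_pow]; exact hm⟩

/-- The `R'` part of the descent of finite presentation. -/
theorem exists_finset_lTensor_range {n : ℕ} (π : MvPolynomial (Fin n) R →ₐ[R] B)
    (hπ : Function.Surjective π) (h1 : Algebra.FinitePresentation R' B') :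
    ∃ t : Finset (MvPolynomial (Fin n) R),
      (↑t : Set (MvPolynomial (Fin n) R)) ⊆ RingHom.ker π.toRingHom ∧
      ∀ J₀ : Ideal (MvPolynomial (Fin n) R), (↑t : Set (MvPolynomial (Fin n) R)) ⊆ J₀ →
        ∀ z : R' ⊗[R] (LinearMap.ker π.toLinearMap),
          ∃ y : R' ⊗[R] (J₀.restrictScalars R),
            ((LinearMap.ker π.toLinearMap).subtype.lTensor R') z =
              ((J₀.restrictScalars R).subtype.lTensor R') y := by
  classical
  let P := MvPolynomial (Fin n) R
  let J : Ideal P := RingHom.ker π.toRingHom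
  let πL : P →ₗ[R] B := π.toLinearMap
  let JR : Submodule R P := LinearMap.ker πL
  have hJR : ∀ p : P, p ∈ JR ↔ p ∈ J := fun p => Iff.rfl
  have hexact : Function.Exact JR.subtype πL := LinearMap.exact_subtype_ker_map πL
  let ψ : R' ⊗[R] P →ₐ[R'] R' ⊗[R] B := Algebra.TensorProduct.map (AlgHom.id R' R') π
  have hψ : ∀ z, ψ z = πL.lTensor R' z := by
    intro z
    induction z using TensorProduct.induction_on with
    | zero => simp
    | tmul x p => simp [ψ, πL]
    | add a b ha hb => rw [map_add, map_add, ha, hb]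
  have hπL : Function.Surjective πL := hπ
  have hψsurj : Function.Surjective ψ := fun z => by
    obtain ⟨y, hy⟩ := LinearMap.lTensor_surjective R' hπL z
    exact ⟨y, (hψ y).trans hy⟩
  have fpB : Algebra.FinitePresentation R' (R' ⊗[R] B) :=
    Algebra.FinitePresentation.equiv (Algebra.IsPushout.equiv R R' B B').symm
  obtain ⟨s', hs'⟩ := Algebra.FinitePresentation.ker_fG_of_surjective ψ hψsurj
  have hlift : ∀ g : R' ⊗[R] P, ∃ w : R' ⊗[R] JR, g ∈ s' → JR.subtype.lTensor R' w = g := by
    intro g
    by_cases hg : g ∈ s'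
    · have hg0 : πL.lTensor R' g = 0 := by
        rw [← hψ]
        have : g ∈ RingHom.ker ψ.toRingHom := hs' ▸ Ideal.subset_span hg
        exact this
      obtain ⟨w, hw⟩ := (lTensor_exact R' hexact hπL g).mp hg0
      exact ⟨w, fun _ => hw⟩
    · exact ⟨0, fun h => absurd h hg⟩
  choose w hw using hlift
  obtain ⟨N₁, hN₁, hsN₁⟩ := TensorProduct.exists_finite_submodule_right_of_setFinite
    ((s'.image w : Finset _) : Set (R' ⊗[R] JR)) (Finset.finite_toSet _)
  obtain ⟨t₁, ht₁⟩ := Module.Finite.iff_fg.mp hN₁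
  refine ⟨t₁.image (fun x : JR => (x : P)), ?_, ?_⟩
  · intro x hx
    rw [Finset.coe_image] at hx
    obtain ⟨y, -, rfl⟩ := hx
    exact (hJR _).mp y.2
  · intro J₀ ht z
    let J₀R : Submodule R P := J₀.restrictScalars R
    have hN₁J₀ : ∀ x : N₁, ((x : JR) : P) ∈ J₀R := by
      intro x
      have hx : (x : JR) ∈ Submodule.span R (t₁ : Set JR) := ht₁ ▸ x.2
      refine Submodule.span_induction (p := fun y _ => ((y : JR) : P) ∈ J₀R) ?_ ?_ ?_ ?_ hx
      · intro y hy
        exact ht (Finset.mem_coe.mpr (Finset.mem_image_of_mem _ hy))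
      · exact Submodule.zero_mem _
      · intro y₁ y₂ _ _ h₁ h₂
        exact Submodule.add_mem _ h₁ h₂
      · intro r y _ hy
        exact Submodule.smul_mem _ r hy
    let incl : N₁ →ₗ[R] J₀R := LinearMap.codRestrict J₀R (JR.subtype ∘ₗ N₁.subtype) hN₁J₀
    have hincl : J₀R.subtype ∘ₗ incl = JR.subtype ∘ₗ N₁.subtype := rfl
    have hmul : ∀ (c x : R' ⊗[R] P), x ∈ LinearMap.range (J₀R.subtype.lTensor R') →
        c * x ∈ LinearMap.range (J₀R.subtype.lTensor R') := by
      intro c x hx
      have := Glue.lTensor_range_mul_mem (R' := R') (AlgHom.id R P) J₀R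
        (fun a p hp => J₀.mul_mem_left a hp) c x hx
      rwa [Algebra.TensorProduct.map_id, AlgHom.coe_id, id] at this
    have hs'mem : ∀ g ∈ s', g ∈ LinearMap.range (J₀R.subtype.lTensor R') := by
      intro g hg
      obtain ⟨v, hv⟩ := hsN₁ (Finset.mem_coe.mpr (Finset.mem_image_of_mem w hg))
      refine ⟨incl.lTensor R' v, ?_⟩
      rw [← LinearMap.comp_apply, ← LinearMap.lTensor_comp, hincl, LinearMap.lTensor_comp,
        LinearMap.comp_apply, hv, hw g hg]
    have hspan : ∀ x ∈ Ideal.span (s' : Set (R' ⊗[R] P)),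
        x ∈ LinearMap.range (J₀R.subtype.lTensor R') := by
      intro x hx
      induction hx using Submodule.span_induction with
      | mem x hx => exact hs'mem x hx
      | zero => exact Submodule.zero_mem _
      | add x y _ _ hx hy => exact Submodule.add_mem _ hx hy
      | smul a x _ hx =>
        rw [smul_eq_mul]
        exact hmul a x hx
    have hz : JR.subtype.lTensor R' z ∈ Ideal.span (s' : Set (R' ⊗[R] P)) := by
      rw [hs', RingHom.mem_ker]
      show ψ _ = 0
      rw [hψ, ← LinearMap.comp_apply, ← LinearMap.lTensor_comp]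
      have hzero : πL ∘ₗ JR.subtype = 0 := LinearMap.comp_ker_subtype πL
      rw [hzero, LinearMap.lTensor_zero, LinearMap.zero_apply]
    obtain ⟨y, hy⟩ := hspan _ hz
    exact ⟨y, hy.symm⟩

/-- Finite presentation of a flat algebra descends along a pair with bijective quotients. -/
theorem finitePresentation_of_glueingPair (hq : EtGlue.QuotPowBijective R R' f)
    [Module.Flat R B] (hft : Algebra.FiniteType R B) (h1 : Algebra.FinitePresentation R' B')
    (h2 : (Localization.awayMap (algebraMap R B) f).FinitePresentation) :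
    Algebra.FinitePresentation R B := by
  classical
  obtain ⟨n, π, hπ⟩ := Algebra.FiniteType.iff_quotient_mvPolynomial''.mp hft
  let P := MvPolynomial (Fin n) R
  let J : Ideal P := RingHom.ker π.toRingHom
  suffices hJ : J.FG from Algebra.FinitePresentation.of_surjective hπ hJ
  let πL : P →ₗ[R] B := π.toLinearMap
  let JR : Submodule R P := LinearMap.ker πL
  have hJR : ∀ p : P, p ∈ JR ↔ p ∈ J := fun p => Iff.rfl
  have hexact : Function.Exact JR.subtype πL := LinearMap.exact_subtype_ker_map πL
  have hinj : Function.Injective (JR.subtype.lTensor R') :=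
    LinearMap.lTensor_injective_of_exact_of_flat πL (hπ : Function.Surjective πL) JR.subtype
      (Submodule.subtype_injective _) hexact R'
  obtain ⟨t₂, ht₂J, ht₂⟩ := exists_finset_pow_smul_mem B π hπ h2
  obtain ⟨t₁, ht₁J, ht₁⟩ := exists_finset_lTensor_range B B' π hπ h1
  let J₀ : Ideal P := Ideal.span ((t₁ ∪ t₂ : Finset P) : Set P)
  have hJ₀J : J₀ ≤ J := Ideal.span_le.mpr (by
    intro x hx
    rw [Finset.coe_union] at hx
    rcases hx with hx | hx
    · exact ht₁J hx
    · exact ht₂J hx)
  have hJ₀fg : J₀.FG := ⟨_, rfl⟩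
  suffices hle : J ≤ J₀ by
    rw [le_antisymm hle hJ₀J]
    exact hJ₀fg
  let J₀R : Submodule R P := J₀.restrictScalars R
  have hle' : J₀R ≤ JR := fun p hp => (hJR p).mpr (hJ₀J hp)
  let Q : Submodule R JR := LinearMap.range (Submodule.inclusion hle')
  have hQ : Q = ⊤ := by
    apply Glue.eq_top_of_tensor_of_localized hq
    · have hsur : Function.Surjective ((Submodule.inclusion hle').lTensor R') := by
        intro z
        obtain ⟨y, hy⟩ := ht₁ J₀ (fun x hx => Ideal.subset_span (by
          rw [Finset.coe_union]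
          exact Or.inl hx)) z
        refine ⟨y, hinj ?_⟩
        rw [hy, ← LinearMap.comp_apply, ← LinearMap.lTensor_comp]
        rfl
      intro z
      obtain ⟨y, hy⟩ := hsur z
      refine ⟨(Submodule.inclusion hle').rangeRestrict.lTensor R' y, ?_⟩
      rw [← LinearMap.comp_apply, ← LinearMap.lTensor_comp]
      exact hy
    · intro b
      obtain ⟨k, hk⟩ := ht₂ (b : P) ((hJR _).mp b.2)
      have hk' : f ^ k • (b : P) ∈ J₀R :=
        Ideal.span_mono (by
          rw [Finset.coe_union]
          exact Set.subset_union_right) hk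
      exact ⟨k, ⟨⟨f ^ k • (b : P), hk'⟩, Subtype.ext rfl⟩⟩
  intro j hj
  have hjQ : (⟨j, (hJR j).mpr hj⟩ : JR) ∈ Q := hQ ▸ Submodule.mem_top
  obtain ⟨y, hy⟩ := hjQ
  have hyj : (y : P) = j := congrArg Subtype.val hy
  rw [← hyj]
  exact y.2

end Descent

section Pushout

variable {A B : Type u} [CommRing A] [Algebra R A] [CommRing B] [Algebra R B] (φ : A →ₐ[R] B)

/-- A property of ring maps stable under base change passes from `φ` to `R' ⊗ φ`. -/
theorem map_of_isStableUnderBaseChange
    {P : ∀ {R S : Type u} [CommRing R] [CommRing S], (R →+* S) → Prop}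
    (hP : RingHom.IsStableUnderBaseChange @P) (h : P φ.toRingHom) :
    P (Algebra.TensorProduct.map (AlgHom.id R R') φ).toRingHom := by
  let A' := R' ⊗[R] A
  let T' := R' ⊗[R] B
  let ψ : A' →ₐ[R] T' := Algebra.TensorProduct.map (AlgHom.id R R') φ
  let algAB : Algebra A B := φ.toRingHom.toAlgebra
  have tower : IsScalarTower R A B := IsScalarTower.of_algebraMap_eq fun r => (φ.commutes r).symm
  let algψ : Algebra A' T' := ψ.toRingHom.toAlgebra
  let algAT : Algebra A T' := ((algebraMap B T').comp (algebraMap A B)).toAlgebra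
  have t1 : IsScalarTower A B T' := IsScalarTower.of_algebraMap_eq fun a => rfl
  have t2 : IsScalarTower A A' T' := IsScalarTower.of_algebraMap_eq fun a => by
    show (1 : R') ⊗ₜ[R] φ a = ψ ((1 : R') ⊗ₜ[R] a)
    exact (Algebra.TensorProduct.map_tmul (AlgHom.id R R') φ (1 : R') a).symm
  have t3 : IsScalarTower R A' T' := IsScalarTower.of_algebraMap_eq fun r => (ψ.commutes r).symm
  have t4 : IsScalarTower R' A' T' := IsScalarTower.of_algebraMap_eq fun x => by
    show x ⊗ₜ[R] (1 : B) = ψ (x ⊗ₜ[R] (1 : A))
    exact ((Algebra.TensorProduct.map_tmul (AlgHom.id R R') φ x (1 : A)).trans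
      (by rw [map_one]; rfl)).symm
  have po : Algebra.IsPushout A B A' T' :=
    (Algebra.IsPushout.comp_iff R A R' (S' := A') (T := B) (T' := T')).mp inferInstance
  exact hP A B A' T' h

/-- Flatness and finite presentation descend along a glueing pair, for a map of algebras with
glueable source. -/
theorem flat_finitePresentation_descent (hq : EtGlue.QuotPowBijective R R' f)
    (hA : EtGlue.IsGlueable R R' f A) (hft : φ.toRingHom.FiniteType)
    (h1f : (Algebra.TensorProduct.map (AlgHom.id R R') φ).toRingHom.Flat)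
    (h1p : (Algebra.TensorProduct.map (AlgHom.id R R') φ).toRingHom.FinitePresentation)
    (h2f : (Localization.awayMap φ.toRingHom (algebraMap R A f)).Flat)
    (h2p : (Localization.awayMap φ.toRingHom (algebraMap R A f)).FinitePresentation) :
    φ.toRingHom.Flat ∧ φ.toRingHom.FinitePresentation := by
  let A' := R' ⊗[R] A
  let T' := R' ⊗[R] B
  let ψ : A' →ₐ[R] T' := Algebra.TensorProduct.map (AlgHom.id R R') φ
  let algAB : Algebra A B := φ.toRingHom.toAlgebra
  have tower : IsScalarTower R A B := IsScalarTower.of_algebraMap_eq fun r => (φ.commutes r).symm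
  let algψ : Algebra A' T' := ψ.toRingHom.toAlgebra
  let algAT : Algebra A T' := ((algebraMap B T').comp (algebraMap A B)).toAlgebra
  have t1 : IsScalarTower A B T' := IsScalarTower.of_algebraMap_eq fun a => rfl
  have t2 : IsScalarTower A A' T' := IsScalarTower.of_algebraMap_eq fun a => by
    show (1 : R') ⊗ₜ[R] φ a = ψ ((1 : R') ⊗ₜ[R] a)
    exact (Algebra.TensorProduct.map_tmul (AlgHom.id R R') φ (1 : R') a).symm
  have t3 : IsScalarTower R A' T' := IsScalarTower.of_algebraMap_eq fun r => (ψ.commutes r).symm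
  have t4 : IsScalarTower R' A' T' := IsScalarTower.of_algebraMap_eq fun x => by
    show x ⊗ₜ[R] (1 : B) = ψ (x ⊗ₜ[R] (1 : A))
    exact ((Algebra.TensorProduct.map_tmul (AlgHom.id R R') φ x (1 : A)).trans
      (by rw [map_one]; rfl)).symm
  have po : Algebra.IsPushout A B A' T' :=
    (Algebra.IsPushout.comp_iff R A R' (S' := A') (T := B) (T' := T')).mp inferInstance
  have po' : Algebra.IsPushout A A' B T' := po.symm
  have hGP : EtGlue.IsGlueingPair A A' (algebraMap R A f) := isGlueingPair_tensor A hq hA
  have hflat : Module.Flat A B := flat_of_glueingPair B T' hGP h1f h2f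
  have hfp : Algebra.FinitePresentation A B :=
    finitePresentation_of_glueingPair B T' hGP.1 hft h1p h2p
  exact ⟨hflat, hfp⟩

/-- Flatness descends along a glueing pair, for a map of algebras with glueable source. -/
theorem flat_descent (hq : EtGlue.QuotPowBijective R R' f)
    (hA : EtGlue.IsGlueable R R' f A)
    (h1f : (Algebra.TensorProduct.map (AlgHom.id R R') φ).toRingHom.Flat)
    (h2f : (Localization.awayMap φ.toRingHom (algebraMap R A f)).Flat) :
    φ.toRingHom.Flat := by
  let A' := R' ⊗[R] A
  let T' := R' ⊗[R] B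
  let ψ : A' →ₐ[R] T' := Algebra.TensorProduct.map (AlgHom.id R R') φ
  let algAB : Algebra A B := φ.toRingHom.toAlgebra
  have tower : IsScalarTower R A B := IsScalarTower.of_algebraMap_eq fun r => (φ.commutes r).symm
  let algψ : Algebra A' T' := ψ.toRingHom.toAlgebra
  let algAT : Algebra A T' := ((algebraMap B T').comp (algebraMap A B)).toAlgebra
  have t1 : IsScalarTower A B T' := IsScalarTower.of_algebraMap_eq fun a => rfl
  have t2 : IsScalarTower A A' T' := IsScalarTower.of_algebraMap_eq fun a => by
    show (1 : R') ⊗ₜ[R] φ a = ψ ((1 : R') ⊗ₜ[R] a)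
    exact (Algebra.TensorProduct.map_tmul (AlgHom.id R R') φ (1 : R') a).symm
  have t3 : IsScalarTower R A' T' := IsScalarTower.of_algebraMap_eq fun r => (ψ.commutes r).symm
  have t4 : IsScalarTower R' A' T' := IsScalarTower.of_algebraMap_eq fun x => by
    show x ⊗ₜ[R] (1 : B) = ψ (x ⊗ₜ[R] (1 : A))
    exact ((Algebra.TensorProduct.map_tmul (AlgHom.id R R') φ x (1 : A)).trans
      (by rw [map_one]; rfl)).symm
  have po : Algebra.IsPushout A B A' T' :=
    (Algebra.IsPushout.comp_iff R A R' (S' := A') (T := B) (T' := T')).mp inferInstance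
  have po' : Algebra.IsPushout A A' B T' := po.symm
  have hGP : EtGlue.IsGlueingPair A A' (algebraMap R A f) := isGlueingPair_tensor A hq hA
  have hflat : Module.Flat A B := flat_of_glueingPair B T' hGP h1f h2f
  exact hflat

end Pushout

end Groth.Agent.H10.GlueAlg
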