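-- Descent of formal unramifiedness (vanishing of Kaehler differentials) along a glueing pair.
import Groth.Agent.H10.GlueAlg
import Mathlib.RingTheory.RingHom.Etale
import Mathlib.RingTheory.Kaehler.TensorProduct

set_option autoImplicit false
universe u

namespace Groth.Agent.H10.GlueEtale

open TensorProduct

attribute [local instance] Algebra.TensorProduct.rightAlgebra

variable {R R' : Type u} [CommRing R] [CommRing R'] [Algebra R R'] {f : R}

section Descent

variable (B B' : Type u) [CommRing B] [CommRing B'] [Algebra R B] [Algebra R' B'] [Algebra R B']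
  [Algebra B B'] [IsScalarTower R R' B'] [IsScalarTower R B B'] [Algebra.IsPushout R R' B B']

/-- Vanishing of the module of differentials descends along a pair with bijective quotients. -/
theorem formallyUnramified_of_quotPowBijective (hq : EtGlue.QuotPowBijective R R' f)
    (h1 : Algebra.FormallyUnramified R' B')
    (h2 : (Localization.awayMap (algebraMap R B) f).FormallyUnramified) :
    Algebra.FormallyUnramified R B := by
  let Rf := Localization.Away f
  let fB : B := algebraMap R B f
  let Bf := Localization.Away fB
  let algRfBf : Algebra Rf Bf := (Localization.awayMap (algebraMap R B) f).toAlgebra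
  have hmap : ∀ r : R, Localization.awayMap (algebraMap R B) f (algebraMap R Rf r) =
      algebraMap B Bf (algebraMap R B r) := fun r => IsLocalization.map_eq _ r
  have tow : IsScalarTower R Rf Bf := IsScalarTower.of_algebraMap_eq (fun r => by
    rw [RingHom.algebraMap_toAlgebra, hmap, ← IsScalarTower.algebraMap_apply])
  have hunr : Algebra.FormallyUnramified Rf Bf := h2
  have hloc : IsLocalization (Algebra.algebraMapSubmonoid B (Submonoid.powers f)) Bf := by
    have heq : Algebra.algebraMapSubmonoid B (Submonoid.powers f) = Submonoid.powers fB := by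
      simp [Algebra.algebraMapSubmonoid, Submonoid.map_powers, fB]
    rw [heq]
    infer_instance
  have hlm : IsLocalizedModule (Submonoid.powers f)
      ((KaehlerDifferential.map R Rf B Bf).restrictScalars R) := inferInstance
  refine ⟨?_⟩
  apply Glue.subsingleton_of_tensor_of_localized hq
  · exact (KaehlerDifferential.tensorKaehlerEquivBase R R' B B').toEquiv.subsingleton
  · exact (IsLocalizedModule.iso (Submonoid.powers f)
      ((KaehlerDifferential.map R Rf B Bf).restrictScalars R)).toEquiv.subsingleton

end Descent

section Pushout

variable {A B : Type u} [CommRing A] [Algebra R A] [CommRing B] [Algebra R B] (φ : A →ₐ[R] B)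

/-- Formal unramifiedness descends along a pair with bijective quotients, for a map of algebras. -/
theorem formallyUnramified_descent (hq : EtGlue.QuotPowBijective R R' f)
    (h1 : (Algebra.TensorProduct.map (AlgHom.id R R') φ).toRingHom.FormallyUnramified)
    (h2 : (Localization.awayMap φ.toRingHom (algebraMap R A f)).FormallyUnramified) :
    φ.toRingHom.FormallyUnramified := by
  let A' := R' ⊗[R] A
  let T' := R' ⊗[R] B
  let ψ : A' →ₐ[R] T' := Algebra.TensorProduct.map (AlgHom.id R R') φ
  let algAB : Algebra A B := φ.toRingHom.toAlgebra
  have tower : IsScalarTower R A B := IsScalarTower.of_algebraMap_eq fun r => (φ.commutes r).symm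
  let algψ : Algebra A' T' := ψ.toRingHom.toAlgebra
  let algAT : Algebra A T' := ((algebraMap B T').comp (algebraMap A B)).toAlgebra
  have t1 : IsScalarTower A B T' := IsScalarTower.of_algebraMap_eq fun a => rfl
  have t2 : IsScalarTower A A' T' := IsScalarTower.of_algebraMap_eq fun a => by
    show (1 : R') ⊗ₜ[R] φ a = ψ ((1 : R') ⊗ₜ[R] a)
    exact (Algebra.TensorProduct.map_tmul (AlgHom.id R R') φ (1 : R') a).symm
  have t3 : IsScalarTower R A' T' := IsScalarTower.of_algebraMap_eq fun r => (ψ.commutes r).symm
  have t4 : IsScalarTower R' A' T' := IsScalarTower.of_algebraMap_eq fun x => by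
    show x ⊗ₜ[R] (1 : B) = ψ (x ⊗ₜ[R] (1 : A))
    exact ((Algebra.TensorProduct.map_tmul (AlgHom.id R R') φ x (1 : A)).trans
      (by rw [map_one]; rfl)).symm
  have po : Algebra.IsPushout A B A' T' :=
    (Algebra.IsPushout.comp_iff R A R' (S' := A') (T := B) (T' := T')).mp inferInstance
  have po' : Algebra.IsPushout A A' B T' := po.symm
  have hq' : EtGlue.QuotPowBijective A A' (algebraMap R A f) :=
    GlueAlg.quotPowBijective_tensor A hq
  have h1' : Algebra.FormallyUnramified A' T' := h1
  exact formallyUnramified_of_quotPowBijective B T' hq' h1' h2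

end Pushout

end Groth.Agent.H10.GlueEtale
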