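import Mathlib

set_option autoImplicit false
universe u
open CategoryTheory CategoryTheory.Limits AlgebraicGeometry HomogeneousIdeal

namespace Groth.Agent.H10.Hyp7_KA

variable {R A B : Type u} [CommRing R] [CommRing A] [Algebra R A] [CommRing B] [Algebra R B]
  (𝒜 : ℕ → Submodule R A) [GradedAlgebra 𝒜] (ℬ : ℕ → Submodule R B) [GradedAlgebra ℬ]

/-- (KA) kernel of the map induced on degree-zero localizations by a graded surjection whose
kernel is generated by a linear form. -/
theorem ker_awayMap (ψ : 𝒜 →+*ᵍ ℬ) (hsurj : Function.Surjective ψ) {ℓ : A} (hℓ : ℓ ∈ 𝒜 1)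
    (hker : RingHom.ker ψ.toRingHom = Ideal.span {ℓ}) {g : A} (hg : g ∈ 𝒜 1) :
    RingHom.ker (HomogeneousLocalization.Away.map ψ g) =
      Ideal.span {HomogeneousLocalization.Away.mk 𝒜 hg 1 ℓ (by simpa using hℓ)} := by
  have hψℓ : ψ ℓ = 0 := by
    have : ℓ ∈ RingHom.ker ψ.toRingHom := by
      rw [hker]; exact Ideal.mem_span_singleton_self ℓ
    exact this
  apply le_antisymm
  · intro x hx
    obtain ⟨n, a, ha, rfl⟩ := HomogeneousLocalization.Away.mk_surjective 𝒜 hg x
    rw [RingHom.mem_ker, HomogeneousLocalization.Away.map_mk] at hx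
    have hx' := congrArg HomogeneousLocalization.val hx
    rw [HomogeneousLocalization.Away.val_mk, HomogeneousLocalization.val_zero,
      Localization.mk_eq_mk'_apply, IsLocalization.mk'_eq_zero_iff] at hx'
    obtain ⟨⟨_, N, rfl⟩, hN⟩ := hx'
    -- `ψ (g^N * a) = 0`
    have h1 : g ^ N * a ∈ RingHom.ker ψ.toRingHom := by
      rw [RingHom.mem_ker]
      change ψ (g ^ N * a) = 0
      rw [map_mul, map_pow]
      exact hN
    rw [hker, Ideal.mem_span_singleton'] at h1
    obtain ⟨b, hb⟩ := h1
    -- homogeneous component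
    have ha' : a ∈ 𝒜 n := by simpa using ha
    have hdeg : g ^ (N + 1) * a ∈ 𝒜 ((N + n) + 1) := by
      have h2 : g ^ (N + 1) ∈ 𝒜 ((N + 1) • 1) := SetLike.pow_mem_graded (N + 1) hg
      have h3 := SetLike.mul_mem_graded h2 ha'
      have e : (N + 1) • 1 + n = (N + n) + 1 := by simp; ring
      rwa [e] at h3
    have hgb : g ^ (N + 1) * a = (g * b) * ℓ := by
      rw [pow_succ, mul_assoc, mul_assoc, hb, mul_comm g]
      ring
    set b' : A := (DirectSum.decompose 𝒜 (g * b) (N + n) : A) with hb'def
    have hb'mem : b' ∈ 𝒜 (N + n) := Submodule.coe_mem _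
    have hb' : g ^ (N + 1) * a = b' * ℓ := by
      rw [← DirectSum.decompose_of_mem_same 𝒜 hdeg, hgb,
        DirectSum.coe_decompose_mul_add_of_right_mem 𝒜 hℓ]
    have hb'mem' : b' ∈ 𝒜 ((N + n) • 1) := by simpa using hb'mem
    have hxeq : HomogeneousLocalization.Away.mk 𝒜 hg n a ha =
        HomogeneousLocalization.Away.mk 𝒜 hg (N + n) b' hb'mem' *
          HomogeneousLocalization.Away.mk 𝒜 hg 1 ℓ (by simpa using hℓ) := by
      apply HomogeneousLocalization.val_injective
      rw [HomogeneousLocalization.val_mul, HomogeneousLocalization.Away.val_mk,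
        HomogeneousLocalization.Away.val_mk, HomogeneousLocalization.Away.val_mk,
        Localization.mk_mul, Localization.mk_eq_mk_iff, Localization.r_iff_exists]
      refine ⟨1, ?_⟩
      simp only [OneMemClass.coe_one, one_mul, Submonoid.coe_mul]
      rw [← hb']
      ring
    rw [hxeq]
    exact Ideal.mul_mem_left _ _ (Ideal.mem_span_singleton_self _)
  · rw [Ideal.span_le, Set.singleton_subset_iff, SetLike.mem_coe, RingHom.mem_ker,
      HomogeneousLocalization.Away.map_mk]
    apply HomogeneousLocalization.val_injective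
    rw [HomogeneousLocalization.Away.val_mk, HomogeneousLocalization.val_zero, hψℓ,
      Localization.mk_zero]

end Groth.Agent.H10.Hyp7_KA
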