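import Groth.Agent.H18.TwistAmple
import Groth.Agent.H18.ProjClosedImm
import Groth.Agent.H8.TensorPow
import Groth.Agent.H95.ZeroSch
import Groth.Prelude.Def_PicF2
import Groth.Agent.H10.Hyp7_KA

set_option autoImplicit false
universe u
open CategoryTheory CategoryTheory.Limits AlgebraicGeometry HomogeneousIdeal

namespace Groth.Agent.H10.Hyp7_KB

variable {R A B : Type u} [CommRing R] [CommRing A] [Algebra R A] [CommRing B] [Algebra R B]
  (𝒜 : ℕ → Submodule R A) [GradedAlgebra 𝒜] (ℬ : ℕ → Submodule R B) [GradedAlgebra ℬ]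

/-- `awayToSection` sends `ℓ / g` to the fraction section `frac ℓ g`. -/
theorem awayToSection_mk {ℓ g : A} (hℓ : ℓ ∈ 𝒜 1) (hg : g ∈ 𝒜 1) :
    (Proj.awayToSection 𝒜 g).hom
        (HomogeneousLocalization.Away.mk 𝒜 hg 1 ℓ (by simpa using hℓ)) =
      Groth.Agent.H18.Serre.frac 𝒜 (Proj.basicOpen 𝒜 g) hℓ hg (fun x => x.2) := by
  refine Groth.Agent.H18.Serre.ext_val 𝒜 (fun x => ?_)
  apply HomogeneousLocalization.val_injective
  change (HomogeneousLocalization.mk _).val = (HomogeneousLocalization.mk _).val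
  rw [HomogeneousLocalization.val_mk, HomogeneousLocalization.val_mk, Localization.mk_eq_mk_iff,
    Localization.r_iff_exists]
  refine ⟨1, ?_⟩
  simp

set_option maxHeartbeats 400000 in
/-- (KB) -/
theorem ker_app_basicOpen (ψ : 𝒜 →+*ᵍ ℬ) (hψ : irrelevant ℬ ≤ (irrelevant 𝒜).map ψ)
    (hsurj : Function.Surjective ψ) {ℓ : A} (hℓ : ℓ ∈ 𝒜 1)
    (hker : RingHom.ker ψ.toRingHom = Ideal.span {ℓ}) {g : A} (hg : g ∈ 𝒜 1) :
    RingHom.ker ((Proj.map ψ hψ).app (Proj.basicOpen 𝒜 g)).hom =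
      Ideal.span {Groth.Agent.H18.Serre.frac 𝒜 (Proj.basicOpen 𝒜 g) hℓ hg (fun x => x.2)} := by
  have hKA := Groth.Agent.H10.Hyp7_KA.ker_awayMap 𝒜 ℬ ψ hsurj hℓ hker hg
  set m := HomogeneousLocalization.Away.mk 𝒜 hg 1 ℓ (by simpa using hℓ) with hm
  rw [← awayToSection_mk 𝒜 hℓ hg]
  have hψg : ψ g ∈ ℬ 1 := ψ.map_mem hg
  have hα : Function.Bijective (Proj.awayToSection 𝒜 g).hom :=
    ConcreteCategory.bijective_of_isIso (Proj.basicOpenIsoAway 𝒜 g hg one_pos).hom
  have hβ : Function.Bijective (Proj.awayToSection ℬ (ψ g)).hom :=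
    ConcreteCategory.bijective_of_isIso (Proj.basicOpenIsoAway ℬ (ψ g) hψg one_pos).hom
  have hsq : ∀ x, ((Proj.map ψ hψ).app (Proj.basicOpen 𝒜 g)).hom
      ((Proj.awayToSection 𝒜 g).hom x) =
      (Proj.awayToSection ℬ (ψ g)).hom (HomogeneousLocalization.Away.map ψ g x) := by
    intro x
    have := Proj.awayToSection_comp_appLE ψ hψ hg
    rw [Scheme.Hom.app_eq_appLE]
    exact congrArg (fun φ => φ.hom x) this
  ext y
  obtain ⟨x, rfl⟩ := hα.2 y
  rw [RingHom.mem_ker, hsq, Ideal.mem_span_singleton']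
  constructor
  · intro h
    have hx : x ∈ RingHom.ker (HomogeneousLocalization.Away.map ψ g) := by
      rw [RingHom.mem_ker]
      apply hβ.1
      rw [h, map_zero]
      rfl
    rw [hKA, Ideal.mem_span_singleton'] at hx
    obtain ⟨c, rfl⟩ := hx
    exact ⟨(Proj.awayToSection 𝒜 g).hom c, (map_mul _ _ _).symm⟩
  · rintro ⟨c', hc'⟩
    obtain ⟨c, rfl⟩ := hα.2 c'
    rw [← map_mul] at hc'
    have hx : x = c * m := (hα.1 hc').symm
    have hmk : HomogeneousLocalization.Away.map ψ g m = 0 := by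
      have : m ∈ RingHom.ker (HomogeneousLocalization.Away.map ψ g) := by
        rw [hKA]; exact Ideal.mem_span_singleton_self _
      exact this
    rw [hx, map_mul, hmk, mul_zero, map_zero]
    rfl

end Groth.Agent.H10.Hyp7_KB
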