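-- Helper lemmas for standard smoothness of localized quotients (used by S2032).
import Mathlib.RingTheory.Extension.Presentation.Submersive
import Mathlib.RingTheory.Smooth.StandardSmooth
import Mathlib.LinearAlgebra.Matrix.Charpoly.LinearMap
import Mathlib.RingTheory.Localization.Away.Basic

set_option autoImplicit false
universe u

namespace Groth.Agent.H10

open Polynomial in
/-- Determinant trick: if `t • J ≤ J * J` for a finitely generated ideal `J`, then some element
congruent to a power of `t` modulo `J` kills `J`. -/
theorem exists_kill_of_smul_le_sq {B : Type*} [CommRing B] (J : Ideal B) (hJ : J.FG) (t : B)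
    (ht : ∀ x ∈ J, t * x ∈ J * J) :
    ∃ (h : B) (k : ℕ), h - t ^ k ∈ J ∧ ∀ x ∈ J, h * x = 0 := by
  have : Module.Finite B J := Module.Finite.iff_fg.mpr hJ
  set f : Module.End B J := algebraMap B (Module.End B J) t with hf
  have hrange : LinearMap.range f ≤ J • (⊤ : Submodule B J) := by
    rintro _ ⟨x, rfl⟩
    rw [Submodule.mem_smul_top_iff]
    have : ((f x : J) : B) = t * (x : B) := by
      simp [hf, Module.algebraMap_end_apply]
    rw [this]
    exact ht x x.2
  obtain ⟨p, hp, -, hcoeff, hzero⟩ :=
    LinearMap.exists_monic_and_natDegree_eq_and_coeff_mem_pow_and_aeval_eq_zero B f J hrange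
  refine ⟨p.eval t, p.natDegree, ?_, ?_⟩
  · have hsum : p.eval t - t ^ p.natDegree =
        ∑ i ∈ Finset.range p.natDegree, p.coeff i * t ^ i := by
      have h0 := congrArg (eval t) hp.as_sum
      rw [eval_add, eval_pow, eval_X, eval_finsetSum] at h0
      rw [h0, add_sub_cancel_left]
      refine Finset.sum_congr rfl fun i _ => ?_
      rw [eval_mul, eval_C, eval_pow, eval_X]
    rw [hsum]
    refine J.sum_mem fun i hi => J.mul_mem_right _ ?_
    have : 0 < p.natDegree - i := by have := Finset.mem_range.mp hi; omega
    exact Ideal.pow_le_self this.ne' (hcoeff i)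
  · intro x hx
    have h1 : aeval f p = algebraMap B (Module.End B J) (p.eval t) := by
      rw [hf, aeval_algebraMap_apply_eq_algebraMap_eval]
    have h2 := LinearMap.congr_fun hzero ⟨x, hx⟩
    rw [h1, Module.algebraMap_end_apply] at h2
    simpa using congrArg Subtype.val h2

/-- If `φ : B → A` is surjective, `h'` kills `ker φ` and `φ h' = a ^ (k + 1)`, then the localization
of `A` away from `a` is also the localization of `B` away from `h'`. -/
theorem isLocalization_away_of_surjective {B A S : Type*} [CommRing B] [CommRing A] [CommRing S]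
    [Algebra A S] [Algebra B S] (φ : B →+* A) (hφ : Function.Surjective φ)
    (hcomp : ∀ x, algebraMap B S x = algebraMap A S (φ x)) (a : A) [IsLocalization.Away a S]
    (h' : B) (k : ℕ) (hh' : φ h' = a ^ (k + 1)) (hkill : ∀ x, φ x = 0 → h' * x = 0) :
    IsLocalization.Away h' S := by
  obtain ⟨a₀, ha₀⟩ := hφ a
  refine IsLocalization.Away.mk h' ?_ (fun z => ?_) (fun x y hxy => ?_)
  · rw [hcomp, hh', map_pow]
    exact (IsLocalization.Away.algebraMap_isUnit a).pow _
  · obtain ⟨n, b, hb⟩ := IsLocalization.Away.surj a z
    obtain ⟨b', rfl⟩ := hφ b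
    refine ⟨n, b' * a₀ ^ (k * n), ?_⟩
    rw [hcomp, hcomp, hh', map_mul, map_pow φ, ha₀, map_mul, ← hb]
    simp only [map_pow]
    ring
  · rw [hcomp, hcomp] at hxy
    obtain ⟨j, hj⟩ := IsLocalization.Away.exists_of_eq a hxy
    refine ⟨j + 1, ?_⟩
    have h0 : φ (h' ^ j * (x - y)) = 0 := by
      rw [map_mul, map_pow, hh', map_sub, ← pow_mul]
      have : a ^ ((k + 1) * j) = a ^ (k * j) * a ^ j := by rw [← pow_add]; ring_nf
      rw [this, mul_assoc, mul_sub, hj, sub_self, mul_zero]
    have h1 := hkill _ h0
    have : h' ^ (j + 1) * x - h' ^ (j + 1) * y = h' * (h' ^ j * (x - y)) := by ring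
    exact sub_eq_zero.mp (this.trans h1)

open MvPolynomial in
/-- A localization of `R[x_1..x_n]/(v_1..v_c)` away from an element making a `c × c` Jacobian
minor invertible is standard smooth over `R`. -/
theorem isStandardSmooth_of_localization_naive {R : Type u} [CommRing R] {n c : ℕ}
    (v : Fin c → MvPolynomial (Fin n) R) (e : Fin c → Fin n) (he : Function.Injective e)
    (S : Type u) [CommRing S] [Algebra R S]
    [Algebra (MvPolynomial (Fin n) R ⧸ Ideal.span (Set.range v)) S]
    [IsScalarTower R (MvPolynomial (Fin n) R ⧸ Ideal.span (Set.range v)) S]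
    (h : MvPolynomial (Fin n) R ⧸ Ideal.span (Set.range v)) [IsLocalization.Away h S]
    (hunit : IsUnit (algebraMap (MvPolynomial (Fin n) R ⧸ Ideal.span (Set.range v)) S
      (Ideal.Quotient.mk (Ideal.span (Set.range v))
        (Matrix.det (Matrix.of fun i j : Fin c => pderiv (e i) (v j)))))) :
    Algebra.IsStandardSmooth R S := by
  classical
  let P := Algebra.PreSubmersivePresentation.naive (R := R) (v := v) e he
  let Q := Algebra.PreSubmersivePresentation.localizationAway S h
  have hPjac : P.jacobian = Ideal.Quotient.mk (Ideal.span (Set.range v))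
      (Matrix.det (Matrix.of fun i j : Fin c => pderiv (e i) (v j))) := by
    rw [Algebra.PreSubmersivePresentation.jacobian_eq_jacobiMatrix_det]
    have hM : P.jacobiMatrix = Matrix.of fun i j : Fin c => pderiv (e i) (v j) := by
      refine Matrix.ext fun i j => ?_
      exact Algebra.PreSubmersivePresentation.jacobiMatrix_naive (v := v) e he _ _ i j
    rw [hM, Algebra.Generators.algebraMap_apply,
      ← Ideal.Quotient.mkₐ_eq_mk R, aeval_unique (Ideal.Quotient.mkₐ R _)]
    rfl
  have hjac : IsUnit (Q.comp P).jacobian := by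
    rw [Algebra.PreSubmersivePresentation.comp_jacobian_eq_jacobian_smul_jacobian,
      Algebra.PreSubmersivePresentation.localizationAway_jacobian, Algebra.smul_def, hPjac]
    exact hunit.mul (IsLocalization.Away.algebraMap_isUnit h)
  exact Algebra.SubmersivePresentation.isStandardSmooth ⟨Q.comp P, hjac⟩

end Groth.Agent.H10
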