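import Mathlib
import Groth.Agent.H10.StdSmooth

/-!
# Lifting standard smooth algebras along a quotient of the base
-/

set_option autoImplicit false
universe u
open MvPolynomial

namespace Groth.Agent.H10.LiftSmooth

/-- A standard smooth algebra over `R ⧸ I` lifts to a standard smooth `R`-algebra `B` with a surjection
`B → S` whose kernel lies in `I B`. -/
theorem exists_lift_isStandardSmooth {R : Type u} [CommRing R] (I : Ideal R) (S : Type u)
    [CommRing S] [Algebra (R ⧸ I) S] [Algebra R S] [IsScalarTower R (R ⧸ I) S]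
    [Algebra.IsStandardSmooth (R ⧸ I) S] :
    ∃ (B : Type u) (_ : CommRing B) (_ : Algebra R B), Algebra.IsStandardSmooth R B ∧
      ∃ π : B →ₐ[R] S, Function.Surjective π ∧ RingHom.ker π ≤ I.map (algebraMap R B) := by
  classical
  obtain ⟨ι', σ', hfσ, hfι, ⟨P₀⟩⟩ := (inferInstance : Algebra.IsStandardSmooth (R ⧸ I) S).out
  have := Fintype.ofFinite ι'
  have := Fintype.ofFinite σ'
  let P := P₀.reindex (Fintype.equivFin ι').symm (Fintype.equivFin σ').symm
  have hsurj : Function.Surjective (MvPolynomial.map (Ideal.Quotient.mk I) :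
      MvPolynomial (Fin (Fintype.card ι')) R → MvPolynomial (Fin (Fintype.card ι')) (R ⧸ I)) :=
    MvPolynomial.map_surjective _ Ideal.Quotient.mk_surjective
  choose v hv using fun j => hsurj (P.relation j)
  have F1 : ∀ q : MvPolynomial (Fin (Fintype.card ι')) R,
      aeval (R := R) P.val q = aeval (R := R ⧸ I) P.val (map (Ideal.Quotient.mk I) q) := by
    intro q
    exact (aeval_map_algebraMap (R := R) (A := R ⧸ I) P.val q).symm
  have F2 : ∀ j, aeval (R := R) P.val (v j) = 0 := by
    intro j
    rw [F1, hv]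
    exact P.aeval_val_relation j
  let g : MvPolynomial (Fin (Fintype.card ι')) R :=
    Matrix.det (Matrix.of fun i j : Fin (Fintype.card σ') => pderiv (P.map i) (v j))
  have F3 : aeval (R := R) P.val g = P.jacobian := by
    rw [F1, Algebra.PreSubmersivePresentation.jacobian_eq_jacobiMatrix_det,
      Algebra.Generators.algebraMap_apply]
    congr 1
    show (map (Ideal.Quotient.mk I)) (Matrix.det _) = _
    rw [RingHom.map_det]
    congr 1
    ext i j : 1
    rw [RingHom.mapMatrix_apply, Matrix.map_apply, Matrix.of_apply, ← pderiv_map, hv,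
      Algebra.PreSubmersivePresentation.jacobiMatrix_apply]
  let J : Ideal (MvPolynomial (Fin (Fintype.card ι')) R) := Ideal.span (Set.range v)
  have hker : ∀ a ∈ J, aeval (R := R) P.val a = 0 := by
    intro a ha
    have hle : J ≤ RingHom.ker (aeval (R := R) P.val) := by
      rw [Ideal.span_le]
      rintro _ ⟨j, rfl⟩
      exact F2 j
    exact hle ha
  let π' : (MvPolynomial (Fin (Fintype.card ι')) R ⧸ J) →ₐ[R] S :=
    Ideal.Quotient.liftₐ J (aeval (R := R) P.val) hker
  have hπ'mk : ∀ q, π' (Ideal.Quotient.mk J q) = aeval (R := R) P.val q := fun q =>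
    Ideal.Quotient.lift_mk _ _ _
  let h : MvPolynomial (Fin (Fintype.card ι')) R ⧸ J := Ideal.Quotient.mk J g
  have hπ'h : IsUnit (π' h) := by
    rw [hπ'mk, F3]
    exact P.jacobian_isUnit
  have hπ'surj : Function.Surjective π' := by
    intro s
    obtain ⟨q, hq⟩ := P.aeval_val_surjective s
    obtain ⟨q', rfl⟩ := hsurj q
    refine ⟨Ideal.Quotient.mk J q', ?_⟩
    rw [hπ'mk, F1, hq]
  -- kernel of π'
  have hπ'ker : ∀ a, π' a = 0 → a ∈ I.map (algebraMap R (MvPolynomial (Fin (Fintype.card ι')) R ⧸ J)) := by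
    intro a ha
    obtain ⟨q, rfl⟩ := Ideal.Quotient.mk_surjective a
    rw [hπ'mk, F1] at ha
    have h1 : map (Ideal.Quotient.mk I) q ∈ P.ker := by
      rw [Algebra.Generators.ker_eq_ker_aeval_val]
      exact ha
    rw [← P.span_range_relation_eq_ker] at h1
    have h2 : Ideal.span (Set.range P.relation) = Ideal.map (map (Ideal.Quotient.mk I)) J := by
      rw [Ideal.map_span, ← Set.range_comp]
      congr 2
      funext j
      exact (hv j).symm
    rw [h2, Ideal.mem_map_iff_of_surjective _ hsurj] at h1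
    obtain ⟨w, hwJ, hw⟩ := h1
    have h3 : q - w ∈ RingHom.ker (map (Ideal.Quotient.mk I) :
        MvPolynomial (Fin (Fintype.card ι')) R →+* _) := by
      rw [RingHom.mem_ker, map_sub, hw, sub_self]
    rw [MvPolynomial.ker_map, Ideal.mk_ker] at h3
    have h4 : Ideal.Quotient.mk J q = Ideal.Quotient.mk J (q - w) := by
      rw [map_sub, Ideal.Quotient.eq_zero_iff_mem.mpr hwJ, sub_zero]
    rw [h4]
    have h5 := Ideal.mem_map_of_mem (Ideal.Quotient.mk J) h3
    rw [Ideal.map_map] at h5
    exact h5
  let B := Localization.Away h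
  let π₀ : B →+* S := IsLocalization.Away.lift h hπ'h
  have hπ₀ : ∀ a, π₀ (algebraMap _ B a) = π' a := fun a => IsLocalization.Away.lift_eq h hπ'h a
  let π : B →ₐ[R] S :=
    { toRingHom := π₀
      commutes' := fun r => by
        show π₀ (algebraMap R B r) = _
        rw [IsScalarTower.algebraMap_apply R (MvPolynomial (Fin (Fintype.card ι')) R ⧸ J) B, hπ₀]
        exact π'.commutes r }
  refine ⟨B, inferInstance, inferInstance, ?_, π, ?_, ?_⟩
  · exact Groth.Agent.H10.isStandardSmooth_of_localization_naive v P.map P.map_inj B h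
      (IsLocalization.Away.algebraMap_isUnit h)
  · intro s
    obtain ⟨a, rfl⟩ := hπ'surj s
    exact ⟨algebraMap _ B a, hπ₀ a⟩
  · intro b hb
    obtain ⟨k, a, hab⟩ := IsLocalization.Away.surj h b
    have h1 : π' a = 0 := by
      rw [← hπ₀, ← hab, map_mul]
      have : π₀ b = 0 := hb
      rw [this, zero_mul]
    have h2 := hπ'ker a h1
    have h3 := Ideal.mem_map_of_mem (algebraMap (MvPolynomial (Fin (Fintype.card ι')) R ⧸ J) B) h2
    rw [Ideal.map_map, ← IsScalarTower.algebraMap_eq, ← hab] at h3
    have hu : IsUnit (algebraMap (MvPolynomial (Fin (Fintype.card ι')) R ⧸ J) B h ^ k) :=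
      (IsLocalization.Away.algebraMap_isUnit h).pow k
    exact (Ideal.mul_unit_mem_iff_mem _ hu).mp h3

end Groth.Agent.H10.LiftSmooth
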