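import Mathlib

/-!
# Smoothness of symmetric algebras

* `formallySmooth_of_projective`: `Sym_A M` is formally smooth for projective `M`.
* `ker_le_span_of_section`: kernel of a retraction of algebras is generated by `x - σ (ρ x)`.
* `finitePresentation_of_finite_projective`, `smooth_of_finite_projective`.
* `projective_of_formallySmooth`, `finite_of_finiteType` : the converses.
-/

set_option autoImplicit false
universe u

namespace Groth.Agent.H10.SymSmooth

open TensorProduct

section Lift

variable (A M : Type u) [CommRing A] [AddCommGroup M] [Module A M]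

/-- The symmetric algebra of a projective module is formally smooth. -/
theorem formallySmooth_of_projective [Module.Projective A M] :
    Algebra.FormallySmooth A (SymmetricAlgebra A M) := by
  refine Algebra.FormallySmooth.of_comp_surjective fun B _ _ I hI g => ?_
  obtain ⟨h, hh⟩ := Module.projective_lifting_property (Ideal.Quotient.mkₐ A I).toLinearMap
    (g.toLinearMap ∘ₗ SymmetricAlgebra.ι A M) (Ideal.Quotient.mkₐ_surjective A I)
  refine ⟨SymmetricAlgebra.lift h, ?_⟩
  apply SymmetricAlgebra.algHom_ext
  apply LinearMap.ext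
  intro m
  have h1 := LinearMap.congr_fun hh m
  simpa using h1

end Lift

section Retract

variable {A P S : Type u} [CommRing A] [CommRing P] [CommRing S] [Algebra A P] [Algebra A S]

/-- The kernel of a retraction `ρ` with section `σ` is generated by the `x - σ (ρ x)` for `x`
ranging over algebra generators. -/
theorem ker_le_span_of_section (ρ : P →ₐ[A] S) (σ : S →ₐ[A] P) (h : ∀ y, ρ (σ y) = y)
    (s : Set P) (hs : Algebra.adjoin A s = ⊤) :
    RingHom.ker ρ.toRingHom = Ideal.span ((fun x => x - σ (ρ x)) '' s) := by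
  set J : Ideal P := Ideal.span ((fun x => x - σ (ρ x)) '' s) with hJ
  have key : ∀ x : P, x - σ (ρ x) ∈ J := by
    intro x
    have hx : x ∈ Algebra.adjoin A s := by rw [hs]; trivial
    induction hx using Algebra.adjoin_induction with
    | mem x hx => exact Ideal.subset_span ⟨x, hx, rfl⟩
    | algebraMap r =>
      rw [AlgHom.commutes, AlgHom.commutes, sub_self]
      exact zero_mem _
    | add x y _ _ hx hy =>
      have e : x + y - σ (ρ (x + y)) = (x - σ (ρ x)) + (y - σ (ρ y)) := by
        rw [map_add, map_add]; ring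
      rw [e]
      exact add_mem hx hy
    | mul x y _ _ hx hy =>
      have e : x * y - σ (ρ (x * y)) = x * (y - σ (ρ y)) + σ (ρ y) * (x - σ (ρ x)) := by
        rw [map_mul, map_mul]; ring
      rw [e]
      exact add_mem (J.mul_mem_left _ hy) (J.mul_mem_left _ hx)
  apply le_antisymm
  · intro x hx
    have hx' : ρ x = 0 := hx
    have := key x
    rwa [hx', map_zero, sub_zero] at this
  · rw [hJ, Ideal.span_le]
    rintro _ ⟨x, -, rfl⟩
    show ρ (x - σ (ρ x)) = 0
    rw [map_sub, h, sub_self]

end Retract

section FP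

variable (A M : Type u) [CommRing A] [AddCommGroup M] [Module A M]

/-- The symmetric algebra of a finite projective module is finitely presented. -/
theorem finitePresentation_of_finite_projective [Module.Finite A M] [Module.Projective A M] :
    Algebra.FinitePresentation A (SymmetricAlgebra A M) := by
  classical
  obtain ⟨n, r, hr⟩ := Module.Finite.exists_fin' A M
  obtain ⟨i, hi⟩ := Module.projective_lifting_property r LinearMap.id hr
  let ℓ : (Fin n → A) →ₗ[A] MvPolynomial (Fin n) A :=
    Fintype.linearCombination A (fun k : Fin n => (MvPolynomial.X k : MvPolynomial (Fin n) A))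
  let ρ : MvPolynomial (Fin n) A →ₐ[A] SymmetricAlgebra A M :=
    MvPolynomial.aeval (fun k => SymmetricAlgebra.ι A M (r (Pi.single k 1)))
  let σ : SymmetricAlgebra A M →ₐ[A] MvPolynomial (Fin n) A := SymmetricAlgebra.lift (ℓ ∘ₗ i)
  have hρℓ : ∀ v : Fin n → A, ρ (ℓ v) = SymmetricAlgebra.ι A M (r v) := by
    intro v
    show ρ (Fintype.linearCombination A _ v) = _
    rw [Fintype.linearCombination_apply, map_sum]
    have hv : v = ∑ k, v k • (Pi.single k 1 : Fin n → A) := by
      ext j
      simp [Finset.sum_apply, Pi.single_apply]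
    conv_rhs => rw [hv, map_sum, map_sum]
    refine Finset.sum_congr rfl fun k _ => ?_
    rw [map_smul, map_smul, map_smul]
    congr 1
    exact MvPolynomial.aeval_X _ k
  have hρσ : ∀ y, ρ (σ y) = y := by
    intro y
    have : ρ.comp σ = AlgHom.id A _ := by
      apply SymmetricAlgebra.algHom_ext
      apply LinearMap.ext
      intro m
      show ρ (σ (SymmetricAlgebra.ι A M m)) = SymmetricAlgebra.ι A M m
      rw [SymmetricAlgebra.lift_ι_apply]
      show ρ (ℓ (i m)) = _
      rw [hρℓ]
      have := LinearMap.congr_fun hi m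
      simp only [LinearMap.comp_apply, LinearMap.id_apply] at this
      rw [this]
    exact AlgHom.congr_fun this y
  have hsurj : Function.Surjective ρ := fun y => ⟨σ y, hρσ y⟩
  have hker : (RingHom.ker ρ.toRingHom).FG := by
    rw [ker_le_span_of_section ρ σ hρσ (Set.range MvPolynomial.X) (MvPolynomial.adjoin_range_X)]
    have hfin : ((fun x => x - σ (ρ x)) ''
        Set.range (MvPolynomial.X : Fin n → MvPolynomial (Fin n) A)).Finite :=
      (Set.finite_range _).image _
    exact ⟨hfin.toFinset, by rw [Set.Finite.coe_toFinset]⟩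
  exact Algebra.FinitePresentation.of_surjective hsurj hker

/-- The symmetric algebra of a finite projective module is smooth. -/
theorem smooth_of_finite_projective [Module.Finite A M] [Module.Projective A M] :
    Algebra.Smooth A (SymmetricAlgebra A M) :=
  ⟨formallySmooth_of_projective A M, finitePresentation_of_finite_projective A M⟩

end FP

section Converse

variable (A M : Type u) [CommRing A] [AddCommGroup M] [Module A M]

/-- The "degree one part" map `Sym_A M → M`, built from the trivial square-zero extension. -/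
theorem exists_deriv : ∃ δ : SymmetricAlgebra A M →ₗ[A] M,
    (∀ m, δ (SymmetricAlgebra.ι A M m) = m) ∧
    (∀ a, δ (algebraMap A _ a) = 0) ∧
    ∀ x y, ∃ a b : A, δ (x * y) = a • δ y + b • δ x := by
  let _ : Module Aᵐᵒᵖ M := Module.compHom _ ((RingHom.id A).fromOpposite mul_comm)
  have : IsCentralScalar A M := ⟨fun r m => rfl⟩
  let Φ : SymmetricAlgebra A M →ₐ[A] TrivSqZeroExt A M :=
    SymmetricAlgebra.lift (TrivSqZeroExt.inrHom A M)
  refine ⟨(TrivSqZeroExt.sndHom A M) ∘ₗ Φ.toLinearMap, ?_, ?_, ?_⟩
  · intro m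
    show TrivSqZeroExt.snd (Φ (SymmetricAlgebra.ι A M m)) = m
    rw [SymmetricAlgebra.lift_ι_apply]
    rfl
  · intro a
    show TrivSqZeroExt.snd (Φ (algebraMap A _ a)) = 0
    rw [AlgHom.commutes]
    rfl
  · intro x y
    refine ⟨TrivSqZeroExt.fst (Φ x), TrivSqZeroExt.fst (Φ y), ?_⟩
    show TrivSqZeroExt.snd (Φ (x * y)) = _
    rw [map_mul, TrivSqZeroExt.snd_mul]
    rfl

/-- If the symmetric algebra is of finite type then the module is finite. -/
theorem finite_of_finiteType [Algebra.FiniteType A (SymmetricAlgebra A M)] : Module.Finite A M := by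
  classical
  obtain ⟨δ, hδι, hδa, hδm⟩ := exists_deriv A M
  obtain ⟨s, hs⟩ := (Algebra.FiniteType.out : (⊤ : Subalgebra A (SymmetricAlgebra A M)).FG)
  let N : Submodule A M := Submodule.span A (δ '' (s : Set (SymmetricAlgebra A M)))
  have key : ∀ x : SymmetricAlgebra A M, δ x ∈ N := by
    intro x
    have hx : x ∈ Algebra.adjoin A (s : Set (SymmetricAlgebra A M)) := by rw [hs]; trivial
    induction hx using Algebra.adjoin_induction with
    | mem x hx => exact Submodule.subset_span ⟨x, hx, rfl⟩
    | algebraMap r => rw [hδa]; exact zero_mem _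
    | add x y _ _ hx hy => rw [map_add]; exact add_mem hx hy
    | mul x y _ _ hx hy =>
      obtain ⟨a, b, e⟩ := hδm x y
      rw [e]
      exact add_mem (N.smul_mem _ hy) (N.smul_mem _ hx)
  refine ⟨⟨(s.image δ), ?_⟩⟩
  rw [Finset.coe_image, eq_top_iff]
  intro m _
  have := key (SymmetricAlgebra.ι A M m)
  rwa [hδι] at this

/-- If the symmetric algebra is formally smooth then the module is projective. -/
theorem projective_of_formallySmooth [Algebra.FormallySmooth A (SymmetricAlgebra A M)] :
    Module.Projective A M := by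
  refine Module.Projective.of_lifting_property ?_
  intro N₁ N₂ _ _ _ _ f g hf
  let _ : Module Aᵐᵒᵖ N₁ := Module.compHom _ ((RingHom.id A).fromOpposite mul_comm)
  have : IsCentralScalar A N₁ := ⟨fun r m => rfl⟩
  let _ : Module Aᵐᵒᵖ N₂ := Module.compHom _ ((RingHom.id A).fromOpposite mul_comm)
  have : IsCentralScalar A N₂ := ⟨fun r m => rfl⟩
  let F : TrivSqZeroExt A N₁ →ₐ[A] TrivSqZeroExt A N₂ := TrivSqZeroExt.map f
  have hF : Function.Surjective F := by
    intro x
    obtain ⟨n, hn⟩ := hf x.snd
    refine ⟨TrivSqZeroExt.inl x.fst + TrivSqZeroExt.inr n, ?_⟩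
    rw [map_add]
    show TrivSqZeroExt.map f (TrivSqZeroExt.inl x.fst) + TrivSqZeroExt.map f (TrivSqZeroExt.inr n) = x
    rw [TrivSqZeroExt.map_inl, TrivSqZeroExt.map_inr, hn]
    exact TrivSqZeroExt.inl_fst_add_inr_snd_eq x
  have hker : ∀ z ∈ RingHom.ker (F : TrivSqZeroExt A N₁ →+* TrivSqZeroExt A N₂), z.fst = 0 := by
    intro z hz
    have h0 : F z = 0 := hz
    have h1 : TrivSqZeroExt.fst (F z) = z.fst := TrivSqZeroExt.fst_map f z
    rw [h0] at h1
    exact h1.symm
  have hnil : IsNilpotent (RingHom.ker (F : TrivSqZeroExt A N₁ →+* TrivSqZeroExt A N₂)) := by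
    refine ⟨2, ?_⟩
    rw [Ideal.zero_eq_bot, eq_bot_iff, pow_two, Ideal.mul_le]
    intro z hz w hw
    rw [Ideal.mem_bot]
    apply TrivSqZeroExt.ext
    · rw [TrivSqZeroExt.fst_mul, hker z hz, zero_mul]; rfl
    · rw [TrivSqZeroExt.snd_mul, hker z hz, hker w hw]
      simp
  let G : SymmetricAlgebra A M →ₐ[A] TrivSqZeroExt A N₂ :=
    SymmetricAlgebra.lift ((TrivSqZeroExt.inrHom A N₂) ∘ₗ g)
  let L := Algebra.FormallySmooth.liftOfSurjective G F hF hnil
  have hL : ∀ x, F (L x) = G x := Algebra.FormallySmooth.liftOfSurjective_apply G F hF hnil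
  refine ⟨(TrivSqZeroExt.sndHom A N₁) ∘ₗ L.toLinearMap ∘ₗ SymmetricAlgebra.ι A M, ?_⟩
  apply LinearMap.ext
  intro m
  show f (TrivSqZeroExt.snd (L (SymmetricAlgebra.ι A M m))) = g m
  have h1 := hL (SymmetricAlgebra.ι A M m)
  have h2 : TrivSqZeroExt.snd (F (L (SymmetricAlgebra.ι A M m))) =
      f (TrivSqZeroExt.snd (L (SymmetricAlgebra.ι A M m))) := TrivSqZeroExt.snd_map f _
  rw [← h2, h1]
  show TrivSqZeroExt.snd (SymmetricAlgebra.lift ((TrivSqZeroExt.inrHom A N₂) ∘ₗ g)
    (SymmetricAlgebra.ι A M m)) = g m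
  rw [SymmetricAlgebra.lift_ι_apply]
  rfl

end Converse

end Groth.Agent.H10.SymSmooth
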