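import Mathlib
import Groth.Agent.H10.SymSmooth

/-!
# A smooth algebra is a retract of a standard smooth algebra

For `A` smooth over `R` we build `B = (Sym_A K)[1/g]`, smooth over `A` with an `A`-retraction, such
that `B` is standard smooth over `R`.
-/

set_option autoImplicit false
universe u

namespace Groth.Agent.H10.SmoothRetract

open KaehlerDifferential

section LemmaN

variable {B : Type u} [CommRing B] (J : Ideal B) {n : ℕ}
  {Q : Type u} [AddCommGroup Q] [Module B Q] [Module.Finite B Q] [Module.Projective B Q]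

/-- A map from a finite free module to a finite projective module which is an isomorphism modulo
`J` becomes an isomorphism after inverting some `g ∈ 1 + J`. -/
theorem exists_localizing_element (φ : (Fin n → B) →ₗ[B] Q)
    (ha : LinearMap.range φ ⊔ J • (⊤ : Submodule B Q) = ⊤)
    (hb : ∀ v : Fin n → B, φ v ∈ J • (⊤ : Submodule B Q) → ∀ i, v i ∈ J) :
    ∃ g : B, g - 1 ∈ J ∧ (∀ v, φ v = 0 → g • v = 0) ∧ ∀ y : Q, g • y ∈ LinearMap.range φ := by
  classical
  -- decomposition of elements of `Q`
  have hdec : ∀ y : Q, ∃ v, y - φ v ∈ J • (⊤ : Submodule B Q) := by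
    intro y
    have hy : y ∈ LinearMap.range φ ⊔ J • (⊤ : Submodule B Q) := by rw [ha]; trivial
    obtain ⟨_, ⟨v, rfl⟩, z, hz, rfl⟩ := Submodule.mem_sup.mp hy
    exact ⟨v, by rwa [add_sub_cancel_left]⟩
  -- Step 1: an approximate section
  let JQ : Submodule B Q := J • (⊤ : Submodule B Q)
  have hsurj : Function.Surjective (JQ.mkQ ∘ₗ φ) := by
    intro c
    obtain ⟨y, rfl⟩ := JQ.mkQ_surjective c
    obtain ⟨v, hv⟩ := hdec y
    refine ⟨v, ?_⟩
    show JQ.mkQ (φ v) = JQ.mkQ y
    rw [eq_comm, Submodule.mkQ_apply, Submodule.mkQ_apply, Submodule.Quotient.eq]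
    exact hv
  obtain ⟨ψ, hψ⟩ := Module.projective_lifting_property (JQ.mkQ ∘ₗ φ) JQ.mkQ hsurj
  have hψ' : ∀ y, φ (ψ y) - y ∈ JQ := by
    intro y
    have := LinearMap.congr_fun hψ y
    rw [LinearMap.comp_apply, LinearMap.comp_apply, Submodule.mkQ_apply, Submodule.mkQ_apply,
      Submodule.Quotient.eq] at this
    exact this
  -- Step 2: the determinant of `ψ ∘ φ`
  let M : Matrix (Fin n) (Fin n) B := LinearMap.toMatrix' (ψ ∘ₗ φ)
  have hMv : ∀ v, M.mulVec v = ψ (φ v) := by
    intro v
    show (LinearMap.toMatrix' (ψ ∘ₗ φ)).mulVec v = _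
    rw [LinearMap.toMatrix'_mulVec]
    rfl
  have hMent : ∀ i j, M i j - (1 : Matrix (Fin n) (Fin n) B) i j ∈ J := by
    intro i j
    have h1 : M i j = ψ (φ (Pi.single j 1)) i := by
      show LinearMap.toMatrix' (ψ ∘ₗ φ) i j = _
      rw [LinearMap.toMatrix'_apply]
      rfl
    have h2 : φ (ψ (φ (Pi.single j 1)) - Pi.single j 1) ∈ JQ := by
      rw [map_sub]
      exact hψ' _
    have h3 := hb _ h2 i
    rw [h1, Matrix.one_apply]
    simpa [Pi.single_apply, eq_comm] using h3
  have hdet : M.det - 1 ∈ J := by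
    have hmap : M.map (Ideal.Quotient.mk J) = 1 := by
      ext i j
      rw [Matrix.map_apply, Matrix.one_apply]
      have := hMent i j
      rw [← Ideal.Quotient.eq, Matrix.one_apply] at this
      rw [this]
      split_ifs <;> simp
    have h1 : Ideal.Quotient.mk J M.det = 1 := by
      rw [RingHom.map_det, RingHom.mapMatrix_apply, hmap, Matrix.det_one]
    rw [← Ideal.Quotient.eq, h1, map_one]
  have hinj : ∀ v, φ v = 0 → M.det • v = 0 := by
    intro v hv
    have h1 : M.mulVec v = 0 := by rw [hMv, hv, map_zero]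
    have h2 : (M.adjugate * M).mulVec v = M.det • v := by
      rw [Matrix.adjugate_mul, Matrix.smul_mulVec, Matrix.one_mulVec]
    rw [← h2, ← Matrix.mulVec_mulVec, h1, Matrix.mulVec_zero]
  -- Step 3: Nakayama for the cokernel
  let C := Q ⧸ LinearMap.range φ
  have hC : (⊤ : Submodule B C) ≤ J • (⊤ : Submodule B C) := by
    intro c _
    obtain ⟨y, rfl⟩ := (LinearMap.range φ).mkQ_surjective c
    obtain ⟨v, hv⟩ := hdec y
    have h1 : (LinearMap.range φ).mkQ y = (LinearMap.range φ).mkQ (y - φ v) := by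
      rw [map_sub]
      have : (LinearMap.range φ).mkQ (φ v) = 0 := by
        rw [Submodule.mkQ_apply, Submodule.Quotient.mk_eq_zero]
        exact ⟨v, rfl⟩
      rw [this, sub_zero]
    rw [h1]
    have h2 : (LinearMap.range φ).mkQ (y - φ v) ∈
        Submodule.map (LinearMap.range φ).mkQ (J • (⊤ : Submodule B Q)) := ⟨_, hv, rfl⟩
    rw [Submodule.map_smul''] at h2
    exact Submodule.smul_mono le_rfl le_top h2
  obtain ⟨r, hr1, hr2⟩ := Submodule.exists_sub_one_mem_and_smul_eq_zero_of_fg_of_le_smul J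
    (⊤ : Submodule B C) Module.Finite.fg_top hC
  have hsur : ∀ y : Q, r • y ∈ LinearMap.range φ := by
    intro y
    have := hr2 ((LinearMap.range φ).mkQ y) trivial
    rw [← map_smul, Submodule.mkQ_apply, Submodule.Quotient.mk_eq_zero] at this
    exact this
  refine ⟨M.det * r, ?_, ?_, ?_⟩
  · have : M.det * r - 1 = M.det * (r - 1) + (M.det - 1) := by ring
    rw [this]
    exact J.add_mem (J.mul_mem_left _ hr1) hdet
  · intro v hv
    rw [mul_comm, mul_smul, hinj v hv, smul_zero]
  · intro y
    rw [mul_smul]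
    exact Submodule.smul_mem _ _ (hsur y)

end LemmaN

section LemmaL

variable {B₀ B : Type u} [CommRing B₀] [CommRing B] [Algebra B₀ B] (g : B₀)
  [IsLocalization.Away g B] {n : ℕ} {Q Q' : Type u} [AddCommGroup Q] [Module B₀ Q]
  [AddCommGroup Q'] [Module B₀ Q'] [Module B Q'] [IsScalarTower B₀ B Q']

/-- If `φ : B₀ⁿ → Q` becomes bijective after inverting `g`, the images of the standard basis give a
basis of the localized module. -/
theorem exists_basis_of_localized (f : Q →ₗ[B₀] Q') [IsLocalizedModule (Submonoid.powers g) f]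
    (φ : (Fin n → B₀) →ₗ[B₀] Q)
    (h1 : ∀ v, φ v = 0 → g • v = 0) (h2 : ∀ y : Q, g • y ∈ LinearMap.range φ) :
    ∃ b : Module.Basis (Fin n) B Q', ∀ i, b i = f (φ (Pi.single i 1)) := by
  classical
  let w : Fin n → Q' := fun i => f (φ (Pi.single i 1))
  have hunit : ∀ t : Submonoid.powers g, IsUnit (algebraMap B₀ B t) :=
    fun t => IsLocalization.map_units B t
  have hgunit : IsUnit (algebraMap B₀ B g) :=
    hunit ⟨g, Submonoid.mem_powers g⟩
  have hF : ∀ v : Fin n → B₀, f (φ v) = ∑ i, algebraMap B₀ B (v i) • w i := by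
    intro v
    have hv : v = ∑ i, v i • (Pi.single i 1 : Fin n → B₀) := by
      ext j
      simp [Finset.sum_apply, Pi.single_apply]
    conv_lhs => rw [hv, map_sum, map_sum]
    refine Finset.sum_congr rfl fun i _ => ?_
    rw [map_smul, map_smul, algebraMap_smul]
  have hli : LinearIndependent B w := by
    rw [Fintype.linearIndependent_iff]
    intro c hc i
    obtain ⟨t, ht⟩ := IsLocalization.exist_integer_multiples_of_finite (Submonoid.powers g) c
    choose v hv using ht
    have hv' : ∀ i, algebraMap B₀ B (v i) = algebraMap B₀ B t * c i := by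
      intro i
      rw [hv i, Algebra.smul_def]
    have h3 : f (φ v) = 0 := by
      rw [hF]
      have : ∀ i, algebraMap B₀ B (v i) • w i = algebraMap B₀ B t • (c i • w i) := by
        intro i
        rw [hv' i, mul_smul]
      rw [Finset.sum_congr rfl fun i _ => this i, ← Finset.smul_sum, hc, smul_zero]
    obtain ⟨c', hc'⟩ := IsLocalizedModule.exists_of_eq (S := Submonoid.powers g) (f := f)
      (h3.trans (map_zero f).symm)
    rw [smul_zero, Submonoid.smul_def, ← map_smul] at hc'
    have h4 := h1 _ hc'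
    have h5 : g * ((c' : B₀) * v i) = 0 := by
      have := congrFun h4 i
      simpa [Pi.smul_apply, smul_eq_mul] using this
    have h6 := congrArg (algebraMap B₀ B) h5
    rw [map_mul, map_mul, map_zero, hv' i] at h6
    have hu : IsUnit (algebraMap B₀ B g * (algebraMap B₀ B c' * algebraMap B₀ B t)) :=
      hgunit.mul ((hunit c').mul (hunit t))
    have h7 : (algebraMap B₀ B g * (algebraMap B₀ B c' * algebraMap B₀ B t)) * c i = 0 := by
      rw [← h6]; ring
    exact (hu.mul_right_eq_zero).mp h7
  have hsp : ⊤ ≤ Submodule.span B (Set.range w) := by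
    intro y' _
    obtain ⟨⟨y, t⟩, hyt⟩ := IsLocalizedModule.surj (Submonoid.powers g) f y'
    obtain ⟨v, hv⟩ := h2 y
    have h3 : f (g • y) = ∑ i, algebraMap B₀ B (v i) • w i := by rw [← hv, hF]
    have h4 : f (g • y) = (algebraMap B₀ B g * algebraMap B₀ B t) • y' := by
      rw [map_smul, ← hyt, mul_smul, algebraMap_smul, Submonoid.smul_def, algebraMap_smul]
    have h5 : (algebraMap B₀ B g * algebraMap B₀ B t) • y' ∈ Submodule.span B (Set.range w) := by
      rw [← h4, h3]
      exact Submodule.sum_mem _ fun i _ =>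
        Submodule.smul_mem _ _ (Submodule.subset_span ⟨i, rfl⟩)
    exact (Submodule.smul_mem_iff_of_isUnit _ (hgunit.mul (hunit t))).mp h5
  exact ⟨Module.Basis.mk hli hsp, fun i => Module.Basis.mk_apply hli hsp i⟩

end LemmaL

section Semilinear

variable {R A B₀ : Type u} [CommRing R] [CommRing A] [CommRing B₀] [Algebra R A] [Algebra A B₀]
  [Algebra R B₀] [IsScalarTower R A B₀]

/-- An `ε`-derivation `B₀ → N` into an `A`-module induces an `ε`-semilinear map on `Ω[B₀⁄R]`. -/
theorem exists_semilinear_lift (ε : B₀ →ₐ[A] A) {N : Type u} [AddCommGroup N] [Module A N]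
    [Module R N] [IsScalarTower R A N] (d₀ : B₀ →ₗ[R] N)
    (hmul : ∀ y z, d₀ (y * z) = ε y • d₀ z + ε z • d₀ y) :
    ∃ L : Ω[B₀⁄R] →+ N, (∀ (b : B₀) (ω : Ω[B₀⁄R]), L (b • ω) = ε b • L ω) ∧
      ∀ b, L (KaehlerDifferential.D R B₀ b) = d₀ b := by
  let _ : Module B₀ N := Module.compHom N (ε : B₀ →+* A)
  have hsmul : ∀ (b : B₀) (x : N), b • x = ε b • x := fun _ _ => rfl
  have : IsScalarTower R B₀ N := by
    refine ⟨fun r b x => ?_⟩
    rw [hsmul, hsmul, ← algebraMap_smul A r b, map_smul, smul_assoc, algebraMap_smul]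
  let D' : Derivation R B₀ N := Derivation.mk' d₀ (fun y z => by rw [hmul, hsmul, hsmul])
  refine ⟨D'.liftKaehlerDifferential.toAddMonoidHom, ?_, ?_⟩
  · intro b ω
    show D'.liftKaehlerDifferential (b • ω) = _
    rw [map_smul, hsmul]
    rfl
  · intro b
    show D'.liftKaehlerDifferential (KaehlerDifferential.D R B₀ b) = _
    rw [Derivation.liftKaehlerDifferential_comp_D]
    rfl

end Semilinear

section Main

variable {R A : Type u} [CommRing R] [CommRing A] [Algebra R A]

/-- The map `Aⁿ → Ω[A⁄R]`, `e_i ↦ d x_i`. -/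
noncomputable def pmap {n : ℕ} (x : Fin n → A) : (Fin n → A) →ₗ[A] Ω[A⁄R] :=
  Fintype.linearCombination A (fun i => D R A (x i))

theorem pmap_apply {n : ℕ} (x : Fin n → A) (c : Fin n → A) :
    pmap (R := R) x c = ∑ i, c i • D R A (x i) :=
  Fintype.linearCombination_apply _ _ _

theorem pmap_surjective {n : ℕ} (x : Fin n → A) (hx : Algebra.adjoin R (Set.range x) = ⊤) :
    Function.Surjective (pmap (R := R) x) := by
  rw [← LinearMap.range_eq_top, pmap, Fintype.range_linearCombination, eq_top_iff,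
    ← span_range_derivation R A, Submodule.span_le]
  rintro _ ⟨a, rfl⟩
  have ha : a ∈ Algebra.adjoin R (Set.range x) := by rw [hx]; trivial
  induction ha using Algebra.adjoin_induction with
  | mem a ha =>
    obtain ⟨i, rfl⟩ := ha
    exact Submodule.subset_span ⟨i, rfl⟩
  | algebraMap r =>
    rw [Derivation.map_algebraMap]
    exact zero_mem _
  | add a b _ _ ha hb =>
    rw [map_add]
    exact add_mem ha hb
  | mul a b _ _ ha hb =>
    rw [Derivation.leibniz]
    exact add_mem (Submodule.smul_mem _ _ hb) (Submodule.smul_mem _ _ ha)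

theorem pi_eq_sum_single {S : Type u} [CommRing S] {n : ℕ} (c : Fin n → S) :
    c = ∑ i, c i • (Pi.single i 1 : Fin n → S) := by
  classical
  ext j
  simp [Finset.sum_apply, Pi.single_apply]

variable [Algebra.Smooth R A]

set_option maxHeartbeats 1600000 in
/-- The abstract form of the construction. -/
theorem main_abstract {n : ℕ} (x : Fin n → A) (hx : Algebra.adjoin R (Set.range x) = ⊤)
    (s : Ω[A⁄R] →ₗ[A] (Fin n → A)) (hs : ∀ ω, pmap (R := R) x (s ω) = ω)
    (B₀ : Type u) [CommRing B₀] [Algebra A B₀] [Algebra R B₀] [IsScalarTower R A B₀]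
    [Algebra.Smooth A B₀]
    (ε : B₀ →ₐ[A] A) (ι : LinearMap.ker (pmap (R := R) x) →ₗ[A] B₀)
    (δ : B₀ →ₗ[A] LinearMap.ker (pmap (R := R) x))
    (hει : ∀ k, ε (ι k) = 0) (hδι : ∀ k, δ (ι k) = k) (hδa : ∀ a, δ (algebraMap A B₀ a) = 0)
    (hδm : ∀ y z, δ (y * z) = ε y • δ z + ε z • δ y)
    (hgen : Algebra.adjoin A (Set.range ι) = ⊤) :
    ∃ g : B₀, ε g = 1 ∧ Algebra.IsStandardSmooth R (Localization.Away g) := by
  classical
  -- the projection onto `K = ker p`
  let π : (Fin n → A) →ₗ[A] LinearMap.ker (pmap (R := R) x) :=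
    (LinearMap.id - s ∘ₗ pmap (R := R) x).codRestrict (LinearMap.ker (pmap (R := R) x)) (fun v => by
      rw [LinearMap.mem_ker, LinearMap.sub_apply, map_sub, LinearMap.comp_apply, hs,
        LinearMap.id_apply, sub_self])
  have hπval : ∀ v, ((π v : LinearMap.ker (pmap (R := R) x)) : Fin n → A) = v - s (pmap (R := R) x v) := fun v => rfl
  have hπK : ∀ k : LinearMap.ker (pmap (R := R) x), π (k : Fin n → A) = k := by
    intro k
    apply Subtype.ext
    rw [hπval, LinearMap.mem_ker.mp k.2, map_zero, sub_zero]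
  have hπs : ∀ ω, π (s ω) = 0 := by
    intro ω
    apply Subtype.ext
    rw [hπval, hs, sub_self]
    rfl
  let e : Fin n → (Fin n → A) := fun i => Pi.single i 1
  have hdecA : ∀ (c : Fin n → A), π c = ∑ i, c i • π (e i) := by
    intro c
    conv_lhs => rw [pi_eq_sum_single c, map_sum]
    exact Finset.sum_congr rfl fun i _ => map_smul _ _ _
  let b : Fin n → B₀ := fun i => algebraMap A B₀ (x i) + ι (π (e i))
  have hεb : ∀ i, ε (b i) = x i := by
    intro i
    show ε (algebraMap A B₀ (x i) + ι (π (e i))) = x i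
    rw [map_add, hει, add_zero, AlgHom.commutes]
    rfl
  have hδb : ∀ i, δ (b i) = π (e i) := by
    intro i
    show δ (algebraMap A B₀ (x i) + ι (π (e i))) = _
    rw [map_add, hδa, hδι, zero_add]
  let φ : (Fin n → B₀) →ₗ[B₀] Ω[B₀⁄R] :=
    Fintype.linearCombination B₀ (fun i => D R B₀ (b i))
  have hφ : ∀ v, φ v = ∑ i, v i • D R B₀ (b i) := fun v => Fintype.linearCombination_apply _ _ _
  let J : Ideal B₀ := RingHom.ker (ε : B₀ →+* A)
  have hJ : ∀ y, y ∈ J ↔ ε y = 0 := fun y => Iff.rfl
  have hsmR : Algebra.Smooth R B₀ := Algebra.Smooth.comp R A B₀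
  have hfin : Module.Finite B₀ Ω[B₀⁄R] := inferInstance
  have hproj : Module.Projective B₀ Ω[B₀⁄R] := inferInstance
  let JΩ : Submodule B₀ Ω[B₀⁄R] := J • ⊤
  let W : Submodule B₀ Ω[B₀⁄R] := LinearMap.range φ ⊔ JΩ
  -- the key formula
  have hkey : ∀ c : Fin n → A, D R B₀ (ι (π c)) + KaehlerDifferential.map R R A B₀ (pmap (R := R) x c) -
      φ (fun i => algebraMap A B₀ (c i)) ∈ JΩ := by
    intro c
    have h1 : KaehlerDifferential.map R R A B₀ (pmap (R := R) x c) =
        ∑ i, algebraMap A B₀ (c i) • D R B₀ (algebraMap A B₀ (x i)) := by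
      rw [pmap_apply, map_sum]
      refine Finset.sum_congr rfl fun i _ => ?_
      rw [map_smul, KaehlerDifferential.map_D, algebraMap_smul]
    have h2 : D R B₀ (ι (π c)) = ∑ i, (algebraMap A B₀ (c i) • D R B₀ (ι (π (e i))) +
        ι (π (e i)) • D R B₀ (algebraMap A B₀ (c i))) := by
      rw [hdecA c, map_sum, map_sum]
      refine Finset.sum_congr rfl fun i _ => ?_
      rw [map_smul, Algebra.smul_def, Derivation.leibniz]
    have h3 : φ (fun i => algebraMap A B₀ (c i)) =
        ∑ i, (algebraMap A B₀ (c i) • D R B₀ (algebraMap A B₀ (x i)) +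
          algebraMap A B₀ (c i) • D R B₀ (ι (π (e i)))) := by
      rw [hφ]
      refine Finset.sum_congr rfl fun i _ => ?_
      show algebraMap A B₀ (c i) • D R B₀ (algebraMap A B₀ (x i) + ι (π (e i))) = _
      rw [map_add, smul_add]
    have h4 : D R B₀ (ι (π c)) + KaehlerDifferential.map R R A B₀ (pmap (R := R) x c) -
        φ (fun i => algebraMap A B₀ (c i)) =
        ∑ i, ι (π (e i)) • D R B₀ (algebraMap A B₀ (c i)) := by
      rw [h1, h2, h3, ← Finset.sum_add_distrib, ← Finset.sum_sub_distrib]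
      refine Finset.sum_congr rfl fun i _ => ?_
      abel
    rw [h4]
    refine Submodule.sum_mem _ fun i _ => ?_
    exact Submodule.smul_mem_smul ((hJ _).mpr (hει _)) trivial
  have hφW : ∀ v, φ v ∈ W := fun v => Submodule.mem_sup_left ⟨v, rfl⟩
  have hJW : ∀ z ∈ JΩ, z ∈ W := fun z hz => Submodule.mem_sup_right hz
  -- (a): generators lie in `W`
  have hWι : ∀ k : LinearMap.ker (pmap (R := R) x), D R B₀ (ι k) ∈ W := by
    intro k
    have h := hkey (k : Fin n → A)
    rw [hπK, LinearMap.mem_ker.mp k.2, map_zero, add_zero] at h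
    have h' : D R B₀ (ι k) = (D R B₀ (ι k) - φ (fun i => algebraMap A B₀ ((k : Fin n → A) i))) +
        φ (fun i => algebraMap A B₀ ((k : Fin n → A) i)) := by abel
    rw [h']
    exact add_mem (hJW _ h) (hφW _)
  have hWx : ∀ j, D R B₀ (algebraMap A B₀ (x j)) ∈ W := by
    intro j
    have h := hkey (s (D R A (x j)))
    rw [hπs, map_zero, map_zero, zero_add, hs, KaehlerDifferential.map_D] at h
    have h' : D R B₀ (algebraMap A B₀ (x j)) = (D R B₀ (algebraMap A B₀ (x j)) -
        φ (fun i => algebraMap A B₀ (s (D R A (x j)) i))) +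
        φ (fun i => algebraMap A B₀ (s (D R A (x j)) i)) := by abel
    rw [h']
    exact add_mem (hJW _ h) (hφW _)
  have hWA : ∀ a : A, D R B₀ (algebraMap A B₀ a) ∈ W := by
    intro a
    have ha : a ∈ Algebra.adjoin R (Set.range x) := by rw [hx]; trivial
    induction ha using Algebra.adjoin_induction with
    | mem a ha =>
      obtain ⟨j, rfl⟩ := ha
      exact hWx j
    | algebraMap r =>
      rw [← IsScalarTower.algebraMap_apply, Derivation.map_algebraMap]
      exact zero_mem _
    | add a a' _ _ ha ha' =>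
      rw [map_add, map_add]
      exact add_mem ha ha'
    | mul a a' _ _ ha ha' =>
      rw [map_mul, Derivation.leibniz]
      exact add_mem (Submodule.smul_mem _ _ ha') (Submodule.smul_mem _ _ ha)
  have hWall : ∀ y : B₀, D R B₀ y ∈ W := by
    intro y
    have hy : y ∈ Algebra.adjoin A (Set.range ι) := by rw [hgen]; trivial
    induction hy using Algebra.adjoin_induction with
    | mem y hy =>
      obtain ⟨k, rfl⟩ := hy
      exact hWι k
    | algebraMap a => exact hWA a
    | add y z _ _ hy hz =>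
      rw [map_add]
      exact add_mem hy hz
    | mul y z _ _ hy hz =>
      rw [Derivation.leibniz]
      exact add_mem (Submodule.smul_mem _ _ hz) (Submodule.smul_mem _ _ hy)
  have ha : LinearMap.range φ ⊔ J • (⊤ : Submodule B₀ Ω[B₀⁄R]) = ⊤ := by
    have hle : Submodule.span B₀ (Set.range (D R B₀)) ≤ W := by
      rw [Submodule.span_le]
      rintro _ ⟨y, rfl⟩
      exact hWall y
    rw [span_range_derivation] at hle
    exact eq_top_iff.mpr hle
  -- (b)
  obtain ⟨Lρ, hLρ1, hLρ2⟩ := exists_semilinear_lift (R := R) ε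
    ((D R A).toLinearMap ∘ₗ (ε.toLinearMap.restrictScalars R))
    (fun y z => by
      show D R A (ε (y * z)) = ε y • D R A (ε z) + ε z • D R A (ε y)
      rw [map_mul, Derivation.leibniz])
  obtain ⟨Lq, hLq1, hLq2⟩ := exists_semilinear_lift (R := R) ε (δ.restrictScalars R)
    (fun y z => hδm y z)
  have hkill : ∀ {N : Type u} [AddCommGroup N] [Module A N] (L : Ω[B₀⁄R] →+ N),
      (∀ (y : B₀) (ω : Ω[B₀⁄R]), L (y • ω) = ε y • L ω) → ∀ z ∈ JΩ, L z = 0 := by
    intro N _ _ L hL z hz
    refine Submodule.smul_induction_on hz ?_ ?_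
    · intro j hj ω _
      rw [hL, (hJ j).mp hj, zero_smul]
    · intro z₁ z₂ h₁ h₂
      rw [map_add, h₁, h₂, add_zero]
  have hLφ : ∀ {N : Type u} [AddCommGroup N] [Module A N] (L : Ω[B₀⁄R] →+ N),
      (∀ (y : B₀) (ω : Ω[B₀⁄R]), L (y • ω) = ε y • L ω) → ∀ v : Fin n → B₀,
      L (φ v) = ∑ i, ε (v i) • L (D R B₀ (b i)) := by
    intro N _ _ L hL v
    rw [hφ, map_sum]
    exact Finset.sum_congr rfl fun i _ => hL _ _
  have hb : ∀ v : Fin n → B₀, φ v ∈ J • (⊤ : Submodule B₀ Ω[B₀⁄R]) → ∀ i, v i ∈ J := by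
    intro v hv
    let c : Fin n → A := fun i => ε (v i)
    have h1 : pmap (R := R) x c = 0 := by
      have := hkill Lρ hLρ1 _ hv
      rw [hLφ Lρ hLρ1] at this
      rw [pmap_apply, ← this]
      refine Finset.sum_congr rfl fun i _ => ?_
      rw [hLρ2]
      show c i • D R A (x i) = ε (v i) • D R A (ε (b i))
      rw [hεb]
    have h2 : π c = 0 := by
      have := hkill Lq hLq1 _ hv
      rw [hLφ Lq hLq1] at this
      rw [hdecA c, ← this]
      refine Finset.sum_congr rfl fun i _ => ?_
      rw [hLq2]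
      show c i • π (e i) = ε (v i) • δ (b i)
      rw [hδb]
    have h3 : c = 0 := by
      have := congrArg (fun k : LinearMap.ker (pmap (R := R) x) => (k : Fin n → A)) h2
      simp only [hπval, h1, map_zero, sub_zero] at this
      exact this
    intro i
    exact (hJ _).mpr (congrFun h3 i)
  obtain ⟨g, hg1, hg2, hg3⟩ := exists_localizing_element J φ ha hb
  have hεg : ε g = 1 := by
    have := (hJ _).mp hg1
    rwa [map_sub, map_one, sub_eq_zero] at this
  refine ⟨g, hεg, ?_⟩
  obtain ⟨bB, hbB⟩ := exists_basis_of_localized (B := Localization.Away g) g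
    (KaehlerDifferential.map R R B₀ (Localization.Away g)) φ hg2 hg3
  have hsmB : Algebra.Smooth B₀ (Localization.Away g) := Algebra.Smooth.of_isLocalization_Away g
  have hsmRB : Algebra.Smooth R (Localization.Away g) := Algebra.Smooth.comp R B₀ _
  refine Algebra.IsStandardSmooth.of_basis_kaehlerDifferential bB ?_
  rintro _ ⟨i, rfl⟩
  refine ⟨algebraMap B₀ (Localization.Away g) (b i), ?_⟩
  rw [hbB, hφ]
  have : (∑ j, (Pi.single i (1 : B₀) : Fin n → B₀) j • D R B₀ (b j)) = D R B₀ (b i) := by
    rw [Finset.sum_eq_single i]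
    · rw [Pi.single_eq_same, one_smul]
    · intro j _ hji
      rw [Pi.single_eq_of_ne hji, zero_smul]
    · intro h
      exact absurd (Finset.mem_univ i) h
  rw [this, KaehlerDifferential.map_D]

end Main

section Final

variable {A : Type u} [CommRing A]

theorem ker_finite_projective {M N : Type u} [AddCommGroup M] [Module A M] [AddCommGroup N]
    [Module A N] [Module.Finite A M] [Module.Projective A M] (p : M →ₗ[A] N) (s : N →ₗ[A] M)
    (hs : ∀ ω, p (s ω) = ω) :
    Module.Finite A (LinearMap.ker p) ∧ Module.Projective A (LinearMap.ker p) := by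
  let π : M →ₗ[A] LinearMap.ker p :=
    (LinearMap.id - s ∘ₗ p).codRestrict (LinearMap.ker p) (fun v => by
      rw [LinearMap.mem_ker, LinearMap.sub_apply, map_sub, LinearMap.comp_apply, hs,
        LinearMap.id_apply, sub_self])
  have hπ : π ∘ₗ (LinearMap.ker p).subtype = LinearMap.id := by
    apply LinearMap.ext
    intro k
    apply Subtype.ext
    show (k : M) - s (p k) = k
    rw [LinearMap.mem_ker.mp k.2, map_zero, sub_zero]
  refine ⟨Module.Finite.of_surjective π ?_, Module.Projective.of_split _ π hπ⟩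
  intro k
  exact ⟨k, LinearMap.congr_fun hπ k⟩

/-- The "degree one part" of the symmetric algebra as an `ε`-derivation. -/
theorem exists_deriv' (K : Type u) [AddCommGroup K] [Module A K] :
    ∃ δ : SymmetricAlgebra A K →ₗ[A] K,
    (∀ m, δ (SymmetricAlgebra.ι A K m) = m) ∧
    (∀ a, δ (algebraMap A _ a) = 0) ∧
    ∀ y z, δ (y * z) = (SymmetricAlgebra.algebraMapInv y : A) • δ z +
      (SymmetricAlgebra.algebraMapInv z : A) • δ y := by
  let _ : Module Aᵐᵒᵖ K := Module.compHom _ ((RingHom.id A).fromOpposite mul_comm)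
  have : IsCentralScalar A K := ⟨fun r m => rfl⟩
  let Φ : SymmetricAlgebra A K →ₐ[A] TrivSqZeroExt A K :=
    SymmetricAlgebra.lift (TrivSqZeroExt.inrHom A K)
  have hfst : (TrivSqZeroExt.fstHom A A K).comp Φ = SymmetricAlgebra.algebraMapInv := by
    apply SymmetricAlgebra.algHom_ext
    apply LinearMap.ext
    intro m
    show TrivSqZeroExt.fst (Φ (SymmetricAlgebra.ι A K m)) =
      SymmetricAlgebra.algebraMapInv (SymmetricAlgebra.ι A K m)
    rw [SymmetricAlgebra.lift_ι_apply, SymmetricAlgebra.algebraMapInv_ι]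
    rfl
  have hfst' : ∀ y, TrivSqZeroExt.fst (Φ y) = SymmetricAlgebra.algebraMapInv y :=
    fun y => AlgHom.congr_fun hfst y
  refine ⟨(TrivSqZeroExt.sndHom A K) ∘ₗ Φ.toLinearMap, ?_, ?_, ?_⟩
  · intro m
    show TrivSqZeroExt.snd (Φ (SymmetricAlgebra.ι A K m)) = m
    rw [SymmetricAlgebra.lift_ι_apply]
    rfl
  · intro a
    show TrivSqZeroExt.snd (Φ (algebraMap A _ a)) = 0
    rw [AlgHom.commutes]
    rfl
  · intro y z
    show TrivSqZeroExt.snd (Φ (y * z)) = _
    rw [map_mul, TrivSqZeroExt.snd_mul, hfst', hfst']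
    rfl

theorem adjoin_range_ι (K : Type u) [AddCommGroup K] [Module A K] :
    Algebra.adjoin A (Set.range (SymmetricAlgebra.ι A K)) = ⊤ := by
  rw [eq_top_iff]
  intro y _
  induction y using SymmetricAlgebra.induction with
  | algebraMap r => exact Subalgebra.algebraMap_mem _ r
  | ι k => exact Algebra.subset_adjoin ⟨k, rfl⟩
  | mul a b ha hb => exact mul_mem (ha trivial) (hb trivial)
  | add a b ha hb => exact add_mem (ha trivial) (hb trivial)

variable {R : Type u} [CommRing R] [Algebra R A] [Algebra.Smooth R A]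

/-- A smooth algebra admits a smooth algebra over it with a retraction which is standard smooth
over the base. -/
theorem exists_smooth_retract_isStandardSmooth :
    ∃ (B : Type u) (_ : CommRing B) (_ : Algebra R B) (_ : Algebra A B) (_ : IsScalarTower R A B),
      Algebra.Smooth A B ∧ Nonempty (B →ₐ[A] A) ∧ Algebra.IsStandardSmooth R B := by
  obtain ⟨n, f, hf⟩ :=
    (Algebra.FiniteType.iff_quotient_mvPolynomial'' (R := R) (S := A)).mp inferInstance
  let x : Fin n → A := fun i => f (MvPolynomial.X i)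
  have hx : Algebra.adjoin R (Set.range x) = ⊤ := by
    have h1 : Set.range x = f '' Set.range MvPolynomial.X := by
      rw [← Set.range_comp]
      rfl
    rw [h1, ← AlgHom.map_adjoin, MvPolynomial.adjoin_range_X, Algebra.map_top]
    exact (AlgHom.range_eq_top f).mpr hf
  obtain ⟨s, hs⟩ := Module.projective_lifting_property (pmap (R := R) x) LinearMap.id
    (pmap_surjective x hx)
  have hs' : ∀ ω, pmap (R := R) x (s ω) = ω := fun ω => LinearMap.congr_fun hs ω
  obtain ⟨hKfin, hKproj⟩ := ker_finite_projective (pmap (R := R) x) s hs'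
  have hsm : Algebra.Smooth A (SymmetricAlgebra A (LinearMap.ker (pmap (R := R) x))) :=
    SymSmooth.smooth_of_finite_projective A _
  obtain ⟨δ, hδι, hδa, hδm⟩ := exists_deriv' (A := A) (LinearMap.ker (pmap (R := R) x))
  obtain ⟨g, hg, hstd⟩ := main_abstract (R := R) x hx s hs'
    (SymmetricAlgebra A (LinearMap.ker (pmap (R := R) x))) SymmetricAlgebra.algebraMapInv
    (SymmetricAlgebra.ι A _) δ (fun k => SymmetricAlgebra.algebraMapInv_ι k) hδι hδa hδm
    (adjoin_range_ι _)
  refine ⟨Localization.Away g, inferInstance, inferInstance, inferInstance, inferInstance,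
    ?_, ?_, hstd⟩
  · have : Algebra.Smooth (SymmetricAlgebra A (LinearMap.ker (pmap (R := R) x)))
        (Localization.Away g) := Algebra.Smooth.of_isLocalization_Away g
    exact Algebra.Smooth.comp A (SymmetricAlgebra A (LinearMap.ker (pmap (R := R) x))) _
  · have hu : IsUnit ((SymmetricAlgebra.algebraMapInv :
        SymmetricAlgebra A (LinearMap.ker (pmap (R := R) x)) →ₐ[A] A) g) := by
      rw [hg]; exact isUnit_one
    let r : Localization.Away g →+* A := IsLocalization.Away.lift g hu
    refine ⟨{ toRingHom := r, commutes' := fun a => ?_ }⟩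
    show r (algebraMap A (Localization.Away g) a) = a
    rw [IsScalarTower.algebraMap_apply A
      (SymmetricAlgebra A (LinearMap.ker (pmap (R := R) x))) (Localization.Away g)]
    show IsLocalization.Away.lift g hu (algebraMap _ _ (algebraMap A _ a)) = a
    rw [IsLocalization.Away.lift_eq]
    exact SymmetricAlgebra.algebraMap_leftInverse _ a

end Final

end Groth.Agent.H10.SmoothRetract
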