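import Mathlib
import Groth.Agent.S2023

/-!
# Lifting twice: ind-smoothness along square-zero flat deformations
-/

set_option autoImplicit false
universe u

namespace Groth.Agent.H10.LiftTwice

/-- In a square-zero situation, `I • (I B) = 0`. -/
theorem smul_eq_zero_of_mem {R B : Type*} [CommRing R] [CommRing B] [Algebra R B] (I : Ideal R)
    (hI : I ^ 2 = ⊥) {ε : R} (hε : ε ∈ I) {x : B} (hx : x ∈ I.map (algebraMap R B)) :
    ε • x = 0 := by
  have h1 : algebraMap R B ε * x ∈ I.map (algebraMap R B) * I.map (algebraMap R B) :=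
    Ideal.mul_mem_mul (Ideal.mem_map_of_mem _ hε) hx
  rw [← Ideal.map_mul, ← pow_two, hI, Ideal.map_bot, Ideal.mem_bot] at h1
  rw [Algebra.smul_def, h1]

/-- Strong form of "lift twice". -/
theorem lift_twice_strong {R Λ B : Type u} [CommRing R] [CommRing Λ] [Algebra R Λ] [Module.Flat R Λ]
    (I : Ideal R) (hI : I ^ 2 = ⊥) (h : Smoothing.IndSmooth (R ⧸ I) (Λ ⧸ I.map (algebraMap R Λ)))
    [CommRing B] [Algebra R B] [Algebra.Smooth R B] (φ : B →ₐ[R] Λ) (J : Ideal B)
    (hJ : J ≤ I.map (algebraMap R B)) (hJfg : J.FG) (hφJ : ∀ x ∈ J, φ x = 0) :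
    ∃ (B' : Type u) (_ : CommRing B') (_ : Algebra R B'), Algebra.Smooth R B' ∧
      ∃ (α : B →ₐ[R] B') (β : B' →ₐ[R] Λ), (∀ x ∈ J, α x = 0) ∧ β.comp α = φ := by
  classical
  obtain ⟨t, j, hj⟩ := Submodule.fg_iff_exists_fin_generating_family.mp hJfg
  have hjJ : ∀ s, j s ∈ J := fun s => hj ▸ Submodule.subset_span ⟨s, rfl⟩
  choose N c g hsum using fun s => Submodule.mem_span_set'.mp (hJ (hjJ s))
  let ε : (s : Fin t) → Fin (N s) → R := fun s k => (g s k).2.choose
  have hεI : ∀ s k, ε s k ∈ I := fun s k => (g s k).2.choose_spec.1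
  have hεB : ∀ s k, algebraMap R B (ε s k) = (g s k : B) := fun s k => (g s k).2.choose_spec.2
  have hj' : ∀ s, j s = ∑ k, ε s k • c s k := by
    intro s
    rw [← hsum s]
    refine Finset.sum_congr rfl (fun k _ => ?_)
    rw [← hεB, smul_eq_mul, Algebra.smul_def, mul_comm]
  -- the relation in Λ
  have hrel : ∀ s, ∑ k, ε s k • φ (c s k) = 0 := by
    intro s
    have := hφJ _ (hjJ s)
    rw [hj', map_sum] at this
    rw [← this]
    refine Finset.sum_congr rfl (fun k _ => ?_)
    rw [map_smul]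
  choose M a y hy ha using fun s => Module.Flat.isTrivialRelation_of_sum_smul_eq_zero (R := R) (M := Λ)
    (f := ε s) (x := fun k => φ (c s k)) (hrel s)
  replace hy : ∀ s i, φ (c s i) = ∑ l, a s i l • y s l := fun s i => hy s i
  -- the finitely presented algebra C
  let T := Σ s : Fin t, Fin (M s)
  let U := Σ s : Fin t, Fin (N s)
  let rel : U → MvPolynomial T B := fun u =>
    MvPolynomial.C (c u.1 u.2) -
      ∑ l, MvPolynomial.C (algebraMap R B (a u.1 u.2 l)) * MvPolynomial.X ⟨u.1, l⟩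
  let K : Ideal (MvPolynomial T B) := Ideal.span (Set.range rel)
  have hKfg : K.FG := ⟨(Set.finite_range rel).toFinset, by simp [K]⟩
  have hCfp : Algebra.FinitePresentation R (MvPolynomial T B ⧸ K) :=
    Algebra.FinitePresentation.quotient hKfg
  let _ : Algebra B Λ := φ.toRingHom.toAlgebra
  have : IsScalarTower R B Λ := .of_algebraMap_eq fun r => (φ.commutes r).symm
  let χ' : MvPolynomial T B →ₐ[R] Λ :=
    (MvPolynomial.aeval (fun x : T => y x.1 x.2) : MvPolynomial T B →ₐ[B] Λ).restrictScalars R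
  have hχ'C : ∀ x : B, χ' (MvPolynomial.C x) = φ x := fun x => MvPolynomial.aeval_C _ x
  have hχ'X : ∀ x : T, χ' (MvPolynomial.X x) = y x.1 x.2 := fun x => MvPolynomial.aeval_X _ x
  have hχ'K : ∀ z ∈ K, χ' z = 0 := by
    have hle : K ≤ RingHom.ker χ'.toRingHom := by
      rw [Ideal.span_le]
      rintro _ ⟨u, rfl⟩
      show χ' (rel u) = 0
      show χ' (MvPolynomial.C (c u.1 u.2) -
        ∑ l, MvPolynomial.C (algebraMap R B (a u.1 u.2 l)) * MvPolynomial.X (⟨u.1, l⟩ : T)) = 0
      rw [map_sub, map_sum, hχ'C, hy u.1 u.2, sub_eq_zero]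
      refine Finset.sum_congr rfl (fun l _ => ?_)
      rw [map_mul, hχ'C, hχ'X, AlgHom.commutes, Algebra.smul_def]
    exact fun z hz => hle hz
  let χ : (MvPolynomial T B ⧸ K) →ₐ[R] Λ := Ideal.Quotient.liftₐ K χ' hχ'K
  -- apply lift once
  obtain ⟨B₁, _, _, hB₁, J₁, hJ₁, -, g₁, k₁, hk₁⟩ := Groth.Agent.S2023.result I hI h χ
  have hJ₁sq : J₁ ^ 2 = ⊥ := by
    rw [eq_bot_iff]
    calc J₁ ^ 2 ≤ (I.map (algebraMap R B₁)) ^ 2 := Ideal.pow_right_mono hJ₁ 2
      _ = ⊥ := by rw [← Ideal.map_pow, hI, Ideal.map_bot]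
  let ιB : B →ₐ[R] MvPolynomial T B ⧸ K :=
    (Ideal.Quotient.mkₐ R K).comp (IsScalarTower.toAlgHom R B (MvPolynomial T B))
  obtain ⟨α, hα⟩ := Algebra.FormallySmooth.comp_surjective (R := R) (A := B) J₁ hJ₁sq
    (g₁.comp ιB)
  have hα' : ∀ b, Ideal.Quotient.mk J₁ (α b) = g₁ (ιB b) := fun b => AlgHom.congr_fun hα b
  refine ⟨B₁, inferInstance, inferInstance, hB₁, α, k₁.comp (Ideal.Quotient.mkₐ R J₁), ?_, ?_⟩
  · -- α kills J
    have hle : J ≤ RingHom.ker α.toRingHom := by
      rw [← hj]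
      show Ideal.span _ ≤ _
      rw [Ideal.span_le]
      rintro _ ⟨s, rfl⟩
      show α (j s) = 0
      choose ζ hζ using fun l : Fin (M s) => Ideal.Quotient.mk_surjective
        (g₁ (Ideal.Quotient.mk K (MvPolynomial.X (⟨s, l⟩ : T))))
      have h1 : ∀ k, α (c s k) - ∑ l, a s k l • ζ l ∈ I.map (algebraMap R B₁) := by
        intro k
        apply hJ₁
        rw [← Ideal.Quotient.eq, hα']
        have hrelK : Ideal.Quotient.mk K (rel ⟨s, k⟩) = 0 :=
          Ideal.Quotient.eq_zero_iff_mem.mpr (Ideal.subset_span ⟨⟨s, k⟩, rfl⟩)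
        have h2 : ιB (c s k) = ∑ l, a s k l • Ideal.Quotient.mk K (MvPolynomial.X (⟨s, l⟩ : T)) := by
          show Ideal.Quotient.mk K (algebraMap B (MvPolynomial T B) (c s k)) = _
          rw [MvPolynomial.algebraMap_eq]
          have h3 : rel ⟨s, k⟩ = MvPolynomial.C (c s k) -
            ∑ l, MvPolynomial.C (algebraMap R B (a s k l)) * MvPolynomial.X (⟨s, l⟩ : T) := rfl
          rw [h3, map_sub, sub_eq_zero] at hrelK
          rw [hrelK, map_sum]
          refine Finset.sum_congr rfl (fun l _ => ?_)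
          rw [← MvPolynomial.smul_eq_C_mul, algebraMap_smul]
          rfl
        rw [h2, map_sum, map_sum]
        refine Finset.sum_congr rfl (fun l _ => ?_)
        rw [map_smul, ← hζ l]
        rfl
      rw [hj', map_sum]
      have h4 : ∀ k, α (ε s k • c s k) = ε s k • ∑ l, a s k l • ζ l := by
        intro k
        rw [map_smul]
        have := smul_eq_zero_of_mem I hI (hεI s k) (h1 k)
        rw [smul_sub, sub_eq_zero] at this
        exact this
      simp only [h4, Finset.smul_sum, smul_smul]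
      rw [Finset.sum_comm]
      refine Finset.sum_eq_zero (fun l _ => ?_)
      rw [← Finset.sum_smul, ha s l, zero_smul]
    exact fun x hx => hle hx
  · apply AlgHom.ext
    intro b
    show k₁ (Ideal.Quotient.mk J₁ (α b)) = φ b
    rw [hα']
    show (k₁.comp g₁) (ιB b) = φ b
    rw [hk₁]
    show χ' (algebraMap B (MvPolynomial T B) b) = φ b
    rw [MvPolynomial.algebraMap_eq, hχ'C]

/-- Square-zero flat deformations of ind-smooth algebras are ind-smooth. -/
theorem indSmooth_of_sq_zero {R Λ : Type u} [CommRing R] [CommRing Λ] [Algebra R Λ]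
    [Module.Flat R Λ] (I : Ideal R) (hI : I ^ 2 = ⊥)
    (h : Smoothing.IndSmooth (R ⧸ I) (Λ ⧸ I.map (algebraMap R Λ))) :
    Smoothing.IndSmooth R Λ := by
  intro A _ _ hA f
  obtain ⟨B, _, _, hB, J, hJ, hJfg, g, k, hk⟩ := Groth.Agent.S2023.result I hI h f
  have hφJ : ∀ x ∈ J, (k.comp (Ideal.Quotient.mkₐ R J)) x = 0 := by
    intro x hx
    show k (Ideal.Quotient.mk J x) = 0
    rw [Ideal.Quotient.eq_zero_iff_mem.mpr hx, map_zero]
  obtain ⟨B', _, _, hB', α, β, hαJ, hβα⟩ :=
    lift_twice_strong I hI h (k.comp (Ideal.Quotient.mkₐ R J)) J hJ hJfg hφJ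
  refine ⟨B', inferInstance, inferInstance, hB', (Ideal.Quotient.liftₐ J α hαJ).comp g, β, ?_⟩
  have h1 : β.comp (Ideal.Quotient.liftₐ J α hαJ) = k := by
    apply AlgHom.ext
    intro x
    obtain ⟨b, rfl⟩ := Ideal.Quotient.mk_surjective x
    exact AlgHom.congr_fun hβα b
  rw [← AlgHom.comp_assoc, h1, hk]

/-- Transport of ind-smoothness along compatible ring isomorphisms. -/
theorem indSmooth_of_ringEquiv {R Λ R' Λ' : Type u} [CommRing R] [CommRing Λ] [Algebra R Λ]
    [CommRing R'] [CommRing Λ'] [Algebra R' Λ'] (e : R' ≃+* R) (e' : Λ' ≃+* Λ)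
    (hcomp : ∀ r', e' (algebraMap R' Λ' r') = algebraMap R Λ (e r'))
    (h : Smoothing.IndSmooth R Λ) : Smoothing.IndSmooth R' Λ' := by
  intro A' _ _ hA' f'
  let _ : Algebra R R' := e.symm.toRingHom.toAlgebra
  let _ : Algebra R A' := ((algebraMap R' A').comp e.symm.toRingHom).toAlgebra
  have : IsScalarTower R R' A' := .of_algebraMap_eq fun _ => rfl
  have hRR' : Algebra.FinitePresentation R R' :=
    Algebra.FinitePresentation.equiv (AlgEquiv.ofRingEquiv (f := e.symm) (fun r => rfl) : R ≃ₐ[R] R')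
  have hfp : Algebra.FinitePresentation R A' := Algebra.FinitePresentation.trans R R' A'
  let f : A' →ₐ[R] Λ :=
    { toRingHom := e'.toRingHom.comp f'.toRingHom
      commutes' := fun r => by
        show e' (f' (algebraMap R' A' (e.symm r))) = algebraMap R Λ r
        rw [f'.commutes, hcomp, e.apply_symm_apply] }
  obtain ⟨B, _, _, hB, g, k, hkg⟩ := h A' hfp f
  let _ : Algebra R' B := ((algebraMap R B).comp e.toRingHom).toAlgebra
  have : IsScalarTower R R' B := .of_algebraMap_eq fun r => by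
    show algebraMap R B r = algebraMap R B (e (e.symm r))
    rw [e.apply_symm_apply]
  have hunr : Algebra.FormallyUnramified R R' :=
    Algebra.FormallyUnramified.of_surjective (Algebra.ofId R R') e.symm.surjective
  have hsm : Algebra.Smooth R' B :=
    { formallySmooth := Algebra.FormallySmooth.of_restrictScalars (R := R) (A := R') (B := B)
      finitePresentation :=
        Algebra.FinitePresentation.of_restrict_scalars_finitePresentation (R := R) (A := R') (B := B) }
  let g' : A' →ₐ[R'] B :=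
    { toRingHom := g.toRingHom
      commutes' := fun r' => by
        show g (algebraMap R' A' r') = algebraMap R B (e r')
        rw [← g.commutes]
        show g (algebraMap R' A' r') = g (algebraMap R' A' (e.symm (e r')))
        rw [e.symm_apply_apply] }
  let k' : B →ₐ[R'] Λ' :=
    { toRingHom := e'.symm.toRingHom.comp k.toRingHom
      commutes' := fun r' => by
        show e'.symm (k (algebraMap R B (e r'))) = algebraMap R' Λ' r'
        rw [k.commutes, ← hcomp, e'.symm_apply_apply] }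
  refine ⟨B, inferInstance, inferInstance, hsm, g', k', ?_⟩
  apply AlgHom.ext
  intro a
  show e'.symm (k (g a)) = f' a
  have : k (g a) = e' (f' a) := AlgHom.congr_fun hkg a
  rw [this, e'.symm_apply_apply]

/-- Nilpotent flat deformations of ind-smooth algebras are ind-smooth. -/
theorem indSmooth_of_pow_eq_bot (n : ℕ) : ∀ (R Λ : Type u) [CommRing R] [CommRing Λ] [Algebra R Λ]
    [Module.Flat R Λ] (I : Ideal R), I ^ n = ⊥ →
    Smoothing.IndSmooth (R ⧸ I) (Λ ⧸ I.map (algebraMap R Λ)) → Smoothing.IndSmooth R Λ := by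
  induction n with
  | zero =>
    intro R Λ _ _ _ _ I hIn h
    have h2 : I ^ 2 = ⊥ := le_bot_iff.mp (hIn ▸ Ideal.pow_le_pow_right (Nat.zero_le 2))
    exact indSmooth_of_sq_zero I h2 h
  | succ m ih =>
    intro R Λ _ _ _ _ I hIn h
    by_cases hm : m + 1 ≤ 2
    · have h2 : I ^ 2 = ⊥ := le_bot_iff.mp (hIn ▸ Ideal.pow_le_pow_right hm)
      exact indSmooth_of_sq_zero I h2 h
    · push Not at hm
      let K : Ideal R := I ^ m
      have hK : K ^ 2 = ⊥ := by
        show (I ^ m) ^ 2 = ⊥
        rw [← pow_mul]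
        exact le_bot_iff.mp (hIn ▸ Ideal.pow_le_pow_right (by omega))
      have hKI : K ≤ I := Ideal.pow_le_self (by omega)
      apply indSmooth_of_sq_zero K hK
      have hflat : Module.Flat (R ⧸ K) (Λ ⧸ K.map (algebraMap R Λ)) :=
        Module.Flat.of_linearEquiv
          (Algebra.TensorProduct.quotIdealMapEquivQuotTensor Λ K).toLinearEquiv
      have hIm : (I.map (Ideal.Quotient.mk K)) ^ m = ⊥ := by
        rw [← Ideal.map_pow]
        exact Ideal.map_quotient_self K
      apply ih (R ⧸ K) (Λ ⧸ K.map (algebraMap R Λ)) (I.map (Ideal.Quotient.mk K)) hIm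
      have hKΛ : K.map (algebraMap R Λ) ≤ I.map (algebraMap R Λ) := Ideal.map_mono hKI
      have hideal : (I.map (Ideal.Quotient.mk K)).map
          (algebraMap (R ⧸ K) (Λ ⧸ K.map (algebraMap R Λ))) =
          (I.map (algebraMap R Λ)).map (Ideal.Quotient.mk (K.map (algebraMap R Λ))) := by
        rw [Ideal.map_map, Ideal.map_map]
        rfl
      refine indSmooth_of_ringEquiv (DoubleQuot.quotQuotEquivQuotOfLE hKI)
        ((Ideal.quotEquivOfEq hideal).trans (DoubleQuot.quotQuotEquivQuotOfLE hKΛ)) ?_ h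
      intro x
      obtain ⟨x₁, rfl⟩ := Ideal.Quotient.mk_surjective x
      obtain ⟨r, rfl⟩ := Ideal.Quotient.mk_surjective x₁
      rfl

end Groth.Agent.H10.LiftTwice
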