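import Mathlib
import Groth.Agent.S2022
import Groth.Agent.H44.RegEnd

/-!
# Ind-smoothness over an Artinian local base: flat + separable closed fibre (helper10)
-/

set_option autoImplicit false
set_option linter.style.haveILetI false
universe u

namespace Groth.Agent.H10.InsepArt

open TensorProduct

/-- Let `R → Λ` be flat, `ρ : R ↠ κ`, `ρ' : Λ ↠ L` surjections onto fields with `ker ρ` nilpotent,
`(ker ρ) Λ = ker ρ'`, and `L/κ` separable (geometrically reduced). Then `Λ` is ind-smooth over `R`. -/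
theorem indSmooth_of_flat_artinian {R Λ κ L : Type u} [CommRing R] [CommRing Λ] [Algebra R Λ]
    [Module.Flat R Λ] [Field κ] [Field L] [Algebra κ L] [Algebra.IsGeometricallyReduced κ L]
    (ρ : R →+* κ) (hρ : Function.Surjective ρ) (hnil : IsNilpotent (RingHom.ker ρ))
    (ρ' : Λ →+* L) (hρ' : Function.Surjective ρ')
    (hker : (RingHom.ker ρ).map (algebraMap R Λ) = RingHom.ker ρ')
    (hcomm : ∀ r, ρ' (algebraMap R Λ r) = algebraMap κ L (ρ r)) : Smoothing.IndSmooth R Λ := by
  refine Groth.Agent.S2022.result (RingHom.ker ρ) hnil ?_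
  let e : κ ≃+* R ⧸ RingHom.ker ρ := (RingHom.quotientKerEquivOfSurjective hρ).symm
  let eΛ : L ≃+* Λ ⧸ (RingHom.ker ρ).map (algebraMap R Λ) :=
    ((RingHom.quotientKerEquivOfSurjective hρ').symm).trans (Ideal.quotEquivOfEq hker.symm)
  refine Groth.Agent.H44.RegEnd.indSmooth_of_equiv e eΛ ?_
    (Groth.Agent.H44.RegEnd.indSmooth_field (k := κ) (K := L))
  intro c
  obtain ⟨r, rfl⟩ := hρ c
  have h1 : e (ρ r) = Ideal.Quotient.mk _ r := by
    show (RingHom.quotientKerEquivOfSurjective hρ).symm (ρ r) = _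
    rw [RingEquiv.symm_apply_eq]
    rfl
  rw [h1, ← hcomm]
  have h2 : (RingHom.quotientKerEquivOfSurjective hρ').symm (ρ' (algebraMap R Λ r)) =
      Ideal.Quotient.mk _ (algebraMap R Λ r) := by
    rw [RingEquiv.symm_apply_eq]
    rfl
  show Ideal.quotEquivOfEq hker.symm
    ((RingHom.quotientKerEquivOfSurjective hρ').symm (ρ' (algebraMap R Λ r))) = _
  rw [h2, Ideal.quotEquivOfEq_mk]
  rfl

end Groth.Agent.H10.InsepArt
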