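import Mathlib
import Groth.Agent.H3.Sep3

/-!
# The reduced problem in the inseparable case: abstract factorization through a smooth algebra
(helper10)
-/

set_option autoImplicit false
set_option linter.style.haveILetI false
universe u

namespace Groth.Agent.H10.InsepRed

open MvPolynomial TensorProduct Groth.Agent.H3.Sep

section BB

variable (k A : Type u) [CommRing k] [CommRing A] [Algebra k A] (d r n : ℕ) (a : Fin r → A)

/-- the generator `z_ij` of `BB`. -/
noncomputable def zz (i : Fin d) (j : Fin r) : BB k A d r n a :=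
  Ideal.Quotient.mk _ (X (finProdFinEquiv (i, j)))

theorem mk_C_tmul (x : MvPolynomial (Fin d) k) (y : A) :
    (Ideal.Quotient.mk (Ideal.span (Set.range (relT d r (uu k A d n) (aa k A d r a))))
      (C (x ⊗ₜ[k] y)) : BB k A d r n a) =
      algebraMap (MvPolynomial (Fin d) k) (BB k A d r n a) x * ιA k A d r n a y := by
  have h1 : algebraMap (MvPolynomial (Fin d) k) (BB k A d r n a) x =
      Ideal.Quotient.mk _ (C (x ⊗ₜ[k] (1 : A))) := by
    rw [IsScalarTower.algebraMap_apply (MvPolynomial (Fin d) k)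
      (MvPolynomial (Fin d) k ⊗[k] A) (BB k A d r n a), Algebra.TensorProduct.algebraMap_apply]
    rfl
  have h2 : ιA k A d r n a y = Ideal.Quotient.mk _ (C ((1 : MvPolynomial (Fin d) k) ⊗ₜ[k] y)) := rfl
  rw [h1, h2, ← map_mul, ← C_mul, Algebra.TensorProduct.tmul_mul_tmul, mul_one, one_mul]

theorem BB_ext {L : Type u} [CommRing L] [Algebra (MvPolynomial (Fin d) k) L]
    (f g : BB k A d r n a →ₐ[MvPolynomial (Fin d) k] L)
    (h1 : ∀ x, f (ιA k A d r n a x) = g (ιA k A d r n a x))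
    (h2 : ∀ i j, f (zz k A d r n a i j) = g (zz k A d r n a i j)) : f = g := by
  apply AlgHom.coe_ringHom_injective
  apply Ideal.Quotient.ringHom_ext
  apply MvPolynomial.ringHom_ext
  · intro t
    show f (Ideal.Quotient.mk _ (C t)) = g (Ideal.Quotient.mk _ (C t))
    induction t using TensorProduct.induction_on with
    | zero => simp
    | tmul x y =>
      rw [mk_C_tmul, map_mul, map_mul, AlgHom.commutes, AlgHom.commutes, h1]
    | add s t hs ht => rw [C_add, map_add, map_add, map_add, hs, ht]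
  · intro s
    obtain ⟨⟨i, j⟩, rfl⟩ := finProdFinEquiv.surjective s
    exact h2 i j

/-- The map `B → L` with its values on the generators. -/
theorem exists_lift' {L : Type u} [CommRing L] [Algebra k L] [Algebra (MvPolynomial (Fin d) k) L]
    [IsScalarTower k (MvPolynomial (Fin d) k) L] (φ : A →ₐ[k] L) (lam : Fin d → Fin r → L)
    (h : ∀ i, algebraMap (MvPolynomial (Fin d) k) L (X i) ^ n = ∑ j, φ (a j) * lam i j) :
    ∃ β : BB k A d r n a →ₐ[MvPolynomial (Fin d) k] L, (∀ x, β (ιA k A d r n a x) = φ x) ∧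
      ∀ i j, β (zz k A d r n a i j) = lam i j := by
  let ψT : MvPolynomial (Fin d) k ⊗[k] A →ₐ[MvPolynomial (Fin d) k] L :=
    Algebra.TensorProduct.lift (Algebra.ofId (MvPolynomial (Fin d) k) L) φ
      (fun _ _ => Commute.all _ _)
  letI : Algebra (MvPolynomial (Fin d) k ⊗[k] A) L := ψT.toRingHom.toAlgebra
  haveI : IsScalarTower (MvPolynomial (Fin d) k) (MvPolynomial (Fin d) k ⊗[k] A) L :=
    IsScalarTower.of_algebraMap_eq fun x => (ψT.commutes x).symm
  have hψ : ∀ t, algebraMap (MvPolynomial (Fin d) k ⊗[k] A) L t = ψT t := fun _ => rfl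
  have hl : ∀ i, algebraMap (MvPolynomial (Fin d) k ⊗[k] A) L (uu k A d n i) =
      ∑ j, algebraMap (MvPolynomial (Fin d) k ⊗[k] A) L (aa k A d r a j) * lam i j := by
    intro i
    rw [hψ]
    show ψT ((X i ^ n) ⊗ₜ 1) = _
    rw [Algebra.TensorProduct.lift_tmul, map_one, mul_one, Algebra.ofId_apply, map_pow, h i]
    refine Finset.sum_congr rfl fun j _ => ?_
    rw [hψ]
    show _ = ψT (1 ⊗ₜ a j) * _
    rw [Algebra.TensorProduct.lift_tmul, map_one, one_mul]
  refine ⟨(liftBT d r (uu k A d n) (aa k A d r a) lam hl).restrictScalars _, fun x => ?_,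
    fun i j => ?_⟩
  · show liftBT d r (uu k A d n) (aa k A d r a) lam hl (ιA k A d r n a x) = φ x
    rw [ιA_apply, AlgHom.commutes, hψ]
    show ψT (1 ⊗ₜ x) = _
    rw [Algebra.TensorProduct.lift_tmul, map_one, one_mul]
  · exact liftBT_mk_X d r (uu k A d n) (aa k A d r a) lam hl i j

end BB

section reduced

variable {k A : Type u} [Field k] [CommRing A] [Algebra k A] [Algebra.FinitePresentation k A]
  {d r : ℕ} (N : ℕ) (a : Fin r → A)

theorem finitePresentation_BT {Pb : Type u} [CommRing Pb] [Algebra k Pb]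
    (u₀ : Fin d → Pb ⊗[k] A) (a₀ : Fin r → Pb ⊗[k] A) :
    Algebra.FinitePresentation Pb (BT d r u₀ a₀) := by
  have h1 : Algebra.FinitePresentation Pb (Pb ⊗[k] A) := inferInstance
  have h2 : Algebra.FinitePresentation (Pb ⊗[k] A) (MvPolynomial (Fin (d * r)) (Pb ⊗[k] A)) :=
    inferInstance
  haveI : Algebra.FinitePresentation Pb (MvPolynomial (Fin (d * r)) (Pb ⊗[k] A)) :=
    @Algebra.FinitePresentation.trans Pb (Pb ⊗[k] A)
      (MvPolynomial (Fin (d * r)) (Pb ⊗[k] A)) _ _ _ _ _ _ _ h1 h2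
  exact Algebra.FinitePresentation.quotient ((Submodule.fg_span (Set.finite_range _)))

theorem reduced_abstract
    {Pb Rb Sb Ab : Type u} [CommRing Pb] [CommRing Rb] [CommRing Sb] [CommRing Ab]
    [Algebra k Pb] [Algebra Pb Rb] [Algebra k Rb] [IsScalarTower k Pb Rb]
    [Algebra Rb Sb] [Algebra Pb Sb] [IsScalarTower Pb Rb Sb]
    [Algebra Pb Ab] [Algebra k Ab] [IsScalarTower k Pb Ab]
    (ι : Ab →ₐ[Pb] Sb) (hind : Smoothing.IndSmooth Pb Ab)
    (πb : Fin d → Pb) (tb : Fin d → Rb)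
    [Algebra (MvPolynomial (Fin d) k) Rb] [IsScalarTower k (MvPolynomial (Fin d) k) Rb]
    (hX : ∀ i, algebraMap (MvPolynomial (Fin d) k) Rb (X i) = algebraMap Pb Rb (πb i) * tb i)
    [Algebra (MvPolynomial (Fin d) k) Sb] [IsScalarTower (MvPolynomial (Fin d) k) Rb Sb]
    (φA : A →ₐ[k] Ab) (dd : Fin d → Fin r → Ab)
    (hdd : ∀ i, algebraMap Pb Ab (πb i) ^ N = ∑ j, φA (a j) * dd i j)
    (βb : BB k A d r N a →ₐ[MvPolynomial (Fin d) k] Sb)
    (hβ1 : ∀ x, βb (ιA k A d r N a x) = ι (φA x))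
    (hβ2 : ∀ i j, βb (zz k A d r N a i j) = algebraMap Rb Sb (tb i) ^ N * ι (dd i j)) :
    ∃ (B' : Type u) (_ : CommRing B') (_ : Algebra Rb B'), Algebra.Smooth Rb B' ∧
      ∃ (G : BB k A d r N a →+* B') (H : B' →ₐ[Rb] Sb),
        (∀ x : MvPolynomial (Fin d) k,
          G (algebraMap (MvPolynomial (Fin d) k) (BB k A d r N a) x) =
          algebraMap Rb B' (algebraMap (MvPolynomial (Fin d) k) Rb x)) ∧
        ∀ b, H (G b) = βb b := by
  classical
  -- the finitely presented `Pb`-algebra `M₀`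
  let u₀ : Fin d → Pb ⊗[k] A := fun i => (πb i ^ N) ⊗ₜ 1
  let a₀ : Fin r → Pb ⊗[k] A := fun j => 1 ⊗ₜ a j
  haveI hfpM : Algebra.FinitePresentation Pb (BT d r u₀ a₀) := finitePresentation_BT u₀ a₀
  let θT : Pb ⊗[k] A →ₐ[Pb] Ab :=
    Algebra.TensorProduct.lift (Algebra.ofId Pb Ab) φA (fun _ _ => Commute.all _ _)
  letI algTA : Algebra (Pb ⊗[k] A) Ab := θT.toRingHom.toAlgebra
  haveI : IsScalarTower Pb (Pb ⊗[k] A) Ab :=
    IsScalarTower.of_algebraMap_eq fun x => (θT.commutes x).symm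
  have hθ : ∀ t, algebraMap (Pb ⊗[k] A) Ab t = θT t := fun _ => rfl
  have hl : ∀ i, algebraMap (Pb ⊗[k] A) Ab (u₀ i) =
      ∑ j, algebraMap (Pb ⊗[k] A) Ab (a₀ j) * dd i j := by
    intro i
    rw [hθ]
    show θT ((πb i ^ N) ⊗ₜ 1) = _
    rw [Algebra.TensorProduct.lift_tmul, map_one, mul_one, Algebra.ofId_apply, map_pow, hdd i]
    refine Finset.sum_congr rfl fun j _ => ?_
    rw [hθ]
    show _ = θT (1 ⊗ₜ a j) * _
    rw [Algebra.TensorProduct.lift_tmul, map_one, one_mul]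
  let θ : BT d r u₀ a₀ →ₐ[Pb] Ab := (liftBT d r u₀ a₀ dd hl).restrictScalars Pb
  have hθz : ∀ i j, θ (Ideal.Quotient.mk _ (X (finProdFinEquiv (i, j)))) = dd i j :=
    fun i j => liftBT_mk_X d r u₀ a₀ dd hl i j
  have hθa : ∀ y : A, θ (Ideal.Quotient.mk _ (C ((1 : Pb) ⊗ₜ[k] y))) = φA y := by
    intro y
    show liftBT d r u₀ a₀ dd hl (algebraMap (Pb ⊗[k] A) (BT d r u₀ a₀) (1 ⊗ₜ y)) = _
    rw [AlgHom.commutes, hθ]
    show θT (1 ⊗ₜ y) = _
    rw [Algebra.TensorProduct.lift_tmul, map_one, one_mul]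
  obtain ⟨G₀, _, _, hsm, g₀, h₀, hgh⟩ := hind (BT d r u₀ a₀) hfpM θ
  haveI := hsm
  have hgh' : ∀ m, h₀ (g₀ m) = θ m := fun m => AlgHom.congr_fun hgh m
  -- the smooth algebra
  have hXB' : ∀ x, algebraMap (MvPolynomial (Fin d) k) (Rb ⊗[Pb] G₀) x =
      algebraMap Rb (Rb ⊗[Pb] G₀) (algebraMap (MvPolynomial (Fin d) k) Rb x) := by
    intro x
    rw [Algebra.TensorProduct.algebraMap_apply, Algebra.TensorProduct.algebraMap_apply,
      Algebra.algebraMap_self, RingHom.id_apply]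
  -- `A → B'`
  letI algkG₀ : Algebra k G₀ := ((algebraMap Pb G₀).comp (algebraMap k Pb)).toAlgebra
  haveI : IsScalarTower k Pb G₀ := IsScalarTower.of_algebraMap_eq fun _ => rfl
  let φ₀ : A →+* G₀ :=
    g₀.toRingHom.comp ((Ideal.Quotient.mk _).comp
      ((C : Pb ⊗[k] A →+* MvPolynomial (Fin (d * r)) (Pb ⊗[k] A)).comp
        (Algebra.TensorProduct.includeRight : A →ₐ[k] Pb ⊗[k] A).toRingHom))
  have hφ₀ : ∀ y, φ₀ y = g₀ (Ideal.Quotient.mk _ (C ((1 : Pb) ⊗ₜ[k] y))) := fun _ => rfl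
  have key : ∀ q : Pb, (1 : Rb) ⊗ₜ[Pb] algebraMap Pb G₀ q =
      (algebraMap Pb Rb q) ⊗ₜ[Pb] (1 : G₀) := by
    intro q
    rw [Algebra.algebraMap_eq_smul_one, Algebra.algebraMap_eq_smul_one, TensorProduct.smul_tmul]
  have key2 : ∀ (q : Pb) (t : Rb), (algebraMap Pb Rb q * t) ⊗ₜ[Pb] (1 : G₀) =
      t ⊗ₜ[Pb] algebraMap Pb G₀ q := by
    intro q t
    rw [← Algebra.smul_def, TensorProduct.smul_tmul, Algebra.algebraMap_eq_smul_one]
  have hmkC : ∀ q : Pb, (Ideal.Quotient.mk (Ideal.span (Set.range (relT d r u₀ a₀)))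
      (C (algebraMap Pb (Pb ⊗[k] A) q)) : BT d r u₀ a₀) = algebraMap Pb (BT d r u₀ a₀) q :=
    fun _ => rfl
  let φL : A →ₐ[k] Rb ⊗[Pb] G₀ :=
    { toRingHom := (Algebra.TensorProduct.includeRight :
        G₀ →ₐ[Pb] Rb ⊗[Pb] G₀).toRingHom.comp φ₀
      commutes' := by
        intro c
        show (1 : Rb) ⊗ₜ[Pb] φ₀ (algebraMap k A c) = algebraMap k (Rb ⊗[Pb] G₀) c
        have h1 : ((1 : Pb) ⊗ₜ[k] algebraMap k A c : Pb ⊗[k] A) =
            algebraMap Pb (Pb ⊗[k] A) (algebraMap k Pb c) := by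
          rw [Algebra.TensorProduct.algebraMap_apply, Algebra.algebraMap_self, RingHom.id_apply,
            Algebra.algebraMap_eq_smul_one, Algebra.algebraMap_eq_smul_one, TensorProduct.smul_tmul]
        rw [hφ₀, h1, hmkC, AlgHom.commutes, key, Algebra.TensorProduct.algebraMap_apply,
          ← IsScalarTower.algebraMap_apply k Pb Rb] }
  have hφL : ∀ y, φL y = (1 : Rb) ⊗ₜ[Pb] φ₀ y := fun _ => rfl
  let lamL : Fin d → Fin r → Rb ⊗[Pb] G₀ := fun i j =>
    (tb i ^ N) ⊗ₜ[Pb] g₀ (Ideal.Quotient.mk _ (X (finProdFinEquiv (i, j))))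
  have hrel : ∀ i, algebraMap (MvPolynomial (Fin d) k) (Rb ⊗[Pb] G₀) (X i) ^ N =
      ∑ j, φL (a j) * lamL i j := by
    intro i
    rw [hXB', hX, Algebra.TensorProduct.algebraMap_apply, Algebra.algebraMap_self, RingHom.id_apply,
      Algebra.TensorProduct.tmul_pow, one_pow, mul_pow, ← map_pow]
    rw [key2]
    have h2 : algebraMap Pb G₀ (πb i ^ N) = g₀ (Ideal.Quotient.mk _ (C (u₀ i))) := by
      have : (Ideal.Quotient.mk (Ideal.span (Set.range (relT d r u₀ a₀))) (C (u₀ i)) :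
          BT d r u₀ a₀) = algebraMap Pb (BT d r u₀ a₀) (πb i ^ N) := by
        rw [← hmkC, Algebra.TensorProduct.algebraMap_apply, Algebra.algebraMap_self,
          RingHom.id_apply]
      rw [this, AlgHom.commutes]
    rw [h2, mk_C_u, map_sum, TensorProduct.tmul_sum]
    refine Finset.sum_congr rfl fun j _ => ?_
    rw [map_mul, hφL, hφ₀]
    show _ = ((1 : Rb) ⊗ₜ[Pb] g₀ (Ideal.Quotient.mk _ (C (a₀ j)))) * ((tb i ^ N) ⊗ₜ[Pb] _)
    rw [Algebra.TensorProduct.tmul_mul_tmul, one_mul]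
  obtain ⟨G, hG1, hG2⟩ := exists_lift' k A d r N a φL lamL hrel
  -- `B' → Sb`
  let H : Rb ⊗[Pb] G₀ →ₐ[Rb] Sb :=
    Algebra.TensorProduct.lift (Algebra.ofId Rb Sb) (ι.comp h₀) (fun _ _ => Commute.all _ _)
  have hHX : ∀ x : MvPolynomial (Fin d) k, H (algebraMap _ (Rb ⊗[Pb] G₀) x) =
      algebraMap _ Sb x := by
    intro x
    rw [hXB', AlgHom.commutes, ← IsScalarTower.algebraMap_apply]
  let HX : Rb ⊗[Pb] G₀ →ₐ[MvPolynomial (Fin d) k] Sb :=
    { H.toRingHom with commutes' := hHX }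
  have hfin : HX.comp G = βb := by
    apply BB_ext
    · intro y
      show H (G (ιA k A d r N a y)) = _
      rw [hG1, hφL, hβ1]
      show Algebra.TensorProduct.lift _ _ _ _ = _
      rw [Algebra.TensorProduct.lift_tmul, map_one, one_mul, hφ₀]
      show ι (h₀ (g₀ _)) = _
      rw [hgh', hθa]
    · intro i j
      show H (G (zz k A d r N a i j)) = _
      rw [hG2, hβ2]
      show Algebra.TensorProduct.lift _ _ _ _ = _
      rw [Algebra.TensorProduct.lift_tmul, Algebra.ofId_apply, map_pow]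
      show _ * ι (h₀ (g₀ _)) = _
      rw [hgh', hθz]
  refine ⟨Rb ⊗[Pb] G₀, inferInstance, inferInstance, inferInstance, G.toRingHom, H, ?_, ?_⟩
  · intro x
    show G (algebraMap _ _ x) = _
    rw [AlgHom.commutes]
    rfl
  · intro b
    exact AlgHom.congr_fun hfin b

end reduced

end Groth.Agent.H10.InsepRed
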