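import Mathlib
import Groth.Agent.H3.Sep6

/-!
# Zero-dimensional delocalization with an explicit smooth factorization (helper10)
-/

set_option autoImplicit false
set_option linter.style.haveILetI false
universe u

namespace Groth.Agent.H10.InsepW

open TensorProduct Groth.Agent.H3.Sep

theorem resolvable_of_smooth_factor {R A Λ Rₚ Λq B' : Type u} [CommRing R] [IsNoetherianRing R]
    [CommRing A] [Algebra R A] [Algebra.FinitePresentation R A] [CommRing Λ] [Algebra R Λ]
    (φ : A →ₐ[R] Λ) (𝔮 : Ideal Λ) [𝔮.IsPrime]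
    [CommRing Rₚ] [Algebra R Rₚ] [IsLocalization.AtPrime Rₚ (𝔮.comap (algebraMap R Λ))]
    [CommRing Λq] [Algebra Λ Λq] [IsLocalization.AtPrime Λq 𝔮] [Algebra R Λq] [IsScalarTower R Λ Λq]
    [Algebra Rₚ Λq] [IsScalarTower R Rₚ Λq] (hdim : ringKrullDim Λq = 0)
    [CommRing B'] [Algebra Rₚ B'] [Algebra.Smooth Rₚ B'] [Algebra R B'] [IsScalarTower R Rₚ B']
    (g : A →ₐ[R] B') (h : B' →ₐ[Rₚ] Λq) (hgh : ∀ a, h (g a) = algebraMap Λ Λq (φ a)) :
    Smoothing.Resolvable R φ 𝔮 := by
  by_cases hle : Smoothing.singRad R φ ≤ 𝔮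
  · have hht : 𝔮.height = 0 := by
      have h1 := IsLocalization.AtPrime.ringKrullDim_eq_height 𝔮 Λq
      rw [hdim] at h1
      exact_mod_cast h1.symm
    have hminΛ : 𝔮 ∈ minimalPrimes Λ := Ideal.height_eq_zero_iff.mp hht
    have hmin : 𝔮 ∈ (Smoothing.singRad R φ).minimalPrimes := by
      refine ⟨⟨inferInstance, hle⟩, fun p hp hpq => ?_⟩
      exact hminΛ.2 ⟨hp.1, bot_le⟩ hpq
    refine Groth.Agent.S2034.result (Rₚ := Rₚ) (Λq := Λq) φ 𝔮 hmin hdim ?_
    haveI : IsLocalRing Λq := IsLocalization.AtPrime.isLocalRing Λq 𝔮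
    have h𝔮 : 𝔮.map (algebraMap Λ Λq) ≠ ⊤ := by
      rw [IsLocalization.AtPrime.map_eq_maximalIdeal 𝔮 Λq]
      exact (IsLocalRing.maximalIdeal.isMaximal Λq).ne_top
    let g' : Rₚ ⊗[R] A →ₐ[Rₚ] B' :=
      Algebra.TensorProduct.lift (Algebra.ofId Rₚ B') g (fun _ _ => Commute.all _ _)
    refine ⟨B', inferInstance, inferInstance,
      (inferInstance : Algebra.Smooth Rₚ B').finitePresentation, g', h, ?_, ?_, ?_⟩
    · apply AlgHom.ext
      intro x
      induction x using TensorProduct.induction_on with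
      | zero => simp
      | tmul r a =>
        show h (g' (r ⊗ₜ a)) = _
        rw [Algebra.TensorProduct.lift_tmul, Algebra.TensorProduct.lift_tmul, map_mul, hgh,
          Algebra.ofId_apply, Algebra.ofId_apply, AlgHom.commutes]
        rfl
      | add x y hx hy => rw [map_add, map_add, hx, hy]
    · unfold Smoothing.singRad
      rw [singularIdeal_eq_top (R := Rₚ) (B := B'), Ideal.map_top, Ideal.radical_top]
      exact le_top
    · unfold Smoothing.singRad
      rw [singularIdeal_eq_top (R := Rₚ) (B := B'), Ideal.map_top, Ideal.radical_top]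
      intro hle'
      exact h𝔮 (top_le_iff.mp hle')
  · exact ⟨A, inferInstance, inferInstance, inferInstance, AlgHom.id R A, φ, AlgHom.comp_id φ,
      le_rfl, hle⟩

end Groth.Agent.H10.InsepW
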