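import Mathlib
import Groth.Agent.H10.InsepRed
import Groth.Agent.H10.InsepW
import Groth.Agent.H3.Sep8
import Groth.Agent.H44.ResStep2

/-!
# The reduced problem in the inseparable case: localized base (helper10)
-/

set_option autoImplicit false
set_option linter.style.haveILetI false
universe u

namespace Groth.Agent.H10.InsepRedC

open MvPolynomial TensorProduct Groth.Agent.H3.Sep Groth.Agent.H10.InsepRed

/-- pigeonhole: a high power of a finitely generated ideal lies in the ideal of powers. -/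
theorem span_image_pow_le {R : Type u} [CommRing R] {ι : Type*} [DecidableEq ι] (s : Finset ι)
    (x : ι → R) (e : ℕ) :
    Ideal.span (x '' (s : Set ι)) ^ (s.card * e + 1) ≤
      Ideal.span ((fun i => x i ^ e) '' (s : Set ι)) := by
  induction s using Finset.induction_on with
  | empty => simp
  | insert b s hb ih =>
    rw [Finset.card_insert_of_notMem hb, Finset.coe_insert, Set.image_insert_eq,
      Set.image_insert_eq, Ideal.span_insert, Ideal.span_insert]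
    have h1 : (s.card + 1) * e + 1 = e + (s.card * e + 1) := by ring
    rw [h1]
    refine le_trans (Ideal.sup_pow_add_le_pow_sup_pow) ?_
    refine sup_le_sup ?_ ih
    rw [Ideal.span_singleton_pow]

theorem span_range_pow_le {R : Type u} [CommRing R] {d : ℕ} (x : Fin d → R) (e : ℕ) :
    Ideal.span (Set.range x) ^ (d * e + 1) ≤ Ideal.span (Set.range fun i => x i ^ e) := by
  classical
  have := span_image_pow_le (Finset.univ : Finset (Fin d)) x e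
  simpa using this

/-- A smooth factorization over the localized reduced base resolves the reduced problem. -/
theorem resolvable_quot_of_smooth_factor {R₀ C' Λ : Type u} [CommRing R₀] [IsNoetherianRing R₀]
    [CommRing C'] [Algebra R₀ C'] [Algebra.FinitePresentation R₀ C'] [CommRing Λ] [Algebra R₀ Λ]
    (ψ : C' →ₐ[R₀] Λ) (K : Ideal R₀) (𝔮₁ : Ideal (Λ ⧸ K.map (algebraMap R₀ Λ))) [𝔮₁.IsPrime]
    {Rb Sb B' : Type u} [CommRing Rb] [Algebra (R₀ ⧸ K) Rb]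
    [IsLocalization.AtPrime Rb (𝔮₁.comap (algebraMap (R₀ ⧸ K) (Λ ⧸ K.map (algebraMap R₀ Λ))))]
    [CommRing Sb] [Algebra (Λ ⧸ K.map (algebraMap R₀ Λ)) Sb] [IsLocalization.AtPrime Sb 𝔮₁]
    [Algebra (R₀ ⧸ K) Sb] [IsScalarTower (R₀ ⧸ K) (Λ ⧸ K.map (algebraMap R₀ Λ)) Sb]
    [Algebra Rb Sb] [IsScalarTower (R₀ ⧸ K) Rb Sb] (hdim : ringKrullDim Sb = 0)
    [CommRing B'] [Algebra Rb B'] [Algebra.Smooth Rb B'] (g₀ : C' →+* B')
    (hg₀ : ∀ x : R₀, g₀ (algebraMap R₀ C' x) =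
      algebraMap Rb B' (algebraMap (R₀ ⧸ K) Rb (Ideal.Quotient.mk K x)))
    (h : B' →ₐ[Rb] Sb)
    (hgh : ∀ c, h (g₀ c) = algebraMap (Λ ⧸ K.map (algebraMap R₀ Λ)) Sb (Ideal.Quotient.mk _ (ψ c))) :
    Smoothing.Resolvable (R₀ ⧸ K) (quotMapK ψ K) 𝔮₁ := by
  letI algR₁B' : Algebra (R₀ ⧸ K) B' :=
    ((algebraMap Rb B').comp (algebraMap (R₀ ⧸ K) Rb)).toAlgebra
  haveI : IsScalarTower (R₀ ⧸ K) Rb B' := IsScalarTower.of_algebraMap_eq fun _ => rfl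
  haveI : Algebra.FinitePresentation (R₀ ⧸ K) (C' ⧸ K.map (algebraMap R₀ C')) :=
    Groth.Agent.H44.ResStep2.finitePresentation_quot K
  have hker : ∀ x ∈ K.map (algebraMap R₀ C'), g₀ x = 0 := by
    intro x hx
    have hle : K.map (algebraMap R₀ C') ≤ RingHom.ker g₀ := by
      rw [Ideal.map_le_iff_le_comap]
      intro y hy
      show g₀ (algebraMap R₀ C' y) = 0
      rw [hg₀, Ideal.Quotient.eq_zero_iff_mem.mpr hy, map_zero, map_zero]
    exact hle hx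
  let g : (C' ⧸ K.map (algebraMap R₀ C')) →ₐ[R₀ ⧸ K] B' :=
    { toRingHom := Ideal.Quotient.lift (K.map (algebraMap R₀ C')) g₀ hker
      commutes' := by
        intro s
        obtain ⟨p, rfl⟩ := Ideal.Quotient.mk_surjective s
        show Ideal.Quotient.lift (K.map (algebraMap R₀ C')) g₀ hker
          (Ideal.Quotient.mk _ (algebraMap R₀ C' p)) = _
        rw [Ideal.Quotient.lift_mk, hg₀]
        rfl }
  refine Groth.Agent.H10.InsepW.resolvable_of_smooth_factor (R := R₀ ⧸ K) (Rₚ := Rb) (Λq := Sb)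
    (B' := B') (quotMapK ψ K) 𝔮₁ hdim g h ?_
  intro x
  obtain ⟨c, rfl⟩ := Ideal.Quotient.mk_surjective x
  show h (Ideal.Quotient.lift (K.map (algebraMap R₀ C')) g₀ hker (Ideal.Quotient.mk _ c)) = _
  rw [Ideal.Quotient.lift_mk, hgh, quotMapK_mk]


section maps

variable {P R₀ Λ : Type u} [CommRing P] [CommRing R₀] [CommRing Λ] [Algebra P R₀] [Algebra R₀ Λ]
  [Algebra P Λ] [IsScalarTower P R₀ Λ] (K : Ideal R₀) (𝔮 : Ideal Λ) [𝔮.IsPrime]
  (𝔮₁ : Ideal (Λ ⧸ K.map (algebraMap R₀ Λ))) [𝔮₁.IsPrime]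
  (h𝔮₁ : 𝔮₁.comap (Ideal.Quotient.mk (K.map (algebraMap R₀ Λ))) = 𝔮)
  (Sb : Type u) [CommRing Sb] [Algebra (Λ ⧸ K.map (algebraMap R₀ Λ)) Sb]
  [IsLocalization.AtPrime Sb 𝔮₁]

/-- the localized reduced base -/
abbrev Rb : Type u :=
  Localization.AtPrime (𝔮₁.comap (algebraMap (R₀ ⧸ K) (Λ ⧸ K.map (algebraMap R₀ Λ))))

/-- `Rb → Sb` -/
noncomputable def rbToSb : Rb K 𝔮₁ →+* Sb :=
  IsLocalization.lift
    (M := (𝔮₁.comap (algebraMap (R₀ ⧸ K) (Λ ⧸ K.map (algebraMap R₀ Λ)))).primeCompl)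
    (g := (algebraMap (Λ ⧸ K.map (algebraMap R₀ Λ)) Sb).comp
      (algebraMap (R₀ ⧸ K) (Λ ⧸ K.map (algebraMap R₀ Λ))))
    (fun y => IsLocalization.map_units Sb
      (⟨algebraMap (R₀ ⧸ K) (Λ ⧸ K.map (algebraMap R₀ Λ)) y, y.2⟩ : 𝔮₁.primeCompl))

theorem rbToSb_mk (x : R₀) :
    rbToSb K 𝔮₁ Sb (algebraMap (R₀ ⧸ K) (Rb K 𝔮₁) (Ideal.Quotient.mk K x)) =
      algebraMap (Λ ⧸ K.map (algebraMap R₀ Λ)) Sb (Ideal.Quotient.mk _ (algebraMap R₀ Λ x)) := by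
  unfold rbToSb
  rw [IsLocalization.lift_eq]
  rfl

/-- `P → Rb` -/
noncomputable def pToRb : P →+* Rb K 𝔮₁ :=
  (algebraMap (R₀ ⧸ K) (Rb K 𝔮₁)).comp ((Ideal.Quotient.mk K).comp (algebraMap P R₀))

omit [𝔮.IsPrime] in
include h𝔮₁ in
theorem isUnit_pToRb (s : P) (hs : algebraMap P Λ s ∉ 𝔮) : IsUnit (pToRb (P := P) K 𝔮₁ s) := by
  refine IsLocalization.map_units (Rb K 𝔮₁)
    (⟨Ideal.Quotient.mk K (algebraMap P R₀ s), ?_⟩ :
      (𝔮₁.comap (algebraMap (R₀ ⧸ K) (Λ ⧸ K.map (algebraMap R₀ Λ)))).primeCompl)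
  intro hmem
  apply hs
  rw [← h𝔮₁, Ideal.mem_comap, IsScalarTower.algebraMap_apply P R₀ Λ]
  exact hmem

/-- `P₀ → Rb` -/
noncomputable def p₀ToRb : Localization.AtPrime (𝔮.comap (algebraMap P Λ)) →+* Rb K 𝔮₁ :=
  IsLocalization.lift (M := (𝔮.comap (algebraMap P Λ)).primeCompl) (g := pToRb (P := P) K 𝔮₁)
    (fun y => isUnit_pToRb K 𝔮 𝔮₁ h𝔮₁ (y : P) y.2)

theorem p₀ToRb_algebraMap (p : P) :
    p₀ToRb K 𝔮 𝔮₁ h𝔮₁ (algebraMap P (Localization.AtPrime (𝔮.comap (algebraMap P Λ))) p) =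
      algebraMap (R₀ ⧸ K) (Rb K 𝔮₁) (Ideal.Quotient.mk K (algebraMap P R₀ p)) := by
  unfold p₀ToRb
  rw [IsLocalization.lift_eq]
  rfl

end maps

set_option synthInstance.maxHeartbeats 200000 in
set_option maxHeartbeats 1000000 in
theorem resolvable_reduced
    {k A : Type u} [Field k] [CommRing A] [Algebra k A] [Algebra.FinitePresentation k A]
    {d r : ℕ} (N : ℕ) (a : Fin r → A)
    {P R₀ Λ : Type u} [CommRing P] [CommRing R₀] [IsNoetherianRing R₀] [CommRing Λ]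
    [Algebra k P] [Algebra P R₀] [Algebra k R₀] [IsScalarTower k P R₀]
    [Algebra R₀ Λ] [Algebra P Λ] [IsScalarTower P R₀ Λ]
    [Algebra (MvPolynomial (Fin d) k) R₀] [IsScalarTower k (MvPolynomial (Fin d) k) R₀]
    [Algebra (MvPolynomial (Fin d) k) Λ] [IsScalarTower (MvPolynomial (Fin d) k) R₀ Λ]
    (K : Ideal R₀) (𝔮 : Ideal Λ) [𝔮.IsPrime]
    (𝔮₁ : Ideal (Λ ⧸ K.map (algebraMap R₀ Λ))) [𝔮₁.IsPrime]
    (h𝔮₁ : 𝔮₁.comap (Ideal.Quotient.mk (K.map (algebraMap R₀ Λ))) = 𝔮)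
    {Sb : Type u} [CommRing Sb] [Algebra (Λ ⧸ K.map (algebraMap R₀ Λ)) Sb]
    [IsLocalization.AtPrime Sb 𝔮₁] (hdim : ringKrullDim Sb = 0)
    {C : Type u} [CommRing C] [Algebra (MvPolynomial (Fin d) k) C] [Algebra (BB k A d r N a) C]
    [IsScalarTower (MvPolynomial (Fin d) k) (BB k A d r N a) C]
    [Algebra.FinitePresentation R₀ (R₀ ⊗[MvPolynomial (Fin d) k] C)]
    (ρ : C →ₐ[BB k A d r N a] BB k A d r N a)
    (β : BB k A d r N a →ₐ[MvPolynomial (Fin d) k] Λ)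
    (I₀ : Ideal (Localization.AtPrime (𝔮.comap (algebraMap P Λ))))
    (hI₀ : ∀ x ∈ I₀, p₀ToRb K 𝔮 𝔮₁ h𝔮₁ x = 0)
    {Ab : Type u} [CommRing Ab] [Algebra (Localization.AtPrime (𝔮.comap (algebraMap P Λ)) ⧸ I₀) Ab]
    [Algebra k Ab] [IsScalarTower k (Localization.AtPrime (𝔮.comap (algebraMap P Λ)) ⧸ I₀) Ab]
    (hind : Smoothing.IndSmooth (Localization.AtPrime (𝔮.comap (algebraMap P Λ)) ⧸ I₀) Ab)
    (ι' : Ab →+* Sb)
    (hι' : ∀ p : P, ι' (algebraMap (Localization.AtPrime (𝔮.comap (algebraMap P Λ)) ⧸ I₀) Ab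
        (Ideal.Quotient.mk _ (algebraMap P _ p))) =
      algebraMap (Λ ⧸ K.map (algebraMap R₀ Λ)) Sb (Ideal.Quotient.mk _ (algebraMap P Λ p)))
    (πb : Fin d → P) (tb : Fin d → R₀)
    (hX : ∀ i, algebraMap (MvPolynomial (Fin d) k) R₀ (X i) = algebraMap P R₀ (πb i) * tb i)
    (φA : A →ₐ[k] Ab) (dd : Fin d → Fin r → Ab)
    (hdd : ∀ i, algebraMap (Localization.AtPrime (𝔮.comap (algebraMap P Λ)) ⧸ I₀) Ab
        (Ideal.Quotient.mk _ (algebraMap P _ (πb i))) ^ N = ∑ j, φA (a j) * dd i j)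
    (hβ1 : ∀ x, algebraMap (Λ ⧸ K.map (algebraMap R₀ Λ)) Sb
        (Ideal.Quotient.mk _ (β (ιA k A d r N a x))) = ι' (φA x))
    (hβ2 : ∀ i j, algebraMap (Λ ⧸ K.map (algebraMap R₀ Λ)) Sb
        (Ideal.Quotient.mk _ (β (zz k A d r N a i j))) =
      algebraMap (Λ ⧸ K.map (algebraMap R₀ Λ)) Sb
        (Ideal.Quotient.mk _ (algebraMap R₀ Λ (tb i))) ^ N * ι' (dd i j)) :
    Smoothing.Resolvable (R₀ ⧸ K)
      (quotMapK (Algebra.TensorProduct.lift (Algebra.ofId R₀ Λ)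
        (β.comp (ρ.restrictScalars (MvPolynomial (Fin d) k))) (fun _ _ => Commute.all _ _)) K)
      𝔮₁ := by
  classical
  -- abbreviations
  let P₀ := Localization.AtPrime (𝔮.comap (algebraMap P Λ))
  let Λ₁ := Λ ⧸ K.map (algebraMap R₀ Λ)
  -- `R₁`-algebra structure on `Sb`
  letI algR₁Sb : Algebra (R₀ ⧸ K) Sb :=
    ((algebraMap Λ₁ Sb).comp (algebraMap (R₀ ⧸ K) Λ₁)).toAlgebra
  haveI : IsScalarTower (R₀ ⧸ K) Λ₁ Sb := IsScalarTower.of_algebraMap_eq fun _ => rfl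
  -- `Rb`-algebra structure on `Sb`
  letI algRbSb : Algebra (Rb K 𝔮₁) Sb := (rbToSb K 𝔮₁ Sb).toAlgebra
  have hRbSb : ∀ x, algebraMap (Rb K 𝔮₁) Sb x = rbToSb K 𝔮₁ Sb x := fun _ => rfl
  haveI : IsScalarTower (R₀ ⧸ K) (Rb K 𝔮₁) Sb := by
    refine IsScalarTower.of_algebraMap_eq fun x => ?_
    obtain ⟨y, rfl⟩ := Ideal.Quotient.mk_surjective x
    rw [hRbSb, rbToSb_mk]
    rfl
  -- `Pb`-algebra structure on `Rb`
  letI algPbRb : Algebra (P₀ ⧸ I₀) (Rb K 𝔮₁) :=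
    (Ideal.Quotient.lift I₀ (p₀ToRb K 𝔮 𝔮₁ h𝔮₁) hI₀).toAlgebra
  have hPbRb : ∀ x : P₀, algebraMap (P₀ ⧸ I₀) (Rb K 𝔮₁) (Ideal.Quotient.mk _ x) =
      p₀ToRb K 𝔮 𝔮₁ h𝔮₁ x := fun _ => rfl
  have hPbRb' : ∀ p : P, algebraMap (P₀ ⧸ I₀) (Rb K 𝔮₁) (Ideal.Quotient.mk _ (algebraMap P P₀ p)) =
      algebraMap (R₀ ⧸ K) (Rb K 𝔮₁) (Ideal.Quotient.mk K (algebraMap P R₀ p)) := fun p => by
    rw [hPbRb, p₀ToRb_algebraMap]
  haveI : IsScalarTower k (P₀ ⧸ I₀) (Rb K 𝔮₁) := by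
    refine IsScalarTower.of_algebraMap_eq (R := k) (S := P₀ ⧸ I₀) (A := Rb K 𝔮₁) fun c => ?_
    rw [IsScalarTower.algebraMap_apply k (R₀ ⧸ K) (Rb K 𝔮₁),
      IsScalarTower.algebraMap_apply k P₀ (P₀ ⧸ I₀), IsScalarTower.algebraMap_apply k P P₀]
    show _ = algebraMap (P₀ ⧸ I₀) (Rb K 𝔮₁) (Ideal.Quotient.mk _ (algebraMap P P₀ (algebraMap k P c)))
    rw [hPbRb', ← IsScalarTower.algebraMap_apply k P R₀]
    rfl
  -- `Pb`-algebra structure on `Sb`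
  letI algPbSb : Algebra (P₀ ⧸ I₀) Sb :=
    ((algebraMap (Rb K 𝔮₁) Sb).comp (algebraMap (P₀ ⧸ I₀) (Rb K 𝔮₁))).toAlgebra
  haveI : IsScalarTower (P₀ ⧸ I₀) (Rb K 𝔮₁) Sb := IsScalarTower.of_algebraMap_eq fun _ => rfl
  -- `ι'` is a `Pb`-algebra map
  have hιcomm : ∀ x : P₀ ⧸ I₀, ι' (algebraMap (P₀ ⧸ I₀) Ab x) = algebraMap (P₀ ⧸ I₀) Sb x := by
    intro x
    obtain ⟨y, rfl⟩ := Ideal.Quotient.mk_surjective x
    have hext : (ι'.comp ((algebraMap (P₀ ⧸ I₀) Ab).comp (Ideal.Quotient.mk I₀))) =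
        ((algebraMap (P₀ ⧸ I₀) Sb).comp (Ideal.Quotient.mk I₀)) := by
      apply IsLocalization.ringHom_ext (𝔮.comap (algebraMap P Λ)).primeCompl
      ext p
      show ι' (algebraMap (P₀ ⧸ I₀) Ab (Ideal.Quotient.mk _ (algebraMap P P₀ p))) =
        algebraMap (Rb K 𝔮₁) Sb (algebraMap (P₀ ⧸ I₀) (Rb K 𝔮₁)
          (Ideal.Quotient.mk _ (algebraMap P P₀ p)))
      rw [hι', hPbRb', hRbSb, rbToSb_mk, ← IsScalarTower.algebraMap_apply P R₀ Λ]
    exact RingHom.congr_fun hext y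
  let ι'' : Ab →ₐ[P₀ ⧸ I₀] Sb := { ι' with commutes' := hιcomm }
  have hι'' : ∀ x, ι'' x = ι' x := fun _ => rfl
  -- the polynomial ring `k[x]`
  have hXRb : ∀ x, algebraMap (MvPolynomial (Fin d) k) (Rb K 𝔮₁) x =
      algebraMap (R₀ ⧸ K) (Rb K 𝔮₁) (Ideal.Quotient.mk K
        (algebraMap (MvPolynomial (Fin d) k) R₀ x)) := fun x => by
    rw [IsScalarTower.algebraMap_apply (MvPolynomial (Fin d) k) (R₀ ⧸ K) (Rb K 𝔮₁)]
    rfl
  haveI : IsScalarTower k (MvPolynomial (Fin d) k) (Rb K 𝔮₁) := by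
    refine IsScalarTower.of_algebraMap_eq (R := k) (S := MvPolynomial (Fin d) k)
      (A := Rb K 𝔮₁) fun c => ?_
    rw [IsScalarTower.algebraMap_apply k (R₀ ⧸ K) (Rb K 𝔮₁), hXRb,
      ← IsScalarTower.algebraMap_apply k (MvPolynomial (Fin d) k) R₀]
    rfl
  letI algXSb : Algebra (MvPolynomial (Fin d) k) Sb :=
    ((algebraMap (Rb K 𝔮₁) Sb).comp (algebraMap (MvPolynomial (Fin d) k) (Rb K 𝔮₁))).toAlgebra
  haveI : IsScalarTower (MvPolynomial (Fin d) k) (Rb K 𝔮₁) Sb :=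
    IsScalarTower.of_algebraMap_eq (R := MvPolynomial (Fin d) k) (S := Rb K 𝔮₁) (A := Sb)
      fun _ => rfl
  have hXSb : ∀ x, algebraMap (MvPolynomial (Fin d) k) Sb x =
      algebraMap Λ₁ Sb (Ideal.Quotient.mk _ (algebraMap (MvPolynomial (Fin d) k) Λ x)) := by
    intro x
    show algebraMap (Rb K 𝔮₁) Sb (algebraMap (MvPolynomial (Fin d) k) (Rb K 𝔮₁) x) = _
    rw [hXRb, hRbSb, rbToSb_mk, ← IsScalarTower.algebraMap_apply (MvPolynomial (Fin d) k) R₀ Λ]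
  let πbb : Fin d → P₀ ⧸ I₀ := fun i => Ideal.Quotient.mk _ (algebraMap P P₀ (πb i))
  let tbb : Fin d → Rb K 𝔮₁ := fun i => algebraMap (R₀ ⧸ K) (Rb K 𝔮₁) (Ideal.Quotient.mk K (tb i))
  have hX' : ∀ i, algebraMap (MvPolynomial (Fin d) k) (Rb K 𝔮₁) (X i) =
      algebraMap (P₀ ⧸ I₀) (Rb K 𝔮₁) (πbb i) * tbb i := by
    intro i
    rw [hXRb, hX, map_mul, map_mul]
    show _ = algebraMap (P₀ ⧸ I₀) (Rb K 𝔮₁) (Ideal.Quotient.mk _ (algebraMap P P₀ (πb i))) * _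
    rw [hPbRb']
  let βb : BB k A d r N a →ₐ[MvPolynomial (Fin d) k] Sb :=
    { toRingHom := (algebraMap Λ₁ Sb).comp ((Ideal.Quotient.mk _).comp β.toRingHom)
      commutes' := by
        intro x
        show algebraMap Λ₁ Sb (Ideal.Quotient.mk _ (β (algebraMap _ _ x))) = _
        rw [β.commutes, hXSb] }
  have hβb : ∀ b, βb b = algebraMap Λ₁ Sb (Ideal.Quotient.mk _ (β b)) := fun _ => rfl
  have htbb : ∀ i, algebraMap (Rb K 𝔮₁) Sb (tbb i) =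
      algebraMap Λ₁ Sb (Ideal.Quotient.mk _ (algebraMap R₀ Λ (tb i))) := by
    intro i
    rw [hRbSb, rbToSb_mk]
  obtain ⟨B', _, _, hsm, G, H, hG, hHG⟩ := reduced_abstract N a ι'' hind πbb tbb hX' φA dd hdd βb
    (fun x => by rw [hβb, hβ1, hι''])
    (fun i j => by rw [hβb, hβ2, htbb, hι''])
  haveI := hsm
  -- the map `R₀ ⊗ C → B'`
  letI algR₀B' : Algebra R₀ B' :=
    ((algebraMap (Rb K 𝔮₁) B').comp
      ((algebraMap (R₀ ⧸ K) (Rb K 𝔮₁)).comp (Ideal.Quotient.mk K))).toAlgebra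
  have hR₀B' : ∀ x, algebraMap R₀ B' x =
      algebraMap (Rb K 𝔮₁) B' (algebraMap (R₀ ⧸ K) (Rb K 𝔮₁) (Ideal.Quotient.mk K x)) :=
    fun _ => rfl
  letI algXB' : Algebra (MvPolynomial (Fin d) k) B' :=
    ((algebraMap R₀ B').comp (algebraMap (MvPolynomial (Fin d) k) R₀)).toAlgebra
  haveI : IsScalarTower (MvPolynomial (Fin d) k) R₀ B' :=
    IsScalarTower.of_algebraMap_eq fun _ => rfl
  let Gρ : C →ₐ[MvPolynomial (Fin d) k] B' :=
    { toRingHom := G.comp ρ.toRingHom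
      commutes' := by
        intro x
        show G (ρ (algebraMap (MvPolynomial (Fin d) k) C x)) = _
        rw [IsScalarTower.algebraMap_apply (MvPolynomial (Fin d) k) (BB k A d r N a) C,
          ρ.commutes, Algebra.algebraMap_self, RingHom.id_apply, hG]
        rfl }
  have hGρ : ∀ y, Gρ y = G (ρ y) := fun _ => rfl
  let g₀ : R₀ ⊗[MvPolynomial (Fin d) k] C →ₐ[R₀] B' :=
    Algebra.TensorProduct.lift (Algebra.ofId R₀ B') Gρ (fun _ _ => Commute.all _ _)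
  refine resolvable_quot_of_smooth_factor (Rb := Rb K 𝔮₁) (Sb := Sb) (B' := B') _ K 𝔮₁ hdim
    g₀.toRingHom (fun x => ?_) H (fun c => ?_)
  · show g₀ (algebraMap R₀ _ x) = _
    rw [g₀.commutes, hR₀B']
  · show H (g₀ c) = _
    induction c using TensorProduct.induction_on with
    | zero => simp
    | tmul x y =>
      rw [Algebra.TensorProduct.lift_tmul, Algebra.TensorProduct.lift_tmul, map_mul, map_mul,
        map_mul, Algebra.ofId_apply, Algebra.ofId_apply, hR₀B', H.commutes, hGρ, hHG, hβb,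
        ← IsScalarTower.algebraMap_apply (R₀ ⧸ K) (Rb K 𝔮₁) Sb]
      rfl
    | add x y hx hy => rw [map_add, map_add, hx, hy, map_add, map_add, map_add]

end Groth.Agent.H10.InsepRedC
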