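import Mathlib
import Groth.Agent.H10.InsepRedC
import Groth.Agent.H3.Sep3
import Groth.Agent.H3.Sep7
import Groth.Agent.H3.Sep8
import Groth.Agent.H55.CoeffSpan
import Groth.Agent.H71.Mult
import Groth.Agent.H79.RegCM
import Groth.Agent.S6822
import Groth.Agent.S6829

/-!
# Assembly of the inseparable case of Popescu's theorem from the structure data (helper10)
-/

set_option autoImplicit false
set_option linter.style.haveILetI false
universe u

namespace Groth.Agent.H10.InsepAsm

open MvPolynomial TensorProduct IsLocalRing Groth.Agent.H3.Sep Groth.Agent.H10.InsepRed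
  Groth.Agent.H10.InsepRedC

set_option synthInstance.maxHeartbeats 200000 in
set_option maxHeartbeats 2000000 in
theorem assembly {k A Λ : Type u} [Field k] [CommRing A] [Algebra k A]
    [Algebra.FinitePresentation k A] [CommRing Λ] [Algebra k Λ] [IsNoetherianRing Λ]
    (φ : A →ₐ[k] Λ) (𝔮 : Ideal Λ) [𝔮.IsPrime]
    [IsRegularLocalRing (Localization.AtPrime 𝔮)] (d : ℕ)
    (hd : ringKrullDim (Localization.AtPrime 𝔮) = d) (hdpos : 0 < d)
    {r : ℕ} (a : Fin r → A) (ha : Ideal.span (Set.range a) = Smoothing.singularIdeal k A)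
    (N : ℕ) (hN : 0 < N)
    (hpow : (𝔮 ^ N).map (algebraMap Λ (Localization.AtPrime 𝔮)) ≤
      (Ideal.span (Set.range fun j => φ (a j))).map (algebraMap Λ (Localization.AtPrime 𝔮)))
    {C : Type u} [CommRing C] [Algebra (MvPolynomial (Fin d) k) C] [Algebra (BB k A d r N a) C]
    [IsScalarTower (MvPolynomial (Fin d) k) (BB k A d r N a) C]
    [Algebra.FinitePresentation (MvPolynomial (Fin d) k) C]
    (ρ : C →ₐ[BB k A d r N a] BB k A d r N a)
    (hmemC : ∀ b ∈ Smoothing.singularIdeal (MvPolynomial (Fin d) k) (BB k A d r N a),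
      algebraMap (BB k A d r N a) C b ∈ Smoothing.singularIdeal (MvPolynomial (Fin d) k) C)
    (c : ℕ) (hc : 0 < c)
    (hstd : ∀ i, Smoothing.IsStrictlyStandard (MvPolynomial (Fin d) k) C
      (algebraMap (MvPolynomial (Fin d) k) C (X i ^ c)))
    (n : ℕ) (hn : N + (d * (c * 8) + 1) ≤ n)
    {P : Type u} [CommRing P] [Algebra k P] [Algebra.FinitePresentation k P]
    [Algebra.FormallySmooth k P] [Algebra P Λ] [IsScalarTower k P Λ]
    (π : Fin d → P) (hπ𝔮 : ∀ i, algebraMap P Λ (π i) ∈ 𝔮)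
    (hgenP : Ideal.span (Set.range fun i => algebraMap P
        (Localization.AtPrime (𝔮.comap (algebraMap P Λ))) (π i)) =
      maximalIdeal (Localization.AtPrime (𝔮.comap (algebraMap P Λ))))
    (hgenS : Ideal.span (Set.range fun i => algebraMap Λ (Localization.AtPrime 𝔮)
        (algebraMap P Λ (π i))) = maximalIdeal (Localization.AtPrime 𝔮))
    (hPS : ∀ (i : Fin d) (W : Finset (Fin d)), (∀ j ∈ W, j < i) → ∀ y : P,
      (π i) ^ 2 * y ∈ Ideal.span ((fun j => (π j) ^ (c * 8)) '' (W : Set (Fin d))) →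
      (π i) * y ∈ Ideal.span ((fun j => (π j) ^ (c * 8)) '' (W : Set (Fin d))))
    {Ab : Type u} [CommRing Ab]
    [Algebra (Localization.AtPrime (𝔮.comap (algebraMap P Λ)) ⧸
      maximalIdeal (Localization.AtPrime (𝔮.comap (algebraMap P Λ))) ^ n) Ab]
    [Algebra k Ab]
    [IsScalarTower k (Localization.AtPrime (𝔮.comap (algebraMap P Λ)) ⧸
      maximalIdeal (Localization.AtPrime (𝔮.comap (algebraMap P Λ))) ^ n) Ab]
    (hind : Smoothing.IndSmooth (Localization.AtPrime (𝔮.comap (algebraMap P Λ)) ⧸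
      maximalIdeal (Localization.AtPrime (𝔮.comap (algebraMap P Λ))) ^ n) Ab)
    (ι : Ab →+* Localization.AtPrime 𝔮 ⧸ maximalIdeal (Localization.AtPrime 𝔮) ^ n)
    (hι : ∀ p : P, ι (algebraMap (Localization.AtPrime (𝔮.comap (algebraMap P Λ)) ⧸
        maximalIdeal (Localization.AtPrime (𝔮.comap (algebraMap P Λ))) ^ n) Ab
        (Ideal.Quotient.mk _ (algebraMap P _ p))) =
      Ideal.Quotient.mk _ (algebraMap Λ (Localization.AtPrime 𝔮) (algebraMap P Λ p)))
    (φA : A →ₐ[k] Ab)
    (hιφ : ∀ x, ι (φA x) = Ideal.Quotient.mk _ (algebraMap Λ (Localization.AtPrime 𝔮) (φ x)))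
    (dd : Fin d → Fin r → Ab)
    (hdd : ∀ i, algebraMap (Localization.AtPrime (𝔮.comap (algebraMap P Λ)) ⧸
        maximalIdeal (Localization.AtPrime (𝔮.comap (algebraMap P Λ))) ^ n) Ab
        (Ideal.Quotient.mk _ (algebraMap P _ (π i))) ^ N = ∑ j, φA (a j) * dd i j) :
    Smoothing.Resolvable k φ 𝔮 := by
  classical
  have hc8 : 0 < c * 8 := by positivity
  have hNn : N ≤ n := by omega
  haveI : IsNoetherianRing A := Algebra.FiniteType.isNoetherianRing k A
  haveI : IsNoetherianRing P := Algebra.FiniteType.isNoetherianRing k P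
  have haH : ∀ j, a j ∈ Smoothing.singularIdeal k A := fun j => by
    rw [← ha]; exact Ideal.subset_span ⟨j, rfl⟩
  have hmaxS : 𝔮.map (algebraMap Λ (Localization.AtPrime 𝔮)) =
      maximalIdeal (Localization.AtPrime 𝔮) := Localization.AtPrime.map_eq_maximalIdeal
  -- lifts of `dd`
  have hDex : ∀ i j, ∃ D : Localization.AtPrime 𝔮,
      Ideal.Quotient.mk (maximalIdeal (Localization.AtPrime 𝔮) ^ n) D = ι (dd i j) :=
    fun i j => Ideal.Quotient.mk_surjective _
  choose D hD using hDex
  have hDerr : ∀ i, algebraMap Λ (Localization.AtPrime 𝔮) (algebraMap P Λ (π i)) ^ N -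
      ∑ j, algebraMap Λ (Localization.AtPrime 𝔮) (φ (a j)) * D i j ∈
        maximalIdeal (Localization.AtPrime 𝔮) ^ n := by
    intro i
    have h1 := congrArg ι (hdd i)
    rw [map_pow, hι, map_sum] at h1
    rw [← Ideal.Quotient.eq_zero_iff_mem, map_sub, map_pow, h1, map_sum, sub_eq_zero]
    refine Finset.sum_congr rfl fun j _ => ?_
    rw [map_mul, map_mul, hιφ, hD]
  obtain ⟨δ, lam, hδ, hrel, hAnn, hcong⟩ :=
    Groth.Agent.H71.Mult.exists_lambda_multipliers 𝔮 d hd (fun i => algebraMap P Λ (π i)) hπ𝔮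
      hgenS (fun j => φ (a j)) N n (c * 8) hN hc8 hNn hpow D hDerr
  -- the base ring `R = P[X_1..X_d]`
  letI algRΛ : Algebra (MvPolynomial (Fin d) P) Λ :=
    (aeval δ : MvPolynomial (Fin d) P →ₐ[P] Λ).toRingHom.toAlgebra
  have hRΛ : ∀ x, algebraMap (MvPolynomial (Fin d) P) Λ x = aeval δ x := fun _ => rfl
  haveI : IsScalarTower P (MvPolynomial (Fin d) P) Λ :=
    IsScalarTower.of_algebraMap_eq fun t =>
      ((aeval δ : MvPolynomial (Fin d) P →ₐ[P] Λ).commutes t).symm
  haveI : IsScalarTower k (MvPolynomial (Fin d) P) Λ := by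
    refine IsScalarTower.of_algebraMap_eq fun t => ?_
    rw [IsScalarTower.algebraMap_apply k P Λ, IsScalarTower.algebraMap_apply k P
      (MvPolynomial (Fin d) P), ← IsScalarTower.algebraMap_apply P (MvPolynomial (Fin d) P) Λ]
  let γ : Fin d → MvPolynomial (Fin d) P := fun i => MvPolynomial.C (π i) * X i
  have hγΛ : ∀ i, algebraMap (MvPolynomial (Fin d) P) Λ (γ i) = algebraMap P Λ (π i) * δ i := by
    intro i
    rw [hRΛ, map_mul, aeval_C, aeval_X]
  have hXΛ' : ∀ i, algebraMap (MvPolynomial (Fin d) P) Λ (X i) = δ i := fun i => by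
    rw [hRΛ, aeval_X]
  letI algXR : Algebra (MvPolynomial (Fin d) k) (MvPolynomial (Fin d) P) :=
    (aeval γ : MvPolynomial (Fin d) k →ₐ[k] MvPolynomial (Fin d) P).toRingHom.toAlgebra
  have hXR : ∀ i, algebraMap (MvPolynomial (Fin d) k) (MvPolynomial (Fin d) P) (X i) = γ i :=
    fun i => aeval_X γ i
  haveI : IsScalarTower k (MvPolynomial (Fin d) k) (MvPolynomial (Fin d) P) :=
    IsScalarTower.of_algebraMap_eq fun t =>
      ((aeval γ : MvPolynomial (Fin d) k →ₐ[k] MvPolynomial (Fin d) P).commutes t).symm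
  letI algXΛ : Algebra (MvPolynomial (Fin d) k) Λ :=
    ((algebraMap (MvPolynomial (Fin d) P) Λ).comp
      (algebraMap (MvPolynomial (Fin d) k) (MvPolynomial (Fin d) P))).toAlgebra
  haveI : IsScalarTower (MvPolynomial (Fin d) k) (MvPolynomial (Fin d) P) Λ :=
    IsScalarTower.of_algebraMap_eq fun _ => rfl
  haveI : IsScalarTower k (MvPolynomial (Fin d) k) Λ := by
    refine IsScalarTower.of_algebraMap_eq fun t => ?_
    rw [IsScalarTower.algebraMap_apply (MvPolynomial (Fin d) k) (MvPolynomial (Fin d) P) Λ,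
      ← IsScalarTower.algebraMap_apply k (MvPolynomial (Fin d) k) (MvPolynomial (Fin d) P),
      ← IsScalarTower.algebraMap_apply k (MvPolynomial (Fin d) P) Λ]
  have hXΛ : ∀ i, algebraMap (MvPolynomial (Fin d) k) Λ (X i) = algebraMap P Λ (π i) * δ i := by
    intro i
    rw [IsScalarTower.algebraMap_apply (MvPolynomial (Fin d) k) (MvPolynomial (Fin d) P) Λ, hXR,
      hγΛ]
  obtain ⟨β, hβ1, hβ2⟩ := exists_lift' k A d r N a φ lam (fun i => by rw [hXΛ]; exact hrel i)
  -- the base-changed algebra and its map to `Λ`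
  let ψR : MvPolynomial (Fin d) P ⊗[MvPolynomial (Fin d) k] C →ₐ[MvPolynomial (Fin d) P] Λ :=
    Algebra.TensorProduct.lift (Algebra.ofId (MvPolynomial (Fin d) P) Λ)
      (β.comp (ρ.restrictScalars (MvPolynomial (Fin d) k))) (fun _ _ => Commute.all _ _)
  have hψR : ∀ (x : MvPolynomial (Fin d) P) (y : C), ψR (x ⊗ₜ y) =
      algebraMap (MvPolynomial (Fin d) P) Λ x * β (ρ y) := by
    intro x y
    show Algebra.TensorProduct.lift _ _ _ _ = _
    rw [Algebra.TensorProduct.lift_tmul, Algebra.ofId_apply]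
    rfl
  let Γ : Fin d → MvPolynomial (Fin d) P := fun i => γ i ^ c
  set K : Ideal (MvPolynomial (Fin d) P) := Ideal.span (Set.range fun i => Γ i ^ 8) with hKdef
  have hΓΛ : ∀ i, algebraMap (MvPolynomial (Fin d) P) Λ (Γ i) =
      (algebraMap P Λ (π i) * δ i) ^ c := fun i => by
    show algebraMap (MvPolynomial (Fin d) P) Λ (γ i ^ c) = _
    rw [map_pow, hγΛ]
  have hΓ𝔮 : ∀ i, algebraMap (MvPolynomial (Fin d) P) Λ (Γ i) ∈ 𝔮 := fun i => by
    rw [hΓΛ]
    exact Ideal.pow_mem_of_mem _ (Ideal.mul_mem_right _ _ (hπ𝔮 i)) _ hc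
  have hres : Smoothing.Resolvable (MvPolynomial (Fin d) P ⧸ K) (quotMapK ψR K)
      (𝔮.map (Ideal.Quotient.mk (K.map (algebraMap (MvPolynomial (Fin d) P) Λ)))) := by
    have hK𝔮 : K.map (algebraMap (MvPolynomial (Fin d) P) Λ) ≤ 𝔮 := by
      rw [hKdef, Ideal.map_span, Ideal.span_le]
      rintro _ ⟨_, ⟨i, rfl⟩, rfl⟩
      show algebraMap (MvPolynomial (Fin d) P) Λ (Γ i ^ 8) ∈ 𝔮
      rw [map_pow]
      exact Ideal.pow_mem_of_mem _ (hΓ𝔮 i) _ (by norm_num)
    haveI hprime : (𝔮.map (Ideal.Quotient.mk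
        (K.map (algebraMap (MvPolynomial (Fin d) P) Λ)))).IsPrime :=
      Ideal.map_isPrime_of_surjective Ideal.Quotient.mk_surjective (by rwa [Ideal.mk_ker])
    have hmem𝔮 : ∀ y : Λ, Ideal.Quotient.mk (K.map (algebraMap (MvPolynomial (Fin d) P) Λ)) y ∈
        𝔮.map (Ideal.Quotient.mk (K.map (algebraMap (MvPolynomial (Fin d) P) Λ))) ↔ y ∈ 𝔮 := by
      intro y
      rw [Ideal.mem_quotient_iff_mem_sup, sup_eq_left.mpr hK𝔮]
    have h𝔮₁ : (𝔮.map (Ideal.Quotient.mk (K.map (algebraMap (MvPolynomial (Fin d) P) Λ)))).comap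
        (Ideal.Quotient.mk (K.map (algebraMap (MvPolynomial (Fin d) P) Λ))) = 𝔮 := by
      ext y
      rw [Ideal.mem_comap, hmem𝔮]
    have hsub : Algebra.algebraMapSubmonoid (Λ ⧸ K.map (algebraMap (MvPolynomial (Fin d) P) Λ))
        𝔮.primeCompl =
        (𝔮.map (Ideal.Quotient.mk (K.map (algebraMap (MvPolynomial (Fin d) P) Λ)))).primeCompl := by
      ext x
      constructor
      · rintro ⟨y, hy, rfl⟩
        intro h
        exact hy ((hmem𝔮 y).mp h)
      · intro hx
        obtain ⟨y, rfl⟩ := Ideal.Quotient.mk_surjective x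
        refine ⟨y, ?_, rfl⟩
        show y ∉ 𝔮
        rw [← hmem𝔮]
        exact hx
    haveI hloc' : IsLocalization.AtPrime
        (Localization.AtPrime 𝔮 ⧸ (K.map (algebraMap (MvPolynomial (Fin d) P) Λ)).map
          (algebraMap Λ (Localization.AtPrime 𝔮)))
        (𝔮.map (Ideal.Quotient.mk (K.map (algebraMap (MvPolynomial (Fin d) P) Λ)))) := by
      show IsLocalization _ _
      rw [← hsub]
      infer_instance
    have hδunit : ∀ i, IsUnit (algebraMap Λ (Localization.AtPrime 𝔮) (δ i)) := fun i =>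
      IsLocalization.map_units (Localization.AtPrime 𝔮) (⟨δ i, hδ i⟩ : 𝔮.primeCompl)
    have hJmem : ∀ i, algebraMap Λ (Localization.AtPrime 𝔮) (algebraMap P Λ (π i)) ^ (c * 8) ∈
        (K.map (algebraMap (MvPolynomial (Fin d) P) Λ)).map
          (algebraMap Λ (Localization.AtPrime 𝔮)) := by
      intro i
      have h1 : algebraMap Λ (Localization.AtPrime 𝔮) ((algebraMap P Λ (π i) * δ i) ^ (c * 8)) ∈
          (K.map (algebraMap (MvPolynomial (Fin d) P) Λ)).map
            (algebraMap Λ (Localization.AtPrime 𝔮)) := by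
        apply Ideal.mem_map_of_mem
        have h2 : (algebraMap P Λ (π i) * δ i) ^ (c * 8) =
            algebraMap (MvPolynomial (Fin d) P) Λ (Γ i ^ 8) := by
          rw [map_pow, hΓΛ, ← pow_mul]
        rw [h2]
        exact Ideal.mem_map_of_mem _ (Ideal.subset_span ⟨i, rfl⟩)
      rw [map_pow, map_mul, mul_pow] at h1
      exact (Ideal.mul_unit_mem_iff_mem _ ((hδunit i).pow _)).mp h1
    have h𝔪J : ∀ m, d * (c * 8) + 1 ≤ m → maximalIdeal (Localization.AtPrime 𝔮) ^ m ≤
        (K.map (algebraMap (MvPolynomial (Fin d) P) Λ)).map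
          (algebraMap Λ (Localization.AtPrime 𝔮)) := by
      intro m hm
      refine le_trans (Ideal.pow_le_pow_right hm) ?_
      rw [← hgenS]
      refine le_trans (span_range_pow_le _ (c * 8)) ?_
      rw [Ideal.span_le]
      rintro _ ⟨i, rfl⟩
      exact hJmem i
    have hJle : (K.map (algebraMap (MvPolynomial (Fin d) P) Λ)).map
        (algebraMap Λ (Localization.AtPrime 𝔮)) ≤ maximalIdeal (Localization.AtPrime 𝔮) := by
      rw [← hmaxS]
      exact Ideal.map_mono hK𝔮
    have hdim : ringKrullDim (Localization.AtPrime 𝔮 ⧸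
        (K.map (algebraMap (MvPolynomial (Fin d) P) Λ)).map
          (algebraMap Λ (Localization.AtPrime 𝔮))) = 0 := by
      apply Groth.Agent.H79.RegCM.ringKrullDim_quotient_eq_zero hJle
      rw [← hgenS, Ideal.span_le]
      rintro _ ⟨i, rfl⟩
      exact ⟨c * 8, hJmem i⟩
    have hI₀ : ∀ x ∈ maximalIdeal (Localization.AtPrime (𝔮.comap (algebraMap P Λ))) ^ n,
        p₀ToRb K 𝔮 (𝔮.map (Ideal.Quotient.mk (K.map (algebraMap (MvPolynomial (Fin d) P) Λ))))
          h𝔮₁ x = 0 := by
      have hle : maximalIdeal (Localization.AtPrime (𝔮.comap (algebraMap P Λ))) ^ n ≤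
          RingHom.ker (p₀ToRb K 𝔮
            (𝔮.map (Ideal.Quotient.mk (K.map (algebraMap (MvPolynomial (Fin d) P) Λ)))) h𝔮₁) := by
        refine le_trans (Ideal.pow_le_pow_right (by omega : d * (c * 8) + 1 ≤ n)) ?_
        rw [← hgenP]
        refine le_trans (span_range_pow_le _ (c * 8)) ?_
        rw [Ideal.span_le]
        rintro _ ⟨i, rfl⟩
        rw [SetLike.mem_coe, RingHom.mem_ker, map_pow, p₀ToRb_algebraMap,
          MvPolynomial.algebraMap_eq]
        have hu : IsUnit (algebraMap (MvPolynomial (Fin d) P ⧸ K)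
            (Rb K (𝔮.map (Ideal.Quotient.mk (K.map (algebraMap (MvPolynomial (Fin d) P) Λ)))))
            (Ideal.Quotient.mk K (X i))) := by
          refine IsLocalization.map_units _
            (⟨Ideal.Quotient.mk K (X i), ?_⟩ :
              ((𝔮.map (Ideal.Quotient.mk (K.map (algebraMap (MvPolynomial (Fin d) P) Λ)))).comap
                (algebraMap (MvPolynomial (Fin d) P ⧸ K)
                  (Λ ⧸ K.map (algebraMap (MvPolynomial (Fin d) P) Λ)))).primeCompl)
          intro hmem
          apply hδ i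
          rw [← hXΛ' i, ← hmem𝔮]
          exact hmem
        have h0 : algebraMap (MvPolynomial (Fin d) P ⧸ K)
            (Rb K (𝔮.map (Ideal.Quotient.mk (K.map (algebraMap (MvPolynomial (Fin d) P) Λ)))))
            (Ideal.Quotient.mk K (MvPolynomial.C (π i))) ^ (c * 8) *
            algebraMap (MvPolynomial (Fin d) P ⧸ K)
            (Rb K (𝔮.map (Ideal.Quotient.mk (K.map (algebraMap (MvPolynomial (Fin d) P) Λ)))))
            (Ideal.Quotient.mk K (X i)) ^ (c * 8) = 0 := by
          rw [← mul_pow, ← map_mul, ← map_mul, ← map_pow, ← map_pow]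
          have h3 : Ideal.Quotient.mk K ((MvPolynomial.C (π i) * X i) ^ (c * 8)) = 0 := by
            apply Ideal.Quotient.eq_zero_iff_mem.mpr
            rw [pow_mul]
            exact Ideal.subset_span ⟨i, rfl⟩
          rw [h3, map_zero]
        exact ((hu.pow _).mul_left_eq_zero).mp h0
      exact fun x hx => hle hx
    let ι' : Ab →+* Localization.AtPrime 𝔮 ⧸
        (K.map (algebraMap (MvPolynomial (Fin d) P) Λ)).map
          (algebraMap Λ (Localization.AtPrime 𝔮)) :=
      (Ideal.Quotient.factor (h𝔪J n (by omega))).comp ι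
    have hι'def : ∀ x, ι' x = Ideal.Quotient.factor (h𝔪J n (by omega)) (ι x) := fun _ => rfl
    have hmkSb : ∀ y : Λ, algebraMap (Λ ⧸ K.map (algebraMap (MvPolynomial (Fin d) P) Λ))
        (Localization.AtPrime 𝔮 ⧸ (K.map (algebraMap (MvPolynomial (Fin d) P) Λ)).map
          (algebraMap Λ (Localization.AtPrime 𝔮))) (Ideal.Quotient.mk _ y) =
        Ideal.Quotient.mk _ (algebraMap Λ (Localization.AtPrime 𝔮) y) := fun _ => rfl
    refine resolvable_reduced N a K 𝔮
      (𝔮.map (Ideal.Quotient.mk (K.map (algebraMap (MvPolynomial (Fin d) P) Λ)))) h𝔮₁ hdim ρ β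
      (maximalIdeal (Localization.AtPrime (𝔮.comap (algebraMap P Λ))) ^ n) hI₀ hind ι' ?_ π
      (fun i => X i) ?_ φA dd hdd ?_ ?_
    · intro p
      rw [hι'def, hι, Ideal.Quotient.factor_mk, hmkSb]
    · intro i
      rw [hXR, MvPolynomial.algebraMap_eq]
    · intro x
      rw [hβ1, hι'def, hιφ, Ideal.Quotient.factor_mk, hmkSb]
    · intro i j
      rw [hβ2, hι'def, ← hD, Ideal.Quotient.factor_mk, hmkSb, hmkSb, hXΛ', ← map_pow, ← map_mul,
        Ideal.Quotient.eq]
      exact h𝔪J (n - N) (by omega) (hcong i j)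
  have hres2 : Smoothing.Resolvable (MvPolynomial (Fin d) P) ψR 𝔮 := by
    refine Groth.Agent.S6822.result ψR 𝔮 hdpos Γ hΓ𝔮 ?_ ?_ ?_ K hKdef (quotMapK ψR K)
      (fun x => quotMapK_mk ψR K x) hres
    · refine Groth.Agent.H55.CoeffSpan.hR_mvPolynomial π c hc ?_
      intro i W hW y hy
      refine ann_pow _ (π i) (fun y' hy' => hPS i W hW y' hy') c hc y ?_
      rwa [← pow_mul]
    · intro i x hx
      obtain ⟨y, rfl⟩ := Ideal.Quotient.mk_surjective x
      have hJ : Ideal.span (Set.range fun j : {j : Fin d // (j : ℕ) < (i : ℕ)} =>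
          algebraMap (MvPolynomial (Fin d) P) Λ (Γ (j : Fin d)) ^ 8) =
          Ideal.span (Set.range fun j : {j : Fin d // (j : ℕ) < (i : ℕ)} =>
            (algebraMap P Λ (π j) * δ j) ^ (c * 8)) := by
        congr 1; ext z
        simp only [Set.mem_range, hΓΛ, pow_mul]
      rw [← map_pow, ← map_mul, Ideal.Quotient.eq_zero_iff_mem, hJ, hΓΛ] at hx
      rw [← map_mul, Ideal.Quotient.eq_zero_iff_mem, hJ, hΓΛ]
      exact ann_pow _ _ (hAnn i) c hc y hx
    · intro i
      have h1 := (Groth.Agent.S6829.result (R := MvPolynomial (Fin d) k) (A := C)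
        (R' := MvPolynomial (Fin d) P) (algebraMap (MvPolynomial (Fin d) k) C (X i ^ c))).2 (hstd i)
      have h2 : algebraMap (MvPolynomial (Fin d) P)
          (MvPolynomial (Fin d) P ⊗[MvPolynomial (Fin d) k] C) (Γ i) =
          (1 : MvPolynomial (Fin d) P) ⊗ₜ[MvPolynomial (Fin d) k]
            algebraMap (MvPolynomial (Fin d) k) C (X i ^ c) := by
        rw [Algebra.TensorProduct.algebraMap_apply, Algebra.algebraMap_self, RingHom.id_apply,
          Algebra.algebraMap_eq_smul_one (X i ^ c : MvPolynomial (Fin d) k),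
          ← TensorProduct.smul_tmul, Algebra.smul_def, mul_one, map_pow, hXR]
      rw [h2]
      exact h1
  -- back to `k`
  obtain ⟨D', _, _, hD'fp, g, h, hgh, hrad, hnot⟩ := hres2
  letI algkD : Algebra k D' := ((algebraMap (MvPolynomial (Fin d) P) D').comp
    (algebraMap k (MvPolynomial (Fin d) P))).toAlgebra
  haveI : IsScalarTower k (MvPolynomial (Fin d) P) D' := IsScalarTower.of_algebraMap_eq fun _ => rfl
  haveI : Algebra.FinitePresentation k D' :=
    Algebra.FinitePresentation.trans k (MvPolynomial (Fin d) P) D'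
  haveI : Algebra.FormallySmooth k (MvPolynomial (Fin d) P) :=
    Algebra.FormallySmooth.comp k P (MvPolynomial (Fin d) P)
  have h1C : ∀ x : MvPolynomial (Fin d) k,
      (1 : MvPolynomial (Fin d) P) ⊗ₜ[MvPolynomial (Fin d) k] algebraMap (MvPolynomial (Fin d) k) C x =
      algebraMap (MvPolynomial (Fin d) P) (MvPolynomial (Fin d) P ⊗[MvPolynomial (Fin d) k] C)
        (algebraMap (MvPolynomial (Fin d) k) (MvPolynomial (Fin d) P) x) := by
    intro x
    rw [Algebra.TensorProduct.algebraMap_apply, Algebra.algebraMap_self, RingHom.id_apply,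
      Algebra.algebraMap_eq_smul_one x, ← TensorProduct.smul_tmul, Algebra.smul_def, mul_one]
  let g' : A →ₐ[k] D' :=
    { toRingHom := g.toRingHom.comp
        ((Algebra.TensorProduct.includeRight : C →ₐ[MvPolynomial (Fin d) k]
          MvPolynomial (Fin d) P ⊗[MvPolynomial (Fin d) k] C).toRingHom.comp
          ((algebraMap (BB k A d r N a) C).comp (ιA k A d r N a).toRingHom))
      commutes' := by
        intro t
        show g ((1 : MvPolynomial (Fin d) P) ⊗ₜ[MvPolynomial (Fin d) k]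
          algebraMap (BB k A d r N a) C (ιA k A d r N a (algebraMap k A t))) = _
        rw [(ιA k A d r N a).commutes,
          IsScalarTower.algebraMap_apply k (MvPolynomial (Fin d) k) (BB k A d r N a),
          ← IsScalarTower.algebraMap_apply (MvPolynomial (Fin d) k) (BB k A d r N a) C,
          h1C, g.commutes,
          ← IsScalarTower.algebraMap_apply k (MvPolynomial (Fin d) k) (MvPolynomial (Fin d) P)]
        rfl }
  have hg' : ∀ x, g' x = g ((1 : MvPolynomial (Fin d) P) ⊗ₜ[MvPolynomial (Fin d) k]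
      algebraMap (BB k A d r N a) C (ιA k A d r N a x)) := fun _ => rfl
  have hhg : ∀ y, h (g y) = ψR y := fun y => AlgHom.congr_fun hgh y
  have hψι : ∀ x, ψR ((1 : MvPolynomial (Fin d) P) ⊗ₜ[MvPolynomial (Fin d) k]
      algebraMap (BB k A d r N a) C (ιA k A d r N a x)) = φ x := by
    intro x
    rw [hψR, map_one, one_mul, ρ.commutes, Algebra.algebraMap_self, RingHom.id_apply, hβ1]
  have hle : Smoothing.singRad (MvPolynomial (Fin d) P) h ≤
      Smoothing.singRad k (h.restrictScalars k) := by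
    unfold Smoothing.singRad
    apply Ideal.radical_mono
    exact Ideal.map_mono (singularIdeal_le_of_formallySmooth (k := k)
      (R := MvPolynomial (Fin d) P))
  refine ⟨D', inferInstance, algkD, inferInstance, g', h.restrictScalars k, ?_, ?_, ?_⟩
  · ext x
    show h (g' x) = φ x
    rw [hg', hhg, hψι]
  · unfold Smoothing.singRad
    rw [Ideal.radical_le_radical_iff, ← ha]
    rw [Ideal.map_span, Ideal.span_le]
    rintro _ ⟨_, ⟨j, rfl⟩, rfl⟩
    apply hle
    apply hrad
    apply Ideal.le_radical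
    show φ (a j) ∈ _
    rw [← hψι]
    apply Ideal.mem_map_of_mem
    apply tmul_mem_singularIdeal
    apply hmemC
    exact aa_mem k A d r N a j (haH j)
  · intro hcon
    exact hnot (le_trans hle hcon)

end Groth.Agent.H10.InsepAsm
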