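import Mathlib
import Groth.Agent.H75.STI
import Groth.Agent.H65.DiffBasis
import Groth.Agent.H44.STIII
import Groth.Agent.H3.InsepParams
import Groth.Agent.H3.InsepGlue
import Groth.Agent.H3.FlatDescent
import Groth.Agent.H76.MultSubsets
import Groth.Agent.H71.Mult
import Groth.Agent.H10.InsepArt
import Groth.Agent.H27.ResidueImage
import Groth.Agent.H27.FiniteH1Res
import Groth.Agent.H65.FlatQuot
import Groth.Agent.H44.V3Flat
import Groth.Agent.H75.V6IndSmooth
import Groth.Agent.H44.W2Theta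

/-!
# The structure data for the inseparable case of Popescu's theorem (helper10)
-/

set_option autoImplicit false
set_option linter.style.haveILetI false
universe u

namespace Groth.Agent.H10.InsepST

open MvPolynomial IsLocalRing


theorem li_congr {k K : Type u} [Field k] [Field K] [Algebra k K] {t : ℕ} (f g : Fin t → K)
    (h : f = g)
    (hli : LinearIndependent (IntermediateField.adjoin k (Set.range f))
      (fun l : Fin t => KaehlerDifferential.D k (IntermediateField.adjoin k (Set.range f))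
        ⟨f l, IntermediateField.subset_adjoin k _ ⟨l, rfl⟩⟩)) :
    LinearIndependent (IntermediateField.adjoin k (Set.range g))
      (fun l : Fin t => KaehlerDifferential.D k (IntermediateField.adjoin k (Set.range g))
        ⟨g l, IntermediateField.subset_adjoin k _ ⟨l, rfl⟩⟩) := by
  subst h
  exact hli

set_option synthInstance.maxHeartbeats 400000 in
set_option maxHeartbeats 2000000 in
theorem artinian_part {k A Λ P K : Type u} [Field k] [CommRing A] [Algebra k A] [CommRing Λ]
    [Algebra k Λ] [CommRing P] [Algebra k P] [Algebra P Λ] [IsScalarTower k P Λ] [Field K]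
    [Algebra k K] (φ : A →ₐ[k] Λ) (𝔮 : Ideal Λ) [𝔮.IsPrime] (n : ℕ) (hn0 : n ≠ 0)
    (πb : (Localization.AtPrime 𝔮 ⧸ maximalIdeal (Localization.AtPrime 𝔮) ^ n) →ₐ[k] K)
    (ν : Λ →ₐ[k] Localization.AtPrime 𝔮 ⧸ maximalIdeal (Localization.AtPrime 𝔮) ^ n)
    (hν : ∀ y, ν y = Ideal.Quotient.mk _ (algebraMap Λ (Localization.AtPrime 𝔮) y))
    (hπν : ∀ y : Λ, πb (ν y) = 0 ↔ y ∈ 𝔮) (hnil : RingHom.ker πb ^ n = ⊥)
    (A₀ : Subalgebra k (Localization.AtPrime 𝔮 ⧸ maximalIdeal (Localization.AtPrime 𝔮) ^ n))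
    [IsLocalRing A₀]
    [Module.Flat A₀ (Localization.AtPrime 𝔮 ⧸ maximalIdeal (Localization.AtPrime 𝔮) ^ n)]
    (hmax : (maximalIdeal A₀).map (algebraMap A₀
      (Localization.AtPrime 𝔮 ⧸ maximalIdeal (Localization.AtPrime 𝔮) ^ n)) = RingHom.ker πb)
    (hunit : ∀ x : A₀, IsUnit x ↔ πb x ≠ 0)
    (F κ : IntermediateField k K) (hκF : κ ≤ F) (hsep : ∀ x ∈ F, IsSeparable κ x)
    (hF1 : ∀ x ∈ A₀, πb x ∈ F) (hF2 : ∀ c ∈ F, ∃ x ∈ A₀, πb x = c)
    (hPA : ∀ p : P, ν (algebraMap P Λ p) ∈ A₀)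
    (h1κ : ∀ p : P, πb (ν (algebraMap P Λ p)) ∈ κ)
    (h2κ : ∀ c ∈ κ, ∃ p₁ p₂ : P, algebraMap P Λ p₂ ∉ 𝔮 ∧
      c * πb (ν (algebraMap P Λ p₂)) = πb (ν (algebraMap P Λ p₁)))
    {d : ℕ} (π : Fin d → P) (hπ𝔮 : ∀ i, algebraMap P Λ (π i) ∈ 𝔮)
    (hgenP : Ideal.span (Set.range fun i => algebraMap P
        (Localization.AtPrime (𝔮.comap (algebraMap P Λ))) (π i)) =
      maximalIdeal (Localization.AtPrime (𝔮.comap (algebraMap P Λ))))
    (hgenS : Ideal.span (Set.range fun i => algebraMap Λ (Localization.AtPrime 𝔮)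
        (algebraMap P Λ (π i))) = maximalIdeal (Localization.AtPrime 𝔮))
    (hgenK : RingHom.ker πb = Ideal.span (Set.range fun i => ν (algebraMap P Λ (π i))))
    (hflatPS : @Module.Flat (Localization.AtPrime (𝔮.comap (algebraMap P Λ)))
      (Localization.AtPrime 𝔮) _ _
      (Localization.localRingHom (𝔮.comap (algebraMap P Λ)) 𝔮 (algebraMap P Λ)
        rfl).toAlgebra.toModule)
    (hφA : ∀ x : A, ν (φ x) ∈ A₀) {r : ℕ} (a : Fin r → A) (N : ℕ)
    (hpow : (𝔮 ^ N).map (algebraMap Λ (Localization.AtPrime 𝔮)) ≤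
      (Ideal.span (Set.range fun j => φ (a j))).map (algebraMap Λ (Localization.AtPrime 𝔮))) :
    ∃ (Ab : Type u) (_ : CommRing Ab)
        (_ : Algebra (Localization.AtPrime (𝔮.comap (algebraMap P Λ)) ⧸
          maximalIdeal (Localization.AtPrime (𝔮.comap (algebraMap P Λ))) ^ n) Ab)
        (_ : Algebra k Ab)
        (_ : IsScalarTower k (Localization.AtPrime (𝔮.comap (algebraMap P Λ)) ⧸
          maximalIdeal (Localization.AtPrime (𝔮.comap (algebraMap P Λ))) ^ n) Ab),
        Smoothing.IndSmooth (Localization.AtPrime (𝔮.comap (algebraMap P Λ)) ⧸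
          maximalIdeal (Localization.AtPrime (𝔮.comap (algebraMap P Λ))) ^ n) Ab ∧
        ∃ ι : Ab →+* Localization.AtPrime 𝔮 ⧸ maximalIdeal (Localization.AtPrime 𝔮) ^ n,
          (∀ p : P,
            ι (algebraMap (Localization.AtPrime (𝔮.comap (algebraMap P Λ)) ⧸
              maximalIdeal (Localization.AtPrime (𝔮.comap (algebraMap P Λ))) ^ n) Ab
              (Ideal.Quotient.mk _ (algebraMap _ _ p))) =
            Ideal.Quotient.mk _ (algebraMap Λ (Localization.AtPrime 𝔮) (algebraMap P Λ p))) ∧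
          ∃ φA : A →ₐ[k] Ab,
            (∀ x, ι (φA x) =
              Ideal.Quotient.mk _ (algebraMap Λ (Localization.AtPrime 𝔮) (φ x))) ∧
            ∃ dd : Fin d → Fin r → Ab,
              ∀ i, algebraMap (Localization.AtPrime (𝔮.comap (algebraMap P Λ)) ⧸
                maximalIdeal (Localization.AtPrime (𝔮.comap (algebraMap P Λ))) ^ n) Ab
                (Ideal.Quotient.mk _ (algebraMap _ _ (π i))) ^ N = ∑ j, φA (a j) * dd i j := by
  classical
  obtain ⟨θ, hθ, hκ1, hκ2, hnilP, hgenθ⟩ := Groth.Agent.H44.W2Theta.theta_package 𝔮 ν πb hπν A₀ hunit hPA n hnil κ h1κ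
    h2κ π hπ𝔮 hgenK
  -- algebra structures
  letI algPbA : Algebra (Localization.AtPrime (𝔮.comap (algebraMap P Λ)) ⧸
      maximalIdeal (Localization.AtPrime (𝔮.comap (algebraMap P Λ))) ^ n) A₀ := θ.toAlgebra
  letI algPbΛb : Algebra (Localization.AtPrime (𝔮.comap (algebraMap P Λ)) ⧸
      maximalIdeal (Localization.AtPrime (𝔮.comap (algebraMap P Λ))) ^ n)
      (Localization.AtPrime 𝔮 ⧸ maximalIdeal (Localization.AtPrime 𝔮) ^ n) :=
    (A₀.val.toRingHom.comp θ).toAlgebra
  haveI towPbA : IsScalarTower (Localization.AtPrime (𝔮.comap (algebraMap P Λ)) ⧸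
      maximalIdeal (Localization.AtPrime (𝔮.comap (algebraMap P Λ))) ^ n) A₀
      (Localization.AtPrime 𝔮 ⧸ maximalIdeal (Localization.AtPrime 𝔮) ^ n) :=
    IsScalarTower.of_algebraMap_eq fun _ => rfl
  have hθν : ∀ p : P, (θ (Ideal.Quotient.mk _ (algebraMap P _ p)) :
      Localization.AtPrime 𝔮 ⧸ maximalIdeal (Localization.AtPrime 𝔮) ^ n) =
      Ideal.Quotient.mk _ (algebraMap Λ (Localization.AtPrime 𝔮) (algebraMap P Λ p)) :=
    fun p => by rw [hθ, hν]
  -- flatness of `Pb → Λb`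
  letI algP₀S : Algebra (Localization.AtPrime (𝔮.comap (algebraMap P Λ)))
      (Localization.AtPrime 𝔮) :=
    (Localization.localRingHom (𝔮.comap (algebraMap P Λ)) 𝔮 (algebraMap P Λ) rfl).toAlgebra
  have hP₀S : ∀ p : P, algebraMap (Localization.AtPrime (𝔮.comap (algebraMap P Λ)))
      (Localization.AtPrime 𝔮) (algebraMap P _ p) =
      algebraMap Λ (Localization.AtPrime 𝔮) (algebraMap P Λ p) := fun p =>
    Localization.localRingHom_to_map _ _ _ rfl p
  haveI : Module.Flat (Localization.AtPrime (𝔮.comap (algebraMap P Λ)))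
      (Localization.AtPrime 𝔮) := hflatPS
  haveI towP₀ : IsScalarTower (Localization.AtPrime (𝔮.comap (algebraMap P Λ)))
      (Localization.AtPrime (𝔮.comap (algebraMap P Λ)) ⧸
        maximalIdeal (Localization.AtPrime (𝔮.comap (algebraMap P Λ))) ^ n)
      (Localization.AtPrime 𝔮 ⧸ maximalIdeal (Localization.AtPrime 𝔮) ^ n) := by
    refine IsScalarTower.of_algebraMap_eq (R := Localization.AtPrime (𝔮.comap (algebraMap P Λ)))
      (S := Localization.AtPrime (𝔮.comap (algebraMap P Λ)) ⧸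
        maximalIdeal (Localization.AtPrime (𝔮.comap (algebraMap P Λ))) ^ n)
      (A := Localization.AtPrime 𝔮 ⧸ maximalIdeal (Localization.AtPrime 𝔮) ^ n) fun x => ?_
    have hext : ((Ideal.Quotient.mk (maximalIdeal (Localization.AtPrime 𝔮) ^ n)).comp
        (algebraMap (Localization.AtPrime (𝔮.comap (algebraMap P Λ)))
          (Localization.AtPrime 𝔮))) =
        ((A₀.val.toRingHom.comp θ).comp (Ideal.Quotient.mk
          (maximalIdeal (Localization.AtPrime (𝔮.comap (algebraMap P Λ))) ^ n))) := by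
      apply IsLocalization.ringHom_ext (𝔮.comap (algebraMap P Λ)).primeCompl
      ext p
      show Ideal.Quotient.mk _ (algebraMap (Localization.AtPrime (𝔮.comap (algebraMap P Λ)))
        (Localization.AtPrime 𝔮) (algebraMap P _ p)) =
        (θ (Ideal.Quotient.mk _ (algebraMap P _ p)) :
          Localization.AtPrime 𝔮 ⧸ maximalIdeal (Localization.AtPrime 𝔮) ^ n)
      rw [hP₀S, hθν]
    exact RingHom.congr_fun hext x
  have hJ : (maximalIdeal (Localization.AtPrime (𝔮.comap (algebraMap P Λ))) ^ n).map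
      (algebraMap (Localization.AtPrime (𝔮.comap (algebraMap P Λ)))
        (Localization.AtPrime 𝔮)) = maximalIdeal (Localization.AtPrime 𝔮) ^ n := by
    have hfun : (⇑(algebraMap (Localization.AtPrime (𝔮.comap (algebraMap P Λ)))
        (Localization.AtPrime 𝔮)) ∘ fun i => algebraMap P
          (Localization.AtPrime (𝔮.comap (algebraMap P Λ))) (π i)) =
        fun i => algebraMap Λ (Localization.AtPrime 𝔮) (algebraMap P Λ (π i)) :=
      funext fun i => hP₀S _
    rw [Ideal.map_pow, ← hgenP, Ideal.map_span, ← Set.range_comp, hfun, hgenS]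
  haveI hflatPb : Module.Flat (Localization.AtPrime (𝔮.comap (algebraMap P Λ)) ⧸
      maximalIdeal (Localization.AtPrime (𝔮.comap (algebraMap P Λ))) ^ n)
      (Localization.AtPrime 𝔮 ⧸ maximalIdeal (Localization.AtPrime 𝔮) ^ n) :=
    Groth.Agent.H65.FlatQuot.flat_quotient _ _ hJ
  haveI : Nontrivial (Localization.AtPrime 𝔮 ⧸ maximalIdeal (Localization.AtPrime 𝔮) ^ n) :=
    Ideal.Quotient.nontrivial_iff.mpr (fun h => (maximalIdeal.isMaximal _).ne_top
      (top_le_iff.mp (h ▸ Ideal.pow_le_self hn0)))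
  haveI : IsLocalRing (Localization.AtPrime 𝔮 ⧸ maximalIdeal (Localization.AtPrime 𝔮) ^ n) :=
    IsLocalRing.of_surjective' (Ideal.Quotient.mk _) Ideal.Quotient.mk_surjective
  have hind : Smoothing.IndSmooth (Localization.AtPrime (𝔮.comap (algebraMap P Λ)) ⧸
      maximalIdeal (Localization.AtPrime (𝔮.comap (algebraMap P Λ))) ^ n) A₀ :=
    Groth.Agent.H75.V6IndSmooth.indSmooth_of_subalgebra πb A₀ hmax hunit F κ hκF hsep hF1 hF2 hκ1 hκ2
      hnilP hgenθ
  -- the `k`-tower
  haveI towk : IsScalarTower k (Localization.AtPrime (𝔮.comap (algebraMap P Λ)) ⧸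
      maximalIdeal (Localization.AtPrime (𝔮.comap (algebraMap P Λ))) ^ n) A₀ := by
    refine IsScalarTower.of_algebraMap_eq (R := k)
      (S := Localization.AtPrime (𝔮.comap (algebraMap P Λ)) ⧸
        maximalIdeal (Localization.AtPrime (𝔮.comap (algebraMap P Λ))) ^ n)
      (A := A₀) fun c => Subtype.ext ?_
    have h1 : algebraMap k (Localization.AtPrime (𝔮.comap (algebraMap P Λ)) ⧸
        maximalIdeal (Localization.AtPrime (𝔮.comap (algebraMap P Λ))) ^ n) c =
        Ideal.Quotient.mk _ (algebraMap P _ (algebraMap k P c)) := by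
      rw [IsScalarTower.algebraMap_apply k (Localization.AtPrime (𝔮.comap (algebraMap P Λ)))
        (Localization.AtPrime (𝔮.comap (algebraMap P Λ)) ⧸
          maximalIdeal (Localization.AtPrime (𝔮.comap (algebraMap P Λ))) ^ n),
        IsScalarTower.algebraMap_apply k P (Localization.AtPrime (𝔮.comap (algebraMap P Λ)))]
      rfl
    show (algebraMap k A₀ c : Localization.AtPrime 𝔮 ⧸ maximalIdeal (Localization.AtPrime 𝔮) ^ n) =
      (θ (algebraMap k _ c) : Localization.AtPrime 𝔮 ⧸ maximalIdeal (Localization.AtPrime 𝔮) ^ n)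
    rw [h1, hθ, ← IsScalarTower.algebraMap_apply k P Λ, ν.commutes]
    rfl
  -- `A → A₀`
  let φA : A →ₐ[k] A₀ := (ν.comp φ).codRestrict A₀ hφA
  have hφAcoe : ∀ x, (φA x : Localization.AtPrime 𝔮 ⧸ maximalIdeal (Localization.AtPrime 𝔮) ^ n) =
      ν (φ x) := fun _ => rfl
  -- faithful flatness of `A₀ → Λb` and the `dd`
  haveI : IsLocalHom (algebraMap A₀
      (Localization.AtPrime 𝔮 ⧸ maximalIdeal (Localization.AtPrime 𝔮) ^ n)) := by
    refine ⟨fun x hx => (hunit x).mpr ?_⟩
    exact (hx.map πb).ne_zero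
  haveI : Module.FaithfullyFlat A₀
      (Localization.AtPrime 𝔮 ⧸ maximalIdeal (Localization.AtPrime 𝔮) ^ n) :=
    Module.FaithfullyFlat.of_flat_of_isLocalHom (A := A₀)
      (B := Localization.AtPrime 𝔮 ⧸ maximalIdeal (Localization.AtPrime 𝔮) ^ n)
  have hddex : ∀ i, ∃ cf : Fin r → A₀,
      algebraMap (Localization.AtPrime (𝔮.comap (algebraMap P Λ)) ⧸
        maximalIdeal (Localization.AtPrime (𝔮.comap (algebraMap P Λ))) ^ n) A₀
        (Ideal.Quotient.mk _ (algebraMap P _ (π i))) ^ N = ∑ j, φA (a j) * cf j := by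
    intro i
    have hmem : (θ (Ideal.Quotient.mk _ (algebraMap P _ (π i))) ^ N : A₀) ∈
        Ideal.span (Set.range fun j => φA (a j)) := by
      rw [← Ideal.comap_map_eq_self_of_faithfullyFlat (B := Localization.AtPrime 𝔮 ⧸
        maximalIdeal (Localization.AtPrime 𝔮) ^ n) (Ideal.span (Set.range fun j => φA (a j))),
        Ideal.mem_comap, Ideal.map_span, ← Set.range_comp]
      have h1 : algebraMap A₀ (Localization.AtPrime 𝔮 ⧸ maximalIdeal (Localization.AtPrime 𝔮) ^ n)
          (θ (Ideal.Quotient.mk _ (algebraMap P _ (π i))) ^ N) =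
          Ideal.Quotient.mk _ (algebraMap Λ (Localization.AtPrime 𝔮)
            (algebraMap P Λ (π i) ^ N)) := by
        rw [map_pow, map_pow, map_pow]
        congr 1
        exact hθν _
      rw [h1]
      have h2 : algebraMap Λ (Localization.AtPrime 𝔮) (algebraMap P Λ (π i) ^ N) ∈
          (Ideal.span (Set.range fun j => φ (a j))).map
            (algebraMap Λ (Localization.AtPrime 𝔮)) :=
        hpow (Ideal.mem_map_of_mem _ (Ideal.pow_mem_pow (hπ𝔮 i) N))
      have h3 := Ideal.mem_map_of_mem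
        (Ideal.Quotient.mk (maximalIdeal (Localization.AtPrime 𝔮) ^ n)) h2
      rw [Ideal.map_map, Ideal.map_span, ← Set.range_comp] at h3
      have hfun2 : (⇑(algebraMap A₀
          (Localization.AtPrime 𝔮 ⧸ maximalIdeal (Localization.AtPrime 𝔮) ^ n)) ∘
          fun j => φA (a j)) =
          (⇑((Ideal.Quotient.mk (maximalIdeal (Localization.AtPrime 𝔮) ^ n)).comp
            (algebraMap Λ (Localization.AtPrime 𝔮))) ∘ fun j => φ (a j)) := by
        funext j
        show (φA (a j) : Localization.AtPrime 𝔮 ⧸ maximalIdeal (Localization.AtPrime 𝔮) ^ n) = _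
        rw [hφAcoe, hν]
        rfl
      rw [hfun2]
      exact h3
    rw [Ideal.mem_span_range_iff_exists_fun] at hmem
    obtain ⟨cf, hcf⟩ := hmem
    refine ⟨cf, ?_⟩
    show (θ (Ideal.Quotient.mk _ (algebraMap P _ (π i))) ^ N : A₀) = _
    rw [← hcf]
    exact Finset.sum_congr rfl fun j _ => mul_comm _ _
  choose dd hdd using hddex
  refine ⟨A₀, inferInstance, algPbA, inferInstance, towk,
    hind, A₀.val.toRingHom, hθν, φA, fun x => ?_, dd, hdd⟩
  show (φA x : Localization.AtPrime 𝔮 ⧸ maximalIdeal (Localization.AtPrime 𝔮) ^ n) = _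
  rw [hφAcoe, hν]

set_option synthInstance.maxHeartbeats 400000 in
set_option maxHeartbeats 2000000 in
theorem structure_data (p : ℕ) [Fact p.Prime] {k A Λ : Type u} [Field k] [CharP k p]
    [CommRing A] [Algebra k A] [Algebra.FinitePresentation k A] [CommRing Λ] [Algebra k Λ]
    [IsNoetherianRing Λ] (φ : A →ₐ[k] Λ) (𝔮 : Ideal Λ) [𝔮.IsPrime]
    [IsRegularLocalRing (Localization.AtPrime 𝔮)]
    (hS : CAlgX.IsAdicFormallySmooth k (Localization.AtPrime 𝔮)
      (maximalIdeal (Localization.AtPrime 𝔮))) (d : ℕ)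
    (hd : ringKrullDim (Localization.AtPrime 𝔮) = d)
    {r : ℕ} (a : Fin r → A) (N : ℕ) (hN : 0 < N)
    (hpow : (𝔮 ^ N).map (algebraMap Λ (Localization.AtPrime 𝔮)) ≤
      (Ideal.span (Set.range fun j => φ (a j))).map (algebraMap Λ (Localization.AtPrime 𝔮)))
    (e : ℕ) (he : 0 < e) (n : ℕ) (hNn : N ≤ n) :
    ∃ (P : Type u) (_ : CommRing P) (_ : Algebra k P) (_ : Algebra.FinitePresentation k P)
      (_ : Algebra.FormallySmooth k P) (_ : Algebra P Λ) (_ : IsScalarTower k P Λ)
      (π : Fin d → P),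
      (∀ i, algebraMap P Λ (π i) ∈ 𝔮) ∧
      Ideal.span (Set.range fun i => algebraMap P
        (Localization.AtPrime (𝔮.comap
          (algebraMap P Λ))) (π i)) =
        maximalIdeal (Localization.AtPrime (𝔮.comap
          (algebraMap P Λ))) ∧
      Ideal.span (Set.range fun i => algebraMap Λ (Localization.AtPrime 𝔮)
        (algebraMap P Λ (π i))) =
        maximalIdeal (Localization.AtPrime 𝔮) ∧
      (∀ (i : Fin d) (W : Finset (Fin d)), (∀ j ∈ W, j < i) →
        ∀ y : P,
        (π i) ^ 2 * y ∈ Ideal.span ((fun j => (π j) ^ e) '' (W : Set (Fin d))) →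
        (π i) * y ∈ Ideal.span ((fun j => (π j) ^ e) '' (W : Set (Fin d)))) ∧
      ∃ (Ab : Type u) (_ : CommRing Ab)
        (_ : Algebra (Localization.AtPrime (𝔮.comap
            (algebraMap P Λ)) ⧸
          maximalIdeal (Localization.AtPrime (𝔮.comap
            (algebraMap P Λ))) ^ n) Ab)
        (_ : Algebra k Ab)
        (_ : IsScalarTower k (Localization.AtPrime (𝔮.comap
            (algebraMap P Λ)) ⧸
          maximalIdeal (Localization.AtPrime (𝔮.comap
            (algebraMap P Λ))) ^ n) Ab),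
        Smoothing.IndSmooth (Localization.AtPrime (𝔮.comap
            (algebraMap P Λ)) ⧸
          maximalIdeal (Localization.AtPrime (𝔮.comap
            (algebraMap P Λ))) ^ n) Ab ∧
        ∃ ι : Ab →+* Localization.AtPrime 𝔮 ⧸ maximalIdeal (Localization.AtPrime 𝔮) ^ n,
          (∀ p : P,
            ι (algebraMap (Localization.AtPrime (𝔮.comap
                (algebraMap P Λ)) ⧸
              maximalIdeal (Localization.AtPrime (𝔮.comap
                (algebraMap P Λ))) ^ n) Ab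
              (Ideal.Quotient.mk _ (algebraMap _ _ p))) =
            Ideal.Quotient.mk _ (algebraMap Λ (Localization.AtPrime 𝔮)
              (algebraMap P Λ p))) ∧
          ∃ φA : A →ₐ[k] Ab,
            (∀ x, ι (φA x) =
              Ideal.Quotient.mk _ (algebraMap Λ (Localization.AtPrime 𝔮) (φ x))) ∧
            ∃ dd : Fin d → Fin r → Ab,
              ∀ i, algebraMap (Localization.AtPrime (𝔮.comap
                  (algebraMap P Λ)) ⧸
                maximalIdeal (Localization.AtPrime (𝔮.comap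
                  (algebraMap P Λ))) ^ n) Ab
                (Ideal.Quotient.mk _ (algebraMap _ _ (π i))) ^ N = ∑ j, φA (a j) * dd i j := by
  classical
  have hn0 : n ≠ 0 := by omega
  have hmaxS : 𝔮.map (algebraMap Λ (Localization.AtPrime 𝔮)) =
      maximalIdeal (Localization.AtPrime 𝔮) := Localization.AtPrime.map_eq_maximalIdeal
  have hH := Groth.Agent.H27.FiniteH1Res.finite_h1Cotangent_residueField hS
  let πb : (Localization.AtPrime 𝔮 ⧸ maximalIdeal (Localization.AtPrime 𝔮) ^ n) →ₐ[k]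
      ResidueField (Localization.AtPrime 𝔮) :=
    Ideal.Quotient.liftₐ (maximalIdeal (Localization.AtPrime 𝔮) ^ n)
      (IsScalarTower.toAlgHom k (Localization.AtPrime 𝔮) (ResidueField (Localization.AtPrime 𝔮)))
      (fun x hx => (residue_eq_zero_iff x).mpr (Ideal.pow_le_self hn0 hx))
  have hπb : ∀ x : Localization.AtPrime 𝔮, πb (Ideal.Quotient.mk _ x) = residue _ x := fun _ => rfl
  have hπsurj : Function.Surjective πb := fun y => by
    obtain ⟨x, rfl⟩ := residue_surjective y
    exact ⟨Ideal.Quotient.mk _ x, rfl⟩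
  have hkerπ : RingHom.ker πb = (maximalIdeal (Localization.AtPrime 𝔮)).map
      (Ideal.Quotient.mk (maximalIdeal (Localization.AtPrime 𝔮) ^ n)) := by
    ext x
    obtain ⟨y, rfl⟩ := Ideal.Quotient.mk_surjective x
    rw [RingHom.mem_ker, hπb, residue_eq_zero_iff, Ideal.mem_quotient_iff_mem_sup,
      sup_eq_left.mpr (Ideal.pow_le_self hn0)]
  obtain ⟨d', q, hq⟩ := Submodule.fg_iff_exists_fin_generating_family.mp
    (IsNoetherian.noetherian 𝔮)
  have hq' : Ideal.span (Set.range q) = 𝔮 := hq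
  let ν : Λ →ₐ[k] Localization.AtPrime 𝔮 ⧸ maximalIdeal (Localization.AtPrime 𝔮) ^ n :=
    (Ideal.Quotient.mkₐ k (maximalIdeal (Localization.AtPrime 𝔮) ^ n)).comp
      (IsScalarTower.toAlgHom k Λ (Localization.AtPrime 𝔮))
  have hν : ∀ y, ν y = Ideal.Quotient.mk _ (algebraMap Λ (Localization.AtPrime 𝔮) y) :=
    fun _ => rfl
  have hπν : ∀ y : Λ, πb (ν y) = 0 ↔ y ∈ 𝔮 := by
    intro y
    rw [hν, hπb, residue_eq_zero_iff]
    exact IsLocalization.AtPrime.to_map_mem_maximal_iff (Localization.AtPrime 𝔮) 𝔮 y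
  have hlam : Ideal.span (Set.range fun i => ν (q i)) = RingHom.ker πb := by
    have h𝔪span : maximalIdeal (Localization.AtPrime 𝔮) =
        Ideal.span (Set.range fun i => algebraMap Λ (Localization.AtPrime 𝔮) (q i)) := by
      have h1 := congrArg (Ideal.map (algebraMap Λ (Localization.AtPrime 𝔮))) hq'
      rw [Ideal.map_span, ← Set.range_comp, hmaxS] at h1
      exact h1.symm
    have h2 := congrArg
      (Ideal.map (Ideal.Quotient.mk (maximalIdeal (Localization.AtPrime 𝔮) ^ n))) h𝔪span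
    rw [Ideal.map_span, ← Set.range_comp] at h2
    rw [hkerπ, h2]
    rfl
  have hnil : RingHom.ker πb ^ n = ⊥ := by
    rw [hkerπ, ← Ideal.map_pow, Ideal.map_quotient_self]
  have hνfrac : ∀ x : Localization.AtPrime 𝔮 ⧸ maximalIdeal (Localization.AtPrime 𝔮) ^ n,
      ∃ l s : Λ, πb (ν s) ≠ 0 ∧ ν s * x = ν l := by
    intro x
    obtain ⟨y, rfl⟩ := Ideal.Quotient.mk_surjective x
    obtain ⟨l, s, rfl⟩ := IsLocalization.exists_mk'_eq 𝔮.primeCompl y
    refine ⟨l, s, fun h0 => s.2 ((hπν _).mp h0), ?_⟩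
    rw [hν, hν, ← map_mul, mul_comm, IsLocalization.mk'_spec]
  obtain ⟨gA, hgA⟩ := (Algebra.FiniteType.out : (⊤ : Subalgebra k A).FG)
  obtain ⟨A₀, hloc, F, hE, hart, hflat, hess, hmax, hunit, hlamA, hF1, hF2, ι₀, hfin, w, hw,
      hadj⟩ := Groth.Agent.H75.STI.exists_subalgebra_with_lifts p hH πb hπsurj
    (fun i => ν (q i)) hlam hnil ν hνfrac (gA.image fun x => ν (φ x))
  haveI := hloc
  haveI := hfin
  haveI := hflat
  obtain ⟨t, j, hsep, hli⟩ := Groth.Agent.H65.DiffBasis.exists_differential_basis (k := k)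
    (fun i => πb (ν (w i)))
  rw [hadj] at hsep
  -- the polynomial ring `P' = k[T_1..T_t]`
  let u : Fin t → Λ := fun l => w (j l)
  letI algP'Λ : Algebra (MvPolynomial (Fin t) k) Λ :=
    (aeval u : MvPolynomial (Fin t) k →ₐ[k] Λ).toRingHom.toAlgebra
  haveI : IsScalarTower k (MvPolynomial (Fin t) k) Λ :=
    IsScalarTower.of_algebraMap_eq fun c =>
      ((aeval u : MvPolynomial (Fin t) k →ₐ[k] Λ).commutes c).symm
  have hu : ∀ l, algebraMap (MvPolynomial (Fin t) k) Λ (X l) = u l := fun l => aeval_X u l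
  have hfun : ((fun i => πb (ν (w i))) ∘ j) = fun l : Fin t =>
      residue (Localization.AtPrime 𝔮) (algebraMap Λ (Localization.AtPrime 𝔮)
        (algebraMap (MvPolynomial (Fin t) k) Λ (X l))) := by
    funext l
    rw [hu]
    rfl
  have hli' := li_congr _ _ hfun hli
  have hcot := fun (r : ℕ) (x : Fin r → MvPolynomial (Fin t) k) hx hxS hxli =>
    Groth.Agent.H44.STIII.cotangent_independent_of_differentials 𝔮 hS hli' (r := r) x hx hxS hxli
  obtain ⟨s, z, π₁, hπ₁𝔮, hgenP₁, hgenS₁⟩ :=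
    Groth.Agent.H3.InsepParams.exists_parameters 𝔮 d hd hcot q hq'
  -- the polynomial ring `P = P'[Y_1..Y_s]`
  letI algPΛ : Algebra (MvPolynomial (Fin s) (MvPolynomial (Fin t) k)) Λ :=
    (aeval (fun l => q (z l)) :
      MvPolynomial (Fin s) (MvPolynomial (Fin t) k) →ₐ[MvPolynomial (Fin t) k] Λ).toRingHom.toAlgebra
  haveI : IsScalarTower (MvPolynomial (Fin t) k) (MvPolynomial (Fin s) (MvPolynomial (Fin t) k)) Λ :=
    IsScalarTower.of_algebraMap_eq fun c =>
      ((aeval (fun l => q (z l)) :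
        MvPolynomial (Fin s) (MvPolynomial (Fin t) k) →ₐ[MvPolynomial (Fin t) k] Λ).commutes c).symm
  haveI towkPΛ : IsScalarTower k (MvPolynomial (Fin s) (MvPolynomial (Fin t) k)) Λ := by
    refine IsScalarTower.of_algebraMap_eq fun c => ?_
    rw [IsScalarTower.algebraMap_apply k (MvPolynomial (Fin t) k) Λ,
      IsScalarTower.algebraMap_apply k (MvPolynomial (Fin t) k)
        (MvPolynomial (Fin s) (MvPolynomial (Fin t) k)),
      ← IsScalarTower.algebraMap_apply (MvPolynomial (Fin t) k)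
        (MvPolynomial (Fin s) (MvPolynomial (Fin t) k)) Λ]
  have hy : ∀ l, algebraMap (MvPolynomial (Fin s) (MvPolynomial (Fin t) k)) Λ (X l) ∈ 𝔮 := by
    intro l
    show aeval (fun l => q (z l)) (X l) ∈ 𝔮
    rw [aeval_X, ← hq']
    exact Ideal.subset_span ⟨z l, rfl⟩
  have hπ₁𝔮' : ∀ i, algebraMap (MvPolynomial (Fin s) (MvPolynomial (Fin t) k)) Λ (π₁ i) ∈ 𝔮 :=
    hπ₁𝔮
  have hgenP₁' : Ideal.span (Set.range fun i =>
      algebraMap (MvPolynomial (Fin s) (MvPolynomial (Fin t) k))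
        (Localization.AtPrime (𝔮.comap
          (algebraMap (MvPolynomial (Fin s) (MvPolynomial (Fin t) k)) Λ))) (π₁ i)) =
      maximalIdeal (Localization.AtPrime (𝔮.comap
        (algebraMap (MvPolynomial (Fin s) (MvPolynomial (Fin t) k)) Λ))) := hgenP₁
  have hgenS₁' : Ideal.span (Set.range fun i => algebraMap Λ (Localization.AtPrime 𝔮)
      (algebraMap (MvPolynomial (Fin s) (MvPolynomial (Fin t) k)) Λ (π₁ i))) =
      maximalIdeal (Localization.AtPrime 𝔮) := hgenS₁
  obtain ⟨hdP, hflatPS⟩ := Groth.Agent.H44.V3Flat.flat_localRingHom 𝔮 d hd π₁ hgenP₁' hgenS₁'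
  obtain ⟨g, hg, hPS⟩ := Groth.Agent.H76.MultSubsets.exists_multipliers_subsets
    (𝔮.comap (algebraMap (MvPolynomial (Fin s) (MvPolynomial (Fin t) k)) Λ)) d hdP π₁ hgenP₁' e he
  have hgunitP : ∀ i, IsUnit (algebraMap (MvPolynomial (Fin s) (MvPolynomial (Fin t) k))
      (Localization.AtPrime (𝔮.comap
        (algebraMap (MvPolynomial (Fin s) (MvPolynomial (Fin t) k)) Λ))) (g i)) := fun i =>
    IsLocalization.map_units _ (⟨g i, hg i⟩ :
      (𝔮.comap (algebraMap (MvPolynomial (Fin s) (MvPolynomial (Fin t) k)) Λ)).primeCompl)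
  have hgunitS : ∀ i, IsUnit (algebraMap Λ (Localization.AtPrime 𝔮)
      (algebraMap (MvPolynomial (Fin s) (MvPolynomial (Fin t) k)) Λ (g i))) := fun i =>
    IsLocalization.map_units _ (⟨algebraMap _ Λ (g i), hg i⟩ : 𝔮.primeCompl)
  haveI hfsP : Algebra.FormallySmooth k (MvPolynomial (Fin s) (MvPolynomial (Fin t) k)) :=
    Algebra.FormallySmooth.comp k (MvPolynomial (Fin t) k) _
  haveI hfsP : Algebra.FormallySmooth k (MvPolynomial (Fin s) (MvPolynomial (Fin t) k)) :=
    Algebra.FormallySmooth.comp k (MvPolynomial (Fin t) k) _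
  have hπ𝔮 : ∀ i, algebraMap (MvPolynomial (Fin s) (MvPolynomial (Fin t) k)) Λ (g i * π₁ i) ∈ 𝔮 := fun i => by
    rw [map_mul]
    exact Ideal.mul_mem_left _ _ (hπ₁𝔮' i)
  have hgenP : Ideal.span (Set.range fun i => algebraMap (MvPolynomial (Fin s) (MvPolynomial (Fin t) k))
      (Localization.AtPrime (𝔮.comap (algebraMap (MvPolynomial (Fin s) (MvPolynomial (Fin t) k)) Λ))) (g i * π₁ i)) =
      maximalIdeal (Localization.AtPrime (𝔮.comap (algebraMap (MvPolynomial (Fin s) (MvPolynomial (Fin t) k)) Λ))) := by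
    have h1 := Groth.Agent.H71.Mult.span_unit_mul
      (fun i => algebraMap (MvPolynomial (Fin s) (MvPolynomial (Fin t) k))
        (Localization.AtPrime (𝔮.comap (algebraMap (MvPolynomial (Fin s) (MvPolynomial (Fin t) k)) Λ))) (π₁ i))
      (fun i => algebraMap (MvPolynomial (Fin s) (MvPolynomial (Fin t) k))
        (Localization.AtPrime (𝔮.comap (algebraMap (MvPolynomial (Fin s) (MvPolynomial (Fin t) k)) Λ))) (g i)) hgunitP
    rw [← hgenP₁', ← h1]
    congr 1
    ext x
    simp only [Set.mem_range, map_mul]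
  have hgenS : Ideal.span (Set.range fun i => algebraMap Λ (Localization.AtPrime 𝔮)
      (algebraMap (MvPolynomial (Fin s) (MvPolynomial (Fin t) k)) Λ (g i * π₁ i))) = maximalIdeal (Localization.AtPrime 𝔮) := by
    have h1 := Groth.Agent.H71.Mult.span_unit_mul
      (fun i => algebraMap Λ (Localization.AtPrime 𝔮) (algebraMap (MvPolynomial (Fin s) (MvPolynomial (Fin t) k)) Λ (π₁ i)))
      (fun i => algebraMap Λ (Localization.AtPrime 𝔮) (algebraMap (MvPolynomial (Fin s) (MvPolynomial (Fin t) k)) Λ (g i))) hgunitS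
    rw [← hgenS₁', ← h1]
    congr 1
    ext x
    simp only [Set.mem_range, map_mul]
  -- the Artinian part
  have hP'A : ∀ c : MvPolynomial (Fin t) k, ν (algebraMap (MvPolynomial (Fin t) k) Λ c) ∈ A₀ := by
    intro c
    induction c using MvPolynomial.induction_on with
    | C c' =>
      rw [← MvPolynomial.algebraMap_eq, ← IsScalarTower.algebraMap_apply k _ Λ, ν.commutes]
      exact A₀.algebraMap_mem c'
    | add f1 f2 h1 h2 =>
      rw [map_add, map_add]
      exact A₀.add_mem h1 h2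
    | mul_X f l hf =>
      rw [map_mul, map_mul, hu]
      exact A₀.mul_mem hf (hw (j l))
  have hPA : ∀ p : MvPolynomial (Fin s) (MvPolynomial (Fin t) k), ν (algebraMap (MvPolynomial (Fin s) (MvPolynomial (Fin t) k)) Λ p) ∈ A₀ := by
    intro p
    induction p using MvPolynomial.induction_on with
    | C c =>
      have h1 : algebraMap (MvPolynomial (Fin s) (MvPolynomial (Fin t) k)) Λ (C c) = algebraMap (MvPolynomial (Fin t) k) Λ c := by
        rw [← MvPolynomial.algebraMap_eq, ← IsScalarTower.algebraMap_apply]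
      rw [h1]
      exact hP'A c
    | add f1 f2 h1 h2 =>
      rw [map_add, map_add]
      exact A₀.add_mem h1 h2
    | mul_X f l hf =>
      rw [map_mul, map_mul]
      refine A₀.mul_mem hf ?_
      have h1 : algebraMap (MvPolynomial (Fin s) (MvPolynomial (Fin t) k)) Λ (X l) = q (z l) := aeval_X _ l
      rw [h1]
      exact hlamA (z l)
  obtain ⟨hres1, hres2⟩ := Groth.Agent.H27.ResidueImage.residue_image 𝔮 u hu hy
  have hκeq : (fun l : Fin t => residue (Localization.AtPrime 𝔮)
      (algebraMap Λ (Localization.AtPrime 𝔮) (u l))) = ((fun i => πb (ν (w i))) ∘ j) := rfl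
  rw [hκeq] at hres1 hres2
  have hκF : IntermediateField.adjoin k (Set.range ((fun i => πb (ν (w i))) ∘ j)) ≤ F := by
    rw [← hadj]
    exact IntermediateField.adjoin.mono _ _ _ (Set.range_comp_subset_range _ _)
  obtain ⟨κ, hκdef⟩ : ∃ κ : IntermediateField k (ResidueField (Localization.AtPrime 𝔮)),
      κ = IntermediateField.adjoin k (Set.range ((fun i => πb (ν (w i))) ∘ j)) := ⟨_, rfl⟩
  rw [← hκdef] at hsep hres2 hκF
  have h1κ : ∀ p : MvPolynomial (Fin s) (MvPolynomial (Fin t) k), πb (ν (algebraMap (MvPolynomial (Fin s) (MvPolynomial (Fin t) k)) Λ p)) ∈ κ := by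
    intro p
    rw [hκdef]
    exact IntermediateField.algebra_adjoin_le_adjoin k _ (hres1 p)
  have hgenK : RingHom.ker πb = Ideal.span (Set.range fun i =>
      ν (algebraMap (MvPolynomial (Fin s) (MvPolynomial (Fin t) k)) Λ (g i * π₁ i))) := by
    have h2 := congrArg
      (Ideal.map (Ideal.Quotient.mk (maximalIdeal (Localization.AtPrime 𝔮) ^ n))) hgenS
    rw [Ideal.map_span, ← Set.range_comp] at h2
    rw [hkerπ, ← h2]
    rfl
  have hφA : ∀ x : A, ν (φ x) ∈ A₀ := by
    have h1 : Algebra.adjoin k (gA : Set A) ≤ A₀.comap (ν.comp φ) := by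
      refine Algebra.adjoin_le fun x hx => ?_
      show ν (φ x) ∈ A₀
      exact hE (Finset.mem_coe.mpr (Finset.mem_image_of_mem _ (Finset.mem_coe.mp hx)))
    intro x
    exact h1 (by rw [hgA]; trivial)
  exact ⟨MvPolynomial (Fin s) (MvPolynomial (Fin t) k), inferInstance, inferInstance, inferInstance, hfsP, algPΛ, towkPΛ,
    fun i => g i * π₁ i, hπ𝔮, hgenP, hgenS, hPS,
    artinian_part φ 𝔮 n hn0 πb ν hν hπν hnil A₀ hmax hunit F κ hκF hsep hF1 hF2 hPA h1κ hres2
      (fun i => g i * π₁ i) hπ𝔮 hgenP hgenS hgenK hflatPS hφA a N hpow⟩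

end Groth.Agent.H10.InsepST
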