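import Mathlib
import Groth.Prelude.Def_FEt
import Groth.Prelude.Def_Flatn
import Groth.Agent.H84.IntHom_VAL

/-!
# helper10 squad piece (EXT) for helper79 (S1149)
-/

set_option autoImplicit false
universe u
open CategoryTheory CategoryTheory.Limits AlgebraicGeometry Opposite TensorProduct

namespace Groth.Agent.H10.IntHom_EXT

/-- the statement of piece (VAL), for fixed `O`, `K`. -/
def VALStatement (O K : Type u) [CommRing O] [IsDomain O] [ValuationRing O] [Field K] [Algebra O K]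
    [IsFractionRing O K] : Prop :=
  ∀ {B C : Type u} [CommRing B] [Algebra O B] [Algebra.Etale O B] [CommRing C] [Algebra O C]
    [Algebra.IsIntegral O C] (φ : C →ₐ[O] B ⊗[O] K), ∃ ψ : C →ₐ[O] B, ∀ c, φ c = ψ c ⊗ₜ[O] (1 : K)

/-- ring-level core: from the pushout square of global sections to the ring map `ψ`. -/
theorem exists_ring_hom {O K : Type u} [CommRing O] [IsDomain O] [ValuationRing O] [Field K]
    [Algebra O K] [IsFractionRing O K] (hVAL : VALStatement O K)
    {R₀ KΓ B C BK : CommRingCat.{u}} (eO : R₀ ≅ CommRingCat.of O) (eK : KΓ ≅ CommRingCat.of K)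
    (pT : R₀ ⟶ B) (aT : R₀ ⟶ KΓ) (tT : B ⟶ BK) (pKT : KΓ ⟶ BK) (cT : R₀ ⟶ C) (bKT : C ⟶ BK)
    (haT : aT ≫ eK.hom = eO.hom ≫ CommRingCat.ofHom (algebraMap O K))
    (hPO : IsPushout pT aT tT pKT) (hEt : (eO.inv ≫ pT).hom.Etale)
    (hFin : (eO.inv ≫ cT).hom.Finite) (hcomm : cT ≫ bKT = pT ≫ tT) :
    ∃ ψ : C ⟶ B, cT ≫ ψ = pT ∧ ψ ≫ tT = bKT := by
  letI : Algebra O B := (eO.inv ≫ pT).hom.toAlgebra
  letI : Algebra O C := (eO.inv ≫ cT).hom.toAlgebra
  letI : Algebra K BK := (eK.inv ≫ pKT).hom.toAlgebra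
  letI : Algebra B BK := tT.hom.toAlgebra
  letI : Algebra O BK := (eO.inv ≫ pT ≫ tT).hom.toAlgebra
  haveI : IsScalarTower O B BK := IsScalarTower.of_algebraMap_eq fun _ => rfl
  have hsq : aT ≫ pKT = pT ≫ tT := hPO.w.symm
  have haT' : eO.inv ≫ aT = CommRingCat.ofHom (algebraMap O K) ≫ eK.inv := by
    rw [Iso.inv_comp_eq, ← Category.assoc, ← haT, Category.assoc, Iso.hom_inv_id, Category.comp_id]
  haveI : IsScalarTower O K BK := IsScalarTower.of_algebraMap_eq fun o => by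
    change (eO.inv ≫ pT ≫ tT).hom o = (eK.inv ≫ pKT).hom (algebraMap O K o)
    have : eO.inv ≫ pT ≫ tT = CommRingCat.ofHom (algebraMap O K) ≫ eK.inv ≫ pKT := by
      rw [← hsq, ← Category.assoc, haT', Category.assoc]
    rw [this]
    rfl
  haveI : Algebra.Etale O B := hEt
  haveI : Module.Finite O C := hFin
  haveI : Algebra.IsIntegral O C := Algebra.IsIntegral.of_finite O C
  have hPO' : IsPushout (CommRingCat.ofHom (algebraMap O B)) (CommRingCat.ofHom (algebraMap O K))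
      (CommRingCat.ofHom (algebraMap B BK)) (CommRingCat.ofHom (algebraMap K BK)) := by
    refine IsPushout.of_iso hPO eO (Iso.refl _) eK (Iso.refl _) ?_ haT ?_ ?_
    · change pT ≫ 𝟙 _ = eO.hom ≫ (eO.inv ≫ pT)
      rw [Category.comp_id, Iso.hom_inv_id_assoc]
    · change tT ≫ 𝟙 _ = 𝟙 _ ≫ tT
      rw [Category.comp_id, Category.id_comp]
    · change pKT ≫ 𝟙 _ = eK.hom ≫ (eK.inv ≫ pKT)
      rw [Category.comp_id, Iso.hom_inv_id_assoc]
  haveI : Algebra.IsPushout O B K BK := CommRingCat.isPushout_iff_isPushout.mp hPO'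
  let e : B ⊗[O] K ≃ₐ[B] BK := Algebra.IsPushout.equiv O B K BK
  have hcomm' : ∀ x, bKT.hom (cT.hom x) = tT.hom (pT.hom x) := fun x =>
    congrArg (fun f => f.hom x) hcomm
  let φ : C →ₐ[O] B ⊗[O] K :=
    { toRingHom := (e.symm : BK →+* B ⊗[O] K).comp bKT.hom
      commutes' := fun o => by
        change e.symm (bKT.hom (cT.hom (eO.inv.hom o))) = _
        rw [hcomm']
        change e.symm (algebraMap B BK (algebraMap O B o)) = _
        rw [Algebra.IsPushout.equiv_symm_algebraMap_left]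
        rfl }
  obtain ⟨ψ, hψ⟩ := hVAL φ
  refine ⟨CommRingCat.ofHom ψ.toRingHom, ?_, ?_⟩
  · ext x
    change ψ (cT.hom x) = pT.hom x
    have hx : x = eO.inv.hom (eO.hom.hom x) := by
      change x = (eO.hom ≫ eO.inv).hom x
      rw [Iso.hom_inv_id]; rfl
    rw [hx]
    exact ψ.commutes (eO.hom.hom x)
  · ext y
    change tT.hom (ψ y) = bKT.hom y
    have h1 : e (ψ y ⊗ₜ[O] (1 : K)) = tT.hom (ψ y) := by
      rw [Algebra.IsPushout.equiv_tmul, map_one, mul_one]; rfl
    rw [← h1, ← hψ y]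
    exact e.apply_symm_apply _

/-- (EXT), with (VAL) as a hypothesis. -/
theorem exists_extension_of_valuationRing_of {O K : Type u} [CommRing O] [IsDomain O]
    [ValuationRing O] [Field K] [Algebra O K] [IsFractionRing O K] (hVAL : VALStatement O K)
    {P PK Y : Scheme.{u}} (p : P ⟶ Spec (.of O)) [IsAffineHom p] [Etale p]
    (c : Y ⟶ Spec (.of O)) [IsFinite c] (t : PK ⟶ P) (pK : PK ⟶ Spec (.of K))
    (h : IsPullback t pK p (Spec.map (CommRingCat.ofHom (algebraMap O K))))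
    (bK : PK ⟶ Y) (hbK : bK ≫ c = t ≫ p) : ∃ b : P ⟶ Y, t ≫ b = bK ∧ b ≫ c = p := by
  haveI : IsAffine P := isAffine_of_isAffineHom p
  haveI : IsAffine Y := isAffine_of_isAffineHom c
  have hPO := isPushout_appTop_of_isPullback h
  have hEt0 : p.appTop.hom.Etale := (HasRingHomProperty.iff_of_isAffine (P := @Etale)).mp ‹Etale p›
  have hFin0 : c.appTop.hom.Finite := Scheme.Hom.finite_appTop c
  have hbij : Function.Bijective (Scheme.ΓSpecIso (CommRingCat.of O)).inv.hom :=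
    ConcreteCategory.bijective_of_isIso (Scheme.ΓSpecIso (CommRingCat.of O)).inv
  have hEt : ((Scheme.ΓSpecIso (CommRingCat.of O)).inv ≫ p.appTop).hom.Etale :=
    RingHom.Etale.stableUnderComposition _ _ (RingHom.Etale.of_bijective hbij) hEt0
  have hFin : ((Scheme.ΓSpecIso (CommRingCat.of O)).inv ≫ c.appTop).hom.Finite :=
    RingHom.Finite.comp hFin0 (RingHom.Finite.of_surjective _ hbij.2)
  have hcomm : c.appTop ≫ bK.appTop = p.appTop ≫ t.appTop := by
    rw [← Scheme.Hom.comp_appTop, ← Scheme.Hom.comp_appTop, hbK]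
  obtain ⟨ψ, hψ1, hψ2⟩ := exists_ring_hom hVAL (Scheme.ΓSpecIso (CommRingCat.of O))
    (Scheme.ΓSpecIso (CommRingCat.of K)) p.appTop
    (Spec.map (CommRingCat.ofHom (algebraMap O K))).appTop t.appTop pK.appTop c.appTop bK.appTop
    (Scheme.ΓSpecIso_naturality _) hPO hEt hFin hcomm
  refine ⟨P.toSpecΓ ≫ Spec.map ψ ≫ Y.isoSpec.inv, ?_, ?_⟩
  · rw [← cancel_mono Y.isoSpec.hom]
    simp only [Category.assoc, Iso.inv_hom_id, Category.comp_id]
    rw [Scheme.toSpecΓ_naturality_assoc, ← Spec.map_comp, hψ2]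
    exact (Scheme.toSpecΓ_naturality bK).symm
  · rw [← cancel_mono (Spec (CommRingCat.of O)).toSpecΓ]
    simp only [Category.assoc]
    rw [Scheme.toSpecΓ_naturality c]
    have : Y.isoSpec.inv ≫ Y.toSpecΓ = 𝟙 _ := Y.isoSpec.inv_hom_id
    rw [reassoc_of% this, ← Spec.map_comp, hψ1]
    exact (Scheme.toSpecΓ_naturality p).symm

/-- (EXT), EXACT statement, closed form (uses helper84's (VAL)). -/
theorem exists_extension_of_valuationRing {O K : Type u} [CommRing O] [IsDomain O]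
    [ValuationRing O] [Field K] [Algebra O K] [IsFractionRing O K]
    {P PK Y : Scheme.{u}} (p : P ⟶ Spec (.of O)) [IsAffineHom p] [Etale p]
    (c : Y ⟶ Spec (.of O)) [IsFinite c] (t : PK ⟶ P) (pK : PK ⟶ Spec (.of K))
    (h : IsPullback t pK p (Spec.map (CommRingCat.ofHom (algebraMap O K))))
    (bK : PK ⟶ Y) (hbK : bK ≫ c = t ≫ p) : ∃ b : P ⟶ Y, t ≫ b = bK ∧ b ≫ c = p :=
  exists_extension_of_valuationRing_of
    (fun φ => Groth.Agent.H84.IntHom_VAL.exists_algHom_of_valuationRing φ) p c t pK h bK hbK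

end Groth.Agent.H10.IntHom_EXT
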