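import Mathlib
import Groth.Agent.H69.DirColim
import Groth.Agent.H15.NilPair.Base
import Groth.Agent.H15.NilPair.Sys
import Groth.Agent.H15.IntPair.Sys

/-! (KC) of helper15's S18014 squad: an element of `C_j` dying in `C` dies at a later stage. -/

set_option autoImplicit false
universe u
open CategoryTheory MvPolynomial Limits
open Groth.Agent.H69 Groth.Agent.H15.IntPair
open Groth.Agent.H15.NilPair (PS IT Cq mkq mkq_surjective mkq_eq_zero mkq_eq_zero_iff fp tr tr_mkq
  tr_refl tr_trans toE toE_mkq toE_tr gen_top X_mem_PS PS_mono dirNat)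
open scoped Classical

namespace Groth.Agent.H10.IntPair_KC

variable {A B C : Type u} [CommRing A] [CommRing B] [CommRing C] [Algebra A B] [Algebra A C]
  [Algebra B C] [IsScalarTower A B C]

/-- the raw index obtained by adding `g` to `TC` and `E` to `TB`. -/
noncomputable def ext (j : Raw A B C) (g : MvPolynomial (B ⊕ C) A)
    (E : Finset (MvPolynomial (B ⊕ C) A)) : Raw A B C :=
  ⟨j.Z, j.S, j.TB ∪ E, insert g j.TC⟩

omit [CommRing B] [CommRing C] [Algebra A B] [Algebra A C] [Algebra B C] [IsScalarTower A B C] in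
theorem le_ext (j : Raw A B C) (g : MvPolynomial (B ⊕ C) A)
    (E : Finset (MvPolynomial (B ⊕ C) A)) : j ≤ ext j g E :=
  ⟨subset_rfl, subset_rfl, Finset.subset_union_left, Finset.subset_insert _ _⟩

omit [CommRing B] [CommRing C] [Algebra A B] [Algebra A C] [Algebra B C] [IsScalarTower A B C] in
theorem isNilpotent_of_pow_mem {S : Finset (B ⊕ C)} {T : Finset (MvPolynomial (B ⊕ C) A)}
    (g : MvPolynomial (B ⊕ C) A) (hg : g ∈ PS A S) (a : ℕ) (h : g ^ (a + 1) ∈ T) :
    IsNilpotent (mkq S T ⟨g, hg⟩) := by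
  refine ⟨a + 1, ?_⟩
  rw [← map_pow]
  exact mkq_eq_zero _ h

theorem valid_ext (j : J A B C) (g : MvPolynomial (B ⊕ C) A) (hg : g ∈ PS A j.1.WC)
    (hgC : evC A B C g = 0) (E : Finset (MvPolynomial (B ⊕ C) A))
    (hE1 : ∀ t ∈ E, t ∈ PS A j.1.WB ∧ evB A B C t = 0)
    (hE3 : Function.Surjective (algebraMap B C) → IsNilpotent (RingHom.ker (algebraMap B C)) →
      ∃ (_ : g ∈ PS A j.1.WB) (m : ℕ), g ^ (m + 1) ∈ E) :
    Valid (ext j.1 g E) := by
  have hle := le_ext j.1 g E
  obtain ⟨c1, c2, c3, c4, c5, c6, c7, c8⟩ := j.2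
  refine ⟨?_, ?_, ?_, ?_, ?_, ?_, ?_, ?_⟩
  · intro t ht
    rcases Finset.mem_union.mp ht with ht | ht
    · exact c1 t ht
    · exact hE1 t ht
  · intro t ht
    rcases Finset.mem_insert.mp ht with rfl | ht
    · exact ⟨hg, hgC⟩
    · exact c2 t ht
  · intro b hb
    have h := c3 b hb
    have h' : IsIntegral A (mkq j.1.WB j.1.TB ⟨X (Sum.inl b), X_mem_PS (Raw.inl_mem_WB hb)⟩) := h
    exact h'.map (tr (A := A) (Raw.WB_mono hle) (Raw.TB_mono hle))
  · intro c hc
    have h := c4 c hc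
    have h' : IsIntegral A (mkq j.1.WC j.1.TCC ⟨X (Sum.inr c), X_mem_PS (Raw.inr_mem_WC hc)⟩) := h
    exact h'.map (tr (A := A) (Raw.WC_mono hle) (Raw.TCC_mono hle))
  · intro hs b hb
    obtain ⟨a, ha⟩ := Algebra.mem_bot.mp (c5 hs b hb)
    refine Algebra.mem_bot.mpr ⟨a, ?_⟩
    have := congrArg (tr (A := A) (Raw.WB_mono hle) (Raw.TB_mono hle)) ha
    rw [AlgHom.commutes] at this
    exact this
  · exact c6
  · intro hs b hb
    obtain ⟨a, ha⟩ := Algebra.mem_bot.mp (c7 hs b hb)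
    refine Algebra.mem_bot.mpr ⟨a, ?_⟩
    have := congrArg (tr (A := A) (Raw.WC_mono hle) (Raw.TCC_mono hle)) ha
    rw [AlgHom.commutes] at this
    exact this
  · intro hsurj hkn
    obtain ⟨hgB, m, hm⟩ := hE3 hsurj hkn
    rintro ⟨x, hx⟩ hmem
    rcases Finset.mem_insert.mp hmem with hmem | hmem
    · have e : (⟨x, hx⟩ : PS A (ext j.1 g E).WB) = ⟨g, hgB⟩ := Subtype.ext hmem
      rw [e]
      exact isNilpotent_of_pow_mem g hgB m (Finset.mem_union_right _ hm)
    · have := (c8 hsurj hkn ⟨x, hx⟩ hmem).map (tr (A := A) (Raw.WB_mono hle) (Raw.TB_mono hle))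
      exact this

/-- (KC) -/
theorem ker_C : ∀ (j : J A B C) (z : FC j), toC j z = 0 →
    ∃ (k : J A B C) (h : j ≤ k), trC h z = 0 := by
  intro j z hz
  obtain ⟨⟨g, hg⟩, rfl⟩ := mkq_surjective _ _ z
  have hgC : evC A B C g = 0 := hz
  by_cases mode : Function.Surjective (algebraMap B C) ∧
      IsNilpotent (RingHom.ker (algebraMap B C))
  · have hS : j.1.S = ∅ := j.2.2.2.2.2.2.1 mode.1
    have hgB : g ∈ PS A j.1.WB := by
      rw [← Raw.WC_eq_WB_of_S hS]; exact hg
    have hfB : algebraMap B C (evB A B C g) = 0 := by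
      rw [← evC_eq_evB g hgB]; exact hgC
    obtain ⟨N, hN⟩ := mode.2
    have hm : evB A B C g ^ (N + 1) = 0 := by
      have h1 : evB A B C g ^ N ∈ RingHom.ker (algebraMap B C) ^ N :=
        Ideal.pow_mem_pow (RingHom.mem_ker.mpr hfB) N
      rw [hN] at h1
      have h2 : evB A B C g ^ N = 0 := by simpa using h1
      rw [pow_succ, h2, zero_mul]
    have hv : Valid (ext j.1 g {g ^ (N + 1)}) := by
      apply valid_ext j g hg hgC
      · intro t ht
        rw [Finset.mem_singleton] at ht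
        subst ht
        exact ⟨Subalgebra.pow_mem _ hgB _, by rw [map_pow, hm]⟩
      · intro _ _
        exact ⟨hgB, N, Finset.mem_singleton_self _⟩
    refine ⟨⟨_, hv⟩, le_ext j.1 g _, ?_⟩
    exact mkq_eq_zero _ (Raw.TC_sub_TCC (Finset.mem_insert_self _ _))
  · have hv : Valid (ext j.1 g ∅) := by
      apply valid_ext j g hg hgC
      · intro t ht; exact absurd ht (Finset.notMem_empty t)
      · intro h1 h2; exact absurd ⟨h1, h2⟩ mode
    refine ⟨⟨_, hv⟩, le_ext j.1 g _, ?_⟩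
    exact mkq_eq_zero _ (Raw.TC_sub_TCC (Finset.mem_insert_self _ _))

end Groth.Agent.H10.IntPair_KC
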