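import Mathlib

/-!
# Smoothness of quotients by one element, via derivations

For a formally smooth `R`-algebra `P` and `x : P`:
* `formallySmooth_quotient_span_singleton`: a derivation `D` with `D x ≡ 1 mod x` makes `P/(x)` formally smooth;
* `exists_derivation_of_formallySmooth_quotient`: conversely formal smoothness of `P/(x)` gives `D` and `u ∈ Ann x`
  with `D x - 1 + u ∈ (x)`;
* `derivation_sub_one_mem_of_irreducible`: if `x` is irreducible the correction term `u` lies in `(x)`.
-/

universe u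

namespace Groth.Agent.H10.Kummer

open KaehlerDifferential TensorProduct

variable {R P : Type u} [CommRing R] [CommRing P] [Algebra R P]

theorem ker_algebraMap_quotient (x : P) :
    RingHom.ker (algebraMap P (P ⧸ Ideal.span {x})) = Ideal.span {x} := by
  rw [Ideal.Quotient.algebraMap_eq, Ideal.mk_ker]

theorem formallySmooth_quotient_span_singleton [Algebra.FormallySmooth R P] (x : P)
    (D : Derivation R P P) (hD : D x - 1 ∈ Ideal.span {x}) :
    Algebra.FormallySmooth R (P ⧸ Ideal.span {x}) := by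
  have hsurj : Function.Surjective (algebraMap P (P ⧸ Ideal.span {x})) :=
    Ideal.Quotient.mk_surjective
  rw [Algebra.FormallySmooth.iff_split_injection hsurj]
  have hJ := ker_algebraMap_quotient x
  have hxJ : x ∈ RingHom.ker (algebraMap P (P ⧸ Ideal.span {x})) := by
    rw [hJ]; exact Ideal.mem_span_singleton_self x
  let c : (RingHom.ker (algebraMap P (P ⧸ Ideal.span {x}))).Cotangent :=
    Ideal.toCotangent _ ⟨x, hxJ⟩
  have hkill : ∀ j ∈ Ideal.span {x}, j • c = 0 := by
    intro j hj
    have hj' : j ∈ RingHom.ker (algebraMap P (P ⧸ Ideal.span {x})) := (le_of_eq hJ.symm) hj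
    exact Ideal.Cotangent.smul_eq_zero_of_mem hj' c
  let g : (P ⧸ Ideal.span {x}) →ₗ[P] (RingHom.ker (algebraMap P (P ⧸ Ideal.span {x}))).Cotangent :=
    Submodule.liftQ (Ideal.span {x}) (LinearMap.toSpanSingleton P _ c) (by
      intro j hj
      rw [LinearMap.mem_ker, LinearMap.toSpanSingleton_apply]
      exact hkill j hj)
  have hg1 : g 1 = c := by
    show g (Submodule.Quotient.mk 1) = c
    rw [Submodule.liftQ_apply, LinearMap.toSpanSingleton_apply, one_smul]
  let l : (P ⧸ Ideal.span {x}) ⊗[P] Ω[P⁄R] →ₗ[P]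
      (RingHom.ker (algebraMap P (P ⧸ Ideal.span {x}))).Cotangent :=
    g ∘ₗ (TensorProduct.rid P (P ⧸ Ideal.span {x})).toLinearMap ∘ₗ
      (LinearMap.lTensor (P ⧸ Ideal.span {x}) D.liftKaehlerDifferential)
  have hl : ∀ ω : Ω[P⁄R], l (1 ⊗ₜ ω) = D.liftKaehlerDifferential ω • c := by
    intro ω
    show g ((TensorProduct.rid P (P ⧸ Ideal.span {x}))
      ((LinearMap.lTensor (P ⧸ Ideal.span {x}) D.liftKaehlerDifferential) (1 ⊗ₜ ω))) = _
    rw [LinearMap.lTensor_tmul, TensorProduct.rid_tmul, map_smul, hg1]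
  refine ⟨l, ?_⟩
  ext m
  obtain ⟨y, rfl⟩ := Ideal.toCotangent_surjective _ m
  rw [LinearMap.comp_apply, KaehlerDifferential.kerCotangentToTensor_toCotangent, hl,
    LinearMap.id_apply, Derivation.liftKaehlerDifferential_comp_D]
  have hy : (y : P) ∈ Ideal.span {x} := (le_of_eq hJ) y.2
  obtain ⟨a, ha⟩ := Ideal.mem_span_singleton'.mp hy
  have h1 : D (y : P) = a * D x + x * D a := by
    rw [← ha, Derivation.leibniz, smul_eq_mul, smul_eq_mul]
  have h2 : D x • c = c := by
    have := hkill _ hD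
    rw [sub_smul, one_smul, sub_eq_zero] at this
    exact this
  have h3 : x • c = 0 := hkill x (Ideal.mem_span_singleton_self x)
  rw [h1, add_smul, mul_smul, mul_smul, h2, smul_comm, h3, smul_zero, add_zero, ← map_smul]
  congr 1
  exact Subtype.ext ha

theorem exists_derivation_of_formallySmooth_quotient [Algebra.FormallySmooth R P] (x : P)
    (h : Algebra.FormallySmooth R (P ⧸ Ideal.span {x})) :
    ∃ (D : Derivation R P P) (u : P), u * x = 0 ∧ D x - 1 + u ∈ Ideal.span {x} := by
  have hsurj : Function.Surjective (algebraMap P (P ⧸ Ideal.span {x})) :=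
    Ideal.Quotient.mk_surjective
  obtain ⟨l, hl⟩ := (Algebra.FormallySmooth.iff_split_injection hsurj).mp h
  have hJ := ker_algebraMap_quotient x
  have hxJ : x ∈ RingHom.ker (algebraMap P (P ⧸ Ideal.span {x})) := by
    rw [hJ]; exact Ideal.mem_span_singleton_self x
  let c : (RingHom.ker (algebraMap P (P ⧸ Ideal.span {x}))).Cotangent :=
    Ideal.toCotangent _ ⟨x, hxJ⟩
  let γ : P →ₗ[P] (RingHom.ker (algebraMap P (P ⧸ Ideal.span {x}))).Cotangent :=
    LinearMap.toSpanSingleton P _ c
  have hγ : Function.Surjective γ := by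
    intro m
    obtain ⟨y, rfl⟩ := Ideal.toCotangent_surjective _ m
    have hy : (y : P) ∈ Ideal.span {x} := (le_of_eq hJ) y.2
    obtain ⟨a, ha⟩ := Ideal.mem_span_singleton'.mp hy
    refine ⟨a, ?_⟩
    show a • c = _
    rw [← map_smul]
    congr 1
    exact Subtype.ext ha
  let lam : Ω[P⁄R] →ₗ[P] (RingHom.ker (algebraMap P (P ⧸ Ideal.span {x}))).Cotangent :=
    l ∘ₗ (TensorProduct.mk P (P ⧸ Ideal.span {x}) Ω[P⁄R] 1)
  obtain ⟨μ, hμ⟩ := Module.projective_lifting_property γ lam hγ
  have hμ' : ∀ ω, μ ω • c = l (1 ⊗ₜ ω) := fun ω => LinearMap.congr_fun hμ ω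
  have hc : μ (KaehlerDifferential.D R P x) • c = c := by
    rw [hμ']
    have := LinearMap.congr_fun hl c
    rw [LinearMap.comp_apply, KaehlerDifferential.kerCotangentToTensor_toCotangent] at this
    exact this
  have h0 : (μ (KaehlerDifferential.D R P x) - 1) * x ∈
      (RingHom.ker (algebraMap P (P ⧸ Ideal.span {x}))) ^ 2 := by
    have h1 : (μ (KaehlerDifferential.D R P x) - 1) • c = 0 := by
      rw [sub_smul, one_smul, hc, sub_self]
    rw [← map_smul, Ideal.toCotangent_eq_zero] at h1
    exact h1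
  rw [hJ, Ideal.span_singleton_pow] at h0
  obtain ⟨b, hb⟩ := Ideal.mem_span_singleton'.mp h0
  refine ⟨μ.compDer (KaehlerDifferential.D R P),
    b * x - (μ (KaehlerDifferential.D R P x) - 1), ?_, ?_⟩
  · rw [sub_mul, ← hb]; ring
  · show μ (KaehlerDifferential.D R P x) - 1 + (b * x - (μ (KaehlerDifferential.D R P x) - 1)) ∈ _
    rw [add_sub_cancel]
    exact Ideal.mem_span_singleton'.mpr ⟨b, rfl⟩

theorem derivation_sub_one_mem_of_irreducible {x : P} (hx : Irreducible x)
    (D : Derivation R P P) (u : P) (hu : u * x = 0) (hD : D x - 1 + u ∈ Ideal.span {x}) :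
    D x - 1 ∈ Ideal.span {x} := by
  -- Step 1
  have step1 : ∀ a : P, a * x = 0 → a * (1 - u) ∈ Ideal.span {x} := by
    intro a ha
    have h1 : a * D x + x * D a = 0 := by
      have := congrArg D ha
      rw [Derivation.leibniz, smul_eq_mul, smul_eq_mul, map_zero] at this
      exact this
    have h2 : a * D x ∈ Ideal.span {x} := by
      have : a * D x = -(D a) * x := by linear_combination h1
      rw [this]
      exact Ideal.mem_span_singleton'.mpr ⟨_, rfl⟩
    have h3 : a * (1 - u) = a * D x - a * (D x - 1 + u) := by ring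
    rw [h3]
    exact Ideal.sub_mem _ h2 (Ideal.mul_mem_left _ _ hD)
  obtain ⟨w, hw⟩ := Ideal.mem_span_singleton'.mp (step1 u hu)
  -- `y = u ^ 2` is idempotent and kills `x`
  have h23 : u ^ 2 = u ^ 3 := by
    have : u ^ 2 - u ^ 3 = w * (u * x) := by linear_combination (-u) * hw
    rw [hu, mul_zero, sub_eq_zero] at this
    exact this
  have hyy : (u ^ 2) * (u ^ 2) = u ^ 2 := by
    have : u ^ 2 * u ^ 2 = u * u ^ 3 := by ring
    rw [this, ← h23]
    have : u * u ^ 2 = u ^ 3 := by ring
    rw [this, ← h23]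
  have hyx : u ^ 2 * x = 0 := by
    have : u ^ 2 * x = u * (u * x) := by ring
    rw [this, hu, mul_zero]
  have hxx : x = x * (1 - u ^ 2) := by
    rw [mul_sub, mul_one, mul_comm x, hyx, sub_zero]
  have hunit : IsUnit (1 - u ^ 2) := by
    rcases hx.isUnit_or_isUnit hxx with h | h
    · exact absurd h hx.not_isUnit
    · exact h
  have hy0 : u ^ 2 = 0 := by
    have hidem : (1 - u ^ 2) * (1 - u ^ 2) = (1 - u ^ 2) * 1 := by
      have : (1 - u ^ 2) * (1 - u ^ 2) = 1 - 2 * u ^ 2 + u ^ 2 * u ^ 2 := by ring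
      rw [this, hyy]; ring
    have := hunit.mul_left_cancel hidem
    linear_combination -this
  have hux : u ∈ Ideal.span {x} := by
    have : u = w * x + u ^ 2 := by linear_combination -hw
    rw [this, hy0, add_zero]
    exact Ideal.mem_span_singleton'.mpr ⟨w, rfl⟩
  have : D x - 1 = (D x - 1 + u) - u := by ring
  rw [this]
  exact Ideal.sub_mem _ hD hux

end Groth.Agent.H10.Kummer
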