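import Mathlib

/-!
# Kummer extensions of Dedekind domains: `K(f^{1/n})` is unramified when `div f = n D`
-/

set_option autoImplicit false

open scoped nonZeroDivisors
open Polynomial FractionalIdeal IntermediateField

namespace Groth.Agent.H10.KummerDed

/-- If `(f) = I ^ n` then for every prime `p` there is `b ≠ 0` with `f * b ^ n` a `p`-unit of `A`. -/
lemma exists_mul_pow_notMem {A K : Type*} [CommRing A] [IsDedekindDomain A] [Field K]
    [Algebra A K] [IsFractionRing A K]
    (n : ℕ) (hn : n ≠ 0) (f : K) (hf : f ≠ 0) (I : FractionalIdeal A⁰ K)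
    (hI : spanSingleton A⁰ f = I ^ n) (p : Ideal A) [hp : p.IsPrime] :
    ∃ (b : K) (u : A), b ≠ 0 ∧ u ∉ p ∧ algebraMap A K u = f * b ^ n := by
  have hI0 : I ≠ 0 := by
    rintro rfl
    rw [zero_pow hn] at hI
    exact hf (spanSingleton_eq_zero_iff.mp hI)
  set J := I⁻¹ with hJ
  have hIJ : I * J = 1 := mul_inv_cancel₀ hI0
  have hpJ : (p : FractionalIdeal A⁰ K) * J < J := by
    refine lt_of_le_of_ne ?_ ?_
    · calc (p : FractionalIdeal A⁰ K) * J ≤ 1 * J := mul_le_mul_left coeIdeal_le_one J
        _ = J := one_mul _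
    · intro h
      have h1 : (p : FractionalIdeal A⁰ K) = 1 := by
        calc (p : FractionalIdeal A⁰ K) = p * J * I := by rw [mul_assoc, mul_comm J I, hIJ, mul_one]
          _ = J * I := by rw [h]
          _ = 1 := by rw [mul_comm, hIJ]
      exact hp.ne_top ((coeIdeal_eq_one.mp h1).trans Ideal.one_eq_top)
  obtain ⟨b, hbJ, hbpJ⟩ := SetLike.exists_of_lt hpJ
  have hb0 : b ≠ 0 := fun h => hbpJ (h ▸ zero_mem _)
  have hpow : ∀ m : ℕ, b ^ m ∈ J ^ m := by
    intro m
    induction m with
    | zero => simp
    | succ m ih => rw [pow_succ, pow_succ]; exact mul_mem_mul ih hbJ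
  have hmem : f * b ^ n ∈ (1 : FractionalIdeal A⁰ K) := by
    have h1 : f ∈ I ^ n := hI ▸ mem_spanSingleton_self _ _
    have h2 := mul_mem_mul h1 (hpow n)
    rwa [← mul_pow, hIJ, one_pow] at h2
  obtain ⟨u, hu⟩ := (mem_one_iff A⁰).mp hmem
  refine ⟨b, u, hb0, ?_, hu⟩
  intro hup
  apply hbpJ
  have hle1 : spanSingleton A⁰ b * I ≤ 1 := by
    rw [← hIJ, mul_comm I J]
    exact mul_le_mul_left (spanSingleton_le_iff_mem.mpr hbJ) I
  obtain ⟨𝔞, h𝔞⟩ := le_one_iff_exists_coeIdeal.mp hle1
  have hpow' : (𝔞 : FractionalIdeal A⁰ K) ^ n = spanSingleton A⁰ (algebraMap A K u) := by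
    rw [h𝔞, mul_pow, spanSingleton_pow, ← hI, spanSingleton_mul_spanSingleton, hu, mul_comm]
  have h𝔞p : 𝔞 ≤ p := by
    apply Ideal.IsPrime.le_of_pow_le (n := n)
    rw [← coeIdeal_le_coeIdeal K, coeIdeal_pow, hpow', spanSingleton_le_iff_mem, mem_coeIdeal]
    exact ⟨u, hup, rfl⟩
  have hfin : spanSingleton A⁰ b ≤ (p : FractionalIdeal A⁰ K) * J := by
    calc spanSingleton A⁰ b = spanSingleton A⁰ b * I * J := by rw [mul_assoc, hIJ, mul_one]
      _ = 𝔞 * J := by rw [h𝔞]
      _ ≤ p * J := mul_le_mul_left ((coeIdeal_le_coeIdeal K).mpr h𝔞p) J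
  exact spanSingleton_le_iff_mem.mp hfin


universe u v w

attribute [local instance] FractionRing.liftAlgebra FractionRing.isScalarTower_liftAlgebra

theorem etale_finite
    {A : Type u} {K : Type v} {L : Type w} [CommRing A] [IsDedekindDomain A]
    [Field K] [Algebra A K] [IsFractionRing A K]
    [Field L] [Algebra K L] [Algebra A L] [IsScalarTower A K L]
    (n : ℕ) (hn : IsUnit (n : A)) (f : K) (hf : f ≠ 0)
    (I : FractionalIdeal A⁰ K) (hI : FractionalIdeal.spanSingleton A⁰ f = I ^ n)
    (α : L) (hα : α ^ n = algebraMap K L f) (hgen : IntermediateField.adjoin K {α} = ⊤) :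
    Algebra.Etale A (integralClosure A L) ∧ Module.Finite A (integralClosure A L) := by
  classical
  have hn0 : n ≠ 0 := by
    rintro rfl
    simp at hn
  have hnK : (n : K) ≠ 0 := by
    have := hn.map (algebraMap A K)
    rw [map_natCast] at this
    exact this.ne_zero
  have hsepP : (X ^ n - C f : K[X]).Separable := separable_X_pow_sub_C f hnK hf
  have hroot : aeval α (X ^ n - C f : K[X]) = 0 := by simp [hα]
  have hαint : IsIntegral K α := ⟨_, monic_X_pow_sub_C f hn0, hroot⟩
  have hαsep : IsSeparable K α := hsepP.of_dvd (minpoly.dvd K α hroot)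
  have hfd : FiniteDimensional K L := by
    have h1 : FiniteDimensional K K⟮α⟯ := IntermediateField.adjoin.finiteDimensional hαint
    rw [hgen] at h1
    exact (IntermediateField.topEquiv (F := K) (E := L)).toLinearEquiv.finiteDimensional
  have hsep : Algebra.IsSeparable K L := by
    have h1 : Algebra.IsSeparable K K⟮α⟯ :=
      (IntermediateField.isSeparable_adjoin_simple_iff_isSeparable K L).mpr hαsep
    rw [hgen] at h1
    exact (IntermediateField.isSeparable_top (F := K) (E := L)).mp h1
  have htfL : Module.IsTorsionFree A L := Module.IsTorsionFree.trans_faithfulSMul A K L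
  let B := integralClosure A L
  have hCfin : Module.Finite A B := IsIntegralClosure.finite A K L B
  have hCded : IsDedekindDomain B := IsIntegralClosure.isDedekindDomain A K L B
  have hCfrac : IsFractionRing B L := IsIntegralClosure.isFractionRing_of_finite_extension A K L B
  refine ⟨?_, hCfin⟩
  have hsepFr : Algebra.IsSeparable (FractionRing A) (FractionRing B) := by
    refine Algebra.IsSeparable.of_equiv_equiv (FractionRing.algEquiv A K).symm.toRingEquiv
          (FractionRing.algEquiv B L).symm.toRingEquiv ?_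
    ext _
    exact IsFractionRing.algEquiv_commutes (FractionRing.algEquiv A K).symm
      (FractionRing.algEquiv B L).symm _
  -- every prime of `C` is unramified
  have hunr : ∀ (P : Ideal B) [P.IsPrime], Algebra.IsUnramifiedAt A P := by
    intro P hP
    rw [← not_dvd_differentIdeal_iff]
    intro hdvd
    have hle : differentIdeal A B ≤ P := Ideal.dvd_iff_le.mp hdvd
    obtain ⟨b, u, hb0, hup, hu⟩ := exists_mul_pow_notMem n hn0 f hf I hI (P.under A)
    -- β = α * b
    let β : L := α * algebraMap K L b
    have hβn : β ^ n = algebraMap A L u := by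
      rw [mul_pow, hα, ← map_pow, ← map_mul, ← hu, ← IsScalarTower.algebraMap_apply]
    have hβint : IsIntegral A β := by
      refine ⟨X ^ n - C u, monic_X_pow_sub_C u hn0, ?_⟩
      simp [hβn]
    let β' : B := ⟨β, hβint⟩
    have hβ'n : β' ^ n = algebraMap A B u := by
      apply Subtype.ext
      simpa using hβn
    have hadj : Algebra.adjoin K {algebraMap B L β'} = ⊤ := by
      have hβalg : IsAlgebraic K β := (hβint.tower_top (A := K)).isAlgebraic
      have h1 : K⟮β⟯ = ⊤ := by
        rw [eq_top_iff, ← hgen, IntermediateField.adjoin_le_iff, Set.singleton_subset_iff]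
        have hmem : β ∈ K⟮β⟯ := IntermediateField.mem_adjoin_simple_self K β
        have hbL : algebraMap K L b ≠ 0 := by simpa using hb0
        have : α = (algebraMap K L b)⁻¹ * β := by
          simp only [β]
          field_simp
        rw [this]
        exact mul_mem (inv_mem (IntermediateField.algebraMap_mem _ b)) hmem
      have h2 := IntermediateField.adjoin_simple_toSubalgebra_of_isAlgebraic hβalg
      rw [h1] at h2
      exact h2.symm
    have hder := aeval_derivative_mem_differentIdeal A K L β' hadj
    obtain ⟨h, hh⟩ := minpoly.isIntegrallyClosed_dvd (R := A) (s := β')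
      (IsIntegralClosure.isIntegral A L β') (p := X ^ n - C u) (by simp [hβ'n])
    have hkey : (n : B) * β' ^ (n - 1) ∈ P := by
      have h1 : aeval β' (derivative (X ^ n - C u : A[X])) = (n : B) * β' ^ (n - 1) := by
        rw [derivative_sub, derivative_C, sub_zero, derivative_X_pow]
        simp
      rw [← h1, hh, derivative_mul, map_add, map_mul, map_mul, minpoly.aeval, zero_mul, add_zero]
      exact P.mul_mem_right _ (hle hder)
    have hnC : IsUnit (n : B) := by
      have := hn.map (algebraMap A B)
      rwa [map_natCast] at this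
    have hβP : β' ∈ P := hP.mem_of_pow_mem (n - 1) ((Ideal.unit_mul_mem_iff_mem P hnC).mp hkey)
    apply hup
    rw [Ideal.mem_comap, ← hβ'n]
    exact P.pow_mem_of_mem hβP n (Nat.pos_of_ne_zero hn0)
  have hfu : Algebra.FormallyUnramified A B := by
    rw [← Algebra.unramifiedLocus_eq_univ_iff, Set.eq_univ_iff_forall]
    intro P
    exact hunr P.asIdeal
  have hfp : Algebra.FinitePresentation A B :=
    Algebra.FinitePresentation.of_finiteType.mp inferInstance
  exact Algebra.Etale.of_formallyUnramified_of_flat
end Groth.Agent.H10.KummerDed
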