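import Mathlib
import Groth.Prelude.Def_EtRam
import Groth.Agent.H10.ASRam
import Groth.Agent.S7140

/-!
Ramification of Kummer-type extensions `P(z) = ξ` (Kummer–Artin–Schreier polynomial `P`) of the
fraction field of a DVR of mixed characteristic `(0, p)` containing a primitive `p`-th root of unity.
-/

set_option autoImplicit false
set_option linter.style.haveILetI false
set_option linter.unusedSectionVars false
set_option linter.unusedVariables false

open Polynomial IsLocalRing IntermediateField

namespace Groth.Agent.H10.KummerRam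

universe u

open Groth.Agent.H10.DVRExtBasic Groth.Agent.H10.ASRam

section valpoly

variable {A L : Type u} [CommRing A] [Field L] [Algebra A L] (V : ValuationSubring L)
  (hA : ∀ a : A, V.valuation (algebraMap A L a) ≤ 1)

include hA in
lemma val_aeval_le_one (F : A[X]) (x : L) (hx : V.valuation x ≤ 1) :
    V.valuation (aeval x F) ≤ 1 := by
  rw [aeval_eq_sum_range]
  apply Valuation.map_sum_le
  intro i _
  rw [Algebra.smul_def, map_mul, map_pow]
  exact mul_le_one' (hA _) (pow_le_one' hx i)

include hA in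
lemma val_aeval_monic (F : A[X]) (hF : F.Monic) (x : L) (hx : 1 < V.valuation x) :
    V.valuation (aeval x F) = V.valuation x ^ F.natDegree := by
  have h1 : aeval x F = x ^ F.natDegree +
      ∑ i ∈ Finset.range F.natDegree, algebraMap A L (F.coeff i) * x ^ i := by
    conv_lhs => rw [hF.as_sum]
    simp only [map_add, map_pow, aeval_X, map_sum, map_mul, aeval_C]
  rw [h1]
  have hx0 : V.valuation x ≠ 0 := by
    intro h
    rw [h] at hx
    exact not_lt.mpr zero_le hx
  have hlt : V.valuation (∑ i ∈ Finset.range F.natDegree, algebraMap A L (F.coeff i) * x ^ i) <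
      V.valuation (x ^ F.natDegree) := by
    apply Valuation.map_sum_lt _ (by rw [map_pow]; exact pow_ne_zero _ hx0)
    intro i hi
    rw [map_mul, map_pow, map_pow]
    calc V.valuation (algebraMap A L (F.coeff i)) * V.valuation x ^ i
        ≤ 1 * V.valuation x ^ i := mul_le_mul' (hA _) le_rfl
      _ = V.valuation x ^ i := one_mul _
      _ < V.valuation x ^ F.natDegree := pow_lt_pow_right₀ hx (Finset.mem_range.mp hi)
  rw [Valuation.map_add_eq_of_lt_left _ hlt, map_pow]

end valpoly

section form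

lemma form_monic {R : Type*} [CommRing R] [Nontrivial R] (p : ℕ) (hp : 1 < p) (a : ℕ → R) :
    (X ^ p - X + (Finset.Ioo 0 p).sum (fun i => C (a i) * X ^ i) : R[X]).Monic ∧
    (X ^ p - X + (Finset.Ioo 0 p).sum (fun i => C (a i) * X ^ i) : R[X]).natDegree = p := by
  have hdeg : (-X + (Finset.Ioo 0 p).sum (fun i => C (a i) * X ^ i) : R[X]).degree < p := by
    refine lt_of_le_of_lt (degree_add_le _ _) (max_lt ?_ ?_)
    · rw [degree_neg, degree_X]
      exact_mod_cast hp
    · refine lt_of_le_of_lt (degree_sum_le _ _) ?_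
      refine (Finset.sup_lt_iff (WithBot.bot_lt_coe p)).mpr ?_
      intro i hi
      exact lt_of_le_of_lt (degree_C_mul_X_pow_le _ _)
        (by
          have := (Finset.mem_Ioo.mp hi).2
          exact WithBot.coe_lt_coe.mpr this)
  have h : (X ^ p - X + (Finset.Ioo 0 p).sum (fun i => C (a i) * X ^ i) : R[X]) =
      X ^ p + (-X + (Finset.Ioo 0 p).sum (fun i => C (a i) * X ^ i)) := by ring
  rw [h]
  refine ⟨monic_X_pow_add hdeg, ?_⟩
  rw [natDegree_add_eq_left_of_degree_lt, natDegree_X_pow]
  rw [degree_X_pow]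
  exact hdeg

end form

section basic

variable (p : ℕ) [hp : Fact p.Prime] {A K : Type u} [CommRing A] [IsDomain A]
  [IsDiscreteValuationRing A] [Field K] [Algebra A K] [IsFractionRing A K]
  [CharZero K] [CharP (ResidueField A) p]
  (ζ : A) (hζ : aeval ζ (cyclotomic p ℤ) = 0) (P : A[X])
  (hP : C ((1 - ζ) ^ p) * P = (1 + C (1 - ζ) * X) ^ p - 1)

include K in
lemma charZero_A : CharZero A :=
  (algebraMap A K).charZero

include hζ in
lemma zeta_pow : ζ ^ p = 1 := by
  obtain ⟨Q, hQ⟩ := cyclotomic.dvd_X_pow_sub_one p ℤ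
  have := congrArg (aeval ζ) hQ
  rw [map_mul, hζ, zero_mul, map_sub, map_pow, aeval_X, map_one, sub_eq_zero] at this
  exact this

include K hζ in
lemma w_ne_zero : (1 - ζ : A) ≠ 0 := by
  haveI := charZero_A (A := A) (K := K)
  intro h
  have h1 : ζ = 1 := (sub_eq_zero.mp h).symm
  rw [h1, cyclotomic_prime ℤ p] at hζ
  simp at hζ
  exact hp.out.ne_zero (by exact_mod_cast hζ)

include hζ in
lemma w_mem : (1 - ζ : A) ∈ maximalIdeal A := by
  rw [← residue_eq_zero_iff]
  have h2 : (residue A (1 - ζ)) ^ p = 0 := by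
    rw [map_sub, map_one, sub_pow_char, one_pow, ← map_pow, zeta_pow p ζ hζ, map_one, sub_self]
  exact (pow_eq_zero_iff hp.out.ne_zero).mp h2

include K hζ in
lemma isPrimitiveRoot_zeta : IsPrimitiveRoot ζ p := by
  haveI := charZero_A (A := A) (K := K)
  haveI : NeZero ((p : ℕ) : A) := ⟨by exact_mod_cast hp.out.ne_zero⟩
  rw [← Polynomial.isRoot_cyclotomic_iff, IsRoot.def, ← map_cyclotomic_int, eval_map]
  exact hζ

include K hζ hP in
lemma P_form : ∃ a : ℕ → A, (∀ i, a i ∈ maximalIdeal A) ∧
    P = X ^ p - X + (Finset.Ioo 0 p).sum (fun i => C (a i) * X ^ i) := by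
  obtain ⟨P', hP', ⟨a, ha, hform⟩, -⟩ := Groth.Agent.S7140.result p hp.out A ζ hζ
  have hPP : P = P' := by
    have hC : C ((1 - ζ) ^ p) ≠ (0 : A[X]) := by
      rw [Ne, C_eq_zero]
      exact pow_ne_zero p (w_ne_zero p ζ hζ (K := K))
    exact mul_left_cancel₀ hC (hP.trans hP'.symm)
  refine ⟨a, fun i => ?_, hPP.trans hform⟩
  exact (Ideal.span_singleton_le_iff_mem _).mpr (w_mem p ζ hζ) (ha i)

include K hζ hP in
lemma P_add (S : Type u) [CommRing S] [Algebra A S] (z₁ z₂ : S) :
    aeval (z₁ + z₂ + algebraMap A S (1 - ζ) * z₁ * z₂) P =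
      aeval z₁ P + aeval z₂ P + algebraMap A S ((1 - ζ) ^ p) * aeval z₁ P * aeval z₂ P := by
  obtain ⟨P', hP', -, hadd⟩ := Groth.Agent.S7140.result p hp.out A ζ hζ
  have hPP : P = P' := by
    have hC : C ((1 - ζ) ^ p) ≠ (0 : A[X]) := by
      rw [Ne, C_eq_zero]
      exact pow_ne_zero p (w_ne_zero p ζ hζ (K := K))
    exact mul_left_cancel₀ hC (hP.trans hP'.symm)
  rw [hPP]
  exact hadd S z₁ z₂

include K hζ hP in
lemma P_monic : P.Monic := by
  obtain ⟨a, -, rfl⟩ := P_form p (K := K) ζ hζ P hP
  exact (form_monic p hp.out.one_lt a).1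

include K hζ hP in
lemma P_natDegree : P.natDegree = p := by
  obtain ⟨a, -, rfl⟩ := P_form p (K := K) ζ hζ P hP
  exact (form_monic p hp.out.one_lt a).2

include K hζ hP in
lemma P_map : P.map (residue A) = X ^ p - X := by
  obtain ⟨a, ha, rfl⟩ := P_form p (K := K) ζ hζ P hP
  have h0 : ∀ i, residue A (a i) = 0 := fun i => (residue_eq_zero_iff _).mpr (ha i)
  simp only [Polynomial.map_add, Polynomial.map_sub, Polynomial.map_pow, Polynomial.map_X,
    Polynomial.map_sum, Polynomial.map_mul, Polynomial.map_C, h0, map_zero, zero_mul,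
    Finset.sum_const_zero, add_zero]

include hP in
/-- Evaluating the defining identity of `P`. -/
lemma P_eval {S : Type*} [CommRing S] [Algebra A S] (x : S) :
    algebraMap A S (1 - ζ) ^ p * aeval x P = (1 + algebraMap A S (1 - ζ) * x) ^ p - 1 := by
  have := congrArg (aeval x) hP
  simpa only [map_mul, aeval_C, map_pow, map_sub, map_add, map_one, aeval_X] using this

end basic

section field

variable (p : ℕ) [hp : Fact p.Prime] {K L : Type u} [Field K] [Field L] [Algebra K L] [CharZero K]
  (μ : K) (hμ : IsPrimitiveRoot μ p) (c : K) (α : L) (hα : α ^ p = algebraMap K L c)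
  (hgen : K⟮α⟯ = ⊤)

include hα in
lemma kummer_isIntegral : IsIntegral K α :=
  ⟨X ^ p - C c, monic_X_pow_sub_C c hp.out.ne_zero, by
    rw [eval₂_sub, eval₂_pow, eval₂_X, eval₂_C, hα, sub_self]⟩

include hα hgen in
lemma kummer_adjoin_eq_top : Algebra.adjoin K {α} = ⊤ := by
  have h := IntermediateField.adjoin_simple_toSubalgebra_of_isAlgebraic
    (kummer_isIntegral p c α hα).isAlgebraic
  rw [hgen] at h
  rw [← h]
  rfl

include hα hgen in
lemma kummer_finiteDimensional : FiniteDimensional K L := by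
  have h1 : FiniteDimensional K K⟮α⟯ :=
    IntermediateField.adjoin.finiteDimensional (kummer_isIntegral p c α hα)
  rw [hgen] at h1
  exact (IntermediateField.topEquiv (F := K) (E := L)).toLinearEquiv.finiteDimensional

include hα hgen in
lemma kummer_finrank_eq_natDegree : Module.finrank K L = (minpoly K α).natDegree := by
  rw [← IntermediateField.adjoin.finrank (kummer_isIntegral p c α hα), hgen,
    IntermediateField.finrank_top']

include hμ hα hgen in
/-- The degree of a Kummer extension of prime exponent is `1` or `p`. -/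
theorem kummer_dich : Module.finrank K L = 1 ∨ Module.finrank K L = p := by
  by_cases h : ∃ b : K, b ^ p = c
  · left
    obtain ⟨b, rfl⟩ := h
    have hαK : α ∈ (algebraMap K L).range := by
      by_cases hb : b = 0
      · subst hb
        rw [zero_pow hp.out.ne_zero, map_zero] at hα
        have hα0 : α = 0 := (pow_eq_zero_iff hp.out.ne_zero).mp hα
        exact ⟨0, by rw [map_zero, hα0]⟩
      · have hbL : algebraMap K L b ≠ 0 := fun h0 =>
          hb ((algebraMap K L).injective (by rw [h0, map_zero]))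
        have h1 : (α / algebraMap K L b) ^ p = 1 := by
          rw [div_pow, hα, map_pow, div_self (pow_ne_zero _ hbL)]
        have hμL : IsPrimitiveRoot (algebraMap K L μ) p :=
          hμ.map_of_injective (algebraMap K L).injective
        haveI : NeZero p := ⟨hp.out.ne_zero⟩
        obtain ⟨i, -, hi⟩ := hμL.eq_pow_of_pow_eq_one h1
        refine ⟨μ ^ i * b, ?_⟩
        rw [map_mul, map_pow, hi, div_mul_cancel₀ _ hbL]
    rw [kummer_finrank_eq_natDegree p (b ^ p) α hα hgen, minpoly.natDegree_eq_one_iff]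
    exact hαK
  · right
    push Not at h
    have hirr : Irreducible (X ^ p - C c) := X_pow_sub_C_irreducible_of_prime hp.out h
    have hroot : aeval α (X ^ p - C c) = 0 := by
      rw [map_sub, map_pow, aeval_X, aeval_C, hα, sub_self]
    have hmin : X ^ p - C c = minpoly K α :=
      minpoly.eq_of_irreducible_of_monic hirr hroot (monic_X_pow_sub_C c hp.out.ne_zero)
    rw [kummer_finrank_eq_natDegree p c α hα hgen, ← hmin, natDegree_X_pow_sub_C]

include hμ hα hgen in
theorem kummer_isGalois : IsGalois K L := by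
  haveI := kummer_finiteDimensional p c α hα hgen
  haveI : (X ^ p - C c).IsSplittingField K L :=
    { splits' := by
        rw [Polynomial.map_sub, Polynomial.map_pow, Polynomial.map_X, Polynomial.map_C]
        exact X_pow_sub_C_splits_of_isPrimitiveRoot
          (hμ.map_of_injective (algebraMap K L).injective) hα
      adjoin_rootSet' := by
        rw [eq_top_iff, ← kummer_adjoin_eq_top p c α hα hgen]
        apply Algebra.adjoin_mono
        rw [Set.singleton_subset_iff, mem_rootSet]
        refine ⟨(monic_X_pow_sub_C c hp.out.ne_zero).ne_zero, ?_⟩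
        rw [map_sub, map_pow, aeval_X, aeval_C, hα, sub_self] }
  haveI : Normal K L := Normal.of_isSplittingField (X ^ p - C c)
  exact ⟨⟩

end field

section helpers

lemma adjoin_eq_top_of_mem {K L : Type u} [Field K] [Field L] [Algebra K L] (α α' : L)
    (h : K⟮α⟯ = ⊤) (hmem : α ∈ K⟮α'⟯) : K⟮α'⟯ = ⊤ := by
  rw [eq_top_iff, ← h, IntermediateField.adjoin_simple_le_iff]
  exact hmem

lemma map_scaleRoots_of_mem {A : Type u} [CommRing A] [IsLocalRing A] (Q : A[X]) (hQ : Q.Monic)
    (s : A) (hs : s ∈ maximalIdeal A) :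
    (Q.scaleRoots s).map (residue A) = X ^ Q.natDegree := by
  have hlc : residue A Q.leadingCoeff ≠ 0 := by
    rw [hQ.leadingCoeff, map_one]
    exact one_ne_zero
  rw [map_scaleRoots _ _ _ hlc, (residue_eq_zero_iff s).mpr hs, scaleRoots_zero,
    (hQ.map _).leadingCoeff, one_smul, hQ.natDegree_map]

lemma residue_eval {A : Type u} [CommRing A] [IsLocalRing A] (Q : A[X]) (r : A) :
    residue A (Q.eval r) = (Q.map (residue A)).eval (residue A r) := by
  rw [eval_map, eval₂_at_apply]

end helpers

section ram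

variable (p : ℕ) [hp : Fact p.Prime] {A K L : Type u} [CommRing A] [IsDomain A]
  [IsDiscreteValuationRing A] [Field K] [Algebra A K] [IsFractionRing A K] [Field L] [Algebra K L]
  [Algebra A L] [IsScalarTower A K L]
  (π : A) (hπ : maximalIdeal A = Ideal.span {π})

include hπ in
/-- A general criterion for total ramification in degree `p`. -/
theorem totRam_of_val [FiniteDimensional K L]
    (hdich : Module.finrank K L = 1 ∨ Module.finrank K L = p)
    (t : L) (n : ℕ) (hn : 0 < n) (hpn : ¬ p ∣ n)
    (hval : ∀ V : ValuationSubring L, EtRam.Dominates A (algebraMap A L) V →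
      1 < V.valuation t ∧ V.valuation t ^ p * V.valuation (algebraMap A L π) ^ n = 1) :
    Case3 p A K L := by
  classical
  have hp1 : 1 < p := hp.out.one_lt
  obtain ⟨V₀, hV₀⟩ := Groth.Agent.H86.TotRam.exists_dominates A L (algebraMap A L)
  have hs0 : V₀.valuation (algebraMap A L π) ≠ 0 := val_pi_ne_zero (K := K) π hπ V₀
  have hs1 : V₀.valuation (algebraMap A L π) < 1 := val_pi_lt_one π hπ V₀ hV₀
  have hinj := pow_right_injective₀ (zero_lt_iff.mpr hs0) hs1.ne
  have hfin : Module.finrank K L = p := by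
    rcases hdich with h | h
    swap
    · exact h
    exfalso
    rw [finrank_eq_one_iff_of_nonzero' (1 : L) one_ne_zero] at h
    obtain ⟨z₀, hz₀'⟩ := h t
    have hz₀t : algebraMap K L z₀ = t := by rw [← hz₀', Algebra.smul_def, mul_one]
    obtain ⟨hvz, hvzn⟩ := hval V₀ hV₀
    rw [← hz₀t] at hvz hvzn
    have hz₀ : z₀ ≠ 0 := by
      rintro rfl
      rw [map_zero, map_zero] at hvz
      exact not_lt.mpr zero_le hvz
    obtain ⟨k₁, k₂, hk⟩ := val_K π hπ V₀ hV₀ z₀ hz₀
    have h1 : V₀.valuation (algebraMap A L π) ^ (p * k₁ + n) =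
        V₀.valuation (algebraMap A L π) ^ (p * k₂) := by
      have h2 := congrArg (fun t => t ^ p) hk
      simp only [mul_pow, ← pow_mul] at h2
      calc V₀.valuation (algebraMap A L π) ^ (p * k₁ + n)
          = V₀.valuation (algebraMap A L π) ^ (k₁ * p) *
              V₀.valuation (algebraMap A L π) ^ n := by rw [pow_add, mul_comm p k₁]
        _ = V₀.valuation (algebraMap K L z₀) ^ p * V₀.valuation (algebraMap A L π) ^ (k₂ * p) *
              V₀.valuation (algebraMap A L π) ^ n := by rw [h2]
        _ = (V₀.valuation (algebraMap K L z₀) ^ p * V₀.valuation (algebraMap A L π) ^ n) *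
              V₀.valuation (algebraMap A L π) ^ (k₂ * p) := mul_right_comm _ _ _
        _ = V₀.valuation (algebraMap A L π) ^ (p * k₂) := by rw [hvzn, one_mul, mul_comm k₂ p]
    have h3 : p * k₁ + n = p * k₂ := hinj h1
    exact hpn ((Nat.dvd_add_right (dvd_mul_right p k₁)).mp (h3 ▸ dvd_mul_right p k₂))
  refine ⟨?_, hfin⟩
  -- the exponents
  obtain ⟨i, j, hij⟩ : ∃ i j : ℕ, i * n + 1 = j * p := by
    have hcop : Nat.Coprime n p :=
      (Nat.Coprime.symm ((Nat.Prime.coprime_iff_not_dvd hp.out).mpr hpn))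
    obtain ⟨m, -, hm⟩ := Nat.exists_mul_mod_eq_of_coprime (p - 1) hcop hp.out.ne_zero
    have hdvd : p ∣ m * n + 1 := by
      rw [Nat.dvd_iff_mod_eq_zero, Nat.add_mod, mul_comm m n, hm,
        Nat.mod_eq_of_lt (Nat.sub_lt hp.out.pos one_pos),
        Nat.mod_eq_of_lt hp1]
      have : p - 1 + 1 = p := Nat.sub_add_cancel hp.out.pos
      rw [this, Nat.mod_self]
    obtain ⟨j, hj⟩ := hdvd
    exact ⟨m, j, by rw [hj, mul_comm]⟩
  set θ : L := algebraMap A L π ^ j * t ^ i with hθ
  have hfacts : ∀ V : ValuationSubring L, EtRam.Dominates A (algebraMap A L) V →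
      V.valuation θ ≠ 0 ∧ V.valuation θ < 1 ∧
        V.valuation θ ^ p = V.valuation (algebraMap A L π) := by
    intro V hV
    obtain ⟨hvz, hvzn⟩ := hval V hV
    have hs0' : V.valuation (algebraMap A L π) ≠ 0 := val_pi_ne_zero (K := K) π hπ V
    have hs1' : V.valuation (algebraMap A L π) < 1 := val_pi_lt_one π hπ V hV
    have hθp : V.valuation θ ^ p = V.valuation (algebraMap A L π) := by
      rw [hθ, map_mul, map_pow, map_pow, mul_pow, ← pow_mul, ← pow_mul, ← hij, pow_succ,
        mul_comm i p, pow_mul (V.valuation t), mul_comm i n, pow_mul]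
      calc (V.valuation (algebraMap A L π) ^ n) ^ i * V.valuation (algebraMap A L π) *
            (V.valuation t ^ p) ^ i
          = (V.valuation t ^ p * V.valuation (algebraMap A L π) ^ n) ^ i *
              V.valuation (algebraMap A L π) := by
            rw [mul_pow, mul_right_comm, mul_comm ((V.valuation t ^ p) ^ i)]
        _ = V.valuation (algebraMap A L π) := by rw [hvzn, one_pow, one_mul]
    refine ⟨?_, ?_, hθp⟩
    · intro h0
      rw [h0, zero_pow hp.out.ne_zero] at hθp
      exact hs0' hθp.symm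
    · by_contra hcon
      rw [not_lt] at hcon
      have : 1 ≤ V.valuation θ ^ p := one_le_pow₀ hcon
      rw [hθp] at this
      exact not_lt.mpr this hs1'
  -- θ generates
  have hθK : θ ∉ Set.range (algebraMap K L) := by
    rintro ⟨θ₀, hθ₀⟩
    obtain ⟨h0, -, hθp⟩ := hfacts V₀ hV₀
    have hθ₀0 : θ₀ ≠ 0 := by
      rintro rfl
      rw [map_zero] at hθ₀
      rw [← hθ₀, map_zero] at h0
      exact h0 rfl
    obtain ⟨k₁, k₂, hk⟩ := val_K π hπ V₀ hV₀ θ₀ hθ₀0
    rw [hθ₀] at hk
    have h2 := congrArg (fun t => t ^ p) hk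
    simp only [mul_pow, ← pow_mul, hθp] at h2
    have h3 : V₀.valuation (algebraMap A L π) ^ (1 + k₂ * p) =
        V₀.valuation (algebraMap A L π) ^ (k₁ * p) := by
      rw [pow_add, pow_one, h2]
    have h4 : 1 + k₂ * p = k₁ * p := hinj h3
    have h5 : p ∣ 1 := (Nat.dvd_add_left (dvd_mul_left p k₂)).mp (h4 ▸ dvd_mul_left p k₁)
    exact hp.out.one_lt.ne' (Nat.dvd_one.mp h5)
  have hθint : IsIntegral K θ := IsIntegral.of_finite K θ
  have hθtop : K⟮θ⟯ = ⊤ := by
    have hmul := Module.finrank_mul_finrank K K⟮θ⟯ L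
    rw [hfin] at hmul
    have hdvd : Module.finrank K K⟮θ⟯ ∣ p := ⟨_, hmul.symm⟩
    rcases (Nat.dvd_prime hp.out).mp hdvd with h1 | h1
    · exfalso
      rw [IntermediateField.finrank_eq_one_iff, IntermediateField.adjoin_simple_eq_bot_iff,
        IntermediateField.mem_bot] at h1
      exact hθK h1
    · apply IntermediateField.eq_of_le_of_finrank_eq le_top
      rw [h1, IntermediateField.finrank_top', hfin]
  have hdeg : (minpoly K θ).natDegree = p := by
    rw [← IntermediateField.adjoin.finrank hθint, hθtop, IntermediateField.finrank_top', hfin]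
  have hspan : ∀ y : L, ∃ (N : ℕ) (a : ℕ → A),
      y * algebraMap A L π ^ N = ∑ i ∈ Finset.range p, algebraMap A L (a i) * θ ^ i := by
    intro y
    obtain ⟨N, H, hH, hy⟩ := exists_pow_mul_eq_aeval π hπ θ hθint hθtop y
    refine ⟨N, fun i => H.coeff i, ?_⟩
    rw [hy]
    rcases hH with rfl | hH
    · simp
    · rw [hdeg] at hH
      rw [aeval_eq_sum_range' hH]
      apply Finset.sum_congr rfl
      intro i _
      rw [Algebra.smul_def]
  exact Groth.Agent.H10.TotRamGen.isTotallyRamified_of_val A π hπ L (algebraMap A L)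
    (algebraMap_injective (K := K)) θ p hp.out.pos hfacts hspan

variable [CharZero K] [CharP (ResidueField A) p]
  (ζ : A) (hζ : aeval ζ (cyclotomic p ℤ) = 0) (P : A[X])
  (hP : C ((1 - ζ) ^ p) * P = (1 + C (1 - ζ) * X) ^ p - 1)
  (hdich : Module.finrank K L = 1 ∨ Module.finrank K L = p)
  (ξ : K) (z : L) (hz : aeval z P = algebraMap K L ξ) (hgen : K⟮z⟯ = ⊤)

include hπ hζ hP hdich hz hgen in
theorem caseA (a : A) (ha : algebraMap A K a = ξ) : Case1 K L ∨ Case2 p A K L := by
  rcases hdich with h | h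
  · exact Or.inl h
  · right
    refine ⟨?_, h⟩
    let F : A[X] := P - C a
    have hPm := P_monic p (K := K) ζ hζ P hP
    have hPd := P_natDegree p (K := K) ζ hζ P hP
    have hFm : F.Monic := hPm.sub_of_left (by
      rw [degree_eq_natDegree hPm.ne_zero, hPd]
      exact lt_of_le_of_lt degree_C_le (by exact_mod_cast hp.out.pos))
    have hFy : aeval z F = 0 := by
      have h1 : algebraMap A L a = algebraMap K L ξ := by
        rw [← ha, ← IsScalarTower.algebraMap_apply]
      simp only [F, map_sub, aeval_C]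
      rw [h1, hz, sub_self]
    have hsep : (F.map (residue A)).Separable := by
      have h1 : F.map (residue A) = ASField.asPoly p (residue A a) := by
        simp only [F, Polynomial.map_sub, P_map p (K := K) ζ hζ P hP, Polynomial.map_C,
          ASField.asPoly]
        ring
      rw [h1]
      exact ASField.asPoly_separable p _
    exact unramified_of_separable (K := K) π hπ z hgen F hFm hFy hsep

include hπ hζ hP hdich hz hgen in
theorem caseB [FiniteDimensional K L] (n : ℕ) (a : Aˣ) (hn : 0 < n) (hpn : ¬ p ∣ n)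
    (hξ : ξ * algebraMap A K π ^ n = algebraMap A K a) : Case3 p A K L := by
  have hξL : algebraMap K L ξ * algebraMap A L π ^ n = algebraMap A L (a : A) := by
    have := congrArg (algebraMap K L) hξ
    rwa [map_mul, map_pow, ← IsScalarTower.algebraMap_apply, ← IsScalarTower.algebraMap_apply]
      at this
  have hPm := P_monic p (K := K) ζ hζ P hP
  have hPd := P_natDegree p (K := K) ζ hζ P hP
  apply totRam_of_val p π hπ hdich z n hn hpn
  intro V hV
  have hs1 := val_pi_lt_one π hπ V hV
  have hvξ : V.valuation (algebraMap K L ξ) * V.valuation (algebraMap A L π) ^ n = 1 := by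
    rw [← map_pow, ← map_mul, hξL, val_unit V hV _ a.isUnit]
  have hvz : 1 < V.valuation z := by
    by_contra hcon
    rw [not_lt] at hcon
    have h1 : V.valuation (algebraMap K L ξ) ≤ 1 := by
      rw [← hz]
      exact val_aeval_le_one V (val_le_one V hV) P z hcon
    have h2 : V.valuation (algebraMap K L ξ) * V.valuation (algebraMap A L π) ^ n < 1 := by
      calc V.valuation (algebraMap K L ξ) * V.valuation (algebraMap A L π) ^ n
          ≤ 1 * V.valuation (algebraMap A L π) ^ n := mul_le_mul' h1 le_rfl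
        _ = V.valuation (algebraMap A L π) ^ n := one_mul _
        _ < 1 := pow_lt_one₀ zero_le hs1 hn.ne'
    rw [hvξ] at h2
    exact lt_irrefl _ h2
  refine ⟨hvz, ?_⟩
  have h3 := val_aeval_monic V (val_le_one V hV) P hPm z hvz
  rw [hPd, hz] at h3
  rw [← h3, hvξ]

include hπ hζ hP hz hgen in
theorem caseC (n : ℕ) (a : A) (hn : 0 < n) (hpn : p ∣ n)
    (hres : ∀ r : A, residue A a ≠ residue A r ^ p)
    (hξ : ξ * algebraMap A K π ^ n = algebraMap A K a) : Case4 p A L := by
  obtain ⟨m, rfl⟩ := hpn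
  have hp1 : 1 < p := hp.out.one_lt
  have hm : 0 < m := by
    rcases Nat.eq_zero_or_pos m with h | h
    · rw [h, mul_zero] at hn
      exact absurd hn (lt_irrefl 0)
    · exact h
  have hξL : algebraMap K L ξ * algebraMap A L π ^ (p * m) = algebraMap A L a := by
    have := congrArg (algebraMap K L) hξ
    rwa [map_mul, map_pow, ← IsScalarTower.algebraMap_apply, ← IsScalarTower.algebraMap_apply]
      at this
  haveI : ExpChar (ResidueField A) p := ExpChar.prime hp.out
  have hgπ0 : algebraMap A L π ≠ 0 := algebraMap_pi_ne_zero (K := K) π hπ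
  have hPm := P_monic p (K := K) ζ hζ P hP
  have hPd := P_natDegree p (K := K) ζ hζ P hP
  set y : L := algebraMap A L π ^ m * z with hy
  let F : A[X] := P.scaleRoots (π ^ m) - C a
  have hQm : (P.scaleRoots (π ^ m)).Monic := (monic_scaleRoots_iff _).mpr hPm
  have hFm : F.Monic := hQm.sub_of_left (by
    rw [degree_eq_natDegree hQm.ne_zero, natDegree_scaleRoots, hPd]
    exact lt_of_le_of_lt degree_C_le (by exact_mod_cast hp.out.pos))
  have hFy : aeval y F = 0 := by
    have h1 : aeval y (P.scaleRoots (π ^ m)) =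
        algebraMap A L (π ^ m) ^ P.natDegree * aeval z P := by
      rw [hy, ← map_pow, aeval_def, aeval_def]
      exact scaleRoots_eval₂_mul (algebraMap A L) z (π ^ m)
    simp only [F, map_sub, aeval_C]
    rw [h1, hPd, hz, ← hξL, map_pow, ← pow_mul, mul_comm m p, mul_comm, sub_self]
  have hπmem : π ^ m ∈ maximalIdeal A := by
    rw [hπ]
    exact Ideal.pow_mem_of_mem _ (Ideal.mem_span_singleton_self π) m hm
  have hFb : F.map (residue A) = X ^ p - C (residue A a) := by
    simp only [F, Polynomial.map_sub, Polynomial.map_C]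
    rw [map_scaleRoots_of_mem P hPm _ hπmem, hPd]
  have hirr : Irreducible (F.map (residue A)) := by
    rw [hFb]
    apply X_pow_sub_C_irreducible_of_prime hp.out
    intro b hb
    obtain ⟨r, rfl⟩ := residue_surjective b
    exact hres r hb.symm
  have hgen' : K⟮y⟯ = ⊤ := by
    apply adjoin_eq_top_of_mem z y hgen
    have hmem : y ∈ K⟮y⟯ := IntermediateField.mem_adjoin_simple_self K y
    have hc : algebraMap A L π ^ m = algebraMap K L (algebraMap A K π ^ m) := by
      rw [map_pow, ← IsScalarTower.algebraMap_apply]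
    have hzy : z = (algebraMap K L (algebraMap A K π ^ m))⁻¹ * y := by
      rw [hy, ← hc, ← mul_assoc, inv_mul_cancel₀ (pow_ne_zero m hgπ0), one_mul]
    rw [hzy]
    exact mul_mem (inv_mem (IntermediateField.algebraMap_mem _ _)) hmem
  exact case4_of_irreducible (K := K) π hπ y hgen' F hFm hFy a hFb hirr hp.out.ne_zero

end ram

section good

variable (p : ℕ) [hp : Fact p.Prime] {A K L : Type u} [CommRing A] [IsDomain A]
  [IsDiscreteValuationRing A] [Field K] [Algebra A K] [IsFractionRing A K] [Field L] [Algebra K L]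
  [Algebra A L] [IsScalarTower A K L] [CharZero K] [CharP (ResidueField A) p]
  (π : A) (hπ : maximalIdeal A = Ideal.span {π})
  (ζ : A) (hζ : aeval ζ (cyclotomic p ℤ) = 0) (P : A[X])
  (hP : C ((1 - ζ) ^ p) * P = (1 + C (1 - ζ) * X) ^ p - 1)
  (hdich : Module.finrank K L = 1 ∨ Module.finrank K L = p)

include hπ hζ hP hdich in
theorem good [FiniteDimensional K L] (e : ℕ) (u₀ : Aˣ) (hw : 1 - ζ = u₀ * π ^ e) (N : ℕ) :
    ∀ (ξ : K) (z : L), aeval z P = algebraMap K L ξ → K⟮z⟯ = ⊤ →
    (∃ a : A, ξ * algebraMap A K π ^ N = algebraMap A K a) → N < p * e →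
    Case1 K L ∨ Case2 p A K L ∨ Case3 p A K L ∨ Case4 p A L := by
  have hπK0 : algebraMap A K π ≠ 0 := by
    intro h
    exact (irreducible_pi π hπ).ne_zero (IsFractionRing.injective A K (by rw [h, map_zero]))
  have hπres : residue A π = 0 := by
    rw [residue_eq_zero_iff, hπ]
    exact Ideal.mem_span_singleton_self π
  have hPm := P_monic p (K := K) ζ hζ P hP
  have hPd := P_natDegree p (K := K) ζ hζ P hP
  induction N with
  | zero =>
    intro ξ z hz hgen ⟨a, ha⟩ _
    rw [pow_zero, mul_one] at ha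
    rcases caseA p π hπ ζ hζ P hP hdich ξ z hz hgen a ha.symm with h | h
    · exact Or.inl h
    · exact Or.inr (Or.inl h)
  | succ N ih =>
    intro ξ z hz hgen ⟨a, ha⟩ hN
    have hN' : N < p * e := Nat.lt_of_succ_lt hN
    by_cases hau : IsUnit a
    swap
    · have hmem : a ∈ maximalIdeal A := (mem_maximalIdeal a).mpr hau
      rw [hπ] at hmem
      obtain ⟨a', rfl⟩ := Ideal.mem_span_singleton'.mp hmem
      apply ih ξ z hz hgen _ hN'
      refine ⟨a', ?_⟩
      apply mul_right_cancel₀ hπK0
      rw [mul_assoc, ← pow_succ, ha, map_mul]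
    obtain ⟨u, rfl⟩ := hau
    by_cases hpn : p ∣ N + 1
    swap
    · exact Or.inr (Or.inr (Or.inl
        (caseB p π hπ ζ hζ P hP hdich ξ z hz hgen (N + 1) u (Nat.succ_pos N) hpn ha)))
    by_cases hres : ∀ r : A, residue A (u : A) ≠ residue A r ^ p
    · exact Or.inr (Or.inr (Or.inr
        (caseC p π hπ ζ hζ P hP ξ z hz hgen (N + 1) u (Nat.succ_pos N) hpn hres ha)))
    push Not at hres
    obtain ⟨r, hr⟩ := hres
    obtain ⟨m, hm⟩ := hpn
    have hm0 : 0 < m := by
      rcases Nat.eq_zero_or_pos m with h | h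
      · rw [h, mul_zero] at hm
        exact absurd hm (Nat.succ_ne_zero N)
      · exact h
    have hme : m < e := by
      have h1 : p * m < p * e := hm ▸ hN
      exact lt_of_mul_lt_mul_left h1 (Nat.zero_le p)
    obtain ⟨d, hd⟩ : ∃ d, e = (d + 1) + m := ⟨e - m - 1, by omega⟩
    set b : K := algebraMap A K r / algebraMap A K π ^ m with hb
    have hbπ : algebraMap A K π ^ m * b = algebraMap A K r := by
      rw [hb, mul_div_cancel₀ _ (pow_ne_zero m hπK0)]
    set βA : A := 1 + u₀ * π ^ (d + 1) * r with hβA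
    have hβunit : IsUnit βA := by
      have h1 : residue A βA = 1 := by
        rw [hβA, map_add, map_one, map_mul, map_mul, map_pow, hπres,
          zero_pow (Nat.succ_ne_zero d), mul_zero, zero_mul, add_zero]
      by_contra hnu
      have h2 := (residue_eq_zero_iff βA).mpr ((mem_maximalIdeal βA).mpr hnu)
      rw [h1] at h2
      exact one_ne_zero h2
    set β : K := algebraMap A K βA with hβ
    have hβK : β = 1 + algebraMap A K (1 - ζ) * b := by
      rw [hβ, hβA, hw, hd, pow_add, hb]
      simp only [map_add, map_one, map_mul, map_pow]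
      field_simp
      ring
    have hβ0 : β ≠ 0 := by
      intro h0
      exact hβunit.ne_zero (IsFractionRing.injective A K (by rw [← hβ, h0, map_zero]))
    set Pb : K := aeval b P with hPb
    have hPbeq : 1 + algebraMap A K (1 - ζ) ^ p * Pb = β ^ p := by
      rw [hPb, P_eval p ζ P hP b, ← hβK]
      ring
    set z' : L := (z - algebraMap K L b) / algebraMap K L β with hz'
    set ξ' : K := (ξ - Pb) / β ^ p with hξ'
    have hβL0 : algebraMap K L β ≠ 0 := fun h0 =>
      hβ0 ((algebraMap K L).injective (by rw [h0, map_zero]))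
    have hwL : algebraMap A L (1 - ζ) = algebraMap K L (algebraMap A K (1 - ζ)) :=
      IsScalarTower.algebraMap_apply A K L _
    have hzz : algebraMap K L b + z' + algebraMap A L (1 - ζ) * algebraMap K L b * z' = z := by
      have h1 : algebraMap K L β = 1 + algebraMap A L (1 - ζ) * algebraMap K L b := by
        rw [hβK, map_add, map_one, map_mul, hwL]
      have h2 : z' * algebraMap K L β = z - algebraMap K L b := by
        rw [hz', div_mul_cancel₀ _ hβL0]
      calc algebraMap K L b + z' + algebraMap A L (1 - ζ) * algebraMap K L b * z'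
          = algebraMap K L b + z' * (1 + algebraMap A L (1 - ζ) * algebraMap K L b) := by ring
        _ = z := by rw [← h1, h2]; ring
    have hz'eq : aeval z' P = algebraMap K L ξ' := by
      have hadd := P_add p (K := K) ζ hζ P hP L (algebraMap K L b) z'
      rw [hzz, hz, aeval_algebraMap_apply L b P] at hadd
      have h1 : algebraMap A L ((1 - ζ) ^ p) = algebraMap K L (algebraMap A K (1 - ζ) ^ p) := by
        rw [map_pow, map_pow, hwL]
      rw [← hPb] at hadd
      have h3 : algebraMap K L (β ^ p) =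
          1 + algebraMap A L ((1 - ζ) ^ p) * algebraMap K L Pb := by
        rw [← hPbeq, h1, map_add, map_one, map_mul]
      have h2 : aeval z' P * algebraMap K L (β ^ p) = algebraMap K L (ξ - Pb) := by
        rw [h3, map_sub, hadd]
        ring
      rw [hξ', map_div₀, eq_div_iff (fun h0 => pow_ne_zero p hβ0
        ((algebraMap K L).injective (by rw [h0, map_zero]))), h2]
    have hgen' : K⟮z'⟯ = ⊤ := by
      apply adjoin_eq_top_of_mem z z' hgen
      have hmem : z' ∈ K⟮z'⟯ := IntermediateField.mem_adjoin_simple_self K z'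
      have h1 : z = z' * algebraMap K L β + algebraMap K L b := by
        rw [hz', div_mul_cancel₀ _ hβL0]
        ring
      rw [h1]
      exact add_mem (mul_mem hmem (IntermediateField.algebraMap_mem _ _))
        (IntermediateField.algebraMap_mem _ _)
    apply ih ξ' z' hz'eq hgen' _ hN'
    -- `ξ' π^N ∈ A`
    set Q : A[X] := P.scaleRoots (π ^ m) with hQ
    have hπmem : π ^ m ∈ maximalIdeal A := by
      rw [hπ]
      exact Ideal.pow_mem_of_mem _ (Ideal.mem_span_singleton_self π) m hm0
    have hQr : algebraMap A K (Q.eval r) = algebraMap A K π ^ (N + 1) * Pb := by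
      have h1 := scaleRoots_eval₂_mul (p := P) (algebraMap A K) b (π ^ m)
      rw [map_pow, hbπ, eval₂_at_apply, hPd, ← pow_mul, mul_comm m p, ← hm] at h1
      rw [h1, hPb, aeval_def]
    have hsub : (u : A) - Q.eval r ∈ maximalIdeal A := by
      rw [← residue_eq_zero_iff, map_sub, residue_eval, hQ, map_scaleRoots_of_mem P hPm _ hπmem,
        hPd, eval_pow, eval_X, hr, sub_self]
    rw [hπ] at hsub
    obtain ⟨a', ha'⟩ := Ideal.mem_span_singleton'.mp hsub
    have hβinv : algebraMap A K ((hβunit.unit⁻¹ : Aˣ) : A) = β⁻¹ := by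
      apply eq_inv_of_mul_eq_one_left
      rw [hβ, ← map_mul, IsUnit.val_inv_mul, map_one]
    refine ⟨a' * ((hβunit.unit⁻¹ : Aˣ) : A) ^ p, ?_⟩
    apply mul_right_cancel₀ hπK0
    rw [mul_assoc, ← pow_succ, hξ', div_mul_eq_mul_div, sub_mul, ha, mul_comm Pb, ← hQr,
      ← map_sub, ← ha', map_mul, map_mul, map_pow, hβinv, inv_pow, div_eq_mul_inv]
    ring

include hπ hζ hP in
/-- The four cases for a Kummer extension `α ^ p = c`. -/
theorem kummer_cases (c : K) (α : L) (hα : α ^ p = algebraMap K L c) (hgenα : K⟮α⟯ = ⊤) :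
    Case1 K L ∨ Case2 p A K L ∨ Case3 p A K L ∨ Case4 p A L := by
  have hμ : IsPrimitiveRoot (algebraMap A K ζ) p :=
    (isPrimitiveRoot_zeta p (K := K) ζ hζ).map_of_injective (IsFractionRing.injective A K)
  haveI : FiniteDimensional K L := kummer_finiteDimensional p c α hα hgenα
  have hdich := kummer_dich p _ hμ c α hα hgenα
  have hirrπ := irreducible_pi π hπ
  have hπK0 : algebraMap A K π ≠ 0 := by
    intro h
    exact hirrπ.ne_zero (IsFractionRing.injective A K (by rw [h, map_zero]))
  have hπL0 : algebraMap A L π ≠ 0 := algebraMap_pi_ne_zero (K := K) π hπ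
  by_cases hc : c = 0
  · left
    subst hc
    rw [map_zero] at hα
    have hα0 : α = 0 := (pow_eq_zero_iff hp.out.ne_zero).mp hα
    show Module.finrank K L = 1
    rw [kummer_finrank_eq_natDegree p 0 α (by rw [hα, map_zero]) hgenα,
      minpoly.natDegree_eq_one_iff]
    exact ⟨0, by rw [map_zero, hα0]⟩
  -- reduce to `c ∈ A`
  obtain ⟨a₁, a₂, ha₂, rfl⟩ := IsFractionRing.div_surjective (A := A) c
  have ha₂0 : a₂ ≠ 0 := nonZeroDivisors.ne_zero ha₂
  have ha₁0 : a₁ ≠ 0 := by
    rintro rfl
    simp at hc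
  have ha₂L : algebraMap A L a₂ ≠ 0 := fun h =>
    ha₂0 (algebraMap_injective (K := K) (by rw [h, map_zero]))
  set c₁ : A := a₁ * a₂ ^ (p - 1) with hc₁
  have hc₁0 : c₁ ≠ 0 := mul_ne_zero ha₁0 (pow_ne_zero _ ha₂0)
  set α₁ : L := α * algebraMap A L a₂ with hα₁
  have hα₁p : α₁ ^ p = algebraMap A L c₁ := by
    have h : algebraMap A L a₂ ^ p = algebraMap A L a₂ ^ (p - 1) * algebraMap A L a₂ :=
      (pow_sub_one_mul hp.out.ne_zero _).symm
    rw [hα₁, mul_pow, hα, map_div₀, ← IsScalarTower.algebraMap_apply,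
      ← IsScalarTower.algebraMap_apply, hc₁, map_mul, map_pow, h]
    field_simp
  have hgen₁ : K⟮α₁⟯ = ⊤ := by
    apply adjoin_eq_top_of_mem α α₁ hgenα
    have hmem := IntermediateField.mem_adjoin_simple_self K α₁
    have h1 : α = α₁ * (algebraMap K L (algebraMap A K a₂))⁻¹ := by
      rw [hα₁, ← IsScalarTower.algebraMap_apply, mul_assoc, mul_inv_cancel₀ ha₂L, mul_one]
    rw [h1]
    exact mul_mem hmem (inv_mem (IntermediateField.algebraMap_mem _ _))
  obtain ⟨k, u, hu⟩ := IsDiscreteValuationRing.eq_unit_mul_pow_irreducible hc₁0 hirrπ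
  by_cases hk : p ∣ k
  swap
  · -- totally ramified
    right; right; left
    have hk0 : 0 < k := by
      rcases Nat.eq_zero_or_pos k with h | h
      · exact absurd (h ▸ dvd_zero p) hk
      · exact h
    apply totRam_of_val p π hπ hdich α₁⁻¹ k hk0 hk
    intro V hV
    have hs0 := val_pi_ne_zero (K := K) π hπ V
    have hs1 := val_pi_lt_one π hπ V hV
    have hv : V.valuation α₁ ^ p = V.valuation (algebraMap A L π) ^ k := by
      rw [← map_pow, hα₁p, hu, map_mul, map_mul, val_unit V hV _ u.isUnit, one_mul, map_pow,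
        map_pow]
    have hv0 : V.valuation α₁ ≠ 0 := by
      intro h0
      rw [h0, zero_pow hp.out.ne_zero] at hv
      exact pow_ne_zero k hs0 hv.symm
    have hvlt : V.valuation α₁ < 1 := by
      by_contra hcon
      rw [not_lt] at hcon
      have h1 : 1 ≤ V.valuation α₁ ^ p := one_le_pow₀ hcon
      rw [hv] at h1
      exact not_lt.mpr h1 (pow_lt_one₀ zero_le hs1 hk0.ne')
    refine ⟨?_, ?_⟩
    · rw [map_inv₀]
      exact (one_lt_inv₀ (zero_lt_iff.mpr hv0)).mpr hvlt
    · rw [map_inv₀, inv_pow, ← hv, inv_mul_cancel₀ (pow_ne_zero p hv0)]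
  obtain ⟨l, rfl⟩ := hk
  set α₂ : L := α₁ / algebraMap A L π ^ l with hα₂
  have hα₂p : α₂ ^ p = algebraMap A L u := by
    rw [hα₂, div_pow, hα₁p, hu, map_mul, map_pow, ← pow_mul, mul_comm l p, mul_div_assoc,
      div_self (pow_ne_zero _ hπL0), mul_one]
  have hgen₂ : K⟮α₂⟯ = ⊤ := by
    apply adjoin_eq_top_of_mem α₁ α₂ hgen₁
    have hmem := IntermediateField.mem_adjoin_simple_self K α₂
    have h1 : α₁ = α₂ * algebraMap K L (algebraMap A K π ^ l) := by
      rw [map_pow, ← IsScalarTower.algebraMap_apply, hα₂, div_mul_cancel₀ _ (pow_ne_zero _ hπL0)]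
    rw [h1]
    exact mul_mem hmem (IntermediateField.algebraMap_mem _ _)
  by_cases hres : ∀ r : A, residue A (u : A) ≠ residue A r ^ p
  · right; right; right
    haveI : ExpChar (ResidueField A) p := ExpChar.prime hp.out
    let F : A[X] := X ^ p - C (u : A)
    have hFm : F.Monic := monic_X_pow_sub_C _ hp.out.ne_zero
    have hFy : aeval α₂ F = 0 := by
      simp only [F, map_sub, map_pow, aeval_X, aeval_C]
      rw [hα₂p, sub_self]
    have hFb : F.map (residue A) = X ^ p - C (residue A (u : A)) := by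
      simp only [F, Polynomial.map_sub, Polynomial.map_pow, Polynomial.map_X, Polynomial.map_C]
    have hirr : Irreducible (F.map (residue A)) := by
      rw [hFb]
      apply X_pow_sub_C_irreducible_of_prime hp.out
      intro b hb
      obtain ⟨r, rfl⟩ := residue_surjective b
      exact hres r hb.symm
    exact case4_of_irreducible (K := K) π hπ α₂ hgen₂ F hFm hFy u hFb hirr hp.out.ne_zero
  push Not at hres
  obtain ⟨r, hr⟩ := hres
  have hrunit : IsUnit r := by
    by_contra hnu
    have h0 : residue A r = 0 := (residue_eq_zero_iff r).mpr ((mem_maximalIdeal r).mpr hnu)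
    rw [h0, zero_pow hp.out.ne_zero] at hr
    have h1 : (u : A) ∈ maximalIdeal A := (residue_eq_zero_iff _).mp hr
    exact (mem_maximalIdeal _).mp h1 u.isUnit
  obtain ⟨ru, rfl⟩ := hrunit
  set c₃ : A := u * ((ru⁻¹ : Aˣ) : A) ^ p with hc₃
  have hc₃res : residue A c₃ = 1 := by
    rw [hc₃, map_mul, map_pow, hr, ← mul_pow, ← map_mul, Units.mul_inv, map_one, one_pow]
  have hx : c₃ - 1 ∈ maximalIdeal A := by
    rw [← residue_eq_zero_iff, map_sub, hc₃res, map_one, sub_self]
  rw [hπ] at hx
  obtain ⟨x', hx'⟩ := Ideal.mem_span_singleton'.mp hx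
  set α₃ : L := α₂ * algebraMap A L ((ru⁻¹ : Aˣ) : A) with hα₃
  have hα₃p : α₃ ^ p = algebraMap A L c₃ := by
    rw [hα₃, mul_pow, hα₂p, hc₃, map_mul, map_pow]
  have hgen₃ : K⟮α₃⟯ = ⊤ := by
    apply adjoin_eq_top_of_mem α₂ α₃ hgen₂
    have hmem := IntermediateField.mem_adjoin_simple_self K α₃
    have h1 : α₂ = α₃ * algebraMap K L (algebraMap A K (ru : A)) := by
      rw [← IsScalarTower.algebraMap_apply, hα₃, mul_assoc, ← map_mul, Units.inv_mul, map_one,
        mul_one]
    rw [h1]
    exact mul_mem hmem (IntermediateField.algebraMap_mem _ _)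
  -- `w`
  have hw0 := w_ne_zero p (K := K) ζ hζ
  obtain ⟨e, u₀, hw⟩ := IsDiscreteValuationRing.eq_unit_mul_pow_irreducible hw0 hirrπ
  have he : 0 < e := by
    rcases Nat.eq_zero_or_pos e with h | h
    · exfalso
      rw [h, pow_zero, mul_one] at hw
      have h1 := w_mem p ζ hζ
      rw [hw] at h1
      exact (mem_maximalIdeal _).mp h1 u₀.isUnit
    · exact h
  have hwL0 : algebraMap A L (1 - ζ) ≠ 0 := fun h =>
    hw0 (algebraMap_injective (K := K) (by rw [h, map_zero]))
  have hwK0 : algebraMap A K (1 - ζ) ≠ 0 := fun h =>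
    hw0 (IsFractionRing.injective A K (by rw [h, map_zero]))
  set z₃ : L := (α₃ - 1) / algebraMap A L (1 - ζ) with hz₃
  set ξ₃ : K := algebraMap A K (c₃ - 1) / algebraMap A K (1 - ζ) ^ p with hξ₃
  have h2 : 1 + algebraMap A L (1 - ζ) * z₃ = α₃ := by
    rw [hz₃, mul_div_cancel₀ _ hwL0]
    ring
  have hz₃eq : aeval z₃ P = algebraMap K L ξ₃ := by
    have h1 := P_eval p ζ P hP z₃
    rw [h2, hα₃p] at h1
    rw [hξ₃, map_div₀, map_pow, ← IsScalarTower.algebraMap_apply,
      ← IsScalarTower.algebraMap_apply, eq_div_iff (pow_ne_zero p hwL0), mul_comm, h1, map_sub,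
      map_one]
  have hgen_z : K⟮z₃⟯ = ⊤ := by
    apply adjoin_eq_top_of_mem α₃ z₃ hgen₃
    have hmem := IntermediateField.mem_adjoin_simple_self K z₃
    have h1 : α₃ = 1 + algebraMap K L (algebraMap A K (1 - ζ)) * z₃ := by
      rw [← IsScalarTower.algebraMap_apply, h2]
    rw [h1]
    exact add_mem (one_mem _) (mul_mem (IntermediateField.algebraMap_mem _ _) hmem)
  obtain ⟨N, hN⟩ : ∃ N, p * e = N + 1 :=
    Nat.exists_eq_succ_of_ne_zero (Nat.mul_ne_zero hp.out.ne_zero he.ne')
  apply good p π hπ ζ hζ P hP hdich e u₀ hw N ξ₃ z₃ hz₃eq hgen_z _ (by omega)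
  refine ⟨x' * ((u₀⁻¹ : Aˣ) : A) ^ p, ?_⟩
  have hu₀ : algebraMap A K ((u₀⁻¹ : Aˣ) : A) = (algebraMap A K (u₀ : A))⁻¹ := by
    apply eq_inv_of_mul_eq_one_left
    rw [← map_mul, Units.inv_mul, map_one]
  have hu₀K : algebraMap A K (u₀ : A) ≠ 0 := fun h =>
    u₀.ne_zero (IsFractionRing.injective A K (by rw [h, map_zero]))
  apply mul_right_cancel₀ hπK0
  rw [mul_assoc, ← pow_succ, ← hN, hξ₃, ← hx', hw]
  simp only [map_mul, map_pow]
  rw [hu₀, mul_pow, ← pow_mul, mul_comm e p, inv_pow]
  field_simp

include hπ hζ hP in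
/-- Main theorem on Kummer-type extensions `P(z) = ξ`. -/
theorem main (ξ : K) (z : L) (hz : aeval z P = algebraMap K L ξ) (hgen : K⟮z⟯ = ⊤) :
    IsGalois K L ∧ (Case1 K L ∨ Case2 p A K L ∨ Case3 p A K L ∨ Case4 p A L) ∧
      ((∃ a : A, algebraMap A K a = ξ) → Case1 K L ∨ Case2 p A K L) ∧
      (∀ (n : ℕ) (a : Aˣ), 0 < n → ¬ p ∣ n →
        ξ * algebraMap A K π ^ n = algebraMap A K a → Case3 p A K L) ∧
      (∀ (n : ℕ) (a : A), 0 < n → p ∣ n → (∀ r : A, residue A a ≠ residue A r ^ p) →
        ξ * algebraMap A K π ^ n = algebraMap A K a → Case4 p A L) := by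
  have hμ : IsPrimitiveRoot (algebraMap A K ζ) p :=
    (isPrimitiveRoot_zeta p (K := K) ζ hζ).map_of_injective (IsFractionRing.injective A K)
  have hw0 := w_ne_zero p (K := K) ζ hζ
  have hwL0 : algebraMap A L (1 - ζ) ≠ 0 := fun h =>
    hw0 (algebraMap_injective (K := K) (by rw [h, map_zero]))
  set α : L := 1 + algebraMap A L (1 - ζ) * z with hα
  set c : K := 1 + algebraMap A K (1 - ζ) ^ p * ξ with hc
  have hαp : α ^ p = algebraMap K L c := by
    have h1 := P_eval p ζ P hP z
    rw [hz] at h1
    rw [hc, map_add, map_one, map_mul, map_pow, ← IsScalarTower.algebraMap_apply, h1]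
    ring
  have hgenα : K⟮α⟯ = ⊤ := by
    apply adjoin_eq_top_of_mem z α hgen
    have hmem := IntermediateField.mem_adjoin_simple_self K α
    have h1 : z = (α - 1) * (algebraMap K L (algebraMap A K (1 - ζ)))⁻¹ := by
      rw [← IsScalarTower.algebraMap_apply, hα, add_sub_cancel_left, mul_comm, ← mul_assoc,
        inv_mul_cancel₀ hwL0, one_mul]
    rw [h1]
    exact mul_mem (sub_mem hmem (one_mem _)) (inv_mem (IntermediateField.algebraMap_mem _ _))
  haveI : FiniteDimensional K L := kummer_finiteDimensional p c α hαp hgenα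
  have hdich := kummer_dich p _ hμ c α hαp hgenα
  refine ⟨kummer_isGalois p _ hμ c α hαp hgenα, kummer_cases p π hπ ζ hζ P hP c α hαp hgenα,
    ?_, ?_, ?_⟩
  · rintro ⟨a, ha⟩
    exact caseA p π hπ ζ hζ P hP hdich ξ z hz hgen a ha
  · intro n a hn hpn hξ
    exact caseB p π hπ ζ hζ P hP hdich ξ z hz hgen n a hn hpn hξ
  · intro n a hn hpn hres hξ
    exact caseC p π hπ ζ hζ P hP ξ z hz hgen n a hn hpn hres hξ

end good

end Groth.Agent.H10.KummerRam
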