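import Mathlib

/-!
# Additivity of left derived functors and of `Tor`
-/

set_option autoImplicit false
universe v u v' u'

namespace Groth.Agent.H10.LDerAdditive

open CategoryTheory CategoryTheory.Limits

variable {C : Type u} [Category.{v} C] [Abelian C] [HasProjectiveResolutions C]
  {D : Type u'} [Category.{v'} D] [Abelian D]

instance projectiveResolutions_additive : (projectiveResolutions C).Additive where
  map_add {X Y f g} := by
    have h : (HomotopyCategory.quotient C (ComplexShape.down ℕ)).map
        (ProjectiveResolution.lift (f + g) (projectiveResolution X) (projectiveResolution Y)) =
        (HomotopyCategory.quotient C (ComplexShape.down ℕ)).map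
          (ProjectiveResolution.lift f (projectiveResolution X) (projectiveResolution Y) +
            ProjectiveResolution.lift g (projectiveResolution X) (projectiveResolution Y)) := by
      apply HomotopyCategory.eq_of_homotopy
      apply ProjectiveResolution.liftHomotopy (f + g)
      · exact ProjectiveResolution.lift_commutes _ _ _
      · rw [Preadditive.add_comp, ProjectiveResolution.lift_commutes,
          ProjectiveResolution.lift_commutes, Functor.map_add, Preadditive.comp_add]
    exact h.trans (Functor.map_add _)

instance leftDerived_additive (F : C ⥤ D) [F.Additive] (n : ℕ) : (F.leftDerived n).Additive :=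
  inferInstanceAs (((projectiveResolutions C ⋙ F.mapHomotopyCategory _) ⋙
    HomotopyCategory.homologyFunctor D _ n).Additive)

instance tor_obj_additive (R : Type u) [CommRing R] (M : ModuleCat.{u} R) (n : ℕ) :
    ((Tor (ModuleCat.{u} R) n).obj M).Additive :=
  inferInstanceAs (Functor.leftDerived ((MonoidalCategory.tensoringLeft (ModuleCat.{u} R)).obj M)
    n).Additive

end Groth.Agent.H10.LDerAdditive
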