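import Mathlib

/-! (CNT) of helper7's S14471 squad: a valuation-like function on a finite-dimensional vector space
takes exactly `dim V` values on the nonzero vectors. -/

set_option autoImplicit false
universe u

namespace Groth.Agent.H10.LSO_CNT

/-- (CNT) pure linear algebra: a valuation-like function on a finite-dimensional space takes exactly
`dim V` values on the nonzero vectors. -/
theorem ncard_image_of_valuationLike {k V : Type u} [Field k] [AddCommGroup V] [Module k V]
    [Module.Finite k V] (ν : V → ℕ∞)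
    (h0 : ∀ v, ν v = ⊤ ↔ v = 0)
    (hadd : ∀ v w, min (ν v) (ν w) ≤ ν (v + w))
    (hsmul : ∀ (a : k) v, a ≠ 0 → ν (a • v) = ν v)
    (hlead : ∀ v w, ν v = ν w → ν v ≠ ⊤ → ∃ a : k, a ≠ 0 ∧ ν v < ν (v - a • w)) :
    Set.ncard (ν '' {v | v ≠ 0}) = Module.finrank k V := by
  classical
  have hν0 : ν 0 = ⊤ := (h0 0).mpr rfl
  have key : ∀ (n : ℕ) (W : Submodule k V), Module.finrank k W = n →
      Set.encard (ν '' {v | v ∈ W ∧ v ≠ 0}) = (n : ℕ∞) := by
    intro n
    induction n with
    | zero =>
      intro W hW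
      have hbot : W = ⊥ := Submodule.finrank_eq_zero.mp hW
      subst hbot
      have : {v : V | v ∈ (⊥ : Submodule k V) ∧ v ≠ 0} = ∅ := by
        ext v
        simp only [Submodule.mem_bot, Set.mem_ofPred_eq, Set.mem_empty_iff_false, iff_false, not_and,
          not_not]
        exact id
      rw [this]
      simp
    | succ n ih =>
      intro W hW
      have hne : W ≠ ⊥ := by
        rintro rfl
        simp at hW
      obtain ⟨v1, hv1W, hv1⟩ := Submodule.exists_mem_ne_zero_of_ne_bot hne
      have hT : (ν '' {v | v ∈ W ∧ v ≠ 0}).Nonempty := ⟨ν v1, v1, ⟨hv1W, hv1⟩, rfl⟩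
      obtain ⟨n0, hn0T, hmin⟩ := wellFounded_lt.has_min _ hT
      obtain ⟨v0, ⟨hv0W, hv0⟩, rfl⟩ := hn0T
      have hn0top : ν v0 ≠ ⊤ := fun h => hv0 ((h0 v0).mp h)
      have hminle : ∀ w ∈ W, w ≠ 0 → ν v0 ≤ ν w :=
        fun w hw hw0 => not_lt.mp (hmin _ ⟨w, ⟨hw, hw0⟩, rfl⟩)
      let W' : Submodule k V :=
        { carrier := {w | w ∈ W ∧ ν v0 < ν w}
          zero_mem' := ⟨W.zero_mem, by rw [hν0]; exact lt_top_iff_ne_top.mpr hn0top⟩
          add_mem' := fun {a b} ha hb =>
            ⟨W.add_mem ha.1 hb.1, lt_of_lt_of_le (lt_min ha.2 hb.2) (hadd a b)⟩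
          smul_mem' := fun c x hx => by
            by_cases hc : c = 0
            · subst hc
              rw [zero_smul]
              exact ⟨W.zero_mem, by rw [hν0]; exact lt_top_iff_ne_top.mpr hn0top⟩
            · exact ⟨W.smul_mem c hx.1, by rw [hsmul c x hc]; exact hx.2⟩ }
      have hW'le : W' ≤ W := fun w hw => hw.1
      have hsup : (k ∙ v0) ⊔ W' = W := by
        apply le_antisymm
        · exact sup_le ((Submodule.span_singleton_le_iff_mem _ _).mpr hv0W) hW'le
        · intro w hw
          by_cases hw0 : w = 0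
          · subst hw0
            exact Submodule.zero_mem _
          · rcases (hminle w hw hw0).lt_or_eq with hlt | heq
            · exact Submodule.mem_sup_right ⟨hw, hlt⟩
            · obtain ⟨a, ha, hlt⟩ := hlead w v0 heq.symm (by rw [← heq]; exact hn0top)
              have hmem : w - a • v0 ∈ W' :=
                ⟨W.sub_mem hw (W.smul_mem a hv0W), by rw [heq]; exact hlt⟩
              have e : w = a • v0 + (w - a • v0) := by abel
              rw [e]
              exact Submodule.add_mem _
                (Submodule.mem_sup_left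
                  (Submodule.smul_mem _ a (Submodule.mem_span_singleton_self v0)))
                (Submodule.mem_sup_right hmem)
      have hinf : (k ∙ v0) ⊓ W' = ⊥ := by
        rw [eq_bot_iff]
        rintro x ⟨hx1, hx2⟩
        obtain ⟨a, rfl⟩ := Submodule.mem_span_singleton.mp hx1
        by_cases ha : a = 0
        · subst ha
          simp
        · exfalso
          have h2 : ν v0 < ν (a • v0) := hx2.2
          rw [hsmul a v0 ha] at h2
          exact lt_irrefl _ h2
      have hrank : Module.finrank k W' = n := by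
        have h1 := Submodule.finrank_sup_add_finrank_inf_eq (k ∙ v0) W'
        rw [hsup, hinf, finrank_bot, finrank_span_singleton hv0, hW] at h1
        omega
      have ih' := ih W' hrank
      have himg : ν '' {v | v ∈ W ∧ v ≠ 0} = insert (ν v0) (ν '' {v | v ∈ W' ∧ v ≠ 0}) := by
        ext m
        constructor
        · rintro ⟨w, ⟨hw, hw0⟩, rfl⟩
          rcases (hminle w hw hw0).lt_or_eq with hlt | heq
          · exact Set.mem_insert_of_mem _ ⟨w, ⟨⟨hw, hlt⟩, hw0⟩, rfl⟩
          · rw [← heq]
            exact Set.mem_insert _ _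
        · rintro (rfl | ⟨w, ⟨hw, hw0⟩, rfl⟩)
          · exact ⟨v0, ⟨hv0W, hv0⟩, rfl⟩
          · exact ⟨w, ⟨hW'le hw, hw0⟩, rfl⟩
      have hnotin : ν v0 ∉ ν '' {v | v ∈ W' ∧ v ≠ 0} := by
        rintro ⟨w, ⟨hw, -⟩, hEq⟩
        have h2 : ν v0 < ν w := hw.2
        rw [hEq] at h2
        exact lt_irrefl _ h2
      rw [himg, Set.encard_insert_of_notMem hnotin, ih']
      norm_cast
  have h := key (Module.finrank k (⊤ : Submodule k V)) ⊤ rfl
  rw [finrank_top] at h
  have hset : {v : V | v ∈ (⊤ : Submodule k V) ∧ v ≠ 0} = {v | v ≠ 0} := by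
    ext v
    simp
  rw [hset] at h
  rw [Set.ncard, h]
  simp

end Groth.Agent.H10.LSO_CNT
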