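import Mathlib
import Groth.Prelude.Def_Red2
import Groth.Prelude.Def_ActBC
import Groth.Agent.H43.LSDefs

/-! (LS-DENSE) of helper43's S16621 squad: compatibility with a reference chart on a dense open
implies compatibility (separated target, reduced source, open structure map, integral base). -/

set_option autoImplicit false
universe u
open CategoryTheory Limits MonoidalCategory CartesianMonoidalCategory MonObj GrpObj AlgebraicGeometry
open Groth.Agent.H43.LS

namespace Groth.Agent.H10.LS_DENSE

theorem compat_of_compat_ref {S : Scheme.{u}} [IsIntegral S] {X Y : Over S} [IsSeparated Y.hom]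
    [IsReduced X.left] (hopen : IsOpenMap X.hom.base) (U U' U₀ : S.Opens)
    (hU₀ : (U₀ : Set S).Nonempty) (f : Red.bc U.ι X ⟶ Red.bc U.ι Y)
    (f' : Red.bc U'.ι X ⟶ Red.bc U'.ι Y) (f₀ : Red.bc U₀.ι X ⟶ Red.bc U₀.ι Y)
    (h : Compat f f₀) (h' : Compat f' f₀) : Compat f f' := by
  intro Z a b hab
  -- notation
  let pU : pullback X.hom U.ι ⟶ X.left := pullback.fst X.hom U.ι
  let pU' : pullback X.hom U'.ι ⟶ X.left := pullback.fst X.hom U'.ι
  let pU₀ : pullback X.hom U₀.ι ⟶ X.left := pullback.fst X.hom U₀.ι
  let u : pullback pU pU' ⟶ Y.left := pullback.fst pU pU' ≫ f.left ≫ pullback.fst Y.hom U.ι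
  let v : pullback pU pU' ⟶ Y.left := pullback.snd pU pU' ≫ f'.left ≫ pullback.fst Y.hom U'.ι
  suffices huv : u = v by
    have hc : a = pullback.lift a b hab ≫ pullback.fst pU pU' := (pullback.lift_fst _ _ _).symm
    have hc' : b = pullback.lift a b hab ≫ pullback.snd pU pU' := (pullback.lift_snd _ _ _).symm
    calc a ≫ f.left ≫ pullback.fst Y.hom U.ι
        = pullback.lift a b hab ≫ u := by
          conv_lhs => rw [hc]
          simp only [u, Category.assoc]
      _ = pullback.lift a b hab ≫ v := by rw [huv]
      _ = b ≫ f'.left ≫ pullback.fst Y.hom U'.ι := by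
          conv_rhs => rw [hc']
          simp only [v, Category.assoc]
  -- the open immersion `P ⟶ X.left`
  let g : pullback pU pU' ⟶ X.left := pullback.fst pU pU' ≫ pU
  haveI : IsOpenImmersion g := inferInstance
  haveI : IsReduced (pullback pU pU') := isReduced_of_isOpenImmersion g
  -- `u`, `v` agree over `S`
  have hf : f.left ≫ pullback.snd Y.hom U.ι = pullback.snd X.hom U.ι := Over.w f
  have hf' : f'.left ≫ pullback.snd Y.hom U'.ι = pullback.snd X.hom U'.ι := Over.w f'
  have hu : u ≫ Y.hom = g ≫ X.hom := by
    simp only [u, g, pU, Category.assoc]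
    rw [pullback.condition, reassoc_of% hf, ← pullback.condition]
  have hv : v ≫ Y.hom = g ≫ X.hom := by
    have hg : g = pullback.snd pU pU' ≫ pU' := pullback.condition
    rw [hg]
    simp only [v, pU', Category.assoc]
    rw [pullback.condition, reassoc_of% hf', ← pullback.condition]
  -- the dominant open immersion
  let ι₀ : pullback g pU₀ ⟶ pullback pU pU' := pullback.fst g pU₀
  have hι₀ : ι₀ ≫ u = ι₀ ≫ v := by
    have e1 := h (pullback g pU₀) (ι₀ ≫ pullback.fst pU pU') (pullback.snd g pU₀) (by
      simp only [ι₀, Category.assoc]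
      exact pullback.condition)
    have e2 := h' (pullback g pU₀) (ι₀ ≫ pullback.snd pU pU') (pullback.snd g pU₀) (by
      simp only [ι₀, Category.assoc]
      rw [← pullback.condition (f := pU) (g := pU')]
      exact pullback.condition)
    simp only [u, v, Category.assoc] at e1 e2 ⊢
    rw [e1, e2]
  haveI : IsDominant ι₀ := by
    constructor
    have hr : Set.range ι₀.base = (g ≫ X.hom).base ⁻¹' (U₀ : Set S) := by
      rw [Scheme.Pullback.range_fst, Scheme.Pullback.range_fst, Scheme.Opens.range_ι]
      rfl
    rw [DenseRange, hr]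
    have hd : Dense (U₀ : Set S) := U₀.2.dense hU₀
    refine hd.preimage ?_
    rw [Scheme.Hom.comp_base]
    exact hopen.comp g.isOpenEmbedding.isOpenMap
  exact ext_of_isDominant_of_isSeparated Y.hom (hu.trans hv.symm) ι₀ hι₀

end Groth.Agent.H10.LS_DENSE
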