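import Mathlib
import Groth.Prelude.Def_Red2
import Groth.Prelude.Def_ActBC
import Groth.Agent.H43.LSDefs

/-! (LS-GLUE) of helper43's S16621 squad: gluing compatible local morphisms over an open cover of
the base. -/

set_option autoImplicit false
universe u
open CategoryTheory Limits MonoidalCategory CartesianMonoidalCategory MonObj GrpObj AlgebraicGeometry
open Groth.Agent.H43.LS

namespace Groth.Agent.H10.LS_GLUE

theorem exists_glue_over {S : Scheme.{u}} {X Y : Over S} {κ : Type u} (U : κ → S.Opens)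
    (hU : ∀ s : S, ∃ i, s ∈ U i) (f : ∀ i, Red.bc (U i).ι X ⟶ Red.bc (U i).ι Y)
    (hc : ∀ i j, Compat (f i) (f j)) :
    ∃ φ : X ⟶ Y, ∀ i, (Over.pullback (U i).ι).map φ = f i := by
  let 𝒲 : X.left.OpenCover :=
    { I₀ := κ
      X := fun i => pullback X.hom (U i).ι
      f := fun i => pullback.fst X.hom (U i).ι
      mem₀ := by
        rw [Scheme.presieve₀_mem_precoverage_iff]
        refine ⟨fun x => ?_, inferInstance⟩
        obtain ⟨i, hi⟩ := hU (X.hom.base x)
        have hx : x ∈ Set.range (pullback.fst X.hom (U i).ι).base := by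
          rw [Scheme.Pullback.range_fst, Scheme.Opens.range_ι]
          exact hi
        obtain ⟨y, hy⟩ := hx
        exact ⟨i, y, hy⟩ }
  let g : ∀ i : κ, pullback X.hom (U i).ι ⟶ Y.left :=
    fun i => (f i).left ≫ pullback.fst Y.hom (U i).ι
  have hg : ∀ i j : κ, pullback.fst (𝒲.f i) (𝒲.f j) ≫ g i = pullback.snd (𝒲.f i) (𝒲.f j) ≫ g j :=
    fun i j => hc i j _ (pullback.fst (𝒲.f i) (𝒲.f j)) (pullback.snd (𝒲.f i) (𝒲.f j))
      pullback.condition
  let glued : X.left ⟶ Y.left := 𝒲.glueMorphisms g hg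
  have hglued : ∀ i, pullback.fst X.hom (U i).ι ≫ glued = g i := fun i => 𝒲.ι_glueMorphisms g hg i
  have hw : ∀ i, (f i).left ≫ pullback.snd Y.hom (U i).ι = pullback.snd X.hom (U i).ι :=
    fun i => Over.w (f i)
  have hover : glued ≫ Y.hom = X.hom := by
    refine 𝒲.hom_ext _ _ fun i => ?_
    change pullback.fst X.hom (U i).ι ≫ glued ≫ Y.hom = pullback.fst X.hom (U i).ι ≫ X.hom
    rw [reassoc_of% hglued i]
    simp only [g, Category.assoc]
    rw [pullback.condition, reassoc_of% hw i, ← pullback.condition]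
  refine ⟨Over.homMk glued hover, fun i => ?_⟩
  ext1
  apply pullback.hom_ext
  · have e : Over.Hom.left ((Over.pullback (U i).ι).map (Over.homMk glued hover)) ≫
        pullback.fst Y.hom (U i).ι = pullback.fst X.hom (U i).ι ≫ glued :=
      pullback.lift_fst _ _ _
    rw [e]
    exact hglued i
  · have e : Over.Hom.left ((Over.pullback (U i).ι).map (Over.homMk glued hover)) ≫
        pullback.snd Y.hom (U i).ι = pullback.snd X.hom (U i).ι :=
      pullback.lift_snd _ _ _
    rw [e]
    exact (hw i).symm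

end Groth.Agent.H10.LS_GLUE
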