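import Mathlib

/-!
# Lang-type finite étale algebras `R[x]/(x^p - M x)` in characteristic `p`
-/

set_option autoImplicit false

open MvPolynomial

namespace Groth.Agent.H10.LangCover

variable {R : Type*} [CommRing R] {σ : Type} [Fintype σ]

/-- The relations `x_i^p - Σ_j M_ij x_j`. -/
noncomputable def rel (p : ℕ) (M : Matrix σ σ R) (i : σ) : MvPolynomial σ R :=
  X i ^ p - ∑ j, C (M i j) * X j

/-- The algebra `R[x]/(x^p - M x)`. -/
abbrev LangAlg (p : ℕ) (M : Matrix σ σ R) : Type _ :=
  MvPolynomial σ R ⧸ Ideal.span (Set.range (rel p M))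

variable (p : ℕ) (M : Matrix σ σ R)

lemma mk_X_pow (i : σ) :
    (Ideal.Quotient.mk (Ideal.span (Set.range (rel p M))) (X i ^ p) : LangAlg p M) =
      ∑ j, algebraMap R (LangAlg p M) (M i j) * Ideal.Quotient.mk _ (X j) := by
  have h : rel p M i ∈ Ideal.span (Set.range (rel p M)) := Ideal.subset_span ⟨i, rfl⟩
  have h2 := Ideal.Quotient.eq_zero_iff_mem.mpr h
  rw [rel, map_sub, sub_eq_zero] at h2
  rw [h2, map_sum]
  refine Finset.sum_congr rfl (fun j _ => ?_)
  rw [map_mul, ← MvPolynomial.algebraMap_eq, Ideal.Quotient.mk_algebraMap]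

/-- Lifting property. -/
lemma exists_algHom {B : Type*} [CommRing B] [Algebra R B] (g : σ → B)
    (hg : ∀ i, g i ^ p = ∑ j, algebraMap R B (M i j) * g j) :
    ∃ φ : LangAlg p M →ₐ[R] B, ∀ i, φ (Ideal.Quotient.mk _ (X i)) = g i := by
  have hker : ∀ a ∈ Ideal.span (Set.range (rel p M)), aeval g a = 0 := by
    intro a ha
    have hle : Ideal.span (Set.range (rel p M)) ≤ RingHom.ker (aeval g : MvPolynomial σ R →ₐ[R] B) := by
      rw [Ideal.span_le]
      rintro _ ⟨i, rfl⟩
      rw [SetLike.mem_coe, RingHom.mem_ker, rel, map_sub, map_pow, aeval_X, map_sum, hg, sub_eq_zero]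
      refine Finset.sum_congr rfl (fun j _ => ?_)
      rw [map_mul, aeval_C, aeval_X]
    exact hle ha
  refine ⟨Ideal.Quotient.liftₐ _ (aeval g) hker, fun i => ?_⟩
  exact (Ideal.Quotient.lift_mk _ _ _).trans (aeval_X g i)

/-- The reduced monomials. -/
def redSet (p : ℕ) : Set (σ →₀ ℕ) := {f | ∀ i, f i < p}

omit [Fintype σ] in
lemma redSet_finite [Finite σ] : (redSet (σ := σ) p).Finite := by
  have h1 : (Set.pi Set.univ (fun _ : σ => Set.Iio p) : Set (σ → ℕ)).Finite :=
    Set.Finite.pi (fun _ => Set.finite_Iio p)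
  have h2 : redSet (σ := σ) p = (Finsupp.equivFunOnFinite : (σ →₀ ℕ) ≃ (σ → ℕ)) ⁻¹'
      (Set.pi Set.univ (fun _ : σ => Set.Iio p)) := by
    ext f
    simp [redSet, Set.mem_pi]
  rw [h2]
  exact h1.preimage (Equiv.injective _).injOn

lemma mk_monomial_mem (hp : 2 ≤ p) (d : ℕ) :
    ∀ f : σ →₀ ℕ, f.degree = d →
      (Ideal.Quotient.mk (Ideal.span (Set.range (rel p M))) (monomial f (1 : R)) : LangAlg p M) ∈
        Submodule.span R ((fun f : σ →₀ ℕ =>
          (Ideal.Quotient.mk (Ideal.span (Set.range (rel p M))) (monomial f (1 : R)) : LangAlg p M)) ''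
            redSet p) := by
  induction d using Nat.strong_induction_on with
  | _ d ih =>
    intro f hf
    by_cases hred : ∀ i, f i < p
    · exact Submodule.subset_span ⟨f, hred, rfl⟩
    · push Not at hred
      obtain ⟨i, hi⟩ := hred
      have hle : Finsupp.single i p ≤ f := by
        rw [Finsupp.single_le_iff]
        exact hi
      set f' := f - Finsupp.single i p with hf'
      have hff' : f = f' + Finsupp.single i p := (tsub_add_cancel_of_le hle).symm
      have hdeg : f.degree = f'.degree + p := by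
        conv_lhs => rw [hff']
        rw [map_add, Finsupp.degree_single]
      have hmon : monomial f (1 : R) = monomial f' 1 * X i ^ p := by
        rw [X_pow_eq_monomial, monomial_mul, one_mul, ← hff']
      rw [hmon, map_mul, mk_X_pow, Finset.mul_sum]
      refine Submodule.sum_mem _ (fun j _ => ?_)
      have h1 : ∀ r : R, (Ideal.Quotient.mk (Ideal.span (Set.range (rel p M))) (monomial f' (1 : R)) :
          LangAlg p M) * (algebraMap R (LangAlg p M) r * Ideal.Quotient.mk _ (X j)) =
          r • Ideal.Quotient.mk _ (monomial (f' + Finsupp.single j 1) (1 : R)) := by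
        intro r
        have e1 : algebraMap R (LangAlg p M) r = Ideal.Quotient.mk _ (C r) := by
          rw [← MvPolynomial.algebraMap_eq, Ideal.Quotient.mk_algebraMap]
        have e2 : r • (Ideal.Quotient.mk (Ideal.span (Set.range (rel p M)))
            (monomial (f' + Finsupp.single j 1) (1 : R)) : LangAlg p M) =
            Ideal.Quotient.mk _ (C r * monomial (f' + Finsupp.single j 1) 1) := by
          rw [← smul_eq_C_mul]; rfl
        rw [e1, e2, ← map_mul, ← map_mul]
        congr 1
        rw [X, mul_left_comm, monomial_mul, one_mul]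
      rw [h1]
      refine Submodule.smul_mem _ _ (ih (f' + Finsupp.single j 1).degree ?_ _ rfl)
      rw [map_add, Finsupp.degree_single, ← hf, hdeg]
      omega

lemma finite (hp : 2 ≤ p) : Module.Finite R (LangAlg p M) := by
  let gen : (σ →₀ ℕ) → LangAlg p M := fun f =>
    (Ideal.Quotient.mk (Ideal.span (Set.range (rel p M))) (monomial f (1 : R)) : LangAlg p M)
  refine ⟨(Submodule.fg_def).mpr ⟨gen '' redSet p, (redSet_finite (σ := σ) p).image gen, ?_⟩⟩
  rw [eq_top_iff]
  rintro y -
  obtain ⟨q, rfl⟩ := Ideal.Quotient.mk_surjective y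
  induction q using MvPolynomial.induction_on' with
  | monomial f a =>
    have : monomial f a = a • monomial f (1 : R) := by
      rw [smul_monomial, smul_eq_mul, mul_one]
    rw [this, ← Ideal.Quotient.mkₐ_eq_mk R, map_smul]
    exact Submodule.smul_mem _ _ (mk_monomial_mem p M hp _ f rfl)
  | add q r hq hr =>
    rw [map_add]
    exact add_mem hq hr

section Etale

variable [DecidableEq σ]

omit [Fintype σ] [DecidableEq σ] in
lemma natCast_eq_zero (hpR : (p : R) = 0) : (p : MvPolynomial σ R) = 0 := by
  have : (p : MvPolynomial σ R) = C (p : R) := by simp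
  rw [this, hpR, map_zero]

omit [DecidableEq σ] in
lemma pderiv_rel (hpR : (p : R) = 0) (i j : σ) :
    pderiv i (rel p M j) = - C (M j i) := by
  rw [rel, map_sub, map_sum]
  have h1 : pderiv i ((X j : MvPolynomial σ R) ^ p) = 0 := by
    rw [Derivation.leibniz_pow, nsmul_eq_mul, natCast_eq_zero p hpR, zero_mul]
  rw [h1, zero_sub]
  congr 1
  rw [Finset.sum_eq_single i]
  · rw [pderiv_C_mul, pderiv_X_self, mul_one]
  · intro b _ hb
    rw [pderiv_C_mul, pderiv_X_of_ne hb, mul_zero]
  · intro h
    exact absurd (Finset.mem_univ i) h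

lemma etale (hpR : (p : R) = 0) (hM : IsUnit M.det) : Algebra.Etale R (LangAlg p M) := by
  let P₀ : Algebra.PreSubmersivePresentation R (LangAlg p M) σ σ :=
    Algebra.PreSubmersivePresentation.naive (v := rel p M) id Function.injective_id
  have hjac : P₀.jacobiMatrix = - (M.transpose.map (C : R →+* MvPolynomial σ R)) := by
    ext i j
    have := Algebra.PreSubmersivePresentation.jacobiMatrix_naive (v := rel p M) id
      Function.injective_id (Function.surjInv Ideal.Quotient.mk_surjective)
      (by apply Function.surjInv_eq) i j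
    rw [this, id, pderiv_rel p M hpR]
    simp
  have hunit : IsUnit P₀.jacobian := by
    rw [Algebra.PreSubmersivePresentation.jacobian_eq_jacobiMatrix_det, hjac]
    apply IsUnit.map
    rw [Matrix.det_neg, ← RingHom.mapMatrix_apply, ← RingHom.map_det, Matrix.det_transpose]
    exact (IsUnit.pow _ isUnit_one.neg).mul (hM.map _)
  let P : Algebra.SubmersivePresentation R (LangAlg p M) σ σ :=
    { toPreSubmersivePresentation := P₀, jacobian_isUnit := hunit }
  have : Algebra.IsStandardSmoothOfRelativeDimension 0 R (LangAlg p M) :=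
    P.isStandardSmoothOfRelativeDimension (by simp [Algebra.Presentation.dimension])
  exact Algebra.Etale.iff_isStandardSmoothOfRelativeDimension_zero.mpr this

end Etale

section MatrixTrick

open Matrix

variable {m : Type} [Fintype m] [DecidableEq m]

/-- The block matrix `[[c, -1], [1 - a c, a]]`. -/
def trickMatrix (a c : Matrix m m R) : Matrix (m ⊕ m) (m ⊕ m) R :=
  Matrix.fromBlocks c (-1) (1 - a * c) a

lemma isUnit_det_trickMatrix (a c : Matrix m m R) : IsUnit (trickMatrix a c).det := by
  refine Matrix.isUnit_det_of_right_inverse (B := Matrix.fromBlocks a 1 (c * a - 1) c) ?_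
  rw [trickMatrix, Matrix.fromBlocks_multiply, ← Matrix.fromBlocks_one]
  congr 1
  · noncomm_ring
  · noncomm_ring
  · noncomm_ring
  · noncomm_ring

lemma trickMatrix_mulVec {B : Type*} [CommRing B] (f : R →+* B) (a c : Matrix m m R)
    (b bp : m → B) (h1 : (a.map f) *ᵥ bp = b) (h2 : (c.map f) *ᵥ b = bp) :
    ((trickMatrix a c).map f) *ᵥ (Sum.elim b 0) = Sum.elim bp 0 := by
  rw [trickMatrix, Matrix.fromBlocks_map, Matrix.fromBlocks_mulVec]
  have e1 : (Sum.elim b (0 : m → B)) ∘ Sum.inl = b := rfl
  have e2 : (Sum.elim b (0 : m → B)) ∘ Sum.inr = 0 := rfl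
  rw [e1, e2, Matrix.mulVec_zero, Matrix.mulVec_zero, add_zero, add_zero, h2]
  congr 1
  rw [← RingHom.mapMatrix_apply] at h1 h2 ⊢
  rw [map_sub, map_mul, map_one,
    Matrix.sub_mulVec, Matrix.one_mulVec, ← Matrix.mulVec_mulVec, h2, h1, sub_self]

end MatrixTrick

end Groth.Agent.H10.LangCover
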