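import Mathlib
import Groth.Agent.H25.MagDefs
import Groth.Agent.H91.SchDom

set_option autoImplicit false
universe u
open CategoryTheory Limits AlgebraicGeometry MonoidalCategory CartesianMonoidalCategory MonObj
open Magnet Magnet.MonAct
open scoped TensorProduct
open Groth.Agent.H91.MagnetDense Groth.Agent.H25.Mag

namespace Groth.Agent.H10.MG_B1

attribute [local instance 10] algZ

variable {M : Type} [AddCommMonoid M]

/-- `ℤ[M] ⊗ R ≃ (M →₀ R)`, the coefficient isomorphism. -/
noncomputable def E (M : Type) [AddCommMonoid M] (R : Type u) [CommRing R] :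
    BM.{u} M ⊗[ULift.{u} ℤ] R ≃ₗ[ULift.{u} ℤ] (Multiplicative M →₀ R) := by
  classical
  exact (TensorProduct.congr (MonoidAlgebra.coeffLinearEquiv (ULift.{u} ℤ))
      (LinearEquiv.refl (ULift.{u} ℤ) R)).trans
    (TensorProduct.finsuppScalarLeft (ULift.{u} ℤ) R (Multiplicative M))

lemma E_tmul (R : Type u) [CommRing R] (b : BM.{u} M) (r : R) (a : Multiplicative M) :
    E M R (b ⊗ₜ r) a = b.coeff a • r := by
  classical
  unfold E
  change TensorProduct.finsuppScalarLeft (ULift.{u} ℤ) R (Multiplicative M)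
    ((TensorProduct.congr (MonoidAlgebra.coeffLinearEquiv (ULift.{u} ℤ))
      (LinearEquiv.refl (ULift.{u} ℤ) R)) (b ⊗ₜ r)) a = _
  rw [TensorProduct.congr_tmul, TensorProduct.finsuppScalarLeft_apply_tmul_apply]
  rfl

lemma E_tmap {R R1 : Type u} [CommRing R] [CommRing R1] (f : R →+* R1)
    (x : BM.{u} M ⊗[ULift.{u} ℤ] R) (a : Multiplicative M) :
    E M R1 (tmap M f x) a = f (E M R x a) := by
  induction x using TensorProduct.induction_on with
  | zero => simp
  | tmul b r =>
    rw [tmap_tmul, E_tmul, E_tmul]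
    change (b.coeff a).down • f r = f ((b.coeff a).down • r)
    rw [map_zsmul]
  | add x y hx hy => rw [map_add, map_add, Finsupp.add_apply, hx, hy, map_add, Finsupp.add_apply, map_add]

lemma coeff_phi_of_notMem (N : AddSubmonoid M) (b : BM.{u} N) (m : M) (hm : m ∉ N) :
    (phi N.subtype b).coeff (Multiplicative.ofAdd m) = 0 := by
  classical
  change (Finsupp.mapDomain (AddMonoidHom.toMultiplicative N.subtype) b.coeff)
    (Multiplicative.ofAdd m) = 0
  rw [Finsupp.mapDomain, Finsupp.sum_apply]
  refine Finset.sum_eq_zero fun n _ => ?_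
  dsimp only
  rw [Finsupp.single_apply, if_neg]
  intro h
  apply hm
  have : ((Multiplicative.toAdd n : N) : M) = m := by
    have := congrArg Multiplicative.toAdd h
    simpa using this
  rw [← this]
  exact (Multiplicative.toAdd n).2

lemma coeff_phi_retr_of_mem (N : AddSubmonoid M) (b : BM.{u} M) (m : M) (hm : m ∈ N) :
    (phi N.subtype (retr N.subtype Subtype.val_injective b)).coeff (Multiplicative.ofAdd m) =
      b.coeff (Multiplicative.ofAdd m) := by
  classical
  have hinj : Function.Injective (AddMonoidHom.toMultiplicative N.subtype) :=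
    fun x y h => Subtype.val_injective h
  change (Finsupp.mapDomain (AddMonoidHom.toMultiplicative N.subtype)
    (retr N.subtype Subtype.val_injective b).coeff) (Multiplicative.ofAdd m) = _
  have h1 : Multiplicative.ofAdd m =
      AddMonoidHom.toMultiplicative N.subtype (Multiplicative.ofAdd (⟨m, hm⟩ : N)) := rfl
  rw [h1, Finsupp.mapDomain_apply hinj]
  have h2 : (retr N.subtype Subtype.val_injective b).coeff =
      Finsupp.comapDomain (AddMonoidHom.toMultiplicative N.subtype) b.coeff hinj.injOn :=
    MonoidAlgebra.coeff_comapDomain (AddMonoidHom.toMultiplicative N.subtype) hinj b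
  rw [h2, Finsupp.comapDomain_apply]

theorem mem_range_Phi_iff (N : AddSubmonoid M) (R : Type u) [CommRing R]
    (x : BM.{u} M ⊗[ULift.{u} ℤ] R) :
    x ∈ Set.range (Phi N R) ↔ ∀ m : M, m ∉ N → E M R x (Multiplicative.ofAdd m) = 0 := by
  classical
  have hfwd : ∀ y : BM.{u} N ⊗[ULift.{u} ℤ] R, ∀ m : M, m ∉ N →
      E M R (Phi N R y) (Multiplicative.ofAdd m) = 0 := by
    intro y m hm
    induction y using TensorProduct.induction_on with
    | zero => simp
    | tmul b r =>
      change E M R (phi N.subtype b ⊗ₜ r) _ = 0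
      rw [E_tmul, coeff_phi_of_notMem N b m hm, zero_smul]
    | add y z hy hz => rw [map_add, map_add, Finsupp.add_apply, hy, hz, add_zero]
  constructor
  · rintro ⟨y, rfl⟩ m hm
    exact hfwd y m hm
  · intro h
    refine ⟨TensorProduct.map (retr N.subtype Subtype.val_injective) LinearMap.id x, ?_⟩
    apply (E M R).injective
    ext a
    obtain ⟨m, rfl⟩ : ∃ m : M, Multiplicative.ofAdd m = a := ⟨Multiplicative.toAdd a, rfl⟩
    by_cases hm : m ∈ N
    · clear h
      induction x using TensorProduct.induction_on with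
      | zero => simp
      | tmul b r =>
        change E M R (phi N.subtype (retr N.subtype Subtype.val_injective b) ⊗ₜ r) _ = _
        rw [E_tmul, E_tmul, coeff_phi_retr_of_mem N b m hm]
      | add y z hy hz =>
        rw [map_add, map_add, map_add, map_add, Finsupp.add_apply, Finsupp.add_apply, hy, hz]
    · rw [hfwd _ m hm, h m hm]

/-- (MG-B1) the coefficient ideal. -/
theorem exists_coeff_ideal (N : AddSubmonoid M) {C R : Type u} [CommRing C] [CommRing R]
    (c : C →+* BM.{u} M ⊗[ULift.{u} ℤ] R) :
    ∃ J : Ideal R, ∀ (R1 : Type u) [CommRing R1] (f : R →+* R1),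
      (∀ b : C, tmap M f (c b) ∈ Set.range (Phi N R1)) ↔ J ≤ RingHom.ker f := by
  refine ⟨Ideal.span {r | ∃ b : C, ∃ m : M, m ∉ N ∧ E M R (c b) (Multiplicative.ofAdd m) = r},
    fun R1 _ f => ?_⟩
  rw [Ideal.span_le]
  constructor
  · rintro h _ ⟨b, m, hm, rfl⟩
    have := (mem_range_Phi_iff N R1 _).mp (h b) m hm
    rw [E_tmap] at this
    exact this
  · intro h b
    rw [mem_range_Phi_iff]
    intro m hm
    rw [E_tmap]
    exact h ⟨b, m, hm, rfl⟩

end Groth.Agent.H10.MG_B1
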