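import Mathlib
import Groth.Agent.H25.MagDefs
import Groth.Agent.H91.SchDom

set_option autoImplicit false
universe u
open CategoryTheory Limits AlgebraicGeometry MonoidalCategory CartesianMonoidalCategory MonObj
open Magnet Magnet.MonAct
open scoped TensorProduct
open Groth.Agent.H91.MagnetDense Groth.Agent.H25.Mag

namespace Groth.Agent.H10.MG_B2

attribute [local instance 10] algZ

variable {S : Scheme.{u}} {M : Type} [AddCommMonoid M]

lemma chart_hom_fst (S : Scheme.{u}) (M : Type) [AddCommMonoid M] (R : CommRingCat.{u})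
    (t : Spec R ⟶ S) :
    (chart S M R t).hom ≫ pullback.fst (AMonS S M).hom t = cmp S M R t :=
  (isPullback_cmp S M R t).isoPullback_hom_fst

lemma chart_hom_snd (S : Scheme.{u}) (M : Type) [AddCommMonoid M] (R : CommRingCat.{u})
    (t : Spec R ⟶ S) :
    (chart S M R t).hom ≫ pullback.snd (AMonS S M).hom t = Spec.map (inr M R) :=
  (isPullback_cmp S M R t).isoPullback_hom_snd

set_option maxHeartbeats 400000 in
theorem chart_whiskerRight (N : AddSubmonoid M) (R : CommRingCat.{u}) (t : Spec R ⟶ S) :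
    (chart S M R t).hom ≫ (AMonS.map S N.subtype ▷ Over.mk t).left =
      Spec.map (CommRingCat.ofHom (Phi N R).toRingHom) ≫ (chart S N R t).hom := by
  let j : N →+ M := N.subtype
  let Φ : CommRingCat.of (BM.{u} N ⊗[ULift.{u} ℤ] R) ⟶ CommRingCat.of (BM.{u} M ⊗[ULift.{u} ℤ] R) :=
    CommRingCat.ofHom (Phi N R).toRingHom
  have hmapfst : (AMonS.map S j).left ≫ pullback.fst (AMon (ULift.{u} ℤ) N).hom (gS S) =
      pullback.fst (AMon (ULift.{u} ℤ) M).hom (gS S) ≫ (AMon.map (ULift.{u} ℤ) j).left := by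
    rw [AMonS.map]
    exact pullback.lift_fst _ _ _
  have hmapsnd : (AMonS.map S j).left ≫ pullback.snd (AMon (ULift.{u} ℤ) N).hom (gS S) =
      pullback.snd (AMon (ULift.{u} ℤ) M).hom (gS S) := by
    rw [AMonS.map]
    exact pullback.lift_snd _ _ _
  have hΦl : inl N R ≫ Φ = CommRingCat.ofHom (phi j).toRingHom ≫ inl M R := by
    apply CommRingCat.hom_ext
    apply RingHom.ext
    intro x
    change Algebra.TensorProduct.map (phi j) (AlgHom.id (ULift.{u} ℤ) R) (x ⊗ₜ 1) =
      (phi j x) ⊗ₜ 1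
    rw [Algebra.TensorProduct.map_tmul]
    rfl
  have hΦr : inr N R ≫ Φ = inr M R := by
    apply CommRingCat.hom_ext
    apply RingHom.ext
    intro x
    change Algebra.TensorProduct.map (phi j) (AlgHom.id (ULift.{u} ℤ) R) (1 ⊗ₜ x) = 1 ⊗ₜ x
    rw [Algebra.TensorProduct.map_tmul, map_one]
    rfl
  have hfst : Spec.map (inl M R) ≫ Spec.map (CommRingCat.ofHom (phi j).toRingHom) =
      Spec.map Φ ≫ Spec.map (inl N R) := by
    rw [← Spec.map_comp, ← Spec.map_comp, hΦl]
  have hsnd : Spec.map (inr M R) = Spec.map Φ ≫ Spec.map (inr N R) := by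
    rw [← Spec.map_comp, hΦr]
  change (chart S M R t).hom ≫ (AMonS.map S j ▷ Over.mk t).left = Spec.map Φ ≫ (chart S N R t).hom
  apply pullback.hom_ext
  · rw [Category.assoc, Category.assoc, Over.whiskerRight_left_fst, ← Category.assoc]
    erw [chart_hom_fst, chart_hom_fst]
    apply pullback.hom_ext
    · rw [Category.assoc, Category.assoc, hmapfst, ← Category.assoc, cmp_fst, cmp_fst]
      exact hfst
    · rw [Category.assoc, Category.assoc, hmapsnd, cmp_snd, cmp_snd, ← Category.assoc, ← hsnd]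
  · rw [Category.assoc, Category.assoc, Over.whiskerRight_left_snd]
    erw [chart_hom_snd, chart_hom_snd]
    exact hsnd

set_option maxHeartbeats 400000 in
theorem chart_whiskerLeft (M : Type) [AddCommMonoid M] {R R1 : CommRingCat.{u}} (f : R ⟶ R1)
    (t : Spec R ⟶ S) :
    (chart S M R1 (Spec.map f ≫ t)).hom ≫
        (AMonS S M ◁ (Over.homMk (Spec.map f) rfl : Over.mk (Spec.map f ≫ t) ⟶ Over.mk t)).left =
      Spec.map (CommRingCat.ofHom (tmap M f.hom).toRingHom) ≫ (chart S M R t).hom := by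
  let Ψ : CommRingCat.of (BM.{u} M ⊗[ULift.{u} ℤ] R) ⟶ CommRingCat.of (BM.{u} M ⊗[ULift.{u} ℤ] R1) :=
    CommRingCat.ofHom (tmap M f.hom).toRingHom
  have hΨl : inl M R ≫ Ψ = inl M R1 := by
    apply CommRingCat.hom_ext
    apply RingHom.ext
    intro x
    change tmap M f.hom (x ⊗ₜ 1) = x ⊗ₜ 1
    rw [tmap_tmul, map_one]
  have hΨr : inr M R ≫ Ψ = f ≫ inr M R1 := by
    apply CommRingCat.hom_ext
    apply RingHom.ext
    intro x
    change tmap M f.hom (1 ⊗ₜ x) = 1 ⊗ₜ (f.hom x)
    rw [tmap_tmul]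
  have hfst : Spec.map (inl M R1) = Spec.map Ψ ≫ Spec.map (inl M R) := by
    rw [← Spec.map_comp, hΨl]
  have hsnd : Spec.map (inr M R1) ≫ Spec.map f = Spec.map Ψ ≫ Spec.map (inr M R) := by
    rw [← Spec.map_comp, ← Spec.map_comp, hΨr]
  change _ = Spec.map Ψ ≫ (chart S M R t).hom
  apply pullback.hom_ext
  · rw [Category.assoc, Category.assoc, Over.whiskerLeft_left_fst]
    erw [chart_hom_fst, chart_hom_fst]
    apply pullback.hom_ext
    · rw [Category.assoc, cmp_fst, cmp_fst]
      exact hfst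
    · rw [Category.assoc, cmp_snd, cmp_snd, ← Category.assoc, ← Category.assoc, hsnd]
  · rw [Category.assoc, Category.assoc, Over.whiskerLeft_left_snd]
    erw [chart_hom_snd]
    rw [← Category.assoc]
    erw [chart_hom_snd]
    exact hsnd

theorem chart_snd (M : Type) [AddCommMonoid M] (R : CommRingCat.{u}) (t : Spec R ⟶ S) :
    (chart S M R t).hom ≫ (snd (AMonS S M) (Over.mk t)).left = Spec.map (inr M R) :=
  chart_hom_snd S M R t

end Groth.Agent.H10.MG_B2
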