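import Mathlib
import Groth.Prelude.Def_EtMil
import Groth.Agent.H97.Milnor

/-!
Algebras over a Milnor square `B' = B ×_A A'`: a `B'`-algebra `D'` is of finite type / flat /
flat and finitely presented / smooth / étale iff its base changes to `B` and `A'` are.
-/

set_option autoImplicit false
set_option linter.style.haveILetI false
set_option linter.unusedSectionVars false

universe u

open TensorProduct

namespace Groth.Agent.H10.MilnorAlg

open Groth.Agent.H74.Milnor Groth.Agent.H97.Milnor

section modules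

variable {B' B A' A : Type u} [CommRing B'] [CommRing B] [CommRing A'] [CommRing A]
  [Algebra B' B] [Algebra B' A'] [Algebra B A] [Algebra A' A] [Algebra B' A]
  [IsScalarTower B' B A] [IsScalarTower B' A' A]

/-- A `B'`-module whose base changes to `B` and `A'` vanish is zero. -/
theorem subsingleton_of_baseChange (hsq : EtMil.IsFibreSquare B' B A' A)
    (L' : Type*) [AddCommGroup L'] [Module B' L']
    [Subsingleton (B ⊗[B'] L')] [Subsingleton (A' ⊗[B'] L')] : Subsingleton L' := by
  refine ⟨fun x y => ?_⟩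
  suffices h : ∀ l : L', l = 0 by rw [h x, h y]
  intro l
  have h1 := mem_smul_top_of_tmul_eq_zero hsq l (Subsingleton.elim _ _)
  refine Submodule.smul_induction_on h1 ?_ ?_
  · intro j hj m _
    exact smul_eq_zero_of_tmul_eq_zero hsq m (Subsingleton.elim _ _) j (RingHom.mem_ker.mp hj)
  · intro x y hx hy
    rw [hx, hy, add_zero]

/-- A `B'`-linear map whose base changes to `B` and `A'` are surjective is surjective. -/
theorem surjective_of_baseChange (hsq : EtMil.IsFibreSquare B' B A' A)
    {M₁ M₂ : Type*} [AddCommGroup M₁] [Module B' M₁] [AddCommGroup M₂] [Module B' M₂]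
    (u : M₁ →ₗ[B'] M₂) (h1 : Function.Surjective (u.lTensor B))
    (h2 : Function.Surjective (u.lTensor A')) : Function.Surjective u := by
  have key : ∀ (X : Type u) [CommRing X] [Algebra B' X], Function.Surjective (u.lTensor X) →
      Subsingleton (X ⊗[B'] (M₂ ⧸ LinearMap.range u)) := by
    intro X _ _ hX
    refine ⟨fun x y => ?_⟩
    suffices h : ∀ z : X ⊗[B'] (M₂ ⧸ LinearMap.range u), z = 0 by rw [h x, h y]
    intro z
    obtain ⟨w, rfl⟩ := LinearMap.lTensor_surjective X (LinearMap.range u).mkQ_surjective z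
    obtain ⟨v, rfl⟩ := hX w
    rw [← LinearMap.comp_apply, ← LinearMap.lTensor_comp]
    have : (LinearMap.range u).mkQ ∘ₗ u = 0 := LinearMap.range_mkQ_comp u
    rw [this, LinearMap.lTensor_zero, LinearMap.zero_apply]
  haveI := key B h1
  haveI := key A' h2
  haveI := subsingleton_of_baseChange hsq (M₂ ⧸ LinearMap.range u)
  rw [← LinearMap.range_eq_top]
  exact Submodule.Quotient.subsingleton_iff.mp this

end modules

section pushout

variable (B' B A' A : Type u) [CommRing B'] [CommRing B] [CommRing A'] [CommRing A]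
  [Algebra B' B] [Algebra B' A'] [Algebra B A] [Algebra A' A] [Algebra B' A]
  [IsScalarTower B' B A] [IsScalarTower B' A' A]
  (D' D C' C : Type u) [CommRing D'] [CommRing D] [CommRing C'] [CommRing C]
  [Algebra D' D] [Algebra D' C'] [Algebra D C] [Algebra C' C] [Algebra D' C]
  [IsScalarTower D' D C] [IsScalarTower D' C' C]
  [Algebra B' D'] [Algebra B D] [Algebra A' C'] [Algebra A C]
  [Algebra B' D] [IsScalarTower B' B D] [IsScalarTower B' D' D]
  [Algebra B' C'] [IsScalarTower B' A' C'] [IsScalarTower B' D' C']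
  [Algebra B C] [IsScalarTower B A C] [IsScalarTower B D C]
  [Algebra A' C] [IsScalarTower A' A C] [IsScalarTower A' C' C]
  [Algebra.IsPushout B D A C] [Algebra.IsPushout A' C' A C]

/-- The glueing isomorphism `A ⊗[B] D ≃ C ≃ A ⊗[A'] C'`. -/
noncomputable def phi : A ⊗[B] D ≃ₗ[A] A ⊗[A'] C' :=
  haveI : Algebra.IsPushout B A D C := Algebra.IsPushout.symm inferInstance
  haveI : Algebra.IsPushout A' A C' C := Algebra.IsPushout.symm inferInstance
  (Algebra.IsPushout.equiv B A D C).toLinearEquiv.trans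
    (Algebra.IsPushout.equiv A' A C' C).toLinearEquiv.symm

theorem phi_iff (n : D) (m' : C') :
    phi B A' A D C' C ((1 : A) ⊗ₜ[B] n) = (1 : A) ⊗ₜ[A'] m' ↔
      algebraMap D C n = algebraMap C' C m' := by
  haveI : Algebra.IsPushout B A D C := Algebra.IsPushout.symm inferInstance
  haveI : Algebra.IsPushout A' A C' C := Algebra.IsPushout.symm inferInstance
  unfold phi
  rw [LinearEquiv.trans_apply, LinearEquiv.symm_apply_eq]
  show (Algebra.IsPushout.equiv B A D C) ((1 : A) ⊗ₜ[B] n) =
    (Algebra.IsPushout.equiv A' A C' C) ((1 : A) ⊗ₜ[A'] m') ↔ _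
  rw [Algebra.IsPushout.equiv_tmul, Algebra.IsPushout.equiv_tmul, map_one, one_mul, one_mul]

theorem isGlue (hsq' : EtMil.IsFibreSquare D' D C' C) :
    IsGlue (phi B A' A D C' C) (IsScalarTower.toAlgHom B' D' D).toLinearMap
      (IsScalarTower.toAlgHom B' D' C').toLinearMap where
  inj g h1 h2 := eq_zero_of_ker hsq' g h1 h2
  img n m' := by
    rw [phi_iff]
    constructor
    · intro h
      obtain ⟨g, ⟨h1, h2⟩, -⟩ := hsq'.2 n m' h
      exact ⟨g, h1, h2⟩
    · rintro ⟨g, rfl, rfl⟩
      exact comm (B' := D') (B := D) (A' := C') (A := C) g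

theorem isPushout_fst (hsq : EtMil.IsFibreSquare B' B A' A)
    (hsq' : EtMil.IsFibreSquare D' D C' C) : Algebra.IsPushout B' B D' D := by
  rw [Algebra.isPushout_iff]
  refine IsBaseChange.of_equiv ((isGlue B' B A' A D' D C' C hsq').fstEquiv hsq) (fun x => ?_)
  show LinearMap.liftBaseChange B _ ((1 : B) ⊗ₜ[B'] x) = _
  rw [LinearMap.liftBaseChange_tmul, one_smul]

theorem isPushout_snd (hsq : EtMil.IsFibreSquare B' B A' A)
    (hsq' : EtMil.IsFibreSquare D' D C' C) : Algebra.IsPushout B' A' D' C' := by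
  rw [Algebra.isPushout_iff]
  refine IsBaseChange.of_equiv ((isGlue B' B A' A D' D C' C hsq').sndEquiv hsq) (fun x => ?_)
  show LinearMap.liftBaseChange A' _ ((1 : A') ⊗ₜ[B'] x) = _
  rw [LinearMap.liftBaseChange_tmul, one_smul]

end pushout

section algebras

variable {B' B A' A : Type u} [CommRing B'] [CommRing B] [CommRing A'] [CommRing A]
  [Algebra B' B] [Algebra B' A'] [Algebra B A] [Algebra A' A] [Algebra B' A]
  [IsScalarTower B' B A] [IsScalarTower B' A' A]
  (D' : Type u) [CommRing D'] [Algebra B' D']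

/-- Finite type descends along a Milnor square. -/
theorem finiteType_of_baseChange (hsq : EtMil.IsFibreSquare B' B A' A)
    [Algebra.FiniteType B (B ⊗[B'] D')] [Algebra.FiniteType A' (A' ⊗[B'] D')] :
    Algebra.FiniteType B' D' := by
  obtain ⟨s₁, hs₁⟩ := Algebra.FiniteType.out (R := B) (A := B ⊗[B'] D')
  obtain ⟨s₂, hs₂⟩ := Algebra.FiniteType.out (R := A') (A := A' ⊗[B'] D')
  have e₁ (x : s₁) := TensorProduct.exists_sum_tmul_eq x.1
  have e₂ (x : s₂) := TensorProduct.exists_sum_tmul_eq x.1
  choose k₁ t₁ m₁ h₁ using e₁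
  choose k₂ t₂ m₂ h₂ using e₂
  let f : MvPolynomial ((Σ x : s₁, Fin (k₁ x)) ⊕ (Σ x : s₂, Fin (k₂ x))) B' →ₐ[B'] D' :=
    MvPolynomial.aeval (Sum.elim (fun p => m₁ p.1 p.2) (fun p => m₂ p.1 p.2))
  apply Algebra.FiniteType.of_surjective f
  have hf₁ : Function.Surjective (Algebra.TensorProduct.map (.id B B) f) := by
    rw [← AlgHom.range_eq_top, _root_.eq_top_iff, ← hs₁, Algebra.adjoin_le_iff]
    intro x hx
    let i : s₁ := ⟨x, hx⟩
    use ∑ (j : Fin (k₁ i)), t₁ i j ⊗ₜ MvPolynomial.X (Sum.inl ⟨i, j⟩)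
    simp [f, ← h₁, i]
  have hf₂ : Function.Surjective (Algebra.TensorProduct.map (.id A' A') f) := by
    rw [← AlgHom.range_eq_top, _root_.eq_top_iff, ← hs₂, Algebra.adjoin_le_iff]
    intro x hx
    let i : s₂ := ⟨x, hx⟩
    use ∑ (j : Fin (k₂ i)), t₂ i j ⊗ₜ MvPolynomial.X (Sum.inr ⟨i, j⟩)
    simp [f, ← h₂, i]
  exact surjective_of_baseChange hsq f.toLinearMap hf₁ hf₂

variable {D'} in
theorem lTensor_inclusion_surjective (X : Type u) [CommRing X] [Algebra B' X]
    {P' : Type u} [CommRing P'] [Algebra B' P'] (f : P' →ₐ[B'] D') (hf : Function.Surjective f)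
    [Module.Flat B' D'] (K'' : Ideal P') (hle : K'' ≤ RingHom.ker f.toRingHom)
    (hmap : K''.map (Algebra.TensorProduct.includeRight : P' →ₐ[B'] X ⊗[B'] P') =
      (RingHom.ker f.toRingHom).map
        (Algebra.TensorProduct.includeRight : P' →ₐ[B'] X ⊗[B'] P')) :
    Function.Surjective ((Submodule.inclusion
      (show K''.restrictScalars B' ≤ (RingHom.ker f.toRingHom).restrictScalars B' from
        hle)).lTensor X) := by
  set K' : Ideal P' := RingHom.ker f.toRingHom with hK'
  have hle' : K''.restrictScalars B' ≤ K'.restrictScalars B' := hle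
  set u := Submodule.inclusion hle' with hu
  let i' : ↥(K'.restrictScalars B') →ₗ[B'] P' := (K'.restrictScalars B').subtype
  let i'' : ↥(K''.restrictScalars B') →ₗ[B'] P' := (K''.restrictScalars B').subtype
  have hcomp : i' ∘ₗ u = i'' := Submodule.subtype_comp_inclusion _ _ hle'
  have hex : Function.Exact i' f.toLinearMap := by
    intro y
    constructor
    · intro h
      exact ⟨⟨y, h⟩, rfl⟩
    · rintro ⟨z, rfl⟩
      exact z.2
  have hinj : Function.Injective (i'.lTensor X) :=
    lTensor_injective_of_flat_quotient i' f.toLinearMap hex hf (Submodule.injective_subtype _) X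
  have hr' : LinearMap.range (i'.lTensor X) = (K'.map
      (Algebra.TensorProduct.includeRight : P' →ₐ[B'] X ⊗[B'] P')).restrictScalars B' :=
    (Ideal.map_includeRight_eq (R := B') (A := X) K').symm
  have hr'' : LinearMap.range (i''.lTensor X) = (K''.map
      (Algebra.TensorProduct.includeRight : P' →ₐ[B'] X ⊗[B'] P')).restrictScalars B' :=
    (Ideal.map_includeRight_eq (R := B') (A := X) K'').symm
  intro z
  have hz : i'.lTensor X z ∈ LinearMap.range (i''.lTensor X) := by
    rw [hr'', hmap, ← hr']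
    exact ⟨z, rfl⟩
  obtain ⟨w, hw⟩ := hz
  refine ⟨w, hinj ?_⟩
  rw [← hw, ← LinearMap.comp_apply, ← LinearMap.lTensor_comp, hcomp]

variable {D'} in
theorem exists_finset_map_eq (X : Type u) [CommRing X] [Algebra B' X]
    [Algebra.FinitePresentation X (X ⊗[B'] D')] {n : ℕ}
    (f : MvPolynomial (Fin n) B' →ₐ[B'] D') (hf : Function.Surjective f) :
    ∃ s : Finset (MvPolynomial (Fin n) B'),
      (s : Set (MvPolynomial (Fin n) B')) ⊆
        ((RingHom.ker f.toRingHom : Ideal (MvPolynomial (Fin n) B')) :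
          Set (MvPolynomial (Fin n) B')) ∧
      (Ideal.span (s : Set (MvPolynomial (Fin n) B'))).map
        (Algebra.TensorProduct.includeRight :
          MvPolynomial (Fin n) B' →ₐ[B'] X ⊗[B'] MvPolynomial (Fin n) B') =
      (RingHom.ker f.toRingHom).map
        (Algebra.TensorProduct.includeRight :
          MvPolynomial (Fin n) B' →ₐ[B'] X ⊗[B'] MvPolynomial (Fin n) B') := by
  classical
  let fX := Algebra.TensorProduct.map (.id X X) f
  have hker : (RingHom.ker f.toRingHom).map
      (Algebra.TensorProduct.includeRight :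
          MvPolynomial (Fin n) B' →ₐ[B'] X ⊗[B'] MvPolynomial (Fin n) B') = RingHom.ker fX :=
    (Algebra.TensorProduct.lTensor_ker f hf).symm
  have hfg : (RingHom.ker fX.toRingHom).FG :=
    Algebra.FinitePresentation.ker_fG_of_surjective fX
      (Algebra.FiniteType.baseChangeAux_surj X hf)
  have hfg' : ((RingHom.ker f.toRingHom).map
      (Algebra.TensorProduct.includeRight :
          MvPolynomial (Fin n) B' →ₐ[B'] X ⊗[B'] MvPolynomial (Fin n) B')).FG := by
    rw [hker]
    exact hfg
  obtain ⟨s', hs's, hs'⟩ := (Submodule.fg_span_iff_fg_span_finset_subset _).mp hfg'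
  obtain ⟨s, hsK, rfl⟩ := Finset.subset_set_image_iff.mp hs's
  refine ⟨s, hsK, ?_⟩
  rw [Ideal.map_span]
  have : ((Algebra.TensorProduct.includeRight :
      MvPolynomial (Fin n) B' →ₐ[B'] X ⊗[B'] MvPolynomial (Fin n) B') '' (s : Set _)) =
      ((s.image (Algebra.TensorProduct.includeRight :
      MvPolynomial (Fin n) B' →ₐ[B'] X ⊗[B'] MvPolynomial (Fin n) B') : Finset _) : Set _) := by
    rw [Finset.coe_image]
  rw [this]
  exact hs'.symm

/-- Finite presentation (for flat algebras) descends along a Milnor square. -/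
theorem finitePresentation_of_baseChange (hsq : EtMil.IsFibreSquare B' B A' A)
    [Module.Flat B' D'] [Algebra.FinitePresentation B (B ⊗[B'] D')]
    [Algebra.FinitePresentation A' (A' ⊗[B'] D')] : Algebra.FinitePresentation B' D' := by
  classical
  haveI : Algebra.FiniteType B' D' := finiteType_of_baseChange D' hsq
  obtain ⟨n, f, hf⟩ := Algebra.FiniteType.iff_quotient_mvPolynomial''.1 this
  refine Algebra.FinitePresentation.of_surjective hf ?_
  obtain ⟨s₁, h₁K, h₁⟩ := exists_finset_map_eq B f hf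
  obtain ⟨s₂, h₂K, h₂⟩ := exists_finset_map_eq A' f hf
  set K' : Ideal (MvPolynomial (Fin n) B') := RingHom.ker f.toRingHom with hK'
  set K'' : Ideal (MvPolynomial (Fin n) B') := Ideal.span ((s₁ ∪ s₂ : Finset _) : Set _) with hK''
  have hle : K'' ≤ K' := by
    rw [hK'', Ideal.span_le, Finset.coe_union]
    exact Set.union_subset h₁K h₂K
  have hm₁ : K''.map (Algebra.TensorProduct.includeRight :
      MvPolynomial (Fin n) B' →ₐ[B'] B ⊗[B'] MvPolynomial (Fin n) B') = K'.map
      (Algebra.TensorProduct.includeRight :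
      MvPolynomial (Fin n) B' →ₐ[B'] B ⊗[B'] MvPolynomial (Fin n) B') := by
    refine le_antisymm (Ideal.map_mono hle) ?_
    rw [← h₁]
    refine Ideal.map_mono (Ideal.span_mono ?_)
    rw [Finset.coe_union]
    exact Set.subset_union_left
  have hm₂ : K''.map (Algebra.TensorProduct.includeRight :
      MvPolynomial (Fin n) B' →ₐ[B'] A' ⊗[B'] MvPolynomial (Fin n) B') = K'.map
      (Algebra.TensorProduct.includeRight :
      MvPolynomial (Fin n) B' →ₐ[B'] A' ⊗[B'] MvPolynomial (Fin n) B') := by
    refine le_antisymm (Ideal.map_mono hle) ?_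
    rw [← h₂]
    refine Ideal.map_mono (Ideal.span_mono ?_)
    rw [Finset.coe_union]
    exact Set.subset_union_right
  have hsurj := surjective_of_baseChange hsq _
    (lTensor_inclusion_surjective B f hf K'' hle hm₁)
    (lTensor_inclusion_surjective A' f hf K'' hle hm₂)
  have heq : K'' = K' := by
    refine le_antisymm hle ?_
    intro x hx
    obtain ⟨y, hy⟩ := hsurj ⟨x, hx⟩
    have : (y : MvPolynomial (Fin n) B') = x := congrArg Subtype.val hy
    rw [← this]
    exact y.2
  rw [← heq]
  exact ⟨s₁ ∪ s₂, rfl⟩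

lemma mJ_fst (hsq : EtMil.IsFibreSquare B' B A' A) (j : B') (hj : algebraMap B' B j = 0)
    (a' : A') : algebraMap B' B (mJ hsq j hj a') = 0 :=
  (exists_mJ hsq j hj a').choose_spec.1

lemma mJ_snd (hsq : EtMil.IsFibreSquare B' B A' A) (j : B') (hj : algebraMap B' B j = 0)
    (a' : A') : algebraMap B' A' (mJ hsq j hj a') = a' * algebraMap B' A' j :=
  (exists_mJ hsq j hj a').choose_spec.2

/-- If `t ∈ ker (B' → B)` is invertible in the field `κ`, then `κ` is an `A'`-algebra. -/
noncomputable def toField (hsq : EtMil.IsFibreSquare B' B A' A) (κ : Type u) [Field κ]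
    [Algebra B' κ] (t : B') (ht : algebraMap B' B t = 0) (hu : algebraMap B' κ t ≠ 0) :
    A' →+* κ where
  toFun a' := (algebraMap B' κ t)⁻¹ * algebraMap B' κ (mJ hsq t ht a')
  map_one' := by rw [mJ_one, inv_mul_cancel₀ hu]
  map_mul' x y := by
    have key : t * mJ hsq t ht (x * y) = mJ hsq t ht x * mJ hsq t ht y := by
      apply ext' hsq
      · rw [RingHom.map_mul, RingHom.map_mul, mJ_fst, mJ_fst, mul_zero, zero_mul]
      · rw [RingHom.map_mul, RingHom.map_mul, mJ_snd, mJ_snd, mJ_snd]
        ring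
    have h2 := congrArg (algebraMap B' κ) key
    rw [RingHom.map_mul, RingHom.map_mul] at h2
    rw [mul_mul_mul_comm, ← h2]
    field_simp
  map_zero' := by rw [map_zero, map_zero, mul_zero]
  map_add' x y := by rw [map_add, map_add, mul_add]

theorem toField_comp (hsq : EtMil.IsFibreSquare B' B A' A) (κ : Type u) [Field κ]
    [Algebra B' κ] (t : B') (ht : algebraMap B' B t = 0) (hu : algebraMap B' κ t ≠ 0) :
    (toField hsq κ t ht hu).comp (algebraMap B' A') = algebraMap B' κ := by
  ext b'
  show (algebraMap B' κ t)⁻¹ * algebraMap B' κ (mJ hsq t ht (algebraMap B' A' b')) = _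
  have h1 : algebraMap B' A' b' = b' • (1 : A') := Algebra.algebraMap_eq_smul_one b'
  rw [h1, LinearMap.map_smul, mJ_one, smul_eq_mul, RingHom.map_mul]
  field_simp

/-- A field over `B'` is either a `B`-algebra or an `A'`-algebra. -/
theorem exists_ringHom_of_field (hsq : EtMil.IsFibreSquare B' B A' A) (κ : Type u) [Field κ]
    [Algebra B' κ] :
    (∃ ψ : B →+* κ, ψ.comp (algebraMap B' B) = algebraMap B' κ) ∨
      (∃ ψ : A' →+* κ, ψ.comp (algebraMap B' A') = algebraMap B' κ) := by
  by_cases h : RingHom.ker (algebraMap B' B) ≤ RingHom.ker (algebraMap B' κ)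
  · left
    exact ⟨(algebraMap B' B).liftOfSurjective (surj hsq) ⟨algebraMap B' κ, h⟩,
      RingHom.liftOfSurjective_comp _ (surj hsq) ⟨algebraMap B' κ, h⟩⟩
  · right
    obtain ⟨t, ht, hu⟩ := SetLike.not_le_iff_exists.mp h
    exact ⟨toField hsq κ t (RingHom.mem_ker.mp ht) (fun h0 => hu (RingHom.mem_ker.mpr h0)),
      toField_comp hsq κ t _ _⟩

omit [Algebra B' B] [Algebra B' A'] [Algebra B A] [Algebra A' A] [Algebra B' A]
  [IsScalarTower B' B A] [IsScalarTower B' A' A] in
theorem formallySmooth_tensor_of_comp (X : Type u) [CommRing X] [Algebra B' X] (κ : Type u)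
    [Field κ] [Algebra B' κ] (ψ : X →+* κ) (hψ : ψ.comp (algebraMap B' X) = algebraMap B' κ)
    [Algebra.FormallySmooth X (X ⊗[B'] D')] : Algebra.FormallySmooth κ (κ ⊗[B'] D') := by
  letI : Algebra X κ := ψ.toAlgebra
  haveI : IsScalarTower B' X κ :=
    IsScalarTower.of_algebraMap_eq (fun x => (RingHom.congr_fun hψ x).symm)
  exact Algebra.FormallySmooth.of_equiv (Algebra.TensorProduct.cancelBaseChange B' X κ κ D')

/-- Smoothness descends along a Milnor square. -/
theorem smooth_of_baseChange (hsq : EtMil.IsFibreSquare B' B A' A)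
    [Module.Flat B' D'] [Algebra.FinitePresentation B' D']
    [Algebra.FormallySmooth B (B ⊗[B'] D')] [Algebra.FormallySmooth A' (A' ⊗[B'] D')] :
    Algebra.Smooth B' D' := by
  apply Algebra.Smooth.of_formallySmooth_fiber
  intro I hI
  rcases exists_ringHom_of_field hsq I.ResidueField with ⟨ψ, hψ⟩ | ⟨ψ, hψ⟩
  · exact formallySmooth_tensor_of_comp D' B I.ResidueField ψ hψ
  · exact formallySmooth_tensor_of_comp D' A' I.ResidueField ψ hψ

attribute [local instance] Algebra.TensorProduct.rightAlgebra in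
/-- Formal unramifiedness descends along a Milnor square. -/
theorem formallyUnramified_of_baseChange (hsq : EtMil.IsFibreSquare B' B A' A)
    [Algebra.FormallyUnramified B (B ⊗[B'] D')] [Algebra.FormallyUnramified A' (A' ⊗[B'] D')] :
    Algebra.FormallyUnramified B' D' := by
  haveI : Subsingleton (B ⊗[B'] Ω[D'⁄B']) :=
    (KaehlerDifferential.tensorKaehlerEquivBase B' B D' (B ⊗[B'] D')).subsingleton
  haveI : Subsingleton (A' ⊗[B'] Ω[D'⁄B']) :=
    (KaehlerDifferential.tensorKaehlerEquivBase B' A' D' (A' ⊗[B'] D')).subsingleton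
  exact ⟨subsingleton_of_baseChange hsq _⟩

end algebras

end Groth.Agent.H10.MilnorAlg
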