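import Mathlib

/-!
# Néron blowup, part A: cotangent space of a formally smooth local algebra with
formally smooth residue field extension
-/

set_option autoImplicit false
universe u

open IsLocalRing TensorProduct

namespace Groth.Agent.H10.NeronA

section lemmaA

variable {R B : Type u} [CommRing R] [IsLocalRing R] [CommRing B] [IsLocalRing B] [Algebra R B]
  [IsLocalHom (algebraMap R B)]

/-- the ideal `m_R B + m_B²` -/
noncomputable def J (R B : Type u) [CommRing R] [IsLocalRing R] [CommRing B] [IsLocalRing B]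
    [Algebra R B] : Ideal B :=
  (maximalIdeal R).map (algebraMap R B) ⊔ maximalIdeal B ^ 2

lemma J_le : J R B ≤ maximalIdeal B := by
  refine sup_le ?_ (Ideal.pow_le_self two_ne_zero)
  rw [Ideal.map_le_iff_le_comap]
  intro r hr
  exact (IsLocalRing.mem_maximalIdeal _).mpr (fun h => hr (isUnit_of_map_unit (algebraMap R B) r h))

omit [IsLocalHom (algebraMap R B)] in
lemma mul_mem_J {x y : B} (hx : x ∈ maximalIdeal B) (hy : y ∈ maximalIdeal B) : x * y ∈ J R B := by
  refine Ideal.mem_sup_right ?_
  rw [pow_two]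
  exact Ideal.mul_mem_mul hx hy

noncomputable instance algResE : Algebra (ResidueField R) (B ⧸ J R B) :=
  (Ideal.Quotient.lift (maximalIdeal R) ((Ideal.Quotient.mk (J R B)).comp (algebraMap R B))
    (fun r hr => by
      rw [RingHom.comp_apply, Ideal.Quotient.eq_zero_iff_mem]
      exact Ideal.mem_sup_left (Ideal.mem_map_of_mem _ hr))).toAlgebra

omit [IsLocalHom (algebraMap R B)] in
lemma algebraMap_resE (r : R) :
    algebraMap (ResidueField R) (B ⧸ J R B) (IsLocalRing.residue R r) =
      Ideal.Quotient.mk (J R B) (algebraMap R B r) := rfl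

instance : IsScalarTower R (ResidueField R) (B ⧸ J R B) :=
  IsScalarTower.of_algebraMap_eq (fun r => rfl)

/-- the projection `B/J → κ(B)` as a `κ(R)`-algebra map -/
noncomputable def g : (B ⧸ J R B) →ₐ[ResidueField R] ResidueField B :=
  { Ideal.Quotient.factor (J_le (R := R) (B := B)) with
    commutes' := by
      intro x
      obtain ⟨r, rfl⟩ := IsLocalRing.residue_surjective x
      rfl }

lemma g_mk (b : B) : g (R := R) (Ideal.Quotient.mk (J R B) b) = IsLocalRing.residue B b := rfl

lemma g_surjective : Function.Surjective (g (R := R) (B := B)) := by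
  intro x
  obtain ⟨b, rfl⟩ := IsLocalRing.residue_surjective x
  exact ⟨Ideal.Quotient.mk _ b, rfl⟩

lemma mem_ker_g_iff (e : B ⧸ J R B) :
    e ∈ RingHom.ker (g (R := R) (B := B) : (B ⧸ J R B) →+* ResidueField B) ↔
      ∃ b ∈ maximalIdeal B, Ideal.Quotient.mk (J R B) b = e := by
  constructor
  · intro he
    obtain ⟨b, rfl⟩ := Ideal.Quotient.mk_surjective e
    refine ⟨b, ?_, rfl⟩
    have : IsLocalRing.residue B b = 0 := he
    rwa [IsLocalRing.residue_eq_zero_iff] at this
  · rintro ⟨b, hb, rfl⟩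
    show IsLocalRing.residue B b = 0
    rwa [IsLocalRing.residue_eq_zero_iff]

lemma ker_g_mul {e e' : B ⧸ J R B}
    (he : e ∈ RingHom.ker (g (R := R) (B := B) : (B ⧸ J R B) →+* ResidueField B))
    (he' : e' ∈ RingHom.ker (g (R := R) (B := B) : (B ⧸ J R B) →+* ResidueField B)) :
    e * e' = 0 := by
  obtain ⟨b, hb, rfl⟩ := (mem_ker_g_iff e).mp he
  obtain ⟨b', hb', rfl⟩ := (mem_ker_g_iff e').mp he'
  rw [← map_mul, Ideal.Quotient.eq_zero_iff_mem]
  exact mul_mem_J hb hb'

lemma ker_g_nilpotent :
    IsNilpotent (RingHom.ker (g (R := R) (B := B) : (B ⧸ J R B) →+* ResidueField B)) := by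
  refine ⟨2, ?_⟩
  rw [pow_two, Ideal.zero_eq_bot, eq_bot_iff, Ideal.mul_le]
  intro e he e' he'
  rw [Ideal.mem_bot]
  exact ker_g_mul he he'

variable [Algebra.FormallySmooth (ResidueField R) (ResidueField B)]

/-- a section of `B/J → κ(B)` -/
noncomputable def σ : ResidueField B →ₐ[ResidueField R] (B ⧸ J R B) :=
  Algebra.FormallySmooth.liftOfSurjective (AlgHom.id _ _) g g_surjective ker_g_nilpotent

lemma g_σ (x : ResidueField B) : g (R := R) (σ (R := R) x) = x :=
  Algebra.FormallySmooth.liftOfSurjective_apply (AlgHom.id _ _) g g_surjective ker_g_nilpotent x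

/-- the function `b ↦ b̄ - σ(res b)` -/
noncomputable def Dfun (b : B) : B ⧸ J R B :=
  Ideal.Quotient.mk (J R B) b - σ (R := R) (IsLocalRing.residue B b)

lemma Dfun_mem_ker (b : B) :
    Dfun (R := R) b ∈ RingHom.ker (g (R := R) (B := B) : (B ⧸ J R B) →+* ResidueField B) := by
  show g (R := R) (Dfun (R := R) b) = 0
  rw [Dfun, map_sub, g_σ, g_mk, sub_self]

/-- `Dfun` as a derivation -/
noncomputable def Dder : Derivation R B (B ⧸ J R B) where
  toFun := Dfun (R := R)
  map_add' x y := by simp only [Dfun, map_add]; ring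
  map_smul' r x := by
    simp only [Dfun, RingHom.id_apply]
    rw [Algebra.smul_def, map_mul, map_mul]
    have h1 : IsLocalRing.residue B (algebraMap R B r) =
        algebraMap (ResidueField R) (ResidueField B) (IsLocalRing.residue R r) := rfl
    rw [h1, map_mul (σ (R := R) (B := B)), AlgHom.commutes, algebraMap_resE, Algebra.smul_def]
    have h2 : algebraMap R (B ⧸ J R B) r = Ideal.Quotient.mk (J R B) (algebraMap R B r) := rfl
    rw [h2]
    ring
  map_one_eq_zero' := by
    show Dfun (R := R) (1 : B) = 0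
    simp [Dfun]
  leibniz' a b := by
    show Dfun (R := R) (a * b) = a • Dfun (R := R) b + b • Dfun (R := R) a
    have h := ker_g_mul (Dfun_mem_ker (R := R) a) (Dfun_mem_ker (R := R) b)
    have ha : a • Dfun (R := R) b = Ideal.Quotient.mk (J R B) a * Dfun (R := R) b := rfl
    have hb : b • Dfun (R := R) a = Ideal.Quotient.mk (J R B) b * Dfun (R := R) a := rfl
    rw [ha, hb]
    simp only [Dfun, map_mul] at h ⊢
    linear_combination (-1 : B ⧸ J R B) * h

lemma Dder_apply (b : B) : Dder (R := R) b = Dfun (R := R) b := rfl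

lemma Dder_of_mem {x : B} (hx : x ∈ maximalIdeal B) :
    Dder (R := R) x = Ideal.Quotient.mk (J R B) x := by
  rw [Dder_apply, Dfun, (IsLocalRing.residue_eq_zero_iff x).mpr hx, map_zero, sub_zero]

/-- **Lemma A**: if `x ∈ m_B` and `dx ∈ m_B Ω_{B/R}` then `x ∈ m_R B + m_B²`. -/
theorem mem_J_of_D_mem (x : B) (hx : x ∈ maximalIdeal B)
    (hd : KaehlerDifferential.D R B x ∈ (maximalIdeal B) • (⊤ : Submodule B Ω[B⁄R])) :
    x ∈ J R B := by
  rw [← Ideal.Quotient.eq_zero_iff_mem, ← Dder_of_mem (R := R) hx,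
    ← Derivation.liftKaehlerDifferential_comp_D (Dder (R := R) (B := B)) x]
  have key : ∀ ω : Ω[B⁄R], (Dder (R := R) (B := B)).liftKaehlerDifferential ω ∈
      RingHom.ker (g (R := R) (B := B) : (B ⧸ J R B) →+* ResidueField B) := by
    intro ω
    have hω : ω ∈ Submodule.span B (Set.range (KaehlerDifferential.D R B)) := by
      rw [KaehlerDifferential.span_range_derivation]; trivial
    induction hω using Submodule.span_induction with
    | mem y hy =>
      obtain ⟨b, rfl⟩ := hy
      rw [Derivation.liftKaehlerDifferential_comp_D]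
      exact Dfun_mem_ker b
    | zero => simp
    | add y z _ _ hy hz => rw [map_add]; exact Ideal.add_mem _ hy hz
    | smul c y _ hy =>
      rw [map_smul]
      have : c • (Dder (R := R) (B := B)).liftKaehlerDifferential y =
        Ideal.Quotient.mk (J R B) c * (Dder (R := R) (B := B)).liftKaehlerDifferential y := rfl
      rw [this]
      exact Ideal.mul_mem_left _ _ hy
  refine Submodule.smul_induction_on hd ?_ ?_
  · intro r hr n _
    rw [map_smul]
    have : r • (Dder (R := R) (B := B)).liftKaehlerDifferential n =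
      Ideal.Quotient.mk (J R B) r * (Dder (R := R) (B := B)).liftKaehlerDifferential n := rfl
    rw [this]
    exact ker_g_mul ((mem_ker_g_iff _).mpr ⟨r, hr, rfl⟩) (key n)
  · intro y z hy hz
    rw [map_add, hy, hz, add_zero]

end lemmaA

section coords

variable {R A : Type u} [CommRing R] [IsLocalRing R] [CommRing A] [Algebra R A]
  (𝔭 : Ideal A) [𝔭.IsPrime]

/-- **Local coordinates adapted to the maximal ideal.** -/
theorem exists_coords [IsNoetherianRing (Localization.AtPrime 𝔭)]
    [IsLocalHom (algebraMap R (Localization.AtPrime 𝔭))]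
    [Algebra.FormallySmooth R (Localization.AtPrime 𝔭)]
    [Algebra.FormallySmooth (ResidueField R) (ResidueField (Localization.AtPrime 𝔭))]
    [Module.Finite (Localization.AtPrime 𝔭) Ω[(Localization.AtPrime 𝔭)⁄R]] :
    ∃ (ι : Type u) (_ : Finite ι) (ι₁ : Set ι) (a : ι → A), (∀ i ∈ ι₁, a i ∈ 𝔭) ∧
      maximalIdeal (Localization.AtPrime 𝔭) ≤
        (maximalIdeal R).map (algebraMap R (Localization.AtPrime 𝔭)) ⊔
          Ideal.span ((fun i => algebraMap A (Localization.AtPrime 𝔭) (a i)) '' ι₁) ∧
      Function.Bijective (Finsupp.linearCombination (Localization.AtPrime 𝔭)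
        (fun i => KaehlerDifferential.D R (Localization.AtPrime 𝔭)
          (algebraMap A (Localization.AtPrime 𝔭) (a i)))) := by
  classical
  set B := Localization.AtPrime 𝔭 with hB
  let κ := ResidueField B
  let V := κ ⊗[B] Ω[B⁄R]
  let τ : Ω[B⁄R] →ₗ[B] V := TensorProduct.mk B κ Ω[B⁄R] 1
  let δ : A → V := fun x => τ (KaehlerDifferential.D R B (algebraMap A B x))
  have hτker : LinearMap.ker τ = (maximalIdeal B) • (⊤ : Submodule B Ω[B⁄R]) :=
    LinearMap.ker_tensorProductMk _
  have hτsmul : ∀ (c : B) (ω : Ω[B⁄R]), τ (c • ω) = (IsLocalRing.residue B c) • τ ω := by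
    intro c ω
    rw [map_smul]
    exact (algebraMap_smul κ c (τ ω)).symm
  have hτmem : ∀ (c : B) (ω : Ω[B⁄R]), c ∈ maximalIdeal B → τ (c • ω) = 0 := by
    intro c ω hc
    rw [hτsmul, (IsLocalRing.residue_eq_zero_iff c).mpr hc, zero_smul]
  -- first basis
  obtain ⟨b₁, hb₁s, hb₁span, hb₁li⟩ := exists_linearIndependent κ (δ '' (𝔭 : Set A))
  have hb₁t : b₁ ⊆ Set.range δ := hb₁s.trans (Set.image_subset_range _ _)
  obtain ⟨b₂, hb₂t, hb₁₂, hb₂span, hb₂li⟩ :=
    exists_linearIndepOn_id_extension (K := κ) (s := b₁) (t := Set.range δ) hb₁li hb₁t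
  -- range δ spans
  have hΩ : Submodule.span B (Set.range (fun x : A => KaehlerDifferential.D R B (algebraMap A B x))) = ⊤ := by
    have h := KaehlerDifferential.span_range_map_derivation_of_isLocalization R A B 𝔭.primeCompl
    have hfun : (fun x : A => KaehlerDifferential.D R B (algebraMap A B x)) =
        (⇑(KaehlerDifferential.map R R A B) ∘ ⇑(KaehlerDifferential.D R A)) := by
      funext x
      simp [KaehlerDifferential.map_D]
    rw [hfun]
    exact h
  have hτΩ : ∀ ω : Ω[B⁄R], τ ω ∈ Submodule.span κ (Set.range δ) := by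
    intro ω
    have hω : ω ∈ Submodule.span B
        (Set.range (fun x : A => KaehlerDifferential.D R B (algebraMap A B x))) := by
      rw [hΩ]; trivial
    induction hω using Submodule.span_induction with
    | mem y hy =>
      obtain ⟨x, rfl⟩ := hy
      exact Submodule.subset_span ⟨x, rfl⟩
    | zero => simp
    | add y z _ _ hy hz => rw [map_add]; exact Submodule.add_mem _ hy hz
    | smul c y _ hy => rw [hτsmul]; exact Submodule.smul_mem _ _ hy
  have hspan : Submodule.span κ (Set.range δ) = ⊤ := by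
    rw [eq_top_iff]
    rintro w -
    induction w using TensorProduct.induction_on with
    | zero => exact Submodule.zero_mem _
    | tmul c ω =>
      have : c ⊗ₜ[B] ω = c • τ ω := by
        show c ⊗ₜ[B] ω = c • ((1 : κ) ⊗ₜ[B] ω)
        rw [TensorProduct.smul_tmul', smul_eq_mul, mul_one]
      rw [this]
      exact Submodule.smul_mem _ _ (hτΩ ω)
    | add y z hy hz => exact Submodule.add_mem _ hy hz
  have hb₂top : Submodule.span κ b₂ = ⊤ := by
    rw [eq_top_iff, ← hspan]
    exact Submodule.span_le.mpr hb₂span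
  -- index type
  let ι : Type u := ↥b₂
  have hb₂li' : LinearIndependent κ ((↑) : ι → V) := hb₂li
  have hfin : Finite ι := hb₂li'.finite_of_isNoetherian
  have hex₁ : ∀ v : ι, v.1 ∈ b₁ → ∃ x : A, x ∈ 𝔭 ∧ δ x = v.1 := by
    intro v hv
    obtain ⟨x, hx, hxv⟩ := hb₁s hv
    exact ⟨x, hx, hxv⟩
  have hex₂ : ∀ v : ι, ∃ x : A, δ x = v.1 := fun v => hb₂t v.2
  let a : ι → A := fun v => if h : v.1 ∈ b₁ then (hex₁ v h).choose else (hex₂ v).choose
  have haδ : ∀ v : ι, δ (a v) = v.1 := by
    intro v
    by_cases h : v.1 ∈ b₁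
    · simp only [a, dif_pos h]
      exact (hex₁ v h).choose_spec.2
    · simp only [a, dif_neg h]
      exact (hex₂ v).choose_spec
  have ha𝔭 : ∀ v : ι, v.1 ∈ b₁ → a v ∈ 𝔭 := by
    intro v h
    simp only [a, dif_pos h]
    exact (hex₁ v h).choose_spec.1
  refine ⟨ι, hfin, {v | v.1 ∈ b₁}, a, fun i hi => ha𝔭 i hi, ?_, ?_⟩
  · -- the maximal ideal
    set N₁ : Ideal B := Ideal.span ((fun i => algebraMap A B (a i)) '' {v : ι | v.1 ∈ b₁}) with hN₁
    have hN₁le : N₁ ≤ maximalIdeal B := by
      rw [hN₁, Ideal.span_le]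
      rintro _ ⟨v, hv, rfl⟩
      have : algebraMap A B (a v) ∈ Ideal.map (algebraMap A B) 𝔭 :=
        Ideal.mem_map_of_mem _ (ha𝔭 v hv)
      rwa [Localization.AtPrime.map_eq_maximalIdeal] at this
    -- every element of span b₁ is τ(D z) with z ∈ N₁
    have hkey : ∀ w ∈ Submodule.span κ b₁,
        ∃ z ∈ N₁, τ (KaehlerDifferential.D R B z) = w := by
      intro w hw
      induction hw using Submodule.span_induction with
      | mem y hy =>
        refine ⟨algebraMap A B (a ⟨y, hb₁₂ hy⟩), Ideal.subset_span ⟨⟨y, hb₁₂ hy⟩, hy, rfl⟩, ?_⟩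
        exact haδ ⟨y, hb₁₂ hy⟩
      | zero => exact ⟨0, N₁.zero_mem, by simp⟩
      | add y z _ _ hy hz =>
        obtain ⟨z₁, hz₁, h₁⟩ := hy
        obtain ⟨z₂, hz₂, h₂⟩ := hz
        exact ⟨z₁ + z₂, N₁.add_mem hz₁ hz₂, by rw [map_add, map_add, h₁, h₂]⟩
      | smul c y _ hy =>
        obtain ⟨z, hz, h⟩ := hy
        obtain ⟨c, rfl⟩ := IsLocalRing.residue_surjective c
        refine ⟨c * z, N₁.mul_mem_left _ hz, ?_⟩
        rw [Derivation.leibniz, map_add, hτsmul, h, hτmem z _ (hN₁le hz), add_zero]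
    have hle : maximalIdeal B ≤
        ((maximalIdeal R).map (algebraMap R B) ⊔ N₁) ⊔ (maximalIdeal B) • (maximalIdeal B) := by
      intro y hy
      have hy' : y ∈ Ideal.map (algebraMap A B) 𝔭 := by
        rw [Localization.AtPrime.map_eq_maximalIdeal]; exact hy
      refine (Ideal.map_le_iff_le_comap.mpr ?_) hy'
      intro x hx
      have hw : δ x ∈ Submodule.span κ b₁ := by
        rw [hb₁span]
        exact Submodule.subset_span ⟨x, hx, rfl⟩
      obtain ⟨z, hz, hzw⟩ := hkey _ hw
      have hxm : algebraMap A B x ∈ maximalIdeal B := by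
        have : algebraMap A B x ∈ Ideal.map (algebraMap A B) 𝔭 := Ideal.mem_map_of_mem _ hx
        rwa [Localization.AtPrime.map_eq_maximalIdeal] at this
      have hdiff : algebraMap A B x - z ∈ maximalIdeal B := Ideal.sub_mem _ hxm (hN₁le hz)
      have hD : KaehlerDifferential.D R B (algebraMap A B x - z) ∈
          (maximalIdeal B) • (⊤ : Submodule B Ω[B⁄R]) := by
        rw [← hτker, LinearMap.mem_ker, map_sub, map_sub, hzw, sub_self]
      have hJ := mem_J_of_D_mem (R := R) _ hdiff hD
      rw [J, Submodule.mem_sup] at hJ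
      obtain ⟨u, hu, v, hv, huv⟩ := hJ
      have hx_eq : algebraMap A B x = (u + z) + v := by
        rw [add_assoc, add_comm z v, ← add_assoc, huv]; ring
      rw [Ideal.mem_comap, hx_eq]
      refine Ideal.add_mem _ (Ideal.mem_sup_left (Ideal.add_mem _ (Ideal.mem_sup_left hu)
        (Ideal.mem_sup_right hz))) (Ideal.mem_sup_right ?_)
      rwa [smul_eq_mul, ← pow_two]
    exact Submodule.le_of_le_smul_of_le_jacobson_bot (IsNoetherian.noetherian _)
      (IsLocalRing.maximalIdeal_le_jacobson _) hle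
  · -- basis
    refine Module.IsLocalRing.linearCombination_bijective_of_flat _ ?_
    have hfun : (TensorProduct.mk B (ResidueField B) Ω[B⁄R] 1 ∘
        fun i : ι => KaehlerDifferential.D R B (algebraMap A B (a i))) = ((↑) : ι → V) := by
      funext v
      exact haδ v
    rw [hfun]
    refine ⟨hb₂li', ?_⟩
    rw [← LinearMap.range_eq_top, Finsupp.range_linearCombination, Subtype.range_coe]
    exact hb₂top

end coords

end Groth.Agent.H10.NeronA
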