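import Mathlib

/-!
# Néron blowup, part B: formally étale coordinates from a basis of differentials
-/

set_option autoImplicit false
universe u

open TensorProduct

namespace Groth.Agent.H10.NeronB

/-- If `B` is formally smooth over `R` and `B ⊗[P] Ω[P/R] → Ω[B/R]` is bijective, then `B` is
formally étale over `P`. -/
theorem formallyEtale_of_bijective_mapBaseChange {R P B : Type u} [CommRing R] [CommRing P]
    [CommRing B] [Algebra R P] [Algebra P B] [Algebra R B] [IsScalarTower R P B]
    [Algebra.FormallySmooth R B]
    (h : Function.Bijective (KaehlerDifferential.mapBaseChange R P B)) :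
    Algebra.FormallyEtale P B := by
  constructor
  · -- Ω[B/P] = 0
    refine ⟨fun x y => ?_⟩
    have hx : ∀ z : Ω[B⁄P], z = 0 := by
      intro z
      obtain ⟨w, rfl⟩ := KaehlerDifferential.map_surjective R P B z
      obtain ⟨v, rfl⟩ := h.2 w
      exact (KaehlerDifferential.exact_mapBaseChange_map R P B _).mpr ⟨v, rfl⟩
    rw [hx x, hx y]
  · -- H¹ = 0
    refine ⟨fun x y => ?_⟩
    have hx : ∀ z : Algebra.H1Cotangent P B, z = 0 := by
      intro z
      have h1 : KaehlerDifferential.mapBaseChange R P B (Algebra.H1Cotangent.δ R P B z) = 0 :=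
        (Algebra.H1Cotangent.exact_δ_mapBaseChange R P B _).mpr ⟨z, rfl⟩
      have h2 : Algebra.H1Cotangent.δ R P B z = 0 := h.1 (by rw [h1, map_zero])
      obtain ⟨w, rfl⟩ := (Algebra.H1Cotangent.exact_map_δ R P B z).mp h2
      rw [Subsingleton.elim w 0, map_zero]
    rw [hx x, hx y]

/-- For a polynomial algebra `P = R[X_i]`, `B ⊗[P] Ω[P/R] → Ω[B/R]` is bijective as soon as the
`d(X_i)` form a basis of `Ω[B/R]`. -/
theorem bijective_mapBaseChange_of_basis {R B ι : Type u} [CommRing R] [CommRing B] [Algebra R B]
    [Algebra (MvPolynomial ι R) B] [IsScalarTower R (MvPolynomial ι R) B]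
    (h : Function.Bijective (Finsupp.linearCombination B
      (fun i => KaehlerDifferential.D R B (algebraMap (MvPolynomial ι R) B (MvPolynomial.X i))))) :
    Function.Bijective (KaehlerDifferential.mapBaseChange R (MvPolynomial ι R) B) := by
  let bs := (KaehlerDifferential.mvPolynomialBasis R ι).baseChange B
  have hcomp : (KaehlerDifferential.mapBaseChange R (MvPolynomial ι R) B) ∘ₗ
      bs.repr.symm.toLinearMap = Finsupp.linearCombination B
      (fun i => KaehlerDifferential.D R B (algebraMap (MvPolynomial ι R) B (MvPolynomial.X i))) := by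
    refine Finsupp.lhom_ext' fun i => LinearMap.ext_ring ?_
    simp only [LinearMap.coe_comp, Function.comp_apply, Finsupp.lsingle_apply,
      LinearEquiv.coe_coe, Module.Basis.repr_symm_single_one,
      Finsupp.linearCombination_single, one_smul]
    rw [Module.Basis.baseChange_apply, KaehlerDifferential.mvPolynomialBasis_apply,
      KaehlerDifferential.mapBaseChange_tmul, one_smul, KaehlerDifferential.map_D]
  have : (KaehlerDifferential.mapBaseChange R (MvPolynomial ι R) B : _ → _) =
      (Finsupp.linearCombination B (fun i => KaehlerDifferential.D R B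
        (algebraMap (MvPolynomial ι R) B (MvPolynomial.X i)))) ∘ bs.repr := by
    funext x
    rw [← hcomp]
    simp
  rw [this]
  exact h.comp bs.repr.bijective

end Groth.Agent.H10.NeronB
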