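import Mathlib
import Groth.Prelude

/-!
# Néron blowup, part C: universal property of the affine blowup algebra and a retract argument
-/

set_option autoImplicit false
universe u

open TensorProduct

namespace Groth.Agent.H10.NeronC

/-- a retract of a formally smooth algebra is formally smooth -/
theorem formallySmooth_of_retract {R S S' : Type u} [CommRing R] [CommRing S] [CommRing S']
    [Algebra R S] [Algebra R S'] [Algebra.FormallySmooth R S']
    (f : S' →ₐ[R] S) (g : S →ₐ[R] S') (h : ∀ s, f (g s) = s) : Algebra.FormallySmooth R S := by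
  refine Algebra.FormallySmooth.of_split f ((Ideal.Quotient.mkₐ R _).comp g) ?_
  ext s
  simp only [AlgHom.comp_apply, Ideal.Quotient.mkₐ_eq_mk, AlgHom.coe_id, id_eq]
  exact h s

section univ

variable {A : Type u} [CommRing A] (I : Ideal A) (ϖ : A)

lemma gen_mem {x : A} (hx : x ∈ I) :
    IsLocalization.mk' (Localization.Away ϖ) x (⟨ϖ, Submonoid.mem_powers ϖ⟩ : Submonoid.powers ϖ) ∈
      BlowUp.affineAlgebra A I ϖ :=
  Algebra.subset_adjoin ⟨x, hx, rfl⟩

/-- the generator `x/ϖ` of the blowup algebra -/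
noncomputable def gen {x : A} (hx : x ∈ I) : BlowUp.affineAlgebra A I ϖ := ⟨_, gen_mem I ϖ hx⟩

lemma smul_gen {x : A} (hx : x ∈ I) :
    ϖ • gen I ϖ hx = algebraMap A (BlowUp.affineAlgebra A I ϖ) x := by
  apply Subtype.ext
  show ϖ • IsLocalization.mk' (Localization.Away ϖ) x
    (⟨ϖ, Submonoid.mem_powers ϖ⟩ : Submonoid.powers ϖ) = algebraMap A _ x
  rw [Algebra.smul_def]
  exact IsLocalization.mk'_spec' (Localization.Away ϖ) x
    (⟨ϖ, Submonoid.mem_powers ϖ⟩ : Submonoid.powers ϖ)

/-- two `A`-algebra maps out of the blowup algebra into a ring where `ϖ` is a nonzerodivisor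
agree. -/
theorem algHom_ext_of_regular {C : Type u} [CommRing C] [Algebra A C]
    (hreg : algebraMap A C ϖ ∈ nonZeroDivisors C)
    (f g : BlowUp.affineAlgebra A I ϖ →ₐ[A] C) : f = g := by
  ext ⟨t, ht⟩
  induction ht using Algebra.adjoin_induction with
  | mem y hy =>
    obtain ⟨x, hx, rfl⟩ := hy
    have h1 : ∀ k : BlowUp.affineAlgebra A I ϖ →ₐ[A] C,
        algebraMap A C ϖ * k (gen I ϖ hx) = algebraMap A C x := by
      intro k
      rw [← Algebra.smul_def, ← map_smul, smul_gen, AlgHom.commutes]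
    have := (h1 f).trans (h1 g).symm
    exact (mul_cancel_left_mem_nonZeroDivisors hreg).mp this
  | algebraMap r =>
    have : (⟨algebraMap A _ r, Subalgebra.algebraMap_mem _ r⟩ : BlowUp.affineAlgebra A I ϖ) =
      algebraMap A _ r := rfl
    rw [this, AlgHom.commutes, AlgHom.commutes]
  | add y z hy hz ihy ihz =>
    have : (⟨y + z, Subalgebra.add_mem _ hy hz⟩ : BlowUp.affineAlgebra A I ϖ) =
      ⟨y, hy⟩ + ⟨z, hz⟩ := rfl
    rw [this, map_add, map_add, ihy, ihz]
  | mul y z hy hz ihy ihz =>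
    have : (⟨y * z, Subalgebra.mul_mem _ hy hz⟩ : BlowUp.affineAlgebra A I ϖ) =
      ⟨y, hy⟩ * ⟨z, hz⟩ := rfl
    rw [this, map_mul, map_mul, ihy, ihz]

/-- **Universal property** of the affine blowup algebra (existence). -/
theorem exists_algHom {C : Type u} [CommRing C] [Algebra A C]
    (hreg : algebraMap A C ϖ ∈ nonZeroDivisors C)
    (hI : ∀ x ∈ I, ∃ c : C, algebraMap A C x = algebraMap A C ϖ * c) :
    Nonempty (BlowUp.affineAlgebra A I ϖ →ₐ[A] C) := by
  let Cϖ := Localization.Away (algebraMap A C ϖ)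
  let j : C →ₐ[A] Cϖ := IsScalarTower.toAlgHom A C Cϖ
  have hj : Function.Injective j := by
    refine IsLocalization.injective Cϖ (M := Submonoid.powers (algebraMap A C ϖ)) ?_
    exact Submonoid.powers_le.mpr hreg
  let ρ₀ : Localization.Away ϖ →ₐ[A] Cϖ :=
    IsLocalization.liftAlgHom (M := Submonoid.powers ϖ) (f := Algebra.ofId A Cϖ) (by
      rintro ⟨_, n, rfl⟩
      show IsUnit (algebraMap A Cϖ (ϖ ^ n))
      rw [map_pow, IsScalarTower.algebraMap_apply A C Cϖ]
      exact (IsLocalization.Away.algebraMap_isUnit (algebraMap A C ϖ)).pow n)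
  have hrange : BlowUp.affineAlgebra A I ϖ ≤ j.range.comap ρ₀ := by
    refine Algebra.adjoin_le ?_
    rintro _ ⟨x, hx, rfl⟩
    obtain ⟨c, hc⟩ := hI x hx
    refine ⟨c, ?_⟩
    show algebraMap C Cϖ c = ρ₀ _
    have hu : IsUnit (algebraMap C Cϖ (algebraMap A C ϖ)) :=
      IsLocalization.Away.algebraMap_isUnit (algebraMap A C ϖ)
    apply hu.mul_left_cancel
    have h1 : algebraMap C Cϖ (algebraMap A C ϖ) * ρ₀ (IsLocalization.mk' (Localization.Away ϖ) x
        (⟨ϖ, Submonoid.mem_powers ϖ⟩ : Submonoid.powers ϖ)) = algebraMap A Cϖ x := by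
      rw [← IsScalarTower.algebraMap_apply A C Cϖ, ← Algebra.smul_def, ← map_smul,
        Algebra.smul_def]
      have := IsLocalization.mk'_spec' (Localization.Away ϖ) x
        (⟨ϖ, Submonoid.mem_powers ϖ⟩ : Submonoid.powers ϖ)
      simp only at this
      rw [this, AlgHom.commutes]
    rw [h1, ← map_mul, ← hc, ← IsScalarTower.algebraMap_apply]
  let ρ₁ : BlowUp.affineAlgebra A I ϖ →ₐ[A] j.range :=
    (ρ₀.comp (BlowUp.affineAlgebra A I ϖ).val).codRestrict j.range (fun t => hrange t.2)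
  exact ⟨(AlgEquiv.ofInjective j hj).symm.toAlgHom.comp ρ₁⟩

end univ

section retract

variable {R A : Type u} [CommRing R] [CommRing A] [Algebra R A] (I : Ideal A) (ϖ : A)
  (𝔭' : Ideal (BlowUp.affineAlgebra A I ϖ)) [𝔭'.IsPrime]

/-- **Retract argument**: if `A' → S = A'_{𝔭'}` factors as `A' → C → S` with `C` formally smooth
over `R`, then `S` is formally smooth over `R`. -/
theorem isSmoothAt_of_factor {C : Type u} [CommRing C] [Algebra R C] [Algebra A C]
    [IsScalarTower R A C] [Algebra.FormallySmooth R C]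
    (ρ : BlowUp.affineAlgebra A I ϖ →ₐ[A] C) (ψ : C →ₐ[A] Localization.AtPrime 𝔭')
    (hψρ : ∀ t, ψ (ρ t) = algebraMap _ (Localization.AtPrime 𝔭') t) :
    Algebra.IsSmoothAt R 𝔭' := by
  let S := Localization.AtPrime 𝔭'
  let M : Submonoid C := (IsUnit.submonoid S).comap (ψ : C →* S)
  let S'' := Localization M
  have : Algebra.FormallySmooth R S'' := Algebra.FormallySmooth.comp R C S''
  let ψR : C →ₐ[R] S := ψ.restrictScalars R
  let ψ' : S'' →ₐ[R] S := IsLocalization.liftAlgHom (M := M) (f := ψR) (by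
    rintro ⟨c, hc⟩
    exact hc)
  let ρR : BlowUp.affineAlgebra A I ϖ →ₐ[R] C := ρ.restrictScalars R
  let ρ' : S →ₐ[R] S'' := IsLocalization.liftAlgHom (M := 𝔭'.primeCompl)
    (f := (IsScalarTower.toAlgHom R C S'').comp ρR) (by
    rintro ⟨t, ht⟩
    have hu : IsUnit (algebraMap _ S t) := IsLocalization.map_units S ⟨t, ht⟩
    have hM : ρ t ∈ M := by
      show IsUnit (ψ (ρ t))
      rw [hψρ]; exact hu
    exact IsLocalization.map_units S'' ⟨ρ t, hM⟩)
  refine formallySmooth_of_retract ψ' ρ' ?_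
  intro s
  have hcomp : (ψ'.comp ρ').toRingHom = RingHom.id S := by
    refine IsLocalization.ringHom_ext 𝔭'.primeCompl ?_
    ext t
    simp only [RingHom.coe_comp, Function.comp_apply, RingHom.id_apply, AlgHom.toRingHom_eq_coe,
      RingHom.coe_coe, AlgHom.comp_apply]
    have h1 : ρ' (algebraMap _ S t) = algebraMap C S'' (ρ t) := by
      show IsLocalization.lift _ (algebraMap _ S t) = _
      rw [IsLocalization.lift_eq]
      rfl
    rw [h1]
    have h2 : ψ' (algebraMap C S'' (ρ t)) = ψ (ρ t) := by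
      show IsLocalization.lift _ (algebraMap C S'' (ρ t)) = _
      rw [IsLocalization.lift_eq]
      rfl
    rw [h2, hψρ]
  exact congrArg (fun k : S →+* S => k s) hcomp

end retract

end Groth.Agent.H10.NeronC
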