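import Mathlib
import Groth.Prelude
import Groth.Agent.H10.NeronC

/-!
# Néron blowup, part D: the base change `P' ⊗[P] B` along `x_i ↦ π x_i` and the core argument
-/

set_option autoImplicit false
universe u

open TensorProduct IsLocalRing

namespace Groth.Agent.H10.NeronD

section Pprime

variable (R : Type u) [CommRing R] (ι : Type u) (ι₁ : Set ι) (π : R)

open Classical in
/-- the endomorphism `x_i ↦ π x_i` (`i ∈ ι₁`), `x_i ↦ x_i` otherwise -/
noncomputable def θ : MvPolynomial ι R →ₐ[R] MvPolynomial ι R :=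
  MvPolynomial.aeval
    (fun i => if i ∈ ι₁ then MvPolynomial.C π * MvPolynomial.X i else MvPolynomial.X i)

/-- the polynomial ring, as an algebra over itself via `θ` -/
def P' (R : Type u) [CommRing R] (ι : Type u) (_ι₁ : Set ι) (_π : R) : Type u := MvPolynomial ι R

noncomputable instance : CommRing (P' R ι ι₁ π) := inferInstanceAs (CommRing (MvPolynomial ι R))
noncomputable instance : Algebra R (P' R ι ι₁ π) :=
  inferInstanceAs (Algebra R (MvPolynomial ι R))
noncomputable instance algPP' : Algebra (MvPolynomial ι R) (P' R ι ι₁ π) :=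
  (θ R ι ι₁ π).toRingHom.toAlgebra
instance : IsScalarTower R (MvPolynomial ι R) (P' R ι ι₁ π) :=
  .of_algebraMap_eq fun r => ((θ R ι ι₁ π).commutes r).symm
instance : Algebra.FormallySmooth R (P' R ι ι₁ π) :=
  inferInstanceAs (Algebra.FormallySmooth R (MvPolynomial ι R))
instance : Module.Flat R (P' R ι ι₁ π) := inferInstanceAs (Module.Flat R (MvPolynomial ι R))

/-- the variable `X_i` of `P'` -/
noncomputable def X' (i : ι) : P' R ι ι₁ π := (MvPolynomial.X i : MvPolynomial ι R)

/-- the identity `R`-algebra iso `MvPolynomial ι R ≃ P'` -/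
noncomputable def toP' : MvPolynomial ι R ≃ₐ[R] P' R ι ι₁ π := AlgEquiv.refl

lemma toP'_X (i : ι) : toP' R ι ι₁ π (MvPolynomial.X i) = X' R ι ι₁ π i := rfl

lemma algebraMap_eq (p : MvPolynomial ι R) :
    algebraMap (MvPolynomial ι R) (P' R ι ι₁ π) p = toP' R ι ι₁ π (θ R ι ι₁ π p) := rfl

lemma algebraMap_X_of_mem {i : ι} (hi : i ∈ ι₁) :
    algebraMap (MvPolynomial ι R) (P' R ι ι₁ π) (MvPolynomial.X i) = π • X' R ι ι₁ π i := by
  rw [algebraMap_eq, θ, MvPolynomial.aeval_X, if_pos hi, ← MvPolynomial.smul_eq_C_mul,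
    map_smul, toP'_X]

lemma algebraMap_X_of_notMem {i : ι} (hi : i ∉ ι₁) :
    algebraMap (MvPolynomial ι R) (P' R ι ι₁ π) (MvPolynomial.X i) = X' R ι ι₁ π i := by
  rw [algebraMap_eq, θ, MvPolynomial.aeval_X, if_neg hi, toP'_X]

end Pprime

section core

variable {R A : Type u} [CommRing R] [IsDomain R] (π : R) (hπ0 : π ≠ 0) [CommRing A] [Algebra R A]
  (𝔭 : Ideal A) [𝔭.IsPrime] (ι : Type u) (ι₁ : Set ι) (a : ι → A) (ha : ∀ i ∈ ι₁, a i ∈ 𝔭)
  (hmax : maximalIdeal (Localization.AtPrime 𝔭) ≤
    Ideal.span {algebraMap R (Localization.AtPrime 𝔭) π} ⊔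
      Ideal.span ((fun i => algebraMap A (Localization.AtPrime 𝔭) (a i)) '' ι₁))
  [Algebra (MvPolynomial ι R) A] [IsScalarTower R (MvPolynomial ι R) A]
  (hX : ∀ i, algebraMap (MvPolynomial ι R) A (MvPolynomial.X i) = a i)
  [Algebra.FormallyEtale (MvPolynomial ι R) (Localization.AtPrime 𝔭)]
  [Module.Flat (MvPolynomial ι R) (Localization.AtPrime 𝔭)]
  (𝔭' : Ideal (BlowUp.affineAlgebra A 𝔭 (algebraMap R A π))) [𝔭'.IsPrime]
  (h𝔭' : 𝔭'.comap (algebraMap A (BlowUp.affineAlgebra A 𝔭 (algebraMap R A π))) = 𝔭)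

local notation "P" => MvPolynomial ι R
local notation "B" => Localization.AtPrime 𝔭
local notation "ϖ" => algebraMap R A π
local notation "A'" => BlowUp.affineAlgebra A 𝔭 (algebraMap R A π)
local notation "S" => Localization.AtPrime 𝔭'
local notation "C" => P' R ι ι₁ π ⊗[MvPolynomial ι R] Localization.AtPrime 𝔭

set_option maxHeartbeats 400000 in
include hπ0 ha hmax hX h𝔭' in
theorem core : Algebra.IsSmoothAt R 𝔭' := by
  classical
  -- structures on C
  have : Algebra.FormallySmooth R C := Algebra.FormallySmooth.comp R (P' R ι ι₁ π) C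
  have : Module.Flat R C := Module.Flat.trans R (P' R ι ι₁ π) C
  let incB : B →ₐ[P] C := Algebra.TensorProduct.includeRight
  let algAC : Algebra A C := (incB.toRingHom.comp (algebraMap A B)).toAlgebra
  have hAC : ∀ x : A, algebraMap A C x = (1 : P' R ι ι₁ π) ⊗ₜ[P] (algebraMap A B x) := fun x => rfl
  have hRC : ∀ r : R, algebraMap R C r = (1 : P' R ι ι₁ π) ⊗ₜ[P] (algebraMap R B r) := by
    intro r
    rw [Algebra.TensorProduct.algebraMap_apply, Algebra.algebraMap_eq_smul_one,
      Algebra.algebraMap_eq_smul_one (A := B)]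
    exact TensorProduct.smul_tmul r _ _
  have : IsScalarTower R A C := IsScalarTower.of_algebraMap_eq (fun r => by
    rw [hAC, hRC, ← IsScalarTower.algebraMap_apply R A B])
  -- ϖ is a nonzerodivisor on C
  have hreg : algebraMap A C ϖ ∈ nonZeroDivisors C := by
    have h1 : algebraMap A C ϖ = algebraMap R C π :=
      (IsScalarTower.algebraMap_apply R A C π).symm
    rw [h1]
    have hsr := Module.Flat.isSMulRegular_of_nonZeroDivisors (M := C)
      (mem_nonZeroDivisors_of_ne_zero hπ0)
    rw [mem_nonZeroDivisors_iff_right]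
    intro c hc
    apply hsr
    show π • c = π • 0
    rw [smul_zero]
    exact (Algebra.smul_def π c).trans (by rw [mul_comm]; exact hc)
  -- 𝔭 C ⊆ ϖ C
  let N : Ideal B := (Ideal.span {algebraMap R C π}).comap incB.toRingHom
  have hN1 : algebraMap R B π ∈ N := by
    show incB (algebraMap R B π) ∈ Ideal.span {algebraMap R C π}
    have : incB (algebraMap R B π) = algebraMap R C π := (hRC π).symm
    rw [this]
    exact Ideal.subset_span rfl
  have hXB : ∀ i, algebraMap P B (MvPolynomial.X i) = algebraMap A B (a i) := by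
    intro i
    rw [IsScalarTower.algebraMap_apply P A B, hX]
  have hN2 : ∀ i ∈ ι₁, algebraMap A B (a i) ∈ N := by
    intro i hi
    show incB (algebraMap A B (a i)) ∈ Ideal.span {algebraMap R C π}
    have : incB (algebraMap A B (a i)) = algebraMap R C π * (X' R ι ι₁ π i ⊗ₜ[P] (1 : B)) := by
      show (1 : P' R ι ι₁ π) ⊗ₜ[P] (algebraMap A B (a i)) = _
      rw [Algebra.TensorProduct.algebraMap_apply, Algebra.TensorProduct.tmul_mul_tmul, one_mul,
        ← Algebra.smul_def, ← algebraMap_X_of_mem R ι ι₁ π hi, ← hXB,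
        Algebra.algebraMap_eq_smul_one (A := B),
        Algebra.algebraMap_eq_smul_one (A := P' R ι ι₁ π)]
      exact (TensorProduct.smul_tmul _ _ _).symm
    rw [this]
    exact Ideal.mul_mem_right _ _ (Ideal.subset_span rfl)
  have hmN : maximalIdeal B ≤ N := by
    refine hmax.trans (sup_le ?_ ?_)
    · rw [Ideal.span_le]
      rintro _ rfl
      exact hN1
    · rw [Ideal.span_le]
      rintro _ ⟨i, hi, rfl⟩
      exact hN2 i hi
  have hI : ∀ x ∈ 𝔭, ∃ c : C, algebraMap A C x = algebraMap A C ϖ * c := by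
    intro x hx
    have hxm : algebraMap A B x ∈ maximalIdeal B := by
      have : algebraMap A B x ∈ Ideal.map (algebraMap A B) 𝔭 := Ideal.mem_map_of_mem _ hx
      rwa [Localization.AtPrime.map_eq_maximalIdeal] at this
    have := hmN hxm
    obtain ⟨c, hc⟩ := Ideal.mem_span_singleton'.mp this
    refine ⟨c, ?_⟩
    rw [(IsScalarTower.algebraMap_apply R A C π).symm, mul_comm, hc]
    rfl
  obtain ⟨ρ⟩ := NeronC.exists_algHom 𝔭 ϖ hreg hI
  -- S as a P-algebra
  have : IsScalarTower P A S := inferInstance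
  -- the map B → S
  let gA : B →ₐ[A] S := IsLocalization.liftAlgHom (M := 𝔭.primeCompl) (f := Algebra.ofId A S) (by
    rintro ⟨s, hs⟩
    show IsUnit (algebraMap A S s)
    rw [IsScalarTower.algebraMap_apply A A' S]
    refine IsLocalization.map_units S (⟨algebraMap A A' s, ?_⟩ : 𝔭'.primeCompl)
    intro hmem
    apply hs
    rw [← h𝔭']
    exact hmem)
  let g : B →ₐ[P] S := gA.restrictScalars P
  -- the map P' → S
  let f₀ : MvPolynomial ι R →ₐ[R] S := MvPolynomial.aeval (fun i =>
    if h : i ∈ ι₁ then algebraMap A' S (NeronC.gen 𝔭 ϖ (ha i h)) else algebraMap A S (a i))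
  have hf₀ : ∀ p : P, f₀ (θ R ι ι₁ π p) = algebraMap P S p := by
    intro p
    have : f₀.comp (θ R ι ι₁ π) = IsScalarTower.toAlgHom R P S := by
      refine MvPolynomial.algHom_ext (fun i => ?_)
      rw [AlgHom.comp_apply, IsScalarTower.coe_toAlgHom']
      have hPS : algebraMap P S (MvPolynomial.X i) = algebraMap A S (a i) := by
        rw [IsScalarTower.algebraMap_apply P A S, hX]
      rw [hPS]
      by_cases hi : i ∈ ι₁
      · have e1 : f₀ (θ R ι ι₁ π (MvPolynomial.X i)) =
            π • algebraMap A' S (NeronC.gen 𝔭 ϖ (ha i hi)) := by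
          rw [θ, MvPolynomial.aeval_X, if_pos hi, ← MvPolynomial.smul_eq_C_mul, map_smul]
          simp only [f₀, MvPolynomial.aeval_X, dif_pos hi]
        have e2 : π • algebraMap A' S (NeronC.gen 𝔭 ϖ (ha i hi)) =
            algebraMap A' S (π • NeronC.gen 𝔭 ϖ (ha i hi)) :=
          (map_smul (IsScalarTower.toAlgHom R A' S) π _).symm
        have e3 : π • NeronC.gen 𝔭 ϖ (ha i hi) = algebraMap A A' (a i) := by
          rw [← NeronC.smul_gen 𝔭 ϖ (ha i hi)]
          exact (algebraMap_smul A π _).symm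
        rw [e1, e2, e3]
        exact (IsScalarTower.algebraMap_apply A A' S _).symm
      · rw [θ, MvPolynomial.aeval_X, if_neg hi]
        simp only [f₀, MvPolynomial.aeval_X, dif_neg hi]
    exact congrArg (fun k : P →ₐ[R] S => k p) this
  let f : P' R ι ι₁ π →ₐ[P] S :=
    { toRingHom := f₀.toRingHom
      commutes' := fun p => hf₀ p }
  let ψP : C →ₐ[P] S := Algebra.TensorProduct.lift f g (fun _ _ => Commute.all _ _)
  obtain ⟨ψ⟩ : Nonempty (C →ₐ[A] S) :=
    ⟨{ toRingHom := ψP.toRingHom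
       commutes' := fun x => by
        show ψP ((1 : P' R ι ι₁ π) ⊗ₜ[P] (algebraMap A B x)) = _
        rw [Algebra.TensorProduct.lift_tmul, map_one, one_mul]
        show gA (algebraMap A B x) = _
        rw [AlgHom.commutes] }⟩
  -- ϖ is a nonzerodivisor on S
  have hregA' : algebraMap A A' ϖ ∈ nonZeroDivisors A' := by
    rw [mem_nonZeroDivisors_iff_right]
    intro t ht
    apply Subtype.ext
    have h1 : (t : Localization.Away ϖ) * algebraMap A (Localization.Away ϖ) ϖ = 0 :=
      congrArg Subtype.val ht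
    have hu : IsUnit (algebraMap A (Localization.Away ϖ) ϖ) :=
      IsLocalization.Away.algebraMap_isUnit ϖ
    exact (hu.mul_left_eq_zero).mp h1
  have hψρ' : ψ.comp ρ = IsScalarTower.toAlgHom A A' S := by
    refine @NeronC.algHom_ext_of_regular A _ 𝔭 ϖ S _ _ ?_ _ _
    rw [IsScalarTower.algebraMap_apply A A' S]
    exact IsLocalization.map_nonZeroDivisors_le 𝔭'.primeCompl S
      (Submonoid.mem_map_of_mem _ hregA')
  have hψρ : ∀ t, ψ (ρ t) = algebraMap A' S t := by
    intro t
    exact congrArg (fun k : A' →ₐ[A] S => k t) hψρ'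
  exact NeronC.isSmoothAt_of_factor 𝔭 ϖ 𝔭' ρ ψ hψρ

end core

end Groth.Agent.H10.NeronD
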