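import Mathlib
import Groth.Prelude
import Groth.Agent.H44.MacLaneAll
import Groth.Agent.H10.NeronA
import Groth.Agent.H10.NeronB
import Groth.Agent.H10.NeronD

/-!
# Néron blowup, part E: smoothness is preserved by Néron's blowup
-/

set_option autoImplicit false
universe u

open TensorProduct IsLocalRing

namespace Groth.Agent.H10.NeronE

/-- formally étale at a prime (finitely presented source) implies flat at that prime -/
theorem flat_atPrime_of_formallyEtale {P A : Type u} [CommRing P] [CommRing A] [Algebra P A]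
    [Algebra.FinitePresentation P A] (𝔭 : Ideal A) [𝔭.IsPrime]
    [Algebra.FormallyEtale P (Localization.AtPrime 𝔭)] :
    Module.Flat P (Localization.AtPrime 𝔭) := by
  have : Algebra.IsEtaleAt P 𝔭 := ‹_›
  obtain ⟨f, hf, hfe⟩ := Algebra.exists_etale_of_isEtaleAt (R := P) 𝔭
  have hle : Submonoid.powers f ≤ 𝔭.primeCompl := by
    rw [Submonoid.powers_le]
    exact hf
  have hu : IsUnit (algebraMap A (Localization.AtPrime 𝔭) f) :=
    IsLocalization.map_units (Localization.AtPrime 𝔭) (⟨f, hf⟩ : 𝔭.primeCompl)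
  letI : Algebra (Localization.Away f) (Localization.AtPrime 𝔭) :=
    (IsLocalization.Away.lift f hu).toAlgebra
  haveI : IsScalarTower A (Localization.Away f) (Localization.AtPrime 𝔭) :=
    IsScalarTower.of_algebraMap_eq (fun x => (IsLocalization.Away.lift_eq f hu x).symm)
  haveI : IsScalarTower P (Localization.Away f) (Localization.AtPrime 𝔭) :=
    IsScalarTower.of_algebraMap_eq (fun p => by
      rw [IsScalarTower.algebraMap_apply P A (Localization.AtPrime 𝔭),
        IsScalarTower.algebraMap_apply A (Localization.Away f) (Localization.AtPrime 𝔭),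
        ← IsScalarTower.algebraMap_apply P A (Localization.Away f)])
  haveI : IsLocalization (𝔭.primeCompl.map (algebraMap A (Localization.Away f)))
      (Localization.AtPrime 𝔭) :=
    IsLocalization.isLocalization_of_submonoid_le (Localization.Away f) (Localization.AtPrime 𝔭)
      (Submonoid.powers f) 𝔭.primeCompl hle
  haveI : Module.Flat (Localization.Away f) (Localization.AtPrime 𝔭) :=
    IsLocalization.flat _ (𝔭.primeCompl.map (algebraMap A (Localization.Away f)))
  haveI : Algebra.Smooth P (Localization.Away f) := inferInstance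
  haveI : Module.Flat P (Localization.Away f) := inferInstance
  exact Module.Flat.trans P (Localization.Away f) (Localization.AtPrime 𝔭)

local notation "𝔭[" A "," Λ "]" => Ideal.comap (algebraMap A Λ) (IsLocalRing.maximalIdeal Λ)

/-- **Néron blowup preserves smoothness.** -/
theorem main {R Λ A : Type u} [CommRing R] [IsDomain R]
    [IsDiscreteValuationRing R] [CommRing Λ] [IsDomain Λ] [IsDiscreteValuationRing Λ] [Algebra R Λ]
    [NoZeroSMulDivisors R Λ] [IsLocalHom (algebraMap R Λ)]
    (hsep : Algebra.IsGeometricallyReduced (IsLocalRing.ResidueField R) (IsLocalRing.ResidueField Λ))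
    [CommRing A] [Algebra R A] [Algebra.FiniteType R A] [Algebra A Λ] [IsScalarTower R A Λ]
    (π : R) (hπ : IsLocalRing.maximalIdeal R = Ideal.span {π})
    (hsm : Algebra.IsSmoothAt R ((IsLocalRing.maximalIdeal Λ).comap (algebraMap A Λ)))
    (φ' : BlowUp.affineAlgebra A ((IsLocalRing.maximalIdeal Λ).comap (algebraMap A Λ))
      (algebraMap R A π) →ₐ[A] Λ) :
    Algebra.IsSmoothAt R ((IsLocalRing.maximalIdeal Λ).comap φ'.toRingHom) := by
  classical
  -- basic facts
  have hπ0 : π ≠ 0 := by
    rintro rfl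
    apply IsDiscreteValuationRing.not_a_field R
    rw [hπ]
    exact Ideal.span_singleton_eq_bot.mpr rfl
  have hπm : π ∈ maximalIdeal R := by rw [hπ]; exact Ideal.subset_span rfl
  have hϖ : algebraMap R A π ∈ 𝔭[A,Λ] := by
    rw [Ideal.mem_comap, ← IsScalarTower.algebraMap_apply R A Λ]
    exact ((IsLocalRing.mem_maximalIdeal _).mpr
      (fun h => hπm (isUnit_of_map_unit (algebraMap R Λ) π h)))
  have : IsNoetherianRing A := Algebra.FiniteType.isNoetherianRing R A
  have : Algebra.FormallySmooth R (Localization.AtPrime 𝔭[A,Λ]) := hsm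
  -- local hom R → B
  have hϖB : algebraMap R (Localization.AtPrime 𝔭[A,Λ]) π ∈ maximalIdeal (Localization.AtPrime 𝔭[A,Λ]) := by
    rw [IsScalarTower.algebraMap_apply R A (Localization.AtPrime 𝔭[A,Λ])]
    have : algebraMap A (Localization.AtPrime 𝔭[A,Λ]) (algebraMap R A π) ∈
        Ideal.map (algebraMap A (Localization.AtPrime 𝔭[A,Λ])) 𝔭[A,Λ] := Ideal.mem_map_of_mem _ hϖ
    rwa [Localization.AtPrime.map_eq_maximalIdeal] at this
  have : IsLocalHom (algebraMap R (Localization.AtPrime 𝔭[A,Λ])) := by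
    refine ⟨fun r hr => ?_⟩
    by_contra hnu
    have hrm : r ∈ maximalIdeal R := (IsLocalRing.mem_maximalIdeal _).mpr hnu
    rw [hπ, Ideal.mem_span_singleton'] at hrm
    obtain ⟨s, rfl⟩ := hrm
    rw [map_mul] at hr
    exact (IsLocalRing.mem_maximalIdeal _).mp (Ideal.mul_mem_left _ _ hϖB) hr
  -- B → Λ
  have hunits : ∀ y : 𝔭[A,Λ].primeCompl, IsUnit (algebraMap A Λ y) := by
    intro y
    by_contra hnu
    exact y.2 ((IsLocalRing.mem_maximalIdeal _).mpr hnu)
  letI algBΛ : Algebra (Localization.AtPrime 𝔭[A,Λ]) Λ :=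
    (IsLocalization.lift (M := 𝔭[A,Λ].primeCompl) (g := algebraMap A Λ) hunits).toAlgebra
  have hBΛ : ∀ x : A, algebraMap (Localization.AtPrime 𝔭[A,Λ]) Λ (algebraMap A _ x) = algebraMap A Λ x :=
    fun x => IsLocalization.lift_eq _ x
  haveI : IsScalarTower A (Localization.AtPrime 𝔭[A,Λ]) Λ :=
    IsScalarTower.of_algebraMap_eq (fun x => (hBΛ x).symm)
  haveI : IsScalarTower R (Localization.AtPrime 𝔭[A,Λ]) Λ :=
    IsScalarTower.of_algebraMap_eq (fun r => by
      rw [IsScalarTower.algebraMap_apply R A Λ, IsScalarTower.algebraMap_apply R A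
        (Localization.AtPrime 𝔭[A,Λ]), hBΛ])
  haveI : IsLocalHom (algebraMap (Localization.AtPrime 𝔭[A,Λ]) Λ) := by
    refine ⟨fun b hb => ?_⟩
    obtain ⟨x, s, rfl⟩ := IsLocalization.exists_mk'_eq 𝔭[A,Λ].primeCompl b
    have h1 : algebraMap (Localization.AtPrime 𝔭[A,Λ]) Λ (IsLocalization.mk' _ x s) *
        algebraMap A Λ s = algebraMap A Λ x := by
      rw [← hBΛ s, ← map_mul, IsLocalization.mk'_spec, hBΛ]
    have hxu : IsUnit (algebraMap A Λ x) := by
      rw [← h1]; exact hb.mul (hunits s)
    have hx : x ∈ 𝔭[A,Λ].primeCompl := fun hx =>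
      (IsLocalRing.mem_maximalIdeal _).mp hx hxu
    exact (IsLocalization.AtPrime.isUnit_mk'_iff (Localization.AtPrime 𝔭[A,Λ]) 𝔭[A,Λ] x s).mpr hx
  -- residue fields
  have : Algebra.IsGeometricallyReduced (ResidueField R) (ResidueField (Localization.AtPrime 𝔭[A,Λ])) :=
    Algebra.IsGeometricallyReduced.of_injective
      (IsScalarTower.toAlgHom (ResidueField R) (ResidueField (Localization.AtPrime 𝔭[A,Λ]))
        (ResidueField Λ)) (RingHom.injective _)
  have : Algebra.FormallySmooth (ResidueField R) (ResidueField (Localization.AtPrime 𝔭[A,Λ])) :=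
    Groth.Agent.H44.MacLane.formallySmooth_iff_isGeometricallyReduced.mpr this
  -- coordinates
  have : Algebra.EssFiniteType R (Localization.AtPrime 𝔭[A,Λ]) :=
    Algebra.EssFiniteType.comp R A (Localization.AtPrime 𝔭[A,Λ])
  obtain ⟨ι, hfin, ι₁, a, ha, hmax', hbij⟩ := NeronA.exists_coords (R := R) 𝔭[A,Λ]
  have hmax : maximalIdeal (Localization.AtPrime 𝔭[A,Λ]) ≤
      Ideal.span {algebraMap R (Localization.AtPrime 𝔭[A,Λ]) π} ⊔
        Ideal.span ((fun i => algebraMap A (Localization.AtPrime 𝔭[A,Λ]) (a i)) '' ι₁) := by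
    rw [hπ, Ideal.map_span, Set.image_singleton] at hmax'
    exact hmax'
  letI algPA : Algebra (MvPolynomial ι R) A := (MvPolynomial.aeval a : MvPolynomial ι R →ₐ[R] A).toRingHom.toAlgebra
  haveI : IsScalarTower R (MvPolynomial ι R) A :=
    IsScalarTower.of_algebraMap_eq (fun r => ((MvPolynomial.aeval a : MvPolynomial ι R →ₐ[R] A).commutes r).symm)
  have hX : ∀ i, algebraMap (MvPolynomial ι R) A (MvPolynomial.X i) = a i :=
    fun i => MvPolynomial.aeval_X a i
  -- formally étale
  have hbij' : Function.Bijective (Finsupp.linearCombination (Localization.AtPrime 𝔭[A,Λ])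
      (fun i => KaehlerDifferential.D R (Localization.AtPrime 𝔭[A,Λ])
        (algebraMap (MvPolynomial ι R) (Localization.AtPrime 𝔭[A,Λ]) (MvPolynomial.X i)))) := by
    have : (fun i => KaehlerDifferential.D R (Localization.AtPrime 𝔭[A,Λ])
        (algebraMap (MvPolynomial ι R) (Localization.AtPrime 𝔭[A,Λ]) (MvPolynomial.X i))) =
        (fun i => KaehlerDifferential.D R (Localization.AtPrime 𝔭[A,Λ])
          (algebraMap A (Localization.AtPrime 𝔭[A,Λ]) (a i))) := by
      funext i
      rw [IsScalarTower.algebraMap_apply (MvPolynomial ι R) A (Localization.AtPrime 𝔭[A,Λ]), hX]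
    rw [this]
    exact hbij
  haveI : Algebra.FormallyEtale (MvPolynomial ι R) (Localization.AtPrime 𝔭[A,Λ]) :=
    NeronB.formallyEtale_of_bijective_mapBaseChange (R := R)
      (NeronB.bijective_mapBaseChange_of_basis hbij')
  -- flat
  haveI : Algebra.FinitePresentation R A := Algebra.FinitePresentation.of_finiteType.mp inferInstance
  haveI : Algebra.FinitePresentation (MvPolynomial ι R) A :=
    Algebra.FinitePresentation.of_restrict_scalars_finitePresentation R (MvPolynomial ι R) A
  haveI : Module.Flat (MvPolynomial ι R) (Localization.AtPrime 𝔭[A,Λ]) :=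
    flat_atPrime_of_formallyEtale 𝔭[A,Λ]
  -- the prime 𝔭'
  have h𝔭' : ((IsLocalRing.maximalIdeal Λ).comap φ'.toRingHom).comap
      (algebraMap A (BlowUp.affineAlgebra A 𝔭[A,Λ] (algebraMap R A π))) = 𝔭[A,Λ] := by
    ext x
    have h1 : φ'.toRingHom (algebraMap A _ x) = algebraMap A Λ x := φ'.commutes x
    constructor
    · intro hx
      show algebraMap A Λ x ∈ maximalIdeal Λ
      rw [← h1]
      exact hx
    · intro hx
      show φ'.toRingHom (algebraMap A _ x) ∈ maximalIdeal Λ
      rw [h1]
      exact hx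
  exact NeronD.core π hπ0 𝔭[A,Λ] ι ι₁ a ha hmax hX _ h𝔭'

end Groth.Agent.H10.NeronE
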