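import Mathlib
import Groth.Prelude
import Groth.Agent.H10.NeronC

/-!
# Néron desingularization, part F: dual-number valued homomorphisms (helper10)

Derivations `P → Λ` over an algebra map `ψ : P → Λ` are encoded as algebra maps
`Θ : P →ₐ[R] Λ[ε]` with `fst ∘ Θ = ψ`.  We provide scaling, extension to localizations,
extension to the affine blowup algebra and passage to quotients.
-/

set_option autoImplicit false
set_option linter.style.haveILetI false
universe u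

open TrivSqZeroExt

namespace Groth.Agent.H10.NeronF

/-- dual numbers -/
abbrev Dn (Λ : Type u) [CommRing Λ] : Type u := TrivSqZeroExt Λ Λ

section basic

variable {R Λ : Type u} [CommRing R] [CommRing Λ] [Algebra R Λ]

/-- scaling of the `ε`-component -/
noncomputable def sc (c : Λ) : Dn Λ →ₐ[R] Dn Λ :=
  (TrivSqZeroExt.map (c • (LinearMap.id : Λ →ₗ[Λ] Λ))).restrictScalars R

@[simp] lemma fst_sc (c : Λ) (x : Dn Λ) : (sc (R := R) c x).fst = x.fst := by
  simp [sc]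

@[simp] lemma snd_sc (c : Λ) (x : Dn Λ) : (sc (R := R) c x).snd = c * x.snd := by
  simp [sc]

lemma sc_one (x : Dn Λ) : sc (R := R) (1 : Λ) x = x := by
  ext <;> simp

lemma sc_sc (c d : Λ) (x : Dn Λ) : sc (R := R) c (sc (R := R) d x) = sc (R := R) (c * d) x := by
  ext <;> simp [mul_assoc]

lemma eq_zero_of_fst_snd {x : Dn Λ} (h1 : x.fst = 0) (h2 : x.snd = 0) : x = 0 := by
  ext <;> simp [h1, h2]

variable {P : Type u} [CommRing P] [Algebra R P]

/-- `Θ` lies over `ψ` -/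
def IsOver (ψ : P →ₐ[R] Λ) (Θ : P →ₐ[R] Dn Λ) : Prop := ∀ a, (Θ a).fst = ψ a

lemma IsOver.sc {ψ : P →ₐ[R] Λ} {Θ : P →ₐ[R] Dn Λ} (h : IsOver ψ Θ) (c : Λ) :
    IsOver ψ ((sc (R := R) c).comp Θ) := fun a => by
  rw [AlgHom.comp_apply, fst_sc]; exact h a

/-- the algebra map attached to `ψ` and a `ψ`-derivation `E`. -/
noncomputable def mkHom (ψ : P →ₐ[R] Λ) (E : P →ₗ[R] Λ)
    (hE : ∀ a b, E (a * b) = ψ a * E b + ψ b * E a) : P →ₐ[R] Dn Λ :=
  have hE1 : E 1 = 0 := by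
    have := hE 1 1
    simp only [mul_one, map_one, one_mul] at this
    exact left_eq_add.mp this
  { toFun := fun a => inl (ψ a) + inr (E a)
    map_one' := by simp [hE1]
    map_mul' := fun a b => by
      ext
      · simp
      · simp [hE, mul_comm, add_comm]
    map_zero' := by simp
    map_add' := fun a b => by
      ext <;> simp
    commutes' := fun r => by
      ext
      · simp [TrivSqZeroExt.algebraMap_eq_inl']
      · simp only [TrivSqZeroExt.algebraMap_eq_inl', snd_add, snd_inl, snd_inr, zero_add]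
        rw [Algebra.algebraMap_eq_smul_one, map_smul, hE1, smul_zero] }

@[simp] lemma fst_mkHom (ψ : P →ₐ[R] Λ) (E : P →ₗ[R] Λ) (hE) (a : P) :
    (mkHom ψ E hE a).fst = ψ a := by
  simp [mkHom]

@[simp] lemma snd_mkHom (ψ : P →ₐ[R] Λ) (E : P →ₗ[R] Λ) (hE) (a : P) :
    (mkHom ψ E hE a).snd = E a := by
  simp [mkHom]

lemma isOver_mkHom (ψ : P →ₐ[R] Λ) (E : P →ₗ[R] Λ) (hE) : IsOver ψ (mkHom ψ E hE) :=
  fun a => fst_mkHom ψ E hE a

lemma snd_mul (Θ : P →ₐ[R] Dn Λ) (a b : P) :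
    (Θ (a * b)).snd = (Θ a).fst * (Θ b).snd + (Θ b).fst * (Θ a).snd := by
  rw [map_mul, TrivSqZeroExt.snd_mul]
  simp [mul_comm]

end basic

section loc

variable {R Λ P : Type u} [CommRing R] [CommRing Λ] [Algebra R Λ] [CommRing P] [Algebra R P]

/-- Extension of `ψ` and of `Θ` over `ψ` to `Localization.Away t` when `ψ t` is a unit. -/
theorem exists_away (ψ : P →ₐ[R] Λ) (t : P) (ht : IsUnit (ψ t)) :
    ∃ ψ' : Localization.Away t →ₐ[R] Λ, (∀ a, ψ' (algebraMap P _ a) = ψ a) ∧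
      ∀ Θ : P →ₐ[R] Dn Λ, IsOver ψ Θ → ∃ Θ' : Localization.Away t →ₐ[R] Dn Λ,
        IsOver ψ' Θ' ∧ ∀ a, Θ' (algebraMap P _ a) = Θ a := by
  have hu : ∀ y : Submonoid.powers t, IsUnit (ψ y) := by
    rintro ⟨_, n, rfl⟩
    rw [map_pow]; exact ht.pow n
  let ψ' : Localization.Away t →ₐ[R] Λ := IsLocalization.liftAlgHom (M := Submonoid.powers t) (f := ψ) hu
  have hψ' : ∀ a, ψ' (algebraMap P _ a) = ψ a := fun a => IsLocalization.lift_eq _ a
  refine ⟨ψ', hψ', fun Θ hΘ => ?_⟩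
  have hu' : ∀ y : Submonoid.powers t, IsUnit (Θ y) := by
    intro y
    rw [TrivSqZeroExt.isUnit_iff_isUnit_fst, hΘ]
    exact hu y
  let Θ' : Localization.Away t →ₐ[R] Dn Λ :=
    IsLocalization.liftAlgHom (M := Submonoid.powers t) (f := Θ) hu'
  have hΘ' : ∀ a, Θ' (algebraMap P _ a) = Θ a := fun a => IsLocalization.lift_eq _ a
  refine ⟨Θ', ?_, hΘ'⟩
  have : ((TrivSqZeroExt.fstHom R Λ Λ).comp Θ' : Localization.Away t →ₐ[R] Λ) = ψ' := by
    apply IsLocalization.algHom_ext (Submonoid.powers t)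
    ext a
    change (Θ' (algebraMap P _ a)).fst = ψ' (algebraMap P _ a)
    rw [hΘ', hψ']
    exact hΘ a
  intro a
  exact AlgHom.congr_fun this a

/-- Passage to the quotient by an element killed by `ψ`. -/
theorem exists_quot (ψ : P →ₐ[R] Λ) (f : P) (hf : ψ f = 0) :
    ∃ ψ' : (P ⧸ Ideal.span {f}) →ₐ[R] Λ, (∀ a, ψ' (Ideal.Quotient.mk _ a) = ψ a) ∧
      ∀ Θ : P →ₐ[R] Dn Λ, IsOver ψ Θ → Θ f = 0 → ∃ Θ' : (P ⧸ Ideal.span {f}) →ₐ[R] Dn Λ,
        IsOver ψ' Θ' ∧ ∀ a, Θ' (Ideal.Quotient.mk _ a) = Θ a := by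
  have hker : ∀ (T : Type u) [CommRing T] [Algebra R T] (χ : P →ₐ[R] T), χ f = 0 →
      ∀ a ∈ Ideal.span {f}, χ a = 0 := by
    intro T _ _ χ hχ a ha
    obtain ⟨c, rfl⟩ := Ideal.mem_span_singleton'.1 ha
    rw [map_mul, hχ, mul_zero]
  let ψ' : (P ⧸ Ideal.span {f}) →ₐ[R] Λ := Ideal.Quotient.liftₐ _ ψ (hker Λ ψ hf)
  refine ⟨ψ', fun a => rfl, fun Θ hΘ hΘf => ?_⟩
  let Θ' : (P ⧸ Ideal.span {f}) →ₐ[R] Dn Λ := Ideal.Quotient.liftₐ _ Θ (hker _ Θ hΘf)
  refine ⟨Θ', ?_, fun a => rfl⟩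
  intro a
  obtain ⟨a, rfl⟩ := Ideal.Quotient.mk_surjective a
  exact hΘ a

end loc

section blowup

variable {R Λ P : Type u} [CommRing R] [CommRing Λ] [IsDomain Λ] [Algebra R Λ] [CommRing P]
  [Algebra R P] [Algebra P Λ] [IsScalarTower R P Λ]

lemma inl_mem_nonZeroDivisors {c : Λ} (hc : c ≠ 0) :
    (inl c : Dn Λ) ∈ nonZeroDivisors (Dn Λ) := by
  rw [mem_nonZeroDivisors_iff_right]
  intro x hx
  have h1 := congrArg TrivSqZeroExt.fst hx
  have h2 := congrArg TrivSqZeroExt.snd hx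
  simp only [TrivSqZeroExt.fst_mul, fst_inl, fst_zero, TrivSqZeroExt.snd_mul, snd_inl,
    smul_zero, snd_zero, zero_add] at h1 h2
  have h1' : x.fst = 0 := by
    rcases mul_eq_zero.1 h1 with h | h
    · exact h
    · exact absurd h hc
  have h2' : x.snd = 0 := by
    have : c * x.snd = 0 := by simpa [mul_comm] using h2
    rcases mul_eq_zero.1 this with h | h
    · exact absurd h hc
    · exact h
  exact eq_zero_of_fst_snd h1' h2'

/-- Extension of the structure map and of dual-number homs to the affine blowup algebra;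
the `ε`-component gets scaled by `π`. -/
theorem exists_blowup (π : R) (hπ : algebraMap R Λ π ≠ 0) (p : Ideal P)
    (hp : ∀ x ∈ p, ∃ c : Λ, algebraMap P Λ x = algebraMap R Λ π * c) :
    ∃ φ' : BlowUp.affineAlgebra P p (algebraMap R P π) →ₐ[P] Λ,
      ∀ Θ : P →ₐ[R] Dn Λ, IsOver (IsScalarTower.toAlgHom R P Λ) Θ →
        ∃ Θ' : BlowUp.affineAlgebra P p (algebraMap R P π) →ₐ[R] Dn Λ,
          IsOver (φ'.restrictScalars R) Θ' ∧
            ∀ a, Θ' (algebraMap P _ a) = sc (R := R) (algebraMap R Λ π) (Θ a) := by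
  have hϖ : algebraMap P Λ (algebraMap R P π) = algebraMap R Λ π :=
    (IsScalarTower.algebraMap_apply R P Λ π).symm
  have hreg : algebraMap P Λ (algebraMap R P π) ∈ nonZeroDivisors Λ := by
    rw [hϖ]; exact mem_nonZeroDivisors_of_ne_zero hπ
  obtain ⟨φ'⟩ := NeronC.exists_algHom p (algebraMap R P π) (C := Λ) hreg
    (fun x hx => by rw [hϖ]; exact hp x hx)
  refine ⟨φ', fun Θ hΘ => ?_⟩
  let Θs : P →ₐ[R] Dn Λ := (sc (R := R) (algebraMap R Λ π)).comp Θ
  let algD : Algebra P (Dn Λ) := RingHom.toAlgebra (Θs : P →+* Dn Λ)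
  have halg : ∀ a : P, @algebraMap P (Dn Λ) _ _ algD a = sc (R := R) (algebraMap R Λ π) (Θ a) :=
    fun a => rfl
  have hϖD : @algebraMap P (Dn Λ) _ _ algD (algebraMap R P π) = inl (algebraMap R Λ π) := by
    rw [halg, AlgHom.commutes, AlgHom.commutes, TrivSqZeroExt.algebraMap_eq_inl']
  have hregD : @algebraMap P (Dn Λ) _ _ algD (algebraMap R P π) ∈ nonZeroDivisors (Dn Λ) := by
    rw [hϖD]
    exact inl_mem_nonZeroDivisors (Λ := Λ) hπ
  obtain ⟨ΘP⟩ := @NeronC.exists_algHom P _ p (algebraMap R P π) (Dn Λ) _ algD hregD (fun x hx => by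
    obtain ⟨c, hc⟩ := hp x hx
    have hfst : (Θ x).fst = algebraMap P Λ x := hΘ x
    refine ⟨(inl c + inr (Θ x).snd : Dn Λ), ?_⟩
    rw [hϖD, halg]
    refine TrivSqZeroExt.ext ?_ ?_
    · rw [fst_sc, hfst, hc, TrivSqZeroExt.fst_mul, fst_inl, fst_add, fst_inl, fst_inr, add_zero]
    · rw [snd_sc, TrivSqZeroExt.snd_mul, snd_inl, smul_zero, add_zero, fst_inl, snd_add, snd_inl,
        snd_inr, zero_add, smul_eq_mul])
  have hΘP : ∀ a : P, ΘP (algebraMap P _ a) = sc (R := R) (algebraMap R Λ π) (Θ a) := fun a =>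
    (ΘP.commutes a).trans (halg a)
  let Θ' : BlowUp.affineAlgebra P p (algebraMap R P π) →ₐ[R] Dn Λ :=
    { toRingHom := ΘP.toRingHom
      commutes' := fun r => by
        have h1 : algebraMap R (BlowUp.affineAlgebra P p (algebraMap R P π)) r
            = algebraMap P _ (algebraMap R P r) := IsScalarTower.algebraMap_apply R P _ r
        change ΘP (algebraMap R _ r) = _
        rw [h1, hΘP, AlgHom.commutes, AlgHom.commutes] }
  have hΘ' : ∀ a, Θ' (algebraMap P _ a) = sc (R := R) (algebraMap R Λ π) (Θ a) := fun a => hΘP a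
  refine ⟨Θ', ?_, hΘ'⟩
  -- `fst ∘ Θ' = φ'` by the uniqueness part of the universal property
  let χ : BlowUp.affineAlgebra P p (algebraMap R P π) →ₐ[P] Λ :=
    { toRingHom := (TrivSqZeroExt.fstHom R Λ Λ : Dn Λ →+* Λ).comp (Θ' : _ →+* Dn Λ)
      commutes' := fun a => by
        change (Θ' (algebraMap P _ a)).fst = _
        rw [hΘ', fst_sc]
        exact hΘ a }
  have hχ : χ = φ' := NeronC.algHom_ext_of_regular p (algebraMap R P π) hreg χ φ'
  intro a
  exact AlgHom.congr_fun hχ a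

end blowup

end Groth.Agent.H10.NeronF
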