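import Mathlib
import Groth.Prelude
import Groth.Agent.H10.NeronF

/-!
# Néron desingularization, part G: the base step (helper10)

If `P` is smooth over `R`, `f ∈ P` and some `P`-linear functional `χ` on `Ω[P/R]` has
`χ (d f)` a unit, then `P/(f)` is smooth over `R`.
-/

set_option autoImplicit false
set_option linter.style.haveILetI false
universe u

open TrivSqZeroExt KaehlerDifferential TensorProduct

namespace Groth.Agent.H10.NeronG

open NeronF

section dualBasis

variable (R P : Type u) [CommRing R] [CommRing P] [Algebra R P] [Algebra.Smooth R P]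

/-- a finite dual basis ("projective coordinates") of `Ω[P/R]`. -/
theorem exists_dualBasis :
    ∃ (n : ℕ) (χ : Fin n → (Ω[P⁄R] →ₗ[P] P)) (ω : Fin n → Ω[P⁄R]),
      ∀ x : Ω[P⁄R], x = ∑ k, χ k x • ω k := by
  haveI : Algebra.FormallySmooth R P := inferInstance
  haveI : Algebra.FinitePresentation R P := inferInstance
  obtain ⟨n, f, g, -, -, hfg⟩ := Module.Finite.exists_comp_eq_id_of_projective P Ω[P⁄R]
  refine ⟨n, fun k => (LinearMap.proj k).comp g, fun k => f (Pi.single k 1), fun x => ?_⟩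
  have h1 : f (g x) = x := by
    have := LinearMap.congr_fun hfg x
    simpa using this
  have h2 : g x = ∑ k, g x k • (Pi.single k 1 : Fin n → P) := by
    ext i
    simp [Finset.sum_apply, Pi.single_apply]
  conv_lhs => rw [← h1, h2]
  rw [map_sum]
  refine Finset.sum_congr rfl (fun k _ => ?_)
  rw [map_smul]; rfl

end dualBasis

section functional

variable {R Λ P : Type u} [CommRing R] [CommRing Λ] [Algebra R Λ] [CommRing P] [Algebra R P]

/-- the `ε`-part of a dual number hom over `ψ` factors through `Ω[P/R]`. -/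
theorem snd_eq_sum (ψ : P →ₐ[R] Λ) (Θ : P →ₐ[R] Dn Λ) (hΘ : IsOver ψ Θ) {n : ℕ}
    (χ : Fin n → (Ω[P⁄R] →ₗ[P] P)) (ω : Fin n → Ω[P⁄R])
    (hχ : ∀ x : Ω[P⁄R], x = ∑ k, χ k x • ω k) :
    ∃ c : Fin n → Λ, ∀ a : P, (Θ a).snd = ∑ k, ψ (χ k (D R P a)) * c k := by
  letI : Module P Λ := Module.compHom Λ (ψ : P →+* Λ)
  have hsmul : ∀ (a : P) (x : Λ), a • x = ψ a * x := fun a x => rfl
  haveI : IsScalarTower R P Λ := ⟨fun r a x => by
    rw [hsmul, hsmul, map_smul, smul_mul_assoc]⟩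
  let Dθ : Derivation R P Λ :=
    { toFun := fun a => (Θ a).snd
      map_add' := fun a b => by simp
      map_smul' := fun r a => by simp
      map_one_eq_zero' := by simp
      leibniz' := fun a b => by
        change (Θ (a * b)).snd = a • (Θ b).snd + b • (Θ a).snd
        rw [NeronF.snd_mul, hΘ, hΘ, hsmul, hsmul] }
  refine ⟨fun k => Dθ.liftKaehlerDifferential (ω k), fun a => ?_⟩
  have h1 : (Θ a).snd = Dθ.liftKaehlerDifferential (D R P a) :=
    (Derivation.liftKaehlerDifferential_comp_D Dθ a).symm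
  rw [h1]
  conv_lhs => rw [hχ (D R P a)]
  rw [map_sum]
  refine Finset.sum_congr rfl (fun k _ => ?_)
  rw [map_smul, hsmul]

end functional

section smoothQuot

variable {R P : Type u} [CommRing R] [CommRing P] [Algebra R P]

/-- **Jacobian criterion, one equation**: if `P` is formally smooth over `R` and a functional on
`Ω[P/R]` takes a unit value on `d f`, then `P/(f)` is formally smooth over `R`. -/
theorem formallySmooth_quot [Algebra.FormallySmooth R P] (f : P) (χ : Ω[P⁄R] →ₗ[P] P)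
    (hu : IsUnit (χ (D R P f))) : Algebra.FormallySmooth R (P ⧸ Ideal.span {f}) := by
  obtain ⟨u, hu⟩ := hu
  let A := P ⧸ Ideal.span {f}
  have hsurj : Function.Surjective (algebraMap P A) := Ideal.Quotient.mk_surjective
  rw [Algebra.FormallySmooth.iff_split_injection hsurj]
  let I : Ideal P := RingHom.ker (algebraMap P A)
  have hI : I = Ideal.span {f} := Ideal.mk_ker
  have hfI : f ∈ I := by rw [hI]; exact Ideal.subset_span rfl
  let fI : I := ⟨f, hfI⟩
  -- the functional `ω ↦ (u⁻¹ χ ω) • [f]`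
  let l₀ : Ω[P⁄R] →ₗ[P] I.Cotangent :=
    (LinearMap.toSpanSingleton P I.Cotangent (I.toCotangent fI)).comp
      ((↑u⁻¹ : P) • χ)
  have hl₀ : ∀ ω, l₀ ω = ((↑u⁻¹ : P) * χ ω) • I.toCotangent fI := fun ω => by
    simp [l₀, LinearMap.toSpanSingleton_apply]
  have hff : f • I.toCotangent fI = 0 := by
    rw [← map_smul, Ideal.toCotangent_eq_zero]
    change f * f ∈ I ^ 2
    rw [pow_two]
    exact Ideal.mul_mem_mul hfI hfI
  have hkill : Ideal.span {f} ≤ LinearMap.ker
      (LinearMap.toSpanSingleton P (Ω[P⁄R] →ₗ[P] I.Cotangent) l₀) := by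
    rw [Ideal.span_le]
    rintro _ rfl
    rw [SetLike.mem_coe, LinearMap.mem_ker, LinearMap.toSpanSingleton_apply]
    refine LinearMap.ext fun ω => ?_
    rw [LinearMap.smul_apply, hl₀, LinearMap.zero_apply, smul_comm, hff, smul_zero]
  let B₂ : A →ₗ[P] (Ω[P⁄R] →ₗ[P] I.Cotangent) :=
    Submodule.liftQ (Ideal.span {f}) (LinearMap.toSpanSingleton P _ l₀) hkill
  refine ⟨TensorProduct.lift B₂, ?_⟩
  ext x
  obtain ⟨⟨x, hx⟩, rfl⟩ := Ideal.toCotangent_surjective I x
  rw [LinearMap.comp_apply, kerCotangentToTensor_toCotangent, TensorProduct.lift.tmul,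
    LinearMap.id_apply]
  have hB1 : B₂ 1 = l₀ := by
    change Submodule.liftQ _ _ _ (Submodule.Quotient.mk 1) = _
    rw [Submodule.liftQ_apply, LinearMap.toSpanSingleton_apply, one_smul]
  rw [hB1, hl₀]
  rw [hI] at hx
  obtain ⟨c, rfl⟩ := Ideal.mem_span_singleton'.1 hx
  rw [Derivation.leibniz, map_add, map_smul, map_smul, ← hu, smul_eq_mul, smul_eq_mul, mul_add,
    add_smul]
  have h1 : ((↑u⁻¹ : P) * (c * (u : P))) • I.toCotangent fI = I.toCotangent ⟨c * f, by
      rw [hI]; exact Ideal.mem_span_singleton'.2 ⟨c, rfl⟩⟩ := by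
    have : (↑u⁻¹ : P) * (c * (u : P)) = c := by
      rw [mul_comm c, ← mul_assoc, Units.inv_mul, one_mul]
    rw [this, ← map_smul]
    rfl
  have h2 : ((↑u⁻¹ : P) * (f * χ (D R P c))) • I.toCotangent fI = 0 := by
    rw [show (↑u⁻¹ : P) * (f * χ (D R P c)) = ((↑u⁻¹ : P) * χ (D R P c)) * f by ring, mul_smul,
      hff, smul_zero]
  rw [h1, h2, add_zero]

end smoothQuot

section base

variable {R Λ P : Type u} [CommRing R] [CommRing Λ] [Algebra R Λ] [CommRing P] [Algebra R P]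
  [Algebra.Smooth R P]

/-- **Base step**: if a `P`-valued derivation has `ψ (δ f)` a unit, then `P → Λ` factors through a
smooth algebra killing `f`, and dual-number homs killing `f` extend. -/
theorem base_step (ψ : P →ₐ[R] Λ) (f : P) (hf : ψ f = 0) (χ₀ : Ω[P⁄R] →ₗ[P] P)
    (hu : IsUnit (ψ (χ₀ (D R P f)))) :
    ∃ (P₁ : Type u) (_ : CommRing P₁) (_ : Algebra R P₁), Algebra.Smooth R P₁ ∧
      ∃ (α : P →ₐ[R] P₁) (ψ₁ : P₁ →ₐ[R] Λ), ψ₁.comp α = ψ ∧ α f = 0 ∧
        ∀ Θ : P →ₐ[R] Dn Λ, IsOver ψ Θ → Θ f = 0 →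
          ∃ Θ₁ : P₁ →ₐ[R] Dn Λ, IsOver ψ₁ Θ₁ ∧ ∀ a, Θ₁ (α a) = Θ a := by
  set g : P := χ₀ (D R P f) with hg
  let Pg := Localization.Away g
  haveI : Algebra.Smooth P Pg := Algebra.Smooth.of_isLocalization_Away g
  haveI : Algebra.Smooth R Pg := Algebra.Smooth.comp R P Pg
  obtain ⟨ψg, hψg, hΘg⟩ := NeronF.exists_away ψ g hu
  let fg : Pg := algebraMap P Pg f
  have hfg : ψg fg = 0 := by rw [hψg, hf]
  haveI : Algebra.FormallyEtale P Pg := Algebra.FormallyEtale.of_isLocalization (Submonoid.powers g)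
  let χg : Ω[Pg⁄R] →ₗ[Pg] Pg :=
    (LinearMap.liftBaseChange Pg ((Algebra.linearMap P Pg).comp χ₀)).comp
      (tensorKaehlerEquivOfFormallyEtale R P Pg).symm.toLinearMap
  have hχg : χg (D R Pg fg) = algebraMap P Pg g := by
    change (LinearMap.liftBaseChange Pg ((Algebra.linearMap P Pg).comp χ₀))
      ((tensorKaehlerEquivOfFormallyEtale R P Pg).symm (D R Pg (algebraMap P Pg f))) = _
    rw [tensorKaehlerEquivOfFormallyEtale_symm_D_algebraMap, LinearMap.liftBaseChange_tmul,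
      one_smul]
    rfl
  have hunit : IsUnit (χg (D R Pg fg)) := by
    rw [hχg]
    exact IsLocalization.Away.algebraMap_isUnit g
  haveI : Algebra.FormallySmooth R (Pg ⧸ Ideal.span {fg}) := formallySmooth_quot fg χg hunit
  haveI : Algebra.FinitePresentation R (Pg ⧸ Ideal.span {fg}) :=
    Algebra.FinitePresentation.quotient ⟨{fg}, by simp⟩
  haveI : Algebra.Smooth R (Pg ⧸ Ideal.span {fg}) := ⟨inferInstance, inferInstance⟩
  obtain ⟨ψq, hψq, hΘq⟩ := NeronF.exists_quot ψg fg hfg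
  let α : P →ₐ[R] (Pg ⧸ Ideal.span {fg}) :=
    (Ideal.Quotient.mkₐ R (Ideal.span {fg})).comp (IsScalarTower.toAlgHom R P Pg)
  have hα : ∀ a, α a = Ideal.Quotient.mk _ (algebraMap P Pg a) := fun a => rfl
  refine ⟨Pg ⧸ Ideal.span {fg}, inferInstance, inferInstance, inferInstance, α, ψq, ?_, ?_, ?_⟩
  · ext a
    rw [AlgHom.comp_apply, hα, hψq, hψg]
  · rw [hα]
    exact Ideal.Quotient.eq_zero_iff_mem.2 (Ideal.subset_span rfl)
  · intro Θ hΘ hΘf
    obtain ⟨Θg, hΘgo, hΘga⟩ := hΘg Θ hΘ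
    obtain ⟨Θq, hΘqo, hΘqa⟩ := hΘq Θg hΘgo (by rw [hΘga, hΘf])
    exact ⟨Θq, hΘqo, fun a => by rw [hα, hΘqa, hΘga]⟩

end base

end Groth.Agent.H10.NeronG
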