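import Mathlib
import Groth.Prelude
import Groth.Agent.H44.MacLaneAll
import Groth.Agent.H10.NeronA
import Groth.Agent.H10.NeronC
import Groth.Agent.H10.NeronE
import Groth.Agent.H10.NeronF
import Groth.Agent.H10.NeronG

/-!
# Néron desingularization, part H: the blowup step for one equation (helper10)
-/

set_option autoImplicit false
set_option linter.style.haveILetI false
universe u

open TrivSqZeroExt KaehlerDifferential TensorProduct IsLocalRing

namespace Groth.Agent.H10.NeronH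

open NeronF

section blowupAlg

variable {A : Type u} [CommRing A] (I : Ideal A) (ϖ : A)

/-- elements of `I²` become divisible by `ϖ²` in the blowup algebra. -/
theorem exists_sq (y : A) (hy : y ∈ I ^ 2) :
    ∃ y'' : BlowUp.affineAlgebra A I ϖ, algebraMap A _ y = algebraMap A _ (ϖ ^ 2) * y'' := by
  rw [pow_two] at hy
  refine Submodule.mul_induction_on hy ?_ ?_
  · intro a ha b hb
    refine ⟨NeronC.gen I ϖ ha * NeronC.gen I ϖ hb, ?_⟩
    rw [map_mul, ← NeronC.smul_gen I ϖ ha, ← NeronC.smul_gen I ϖ hb, Algebra.smul_def,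
      Algebra.smul_def, map_pow]
    ring
  · rintro a b ⟨a', ha'⟩ ⟨b', hb'⟩
    exact ⟨a' + b', by rw [map_add, ha', hb', mul_add]⟩

/-- the blowup algebra of a finitely generated ideal is of finite type. -/
theorem finiteType (hI : I.FG) : Algebra.FiniteType A (BlowUp.affineAlgebra A I ϖ) := by
  classical
  obtain ⟨S, hS⟩ := hI
  rw [← Subalgebra.fg_iff_finiteType]
  let e : Localization.Away ϖ :=
    IsLocalization.mk' (Localization.Away ϖ) (1 : A) (⟨ϖ, Submonoid.mem_powers ϖ⟩ : Submonoid.powers ϖ)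
  have hmk : ∀ x : A, IsLocalization.mk' (Localization.Away ϖ) x
      (⟨ϖ, Submonoid.mem_powers ϖ⟩ : Submonoid.powers ϖ) = x • e := fun x => by
    rw [IsLocalization.smul_mk', mul_one]
  refine ⟨S.image (fun x => x • e), ?_⟩
  apply le_antisymm
  · refine Algebra.adjoin_le ?_
    intro q hq
    rw [Finset.coe_image] at hq
    obtain ⟨x, hx, rfl⟩ := hq
    refine Algebra.subset_adjoin ⟨x, ?_, (hmk x).symm⟩
    rw [← hS]; exact Ideal.subset_span hx
  · refine Algebra.adjoin_le ?_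
    rintro _ ⟨x, hx, rfl⟩
    rw [hmk, SetLike.mem_coe]
    rw [← hS] at hx
    refine Submodule.span_induction (p := fun x _ => x • e ∈ Algebra.adjoin A
      ((S.image (fun x => x • e) : Finset _) : Set (Localization.Away ϖ))) ?_ ?_ ?_ ?_ hx
    · intro s hs
      exact Algebra.subset_adjoin (by rw [Finset.coe_image]; exact ⟨s, hs, rfl⟩)
    · rw [zero_smul]; exact Subalgebra.zero_mem _
    · intro x y _ _ hx hy
      rw [add_smul]; exact Subalgebra.add_mem _ hx hy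
    · intro a x _ hx
      rw [smul_eq_mul, mul_smul]
      exact Subalgebra.smul_mem _ hx a

end blowupAlg

section memSq

local notation "𝔭[" A "," Λ "]" => Ideal.comap (algebraMap A Λ) (IsLocalRing.maximalIdeal Λ)

/-- **Lemma H1**: if `f` dies in `Λ` and `d f ∈ 𝔭 Ω`, then `s f ∈ 𝔭²` for some `s ∉ 𝔭`. -/
theorem exists_mul_mem_sq {R Λ A : Type u} [CommRing R] [IsDomain R]
    [IsDiscreteValuationRing R] [CommRing Λ] [IsDomain Λ] [IsDiscreteValuationRing Λ] [Algebra R Λ]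
    [NoZeroSMulDivisors R Λ] [IsLocalHom (algebraMap R Λ)]
    (hsep : Algebra.IsGeometricallyReduced (IsLocalRing.ResidueField R) (IsLocalRing.ResidueField Λ))
    (he : (maximalIdeal R).map (algebraMap R Λ) = maximalIdeal Λ)
    [CommRing A] [Algebra R A] [Algebra.FiniteType R A] [Algebra A Λ] [IsScalarTower R A Λ]
    (π : R) (hπ : IsLocalRing.maximalIdeal R = Ideal.span {π})
    (hsm : Algebra.IsSmoothAt R ((IsLocalRing.maximalIdeal Λ).comap (algebraMap A Λ)))
    (f : A) (hf : algebraMap A Λ f = 0)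
    (hd : D R A f ∈ 𝔭[A,Λ] • (⊤ : Submodule A Ω[A⁄R])) :
    ∃ s : A, s ∉ 𝔭[A,Λ] ∧ s * f ∈ 𝔭[A,Λ] ^ 2 := by
  classical
  have hπ0 : π ≠ 0 := by
    rintro rfl
    apply IsDiscreteValuationRing.not_a_field R
    rw [hπ]
    exact Ideal.span_singleton_eq_bot.mpr rfl
  have hπm : π ∈ maximalIdeal R := by rw [hπ]; exact Ideal.subset_span rfl
  have hπΛ0 : algebraMap R Λ π ≠ 0 := fun h =>
    hπ0 ((FaithfulSMul.algebraMap_injective R Λ) (by rw [h, map_zero]))
  have hmΛ : maximalIdeal Λ = Ideal.span {algebraMap R Λ π} := by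
    rw [← he, hπ, Ideal.map_span, Set.image_singleton]
  have hϖ : algebraMap R A π ∈ 𝔭[A,Λ] := by
    rw [Ideal.mem_comap, ← IsScalarTower.algebraMap_apply R A Λ]
    exact ((IsLocalRing.mem_maximalIdeal _).mpr
      (fun h => hπm (isUnit_of_map_unit (algebraMap R Λ) π h)))
  have : IsNoetherianRing A := Algebra.FiniteType.isNoetherianRing R A
  have : Algebra.FormallySmooth R (Localization.AtPrime 𝔭[A,Λ]) := hsm
  have hϖB : algebraMap R (Localization.AtPrime 𝔭[A,Λ]) π ∈ maximalIdeal (Localization.AtPrime 𝔭[A,Λ]) := by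
    rw [IsScalarTower.algebraMap_apply R A (Localization.AtPrime 𝔭[A,Λ])]
    have : algebraMap A (Localization.AtPrime 𝔭[A,Λ]) (algebraMap R A π) ∈
        Ideal.map (algebraMap A (Localization.AtPrime 𝔭[A,Λ])) 𝔭[A,Λ] := Ideal.mem_map_of_mem _ hϖ
    rwa [Localization.AtPrime.map_eq_maximalIdeal] at this
  have : IsLocalHom (algebraMap R (Localization.AtPrime 𝔭[A,Λ])) := by
    refine ⟨fun r hr => ?_⟩
    by_contra hnu
    have hrm : r ∈ maximalIdeal R := (IsLocalRing.mem_maximalIdeal _).mpr hnu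
    rw [hπ, Ideal.mem_span_singleton'] at hrm
    obtain ⟨s, rfl⟩ := hrm
    rw [map_mul] at hr
    exact (IsLocalRing.mem_maximalIdeal _).mp (Ideal.mul_mem_left _ _ hϖB) hr
  have hunits : ∀ y : 𝔭[A,Λ].primeCompl, IsUnit (algebraMap A Λ y) := by
    intro y
    by_contra hnu
    exact y.2 ((IsLocalRing.mem_maximalIdeal _).mpr hnu)
  letI algBΛ : Algebra (Localization.AtPrime 𝔭[A,Λ]) Λ :=
    (IsLocalization.lift (M := 𝔭[A,Λ].primeCompl) (g := algebraMap A Λ) hunits).toAlgebra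
  have hBΛ : ∀ x : A, algebraMap (Localization.AtPrime 𝔭[A,Λ]) Λ (algebraMap A _ x) = algebraMap A Λ x :=
    fun x => IsLocalization.lift_eq _ x
  haveI : IsScalarTower A (Localization.AtPrime 𝔭[A,Λ]) Λ :=
    IsScalarTower.of_algebraMap_eq (fun x => (hBΛ x).symm)
  haveI : IsScalarTower R (Localization.AtPrime 𝔭[A,Λ]) Λ :=
    IsScalarTower.of_algebraMap_eq (fun r => by
      rw [IsScalarTower.algebraMap_apply R A Λ, IsScalarTower.algebraMap_apply R A
        (Localization.AtPrime 𝔭[A,Λ]), hBΛ])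
  haveI : IsLocalHom (algebraMap (Localization.AtPrime 𝔭[A,Λ]) Λ) := by
    refine ⟨fun b hb => ?_⟩
    obtain ⟨x, s, rfl⟩ := IsLocalization.exists_mk'_eq 𝔭[A,Λ].primeCompl b
    have h1 : algebraMap (Localization.AtPrime 𝔭[A,Λ]) Λ (IsLocalization.mk' _ x s) *
        algebraMap A Λ s = algebraMap A Λ x := by
      rw [← hBΛ s, ← map_mul, IsLocalization.mk'_spec, hBΛ]
    have hxu : IsUnit (algebraMap A Λ x) := by
      rw [← h1]; exact hb.mul (hunits s)
    have hx : x ∈ 𝔭[A,Λ].primeCompl := fun hx =>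
      (IsLocalRing.mem_maximalIdeal _).mp hx hxu
    exact (IsLocalization.AtPrime.isUnit_mk'_iff (Localization.AtPrime 𝔭[A,Λ]) 𝔭[A,Λ] x s).mpr hx
  have : Algebra.IsGeometricallyReduced (ResidueField R) (ResidueField (Localization.AtPrime 𝔭[A,Λ])) :=
    Algebra.IsGeometricallyReduced.of_injective
      (IsScalarTower.toAlgHom (ResidueField R) (ResidueField (Localization.AtPrime 𝔭[A,Λ]))
        (ResidueField Λ)) (RingHom.injective _)
  have : Algebra.FormallySmooth (ResidueField R) (ResidueField (Localization.AtPrime 𝔭[A,Λ])) :=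
    Groth.Agent.H44.MacLane.formallySmooth_iff_isGeometricallyReduced.mpr this
  -- the element `x = f/1`
  have hfp : f ∈ 𝔭[A,Λ] := by
    rw [Ideal.mem_comap, hf]; exact zero_mem _
  have hxm : algebraMap A (Localization.AtPrime 𝔭[A,Λ]) f ∈ maximalIdeal (Localization.AtPrime 𝔭[A,Λ]) := by
    rw [← Localization.AtPrime.map_eq_maximalIdeal]
    exact Ideal.mem_map_of_mem _ hfp
  have hdB : D R (Localization.AtPrime 𝔭[A,Λ]) (algebraMap A (Localization.AtPrime 𝔭[A,Λ]) f) ∈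
      (maximalIdeal (Localization.AtPrime 𝔭[A,Λ])) •
        (⊤ : Submodule (Localization.AtPrime 𝔭[A,Λ]) Ω[(Localization.AtPrime 𝔭[A,Λ])⁄R]) := by
    rw [← KaehlerDifferential.map_D R R A (Localization.AtPrime 𝔭[A,Λ])]
    refine Submodule.smul_induction_on hd ?_ ?_
    · intro r hr n _
      rw [map_smul, algebra_compatible_smul (Localization.AtPrime 𝔭[A,Λ]) r]
      refine Submodule.smul_mem_smul ?_ trivial
      rw [← Localization.AtPrime.map_eq_maximalIdeal]
      exact Ideal.mem_map_of_mem _ hr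
    · intro y z hy hz
      rw [map_add]; exact Submodule.add_mem _ hy hz
  have hJ := NeronA.mem_J_of_D_mem (R := R) _ hxm hdB
  -- rewrite `J` as the extension of `(ϖ) + 𝔭²`
  have hJeq : NeronA.J R (Localization.AtPrime 𝔭[A,Λ]) =
      Ideal.map (algebraMap A (Localization.AtPrime 𝔭[A,Λ]))
        (Ideal.span {algebraMap R A π} ⊔ 𝔭[A,Λ] ^ 2) := by
    rw [NeronA.J, Ideal.map_sup, Ideal.map_pow, Localization.AtPrime.map_eq_maximalIdeal,
      Ideal.map_span, Set.image_singleton, hπ, Ideal.map_span, Set.image_singleton,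
      ← IsScalarTower.algebraMap_apply]
  rw [hJeq, IsLocalization.mem_map_algebraMap_iff 𝔭[A,Λ].primeCompl] at hJ
  obtain ⟨⟨⟨a, ha⟩, t⟩, hat⟩ := hJ
  simp only at hat
  rw [← map_mul, IsLocalization.eq_iff_exists 𝔭[A,Λ].primeCompl] at hat
  obtain ⟨c, hc⟩ := hat
  have hs : (c : A) * t ∉ 𝔭[A,Λ] := fun h => by
    rcases Ideal.IsPrime.mem_or_mem inferInstance h with h | h
    · exact c.2 h
    · exact t.2 h
  refine ⟨(c : A) * t, hs, ?_⟩
  have hsf : (c : A) * t * f = c * a := by rw [← hc]; ring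
  rw [hsf]
  obtain ⟨y, hy, z, hz, hyz⟩ := Submodule.mem_sup.1 ha
  obtain ⟨h, rfl⟩ := Ideal.mem_span_singleton'.1 hy
  -- apply the map to `Λ`
  have hzΛ : algebraMap A Λ z ∈ maximalIdeal Λ ^ 2 := Ideal.le_comap_pow _ 2 hz
  rw [hmΛ, Ideal.span_singleton_pow, Ideal.mem_span_singleton'] at hzΛ
  obtain ⟨w, hw⟩ := hzΛ
  have h0 : algebraMap A Λ ((c : A) * a) = 0 := by
    rw [← hsf, map_mul, hf, mul_zero]
  have hcu : algebraMap A Λ c ≠ 0 := (hunits c).ne_zero
  have ha0 : algebraMap A Λ a = 0 := by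
    rw [map_mul] at h0
    exact (mul_eq_zero.1 h0).resolve_left hcu
  have hh : h ∈ 𝔭[A,Λ] := by
    rw [Ideal.mem_comap, hmΛ, Ideal.mem_span_singleton']
    refine ⟨-w, ?_⟩
    rw [← hyz, map_add, map_mul, ← IsScalarTower.algebraMap_apply R A Λ, ← hw] at ha0
    have : algebraMap R Λ π * (algebraMap A Λ h + w * algebraMap R Λ π) = 0 := by
      rw [← ha0]; ring
    have := (mul_eq_zero.1 this).resolve_left hπΛ0
    linear_combination (-1 : Λ) * this
  refine Ideal.mul_mem_left _ _ ?_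
  rw [← hyz]
  refine Ideal.add_mem _ ?_ hz
  rw [pow_two]
  exact Ideal.mul_mem_mul hh hϖ

/-- localize at a smooth point (and at a further unit) -/
theorem exists_smooth_loc {R Λ P' : Type u} [CommRing R] [CommRing Λ] [IsLocalRing Λ] [Algebra R Λ]
    [CommRing P'] [Algebra R P'] [Algebra.FinitePresentation R P'] (ψ' : P' →ₐ[R] Λ)
    (hsm : Algebra.IsSmoothAt R ((maximalIdeal Λ).comap ψ'.toRingHom)) (s' : P')
    (hs' : IsUnit (ψ' s')) :
    ∃ (P₂ : Type u) (_ : CommRing P₂) (_ : Algebra R P₂), Algebra.Smooth R P₂ ∧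
      ∃ (γ : P' →ₐ[R] P₂) (ψ₂ : P₂ →ₐ[R] Λ), (∀ a, ψ₂ (γ a) = ψ' a) ∧ IsUnit (γ s') ∧
        ∀ Θ' : P' →ₐ[R] Dn Λ, IsOver ψ' Θ' →
          ∃ Θ₂ : P₂ →ₐ[R] Dn Λ, IsOver ψ₂ Θ₂ ∧ ∀ a, Θ₂ (γ a) = Θ' a := by
  haveI := hsm
  obtain ⟨g', hg', hsmg'⟩ :=
    Algebra.IsSmoothAt.exists_notMem_smooth R ((maximalIdeal Λ).comap ψ'.toRingHom)
  have hg'u : IsUnit (ψ' g') := by
    by_contra h
    exact hg' ((IsLocalRing.mem_maximalIdeal _).mpr h)
  obtain ⟨ψ'', hψ'', hΘ''⟩ := NeronF.exists_away ψ' g' hg'u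
  have hs'u : IsUnit (ψ'' (algebraMap P' (Localization.Away g') s')) := by
    rw [hψ'']; exact hs'
  obtain ⟨ψ₂, hψ₂, hΘ₂⟩ := NeronF.exists_away ψ'' _ hs'u
  haveI : Algebra.Smooth R (Localization.Away g') := hsmg'
  haveI : Algebra.Smooth (Localization.Away g')
      (Localization.Away (algebraMap P' (Localization.Away g') s')) :=
    Algebra.Smooth.of_isLocalization_Away (algebraMap P' (Localization.Away g') s')
  haveI : Algebra.Smooth R (Localization.Away (algebraMap P' (Localization.Away g') s')) :=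
    Algebra.Smooth.comp R (Localization.Away g') _
  let γ : P' →ₐ[R] Localization.Away (algebraMap P' (Localization.Away g') s') :=
    (IsScalarTower.toAlgHom R (Localization.Away g') _).comp
      (IsScalarTower.toAlgHom R P' (Localization.Away g'))
  have hγ : ∀ a, γ a = algebraMap (Localization.Away g')
      (Localization.Away (algebraMap P' (Localization.Away g') s'))
      (algebraMap P' (Localization.Away g') a) := fun a => rfl
  refine ⟨_, inferInstance, inferInstance, inferInstance, γ, ψ₂, ?_, ?_, ?_⟩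
  · intro a
    rw [hγ, hψ₂, hψ'']
  · rw [hγ]
    exact IsLocalization.Away.algebraMap_isUnit _
  · intro Θ' hΘ'o
    obtain ⟨Θ'', hΘ''o, hΘ''a⟩ := hΘ'' Θ' hΘ'o
    obtain ⟨Θ₂, hΘ₂o, hΘ₂a⟩ := hΘ₂ Θ'' hΘ''o
    exact ⟨Θ₂, hΘ₂o, fun a => by rw [hγ, hΘ₂a, hΘ''a]⟩

/-- **Blowup step**: if `d f ∈ 𝔭 Ω` then after the Néron blowup (and localizing) `t f = π² f₂`. -/
theorem blowup_step {R Λ P : Type u} [CommRing R] [IsDomain R]
    [IsDiscreteValuationRing R] [CommRing Λ] [IsDomain Λ] [IsDiscreteValuationRing Λ] [Algebra R Λ]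
    [NoZeroSMulDivisors R Λ] [IsLocalHom (algebraMap R Λ)]
    (hsep : Algebra.IsGeometricallyReduced (IsLocalRing.ResidueField R) (IsLocalRing.ResidueField Λ))
    (he : (maximalIdeal R).map (algebraMap R Λ) = maximalIdeal Λ)
    [CommRing P] [Algebra R P] [Algebra.Smooth R P] [Algebra P Λ] [IsScalarTower R P Λ]
    (π : R) (hπ : IsLocalRing.maximalIdeal R = Ideal.span {π})
    (f : P) (hf : algebraMap P Λ f = 0)
    (hd : D R P f ∈ 𝔭[P,Λ] • (⊤ : Submodule P Ω[P⁄R])) :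
    ∃ (P₂ : Type u) (_ : CommRing P₂) (_ : Algebra R P₂), Algebra.Smooth R P₂ ∧
      ∃ (β : P →ₐ[R] P₂) (ψ₂ : P₂ →ₐ[R] Λ), (∀ a, ψ₂ (β a) = algebraMap P Λ a) ∧
        ∃ (t : P) (f₂ : P₂), IsUnit (β t) ∧
          β t * β f = algebraMap R P₂ (π ^ 2) * f₂ ∧
          ∀ Θ : P →ₐ[R] Dn Λ, IsOver (IsScalarTower.toAlgHom R P Λ) Θ →
            ∃ Θ₂ : P₂ →ₐ[R] Dn Λ, IsOver ψ₂ Θ₂ ∧
              ∀ a, Θ₂ (β a) = sc (R := R) (algebraMap R Λ π) (Θ a) := by
  classical
  haveI : Algebra.FinitePresentation R P := inferInstance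
  haveI : Algebra.FiniteType R P := inferInstance
  haveI : IsNoetherianRing P := Algebra.FiniteType.isNoetherianRing R P
  have hπ0 : π ≠ 0 := by
    rintro rfl
    apply IsDiscreteValuationRing.not_a_field R
    rw [hπ]
    exact Ideal.span_singleton_eq_bot.mpr rfl
  have hπΛ0 : algebraMap R Λ π ≠ 0 := fun h =>
    hπ0 ((FaithfulSMul.algebraMap_injective R Λ) (by rw [h, map_zero]))
  have hmΛ : maximalIdeal Λ = Ideal.span {algebraMap R Λ π} := by
    rw [← he, hπ, Ideal.map_span, Set.image_singleton]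
  have hsm : Algebra.IsSmoothAt R 𝔭[P,Λ] := by
    show Algebra.FormallySmooth R (Localization.AtPrime 𝔭[P,Λ])
    haveI : Algebra.FormallySmooth P (Localization.AtPrime 𝔭[P,Λ]) :=
      Algebra.FormallySmooth.of_isLocalization 𝔭[P,Λ].primeCompl
    exact Algebra.FormallySmooth.comp R P _
  obtain ⟨s, hs, hsf⟩ := exists_mul_mem_sq hsep he π hπ hsm f hf hd
  have hp : ∀ x ∈ 𝔭[P,Λ], ∃ c : Λ, algebraMap P Λ x = algebraMap R Λ π * c := by
    intro x hx
    rw [Ideal.mem_comap, hmΛ, Ideal.mem_span_singleton'] at hx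
    obtain ⟨c, hc⟩ := hx
    exact ⟨c, by rw [← hc, mul_comm]⟩
  obtain ⟨φ', hφ'⟩ := NeronF.exists_blowup π hπΛ0 𝔭[P,Λ] hp
  have hsm' : Algebra.IsSmoothAt R ((maximalIdeal Λ).comap φ'.toRingHom) :=
    NeronE.main hsep π hπ hsm φ'
  haveI : Algebra.FiniteType P (BlowUp.affineAlgebra P 𝔭[P,Λ] (algebraMap R P π)) :=
    finiteType _ _ (IsNoetherian.noetherian _)
  haveI : Algebra.FiniteType R (BlowUp.affineAlgebra P 𝔭[P,Λ] (algebraMap R P π)) :=
    Algebra.FiniteType.trans (S := P) inferInstance inferInstance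
  haveI : Algebra.FinitePresentation R (BlowUp.affineAlgebra P 𝔭[P,Λ] (algebraMap R P π)) :=
    Algebra.FinitePresentation.of_finiteType.mp inferInstance
  have hs'u : IsUnit ((φ'.restrictScalars R)
      (algebraMap P (BlowUp.affineAlgebra P 𝔭[P,Λ] (algebraMap R P π)) s)) := by
    show IsUnit (φ' (algebraMap P (BlowUp.affineAlgebra P 𝔭[P,Λ] (algebraMap R P π)) s))
    rw [φ'.commutes]
    by_contra h
    exact hs ((IsLocalRing.mem_maximalIdeal _).mpr h)
  obtain ⟨P₂, _, _, hP₂, γ, ψ₂, hψ₂, hγu, hΘγ⟩ :=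
    exists_smooth_loc (φ'.restrictScalars R) hsm' _ hs'u
  let β : P →ₐ[R] P₂ :=
    γ.comp (IsScalarTower.toAlgHom R P (BlowUp.affineAlgebra P 𝔭[P,Λ] (algebraMap R P π)))
  have hβ : ∀ a, β a = γ (algebraMap P (BlowUp.affineAlgebra P 𝔭[P,Λ] (algebraMap R P π)) a) :=
    fun a => rfl
  obtain ⟨f'', hf''⟩ := exists_sq 𝔭[P,Λ] (algebraMap R P π) (s * f) hsf
  have hϖ2 : β (algebraMap R P π ^ 2) = algebraMap R P₂ (π ^ 2) := by
    rw [← map_pow]; exact β.commutes _
  have heq : β s * β f = algebraMap R P₂ (π ^ 2) * γ f'' := by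
    rw [← map_mul, ← hϖ2, hβ (s * f), hf'', map_mul, ← hβ]
  refine ⟨P₂, inferInstance, inferInstance, hP₂, β, ψ₂, ?_, s, γ f'', hγu, heq, ?_⟩
  · intro a
    rw [hβ, hψ₂]
    exact φ'.commutes a
  · intro Θ hΘ
    obtain ⟨Θ', hΘ'o, hΘ'a⟩ := hφ' Θ hΘ
    obtain ⟨Θ₂, hΘ₂o, hΘ₂a⟩ := hΘγ Θ' hΘ'o
    exact ⟨Θ₂, hΘ₂o, fun a => by rw [hβ, hΘ₂a, hΘ'a]⟩

end memSq

end Groth.Agent.H10.NeronH
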