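import Mathlib
import Groth.Prelude
import Groth.Agent.H10.NeronH

/-!
# Néron desingularization, part I: killing one equation (helper10)

By induction on the order of vanishing of a "transversal" derivation on `f`, one kills `f` in a
smooth `R`-algebra mapping to `Λ`, keeping control over all dual-number homs vanishing on `f`.
-/

set_option autoImplicit false
set_option linter.style.haveILetI false
universe u

open TrivSqZeroExt KaehlerDifferential TensorProduct IsLocalRing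

namespace Groth.Agent.H10.NeronI

open NeronF

lemma snd_inl_mul {Λ : Type u} [CommRing Λ] (c : Λ) (x : Dn Λ) :
    ((inl c : Dn Λ) * x).snd = c * x.snd := by
  rw [TrivSqZeroExt.snd_mul, fst_inl, snd_inl]
  simp

section

variable {R Λ : Type u} [CommRing R] [CommRing Λ] [Algebra R Λ]

/-- the conclusion of the hypersurface step -/
def Concl (π : R) (P : Type u) [CommRing P] [Algebra R P] (ψ : P →ₐ[R] Λ) (f : P) : Prop :=
  ∃ (P₁ : Type u) (_ : CommRing P₁) (_ : Algebra R P₁), Algebra.Smooth R P₁ ∧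
    ∃ (α : P →ₐ[R] P₁) (ψ₁ : P₁ →ₐ[R] Λ), ψ₁.comp α = ψ ∧ α f = 0 ∧
      ∃ M : ℕ, ∀ Θ : P →ₐ[R] Dn Λ, IsOver ψ Θ → Θ f = 0 →
        ∃ Θ₁ : P₁ →ₐ[R] Dn Λ, IsOver ψ₁ Θ₁ ∧
          ∀ a, Θ₁ (α a) = sc (R := R) (algebraMap R Λ π ^ M) (Θ a)

theorem caseA (π : R) {P : Type u} [CommRing P] [Algebra R P] [Algebra.Smooth R P]
    (ψ : P →ₐ[R] Λ) (f : P) (hf : ψ f = 0) (χ₀ : Ω[P⁄R] →ₗ[P] P)
    (hu : IsUnit (ψ (χ₀ (D R P f)))) : Concl π P ψ f := by
  obtain ⟨P₁, _, _, hP₁, α, ψ₁, hc, hαf, hext⟩ := NeronG.base_step ψ f hf χ₀ hu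
  refine ⟨P₁, inferInstance, inferInstance, hP₁, α, ψ₁, hc, hαf, 0, fun Θ hΘ hΘf => ?_⟩
  obtain ⟨Θ₁, hΘ₁o, hΘ₁a⟩ := hext Θ hΘ hΘf
  exact ⟨Θ₁, hΘ₁o, fun a => by rw [hΘ₁a, pow_zero, sc_one]⟩

end

section

variable {R Λ : Type u} [CommRing R] [IsDomain R] [IsDiscreteValuationRing R] [CommRing Λ]
  [IsDomain Λ] [IsDiscreteValuationRing Λ] [Algebra R Λ] [NoZeroSMulDivisors R Λ]
  [IsLocalHom (algebraMap R Λ)]

/-- **Hypersurface step.** -/
theorem hyper_step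
    (hsep : Algebra.IsGeometricallyReduced (IsLocalRing.ResidueField R) (IsLocalRing.ResidueField Λ))
    (he : (maximalIdeal R).map (algebraMap R Λ) = maximalIdeal Λ)
    (π : R) (hπ : IsLocalRing.maximalIdeal R = Ideal.span {π}) :
    ∀ (n : ℕ) (P : Type u) [CommRing P] [Algebra R P] [Algebra.Smooth R P] (ψ : P →ₐ[R] Λ) (f : P)
      (_ : ψ f = 0) (Θ₀ : P →ₐ[R] Dn Λ) (_ : IsOver ψ Θ₀) (u : Λ) (_ : IsUnit u)
      (_ : (Θ₀ f).snd = u * algebraMap R Λ π ^ n), Concl π P ψ f := by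
  classical
  have hπ0 : π ≠ 0 := by
    rintro rfl
    apply IsDiscreteValuationRing.not_a_field R
    rw [hπ]
    exact Ideal.span_singleton_eq_bot.mpr rfl
  have hπΛ0 : algebraMap R Λ π ≠ 0 := fun h =>
    hπ0 ((FaithfulSMul.algebraMap_injective R Λ) (by rw [h, map_zero]))
  have hπΛm : algebraMap R Λ π ∈ maximalIdeal Λ := by
    rw [← he]
    refine Ideal.mem_map_of_mem _ ?_
    rw [hπ]; exact Ideal.subset_span rfl
  intro n
  induction n with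
  | zero =>
    intro P _ _ _ ψ f hf Θ₀ hΘ₀ u hu h0
    obtain ⟨m, χ, ω, hχ⟩ := NeronG.exists_dualBasis R P
    obtain ⟨c, hc⟩ := NeronG.snd_eq_sum ψ Θ₀ hΘ₀ χ ω hχ
    have hA : ∃ k, IsUnit (ψ (χ k (D R P f))) := by
      by_contra hne
      have hall : ∀ k, ψ (χ k (D R P f)) ∈ maximalIdeal Λ := fun k =>
        (IsLocalRing.mem_maximalIdeal _).mpr (fun h => hne ⟨k, h⟩)
      have hmem : (Θ₀ f).snd ∈ maximalIdeal Λ := by
        rw [hc f]
        exact Ideal.sum_mem _ (fun k _ => Ideal.mul_mem_right _ _ (hall k))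
      rw [h0, pow_zero, mul_one] at hmem
      exact (IsLocalRing.mem_maximalIdeal _).mp hmem hu
    obtain ⟨k, hk⟩ := hA
    exact caseA π ψ f hf (χ k) hk
  | succ n ih =>
    intro P _ _ _ ψ f hf Θ₀ hΘ₀ u hu h0
    obtain ⟨m, χ, ω, hχ⟩ := NeronG.exists_dualBasis R P
    by_cases hA : ∃ k, IsUnit (ψ (χ k (D R P f)))
    · obtain ⟨k, hk⟩ := hA
      exact caseA π ψ f hf (χ k) hk
    have hall : ∀ k, ψ (χ k (D R P f)) ∈ maximalIdeal Λ := fun k =>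
      (IsLocalRing.mem_maximalIdeal _).mpr (fun h => hA ⟨k, h⟩)
    letI algPΛ : Algebra P Λ := ψ.toRingHom.toAlgebra
    haveI : IsScalarTower R P Λ := IsScalarTower.of_algebraMap_eq (fun r => (ψ.commutes r).symm)
    have halg : ∀ a, algebraMap P Λ a = ψ a := fun a => rfl
    have hd : D R P f ∈ ((maximalIdeal Λ).comap (algebraMap P Λ)) • (⊤ : Submodule P Ω[P⁄R]) := by
      rw [hχ (D R P f)]
      refine Submodule.sum_mem _ (fun k _ => Submodule.smul_mem_smul ?_ trivial)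
      exact hall k
    obtain ⟨P₂, _, _, hP₂, β, ψ₂, hψ₂, t, f₂, htu, heq, hΘβ⟩ :=
      NeronH.blowup_step hsep he π hπ f hf hd
    haveI := hP₂
    have hψt : IsUnit (ψ t) := by
      have := htu.map ψ₂
      rwa [hψ₂] at this
    have hψ₂f₂ : ψ₂ f₂ = 0 := by
      have := congrArg ψ₂ heq
      rw [map_mul, hψ₂, hψ₂, halg f, hf, mul_zero, map_mul, AlgHom.commutes, map_pow] at this
      exact (mul_eq_zero.1 this.symm).resolve_left (pow_ne_zero 2 hπΛ0)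
    have key : ∀ (Θ : P →ₐ[R] Dn Λ) (Θ₂ : P₂ →ₐ[R] Dn Λ),
        (∀ a, Θ₂ (β a) = sc (R := R) (algebraMap R Λ π) (Θ a)) →
        (inl (algebraMap R Λ π ^ 2) : Dn Λ) * Θ₂ f₂ =
          sc (R := R) (algebraMap R Λ π) (Θ (t * f)) := by
      intro Θ Θ₂ h
      have := congrArg Θ₂ heq
      rw [map_mul, h, h, ← map_mul, ← map_mul, map_mul Θ₂, AlgHom.commutes,
        TrivSqZeroExt.algebraMap_eq_inl', map_pow] at this
      exact this.symm
    obtain ⟨Θ₀₂, hΘ₀₂o, hΘ₀₂a⟩ := hΘβ Θ₀ (fun a => hΘ₀ a)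
    have hsnd : (Θ₀₂ f₂).snd = (ψ t * u) * algebraMap R Λ π ^ n := by
      have h1 := congrArg TrivSqZeroExt.snd (key Θ₀ Θ₀₂ hΘ₀₂a)
      rw [snd_inl_mul, snd_sc, NeronF.snd_mul, hΘ₀ t, hΘ₀ f, hf, zero_mul, add_zero, h0] at h1
      have h2 : algebraMap R Λ π ^ 2 * (Θ₀₂ f₂).snd =
          algebraMap R Λ π ^ 2 * ((ψ t * u) * algebraMap R Λ π ^ n) := by
        rw [h1]; ring
      exact mul_left_cancel₀ (pow_ne_zero 2 hπΛ0) h2
    obtain ⟨P₁, _, _, hP₁, α₁, ψ₁, hcomp, hα₁f₂, M₁, hext⟩ :=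
      ih P₂ ψ₂ f₂ hψ₂f₂ Θ₀₂ hΘ₀₂o (ψ t * u) (hψt.mul hu) hsnd
    refine ⟨P₁, inferInstance, inferInstance, hP₁, α₁.comp β, ψ₁, ?_, ?_, M₁ + 1, ?_⟩
    · ext a
      have := AlgHom.congr_fun hcomp (β a)
      rw [AlgHom.comp_apply] at this
      rw [AlgHom.comp_apply, AlgHom.comp_apply, this, hψ₂, halg]
    · have h1 := congrArg α₁ heq
      rw [map_mul, map_mul α₁ _ f₂, hα₁f₂, mul_zero] at h1
      exact (htu.map α₁).mul_right_eq_zero.mp h1
    · intro Θ hΘ hΘf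
      obtain ⟨Θ₂, hΘ₂o, hΘ₂a⟩ := hΘβ Θ (fun a => hΘ a)
      have hΘ₂f₂ : Θ₂ f₂ = 0 := by
        have h1 := key Θ Θ₂ hΘ₂a
        rw [map_mul, hΘf, mul_zero, map_zero] at h1
        exact (mul_left_mem_nonZeroDivisors_eq_zero_iff
          (inl_mem_nonZeroDivisors (Λ := Λ) (pow_ne_zero 2 hπΛ0))).mp h1
      obtain ⟨Θ₁, hΘ₁o, hΘ₁a⟩ := hext Θ₂ hΘ₂o hΘ₂f₂
      refine ⟨Θ₁, hΘ₁o, fun a => ?_⟩
      rw [AlgHom.comp_apply, hΘ₁a, hΘ₂a, sc_sc, pow_succ]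

/-- **Killing several equations** with a "diagonal" family of dual-number homs. -/
theorem multi_step
    (hsep : Algebra.IsGeometricallyReduced (IsLocalRing.ResidueField R) (IsLocalRing.ResidueField Λ))
    (he : (maximalIdeal R).map (algebraMap R Λ) = maximalIdeal Λ)
    (π : R) (hπ : IsLocalRing.maximalIdeal R = Ideal.span {π}) :
    ∀ (r : ℕ) (P : Type u) [CommRing P] [Algebra R P] [Algebra.Smooth R P] (ψ : P →ₐ[R] Λ)
      (f : Fin r → P) (_ : ∀ j, ψ (f j) = 0) (N : ℕ) (Θ : Fin r → (P →ₐ[R] Dn Λ))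
      (_ : ∀ i, IsOver ψ (Θ i))
      (_ : ∀ i j, (Θ i (f j)).snd = if i = j then algebraMap R Λ π ^ N else 0),
      ∃ (B : Type u) (_ : CommRing B) (_ : Algebra R B), Algebra.Smooth R B ∧
        ∃ (α : P →ₐ[R] B) (β : B →ₐ[R] Λ), β.comp α = ψ ∧ ∀ j, α (f j) = 0 := by
  intro r
  induction r with
  | zero =>
    intro P _ _ hP ψ f hf N Θ hΘ hdiag
    exact ⟨P, inferInstance, inferInstance, hP, AlgHom.id R P, ψ, AlgHom.comp_id ψ,
      fun j => Fin.elim0 j⟩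
  | succ r ih =>
    intro P _ _ hP ψ f hf N Θ hΘ hdiag
    have h00 : (Θ 0 (f 0)).snd = 1 * algebraMap R Λ π ^ N := by
      rw [hdiag 0 0, if_pos rfl, one_mul]
    obtain ⟨P₁, _, _, hP₁, α₁, ψ₁, hc₁, hα₁f, M, hext⟩ :=
      hyper_step hsep he π hπ N P ψ (f 0) (hf 0) (Θ 0) (hΘ 0) 1 isUnit_one h00
    haveI := hP₁
    have hψ₁ : ∀ a, ψ₁ (α₁ a) = ψ a := fun a => AlgHom.congr_fun hc₁ a
    have hzero : ∀ i : Fin r, Θ i.succ (f 0) = 0 := fun i => by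
      refine eq_zero_of_fst_snd ?_ ?_
      · rw [hΘ i.succ, hf 0]
      · rw [hdiag i.succ 0, if_neg (Fin.succ_ne_zero i)]
    choose Θ₁ hΘ₁o hΘ₁a using fun i : Fin r => hext (Θ i.succ) (hΘ i.succ) (hzero i)
    obtain ⟨B, _, _, hB, α₂, β, hc₂, hα₂⟩ :=
      ih P₁ ψ₁ (fun j => α₁ (f j.succ)) (fun j => by rw [hψ₁, hf]) (M + N) Θ₁ hΘ₁o
        (fun i j => by
          rw [hΘ₁a, snd_sc, hdiag, pow_add]
          by_cases hij : i = j
          · rw [if_pos hij, if_pos (by rw [hij])]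
          · rw [if_neg hij, if_neg (fun h => hij (Fin.succ_injective _ h)), mul_zero])
    refine ⟨B, inferInstance, inferInstance, hB, α₂.comp α₁, β, ?_, ?_⟩
    · ext a
      have := AlgHom.congr_fun hc₂ (α₁ a)
      rw [AlgHom.comp_apply] at this
      rw [AlgHom.comp_apply, AlgHom.comp_apply, this, hψ₁]
    · intro j
      refine Fin.cases ?_ (fun j => ?_) j
      · rw [AlgHom.comp_apply, hα₁f, map_zero]
      · exact hα₂ j

end

end Groth.Agent.H10.NeronI
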