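import Mathlib
import Groth.Prelude

/-!
# Néron desingularization, part J: adapted generators at a formally smooth point (helper10)

Let `B` be a noetherian local `R`-algebra, formally smooth over `R`, whose residue field is also
formally smooth over `R`.  Then the maximal ideal is generated by elements `f₁,…,f_r` (chosen from
any prescribed generating set) admitting `R`-derivations `δ_i : B → κ` with `δ_i f_j = δ_{ij}`.
-/

set_option autoImplicit false
set_option linter.style.haveILetI false
universe u

open KaehlerDifferential TensorProduct IsLocalRing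

namespace Groth.Agent.H10.NeronJ

variable {R B : Type u} [CommRing R] [CommRing B] [IsLocalRing B] [Algebra R B]

/-- the map `x ↦ 1 ⊗ dx` -/
noncomputable def u (x : B) : ResidueField B ⊗[B] Ω[B⁄R] := 1 ⊗ₜ D R B x

lemma u_add (x y : B) : u (R := R) (x + y) = u x + u y := by
  simp [u, tmul_add]

lemma u_zero : u (R := R) (0 : B) = 0 := by simp [u]

lemma u_sub (x y : B) : u (R := R) (x - y) = u x - u y := by
  simp [u, tmul_sub]

lemma u_mul (b y : B) (hy : y ∈ maximalIdeal B) :
    u (R := R) (b * y) = residue B b • u (R := R) y := by
  have h0 : residue B y = 0 := (residue_eq_zero_iff y).mpr hy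
  simp only [u, Derivation.leibniz, tmul_add, tmul_smul]
  rw [TensorProduct.smul_tmul', TensorProduct.smul_tmul', TensorProduct.smul_tmul']
  have h1 : b • (1 : ResidueField B) = residue B b := by
    rw [Algebra.smul_def, mul_one]; rfl
  have h2 : y • (1 : ResidueField B) = 0 := by
    rw [Algebra.smul_def, mul_one]; exact h0
  rw [h1, h2, zero_tmul, add_zero, smul_eq_mul, mul_one]

theorem exists_adapted [IsNoetherianRing B] [Algebra.FormallySmooth R B]
    [Algebra.FormallySmooth R (ResidueField B)] [Module.Finite B Ω[B⁄R]]
    (S : Set B) (hS : Ideal.span S = maximalIdeal B) :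
    ∃ (r : ℕ) (f : Fin r → B), (∀ j, f j ∈ S) ∧ maximalIdeal B = Ideal.span (Set.range f) ∧
      ∃ δ : Fin r → Derivation R B (ResidueField B),
        ∀ i j, δ i (f j) = if i = j then 1 else 0 := by
  classical
  have hsurj : Function.Surjective (algebraMap B (ResidueField B)) := residue_surjective
  obtain ⟨l, hl⟩ := (Algebra.FormallySmooth.iff_split_injection (R := R) hsurj).mp inferInstance
  have hI : RingHom.ker (algebraMap B (ResidueField B)) = maximalIdeal B := ker_residue
  have hSm : ∀ x ∈ S, x ∈ maximalIdeal B := fun x hx => by
    rw [← hS]; exact Ideal.subset_span hx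
  -- choose a basis among the `u x`, `x ∈ S`
  obtain ⟨e, he_mem, he_span, he_li⟩ :=
    Submodule.exists_fun_fin_finrank_span_eq (ResidueField B) (u (R := R) '' S)
  choose f hfS hfe using he_mem
  refine ⟨_, f, hfS, ?_, ?_⟩
  · -- generation, via Nakayama
    refine le_antisymm ?_ ?_
    swap
    · rw [Ideal.span_le]
      rintro _ ⟨j, rfl⟩
      exact hSm _ (hfS j)
    refine Submodule.le_of_le_smul_of_le_jacobson_bot (IsNoetherian.noetherian _)
      (maximalIdeal_le_jacobson ⊥) ?_
    intro y hy
    -- `u y` lies in the span of the `e j`
    have huy : u (R := R) y ∈ Submodule.span (ResidueField B) (u (R := R) '' S) := by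
      have hy' : y ∈ Ideal.span S := by rw [hS]; exact hy
      refine Submodule.span_induction
        (p := fun y _ => u (R := R) y ∈ Submodule.span (ResidueField B) (u (R := R) '' S))
        ?_ ?_ ?_ ?_ hy'
      · intro x hx
        exact Submodule.subset_span ⟨x, hx, rfl⟩
      · rw [u_zero]; exact Submodule.zero_mem _
      · intro x z _ _ hx hz
        rw [u_add]; exact Submodule.add_mem _ hx hz
      · intro b x hx hux
        rw [smul_eq_mul, u_mul b x (by rw [← hS]; exact hx)]
        exact Submodule.smul_mem _ _ hux
    rw [← he_span, Submodule.mem_span_range_iff_exists_fun] at huy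
    obtain ⟨k, hk⟩ := huy
    choose b hb using fun j => residue_surjective (k j)
    set z : B := y - ∑ j, b j * f j with hz
    have hzm : z ∈ maximalIdeal B :=
      Ideal.sub_mem _ hy (Ideal.sum_mem _ (fun j _ => Ideal.mul_mem_left _ _ (hSm _ (hfS j))))
    have huz : u (R := R) z = 0 := by
      have hsum : u (R := R) (∑ j, b j * f j) = ∑ j, u (R := R) (b j * f j) := by
        have : ∀ s : Finset (Fin _), u (R := R) (∑ j ∈ s, b j * f j) =
            ∑ j ∈ s, u (R := R) (b j * f j) := by
          intro s
          induction s using Finset.induction_on with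
          | empty => simp [u_zero]
          | insert a s ha ih => rw [Finset.sum_insert ha, Finset.sum_insert ha, u_add, ih]
        exact this _
      rw [hz, u_sub, hsum, ← hk, sub_eq_zero]
      refine Finset.sum_congr rfl (fun j _ => ?_)
      rw [u_mul _ _ (hSm _ (hfS j)), hb, hfe]
    have hzI : z ∈ RingHom.ker (algebraMap B (ResidueField B)) := by rw [hI]; exact hzm
    have hcot : (RingHom.ker (algebraMap B (ResidueField B))).toCotangent ⟨z, hzI⟩ = 0 := by
      have h1 := LinearMap.congr_fun hl ((RingHom.ker (algebraMap B (ResidueField B))).toCotangent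
        ⟨z, hzI⟩)
      rw [LinearMap.comp_apply, kerCotangentToTensor_toCotangent, LinearMap.id_apply] at h1
      rw [← h1]
      change l (u (R := R) z) = 0
      rw [huz, map_zero]
    have hcot2 : z ∈ (RingHom.ker (algebraMap B (ResidueField B))) ^ 2 :=
      (Ideal.toCotangent_eq_zero _ _).mp hcot
    rw [hI] at hcot2
    have hyz : y = ∑ j, b j * f j + z := by rw [hz]; ring
    rw [hyz]
    refine Submodule.add_mem _ (Submodule.mem_sup_left ?_) (Submodule.mem_sup_right ?_)
    · exact Ideal.sum_mem _ (fun j _ => Ideal.mul_mem_left _ _ (Ideal.subset_span ⟨j, rfl⟩))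
    · rw [smul_eq_mul, ← pow_two]
      exact hcot2
  · -- derivations
    have hker : LinearMap.ker (Fintype.linearCombination (ResidueField B) e) = ⊥ := by
      refine LinearMap.ker_eq_bot'.mpr (fun g hg => funext (Fintype.linearIndependent_iff.mp he_li g ?_))
      simpa [Fintype.linearCombination_apply] using hg
    obtain ⟨g, hg⟩ := LinearMap.exists_leftInverse_of_injective _ hker
    let c : Fin _ → (ResidueField B ⊗[B] Ω[B⁄R] →ₗ[ResidueField B] ResidueField B) :=
      fun i => (LinearMap.proj i).comp g
    have hc : ∀ i j, c i (e j) = if i = j then 1 else 0 := by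
      intro i j
      have h1 : Fintype.linearCombination (ResidueField B) e (Pi.single j 1) = e j := by
        simp [Fintype.linearCombination_apply]
      have h2 := LinearMap.congr_fun hg (Pi.single j 1)
      rw [LinearMap.comp_apply, h1, LinearMap.id_apply] at h2
      change (g (e j)) i = _
      rw [h2, Pi.single_apply]
    refine ⟨fun i => (((c i).restrictScalars B).comp
      (TensorProduct.mk B (ResidueField B) Ω[B⁄R] 1)).compDer (D R B), fun i j => ?_⟩
    change c i (u (R := R) (f j)) = _
    rw [hfe, hc]

end Groth.Agent.H10.NeronJ
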