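import Mathlib
import Groth.Prelude
import Groth.Agent.H44.MacLaneAll
import Groth.Agent.H10.NeronF
import Groth.Agent.H10.NeronJ

/-!
# Néron desingularization, part K: the Jacobian data at the generic point (helper10)
-/

set_option autoImplicit false
set_option linter.style.haveILetI false
universe u

open TrivSqZeroExt KaehlerDifferential TensorProduct IsLocalRing

namespace Groth.Agent.H10.NeronK

open NeronF

section frac

variable {Λ L : Type u} [CommRing Λ] [IsDomain Λ] [IsDiscreteValuationRing Λ] [Field L]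
  [Algebra Λ L] [IsFractionRing Λ L]

lemma exists_pow_mul_mem (ϖ : Λ) (hϖ : maximalIdeal Λ = Ideal.span {ϖ}) (x : L) :
    ∃ N₀ : ℕ, ∀ N, N₀ ≤ N → ∃ y : Λ, algebraMap Λ L y = algebraMap Λ L ϖ ^ N * x := by
  have hirr : Irreducible ϖ := (IsDiscreteValuationRing.irreducible_iff_uniformizer ϖ).mpr hϖ
  obtain ⟨a, b, hb, rfl⟩ := IsFractionRing.div_surjective (A := Λ) x
  have hb0 : b ≠ 0 := nonZeroDivisors.ne_zero hb
  obtain ⟨k, v, hbv⟩ := IsDiscreteValuationRing.eq_unit_mul_pow_irreducible hb0 hirr
  refine ⟨k, fun N hN => ?_⟩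
  obtain ⟨d, rfl⟩ := Nat.exists_eq_add_of_le hN
  refine ⟨ϖ ^ d * a * ↑v⁻¹, ?_⟩
  have hϖ0 : algebraMap Λ L ϖ ≠ 0 := by
    intro h
    exact hirr.ne_zero ((IsFractionRing.injective Λ L) (by rw [h, map_zero]))
  have hv : algebraMap Λ L (↑v : Λ) * algebraMap Λ L (↑v⁻¹ : Λ) = 1 := by
    rw [← map_mul, Units.mul_inv, map_one]
  have hv0 : algebraMap Λ L (↑v : Λ) ≠ 0 := left_ne_zero_of_mul_eq_one hv
  rw [hbv]
  simp only [map_mul, map_pow]
  rw [eq_comm, mul_div_assoc', div_eq_iff (mul_ne_zero hv0 (pow_ne_zero _ hϖ0))]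
  have : algebraMap Λ L (↑v⁻¹ : Λ) = (algebraMap Λ L (↑v : Λ))⁻¹ := eq_inv_of_mul_eq_one_right hv
  rw [this, pow_add]
  field_simp

end frac

section scaled

variable {R Λ L : Type u} [CommRing R] [CommRing Λ] [IsDomain Λ] [IsDiscreteValuationRing Λ]
  [Algebra R Λ] [Field L] [Algebra Λ L] [IsFractionRing Λ L] [Algebra R L] [IsScalarTower R Λ L]

theorem exists_scaled (ϖ : Λ) (hϖ : maximalIdeal Λ = Ideal.span {ϖ}) {n r : ℕ}
    (ψ : MvPolynomial (Fin n) R →ₐ[R] Λ)
    (ΘL : Fin r → (MvPolynomial (Fin n) R →ₐ[R] Dn L))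
    (hΘL : ∀ i, IsOver ((IsScalarTower.toAlgHom R Λ L).comp ψ) (ΘL i)) :
    ∃ (N : ℕ) (Θ : Fin r → (MvPolynomial (Fin n) R →ₐ[R] Dn Λ)), (∀ i, IsOver ψ (Θ i)) ∧
      ∀ i a, algebraMap Λ L (Θ i a).snd = algebraMap Λ L ϖ ^ N * (ΘL i a).snd := by
  classical
  choose N₀ hN₀ using fun ik : Fin r × Fin n =>
    exists_pow_mul_mem ϖ hϖ ((ΘL ik.1 (MvPolynomial.X ik.2)).snd)
  let N := Finset.univ.sup N₀
  have hN : ∀ ik, N₀ ik ≤ N := fun ik => Finset.le_sup (Finset.mem_univ ik)
  choose w hw using fun ik => hN₀ ik N (hN ik)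
  let Θ : Fin r → (MvPolynomial (Fin n) R →ₐ[R] Dn Λ) := fun i =>
    MvPolynomial.aeval (fun k => (inl (ψ (MvPolynomial.X k)) + inr (w (i, k)) : Dn Λ))
  have hΘX : ∀ i k, Θ i (MvPolynomial.X k) = inl (ψ (MvPolynomial.X k)) + inr (w (i, k)) :=
    fun i k => MvPolynomial.aeval_X _ k
  have hover : ∀ i, IsOver ψ (Θ i) := by
    intro i
    have : (TrivSqZeroExt.fstHom R Λ Λ).comp (Θ i) = ψ := by
      apply MvPolynomial.algHom_ext
      intro k
      change (Θ i (MvPolynomial.X k)).fst = _
      rw [hΘX, fst_add, fst_inl, fst_inr, add_zero]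
    intro a
    exact AlgHom.congr_fun this a
  refine ⟨N, Θ, hover, fun i a => ?_⟩
  induction a using MvPolynomial.induction_on with
  | C c =>
    have h1 : Θ i (MvPolynomial.C c) = algebraMap R (Dn Λ) c := by
      rw [← MvPolynomial.algebraMap_eq, AlgHom.commutes]
    have h2 : ΘL i (MvPolynomial.C c) = algebraMap R (Dn L) c := by
      rw [← MvPolynomial.algebraMap_eq, AlgHom.commutes]
    rw [h1, h2, TrivSqZeroExt.algebraMap_eq_inl', TrivSqZeroExt.algebraMap_eq_inl', snd_inl,
      snd_inl, map_zero, mul_zero]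
  | add p q hp hq =>
    rw [map_add, map_add, snd_add, snd_add, map_add, hp, hq, mul_add]
  | mul_X p k hp =>
    rw [NeronF.snd_mul, NeronF.snd_mul, hover i p, hover i (MvPolynomial.X k), hΘL i p,
      hΘL i (MvPolynomial.X k), map_add, map_mul, map_mul, hp]
    have h3 : (Θ i (MvPolynomial.X k)).snd = w (i, k) := by
      rw [hΘX, snd_add, snd_inl, snd_inr, zero_add]
    rw [h3, hw (i, k)]
    simp only [AlgHom.comp_apply, IsScalarTower.coe_toAlgHom']
    ring

end scaled

section jac

/-- the residue field at the generic point of the image embeds in `L`, and is formally smooth. -/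
theorem residue_data {R Λ P : Type u} (K L : Type u) [CommRing R] [IsDomain R]
    [CommRing Λ] [IsDomain Λ] [Algebra R Λ]
    [NoZeroSMulDivisors R Λ]
    [Field K] [Algebra R K] [IsFractionRing R K] [Field L] [Algebra Λ L] [IsFractionRing Λ L]
    [Algebra K L] [Algebra R L] [IsScalarTower R K L] [IsScalarTower R Λ L]
    [Algebra.IsGeometricallyReduced K L] [CommRing P] [Algebra R P]
    (ψ : P →ₐ[R] Λ) (q : Ideal P) [q.IsPrime] (hq : ∀ x, x ∈ q ↔ ψ x = 0) :
    ∃ ι : ResidueField (Localization.AtPrime q) →+* L,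
      (∀ a : P, ι (residue _ (algebraMap P (Localization.AtPrime q) a)) = algebraMap Λ L (ψ a)) ∧
      (∀ c : R, ι (algebraMap R (ResidueField (Localization.AtPrime q)) c) = algebraMap R L c) ∧
      Algebra.FormallySmooth R (ResidueField (Localization.AtPrime q)) := by
  classical
  have hΛL : Function.Injective (algebraMap Λ L) := IsFractionRing.injective Λ L
  have hRΛ : Function.Injective (algebraMap R Λ) := FaithfulSMul.algebraMap_injective R Λ
  have hRL : Function.Injective (algebraMap R L) := by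
    rw [IsScalarTower.algebraMap_eq R Λ L]
    exact hΛL.comp hRΛ
  let ψL : P →+* L := (algebraMap Λ L).comp ψ.toRingHom
  have hψL : ∀ a, ψL a = algebraMap Λ L (ψ a) := fun a => rfl
  have hψL0 : ∀ a, ψL a = 0 ↔ a ∈ q := fun a => by
    rw [hq, hψL]
    exact ⟨fun h => hΛL (by rw [h, map_zero]), fun h => by rw [h, map_zero]⟩
  have hunits : ∀ y : q.primeCompl, IsUnit (ψL y) := fun y =>
    isUnit_iff_ne_zero.mpr (fun h => y.2 ((hψL0 _).mp h))
  let ιB : Localization.AtPrime q →+* L := IsLocalization.lift (M := q.primeCompl) (g := ψL) hunits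
  have hιB : ∀ a, ιB (algebraMap _ _ a) = ψL a := fun a => IsLocalization.lift_eq _ a
  have hιBm : ∀ b ∈ maximalIdeal (Localization.AtPrime q), ιB b = 0 := by
    intro b hb
    obtain ⟨x, s, rfl⟩ := IsLocalization.exists_mk'_eq q.primeCompl b
    have h1 : ιB (IsLocalization.mk' _ x s) * ψL s = ψL x := by
      rw [← hιB s, ← map_mul, IsLocalization.mk'_spec, hιB]
    have hx : x ∈ q := by
      by_contra hx
      exact (IsLocalRing.mem_maximalIdeal _).mp hb
        ((IsLocalization.AtPrime.isUnit_mk'_iff (Localization.AtPrime q) q x s).mpr hx)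
    rw [(hψL0 x).mpr hx] at h1
    exact (mul_eq_zero.1 h1).resolve_right (hunits s).ne_zero
  let ι : ResidueField (Localization.AtPrime q) →+* L :=
    Ideal.Quotient.lift (maximalIdeal (Localization.AtPrime q)) ιB hιBm
  have hι : ∀ b, ι (residue _ b) = ιB b := fun b => rfl
  have hιR : ∀ c : R, ι (algebraMap R (ResidueField (Localization.AtPrime q)) c) =
      algebraMap R L c := by
    intro c
    have h1 : algebraMap R (ResidueField (Localization.AtPrime q)) c =
        residue _ (algebraMap P (Localization.AtPrime q) (algebraMap R P c)) := by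
      rw [IsScalarTower.algebraMap_apply R (Localization.AtPrime q)
        (ResidueField (Localization.AtPrime q)),
        IsScalarTower.algebraMap_apply R P (Localization.AtPrime q)]
      rfl
    rw [h1, hι, hιB, hψL, AlgHom.commutes, ← IsScalarTower.algebraMap_apply]
  refine ⟨ι, fun a => by rw [hι, hιB, hψL], hιR, ?_⟩
  -- `κ` as a `K`-algebra
  have hunitsR : ∀ y : nonZeroDivisors R,
      IsUnit (algebraMap R (ResidueField (Localization.AtPrime q)) y) := by
    intro y
    rw [isUnit_iff_ne_zero]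
    intro h
    have h2 := hιR y
    rw [h, map_zero] at h2
    exact nonZeroDivisors.coe_ne_zero y (hRL (by rw [← h2, map_zero]))
  letI algKκ : Algebra K (ResidueField (Localization.AtPrime q)) :=
    (IsLocalization.lift (M := nonZeroDivisors R)
      (g := algebraMap R (ResidueField (Localization.AtPrime q))) hunitsR).toAlgebra
  have hKκ : ∀ c : R, algebraMap K (ResidueField (Localization.AtPrime q)) (algebraMap R K c) =
      algebraMap R (ResidueField (Localization.AtPrime q)) c := fun c => IsLocalization.lift_eq _ c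
  haveI : IsScalarTower R K (ResidueField (Localization.AtPrime q)) :=
    IsScalarTower.of_algebraMap_eq (fun c => (hKκ c).symm)
  let ιK : ResidueField (Localization.AtPrime q) →ₐ[K] L :=
    { ι with
      commutes' := fun k => by
        have : (ι.comp (algebraMap K (ResidueField (Localization.AtPrime q)))) =
            algebraMap K L := by
          apply IsLocalization.ringHom_ext (nonZeroDivisors R)
          ext c
          simp only [RingHom.comp_apply]
          rw [hKκ, hιR, ← IsScalarTower.algebraMap_apply]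
        exact RingHom.congr_fun this k }
  haveI : Algebra.IsGeometricallyReduced K (ResidueField (Localization.AtPrime q)) :=
    Algebra.IsGeometricallyReduced.of_injective ιK (RingHom.injective _)
  haveI : Algebra.FormallySmooth K (ResidueField (Localization.AtPrime q)) :=
    Groth.Agent.H44.MacLane.formallySmooth_iff_isGeometricallyReduced.mpr inferInstance
  haveI : Algebra.FormallySmooth R K := Algebra.FormallySmooth.of_isLocalization (nonZeroDivisors R)
  exact Algebra.FormallySmooth.comp R K _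

/-- a `κ`-valued derivation of the local ring gives an `L`-valued dual number hom. -/
theorem exists_dualHom {R Λ P L : Type u} [CommRing R] [CommRing Λ] [Algebra R Λ]
    [Field L] [Algebra Λ L] [Algebra R L] [IsScalarTower R Λ L] [CommRing P] [Algebra R P]
    (ψ : P →ₐ[R] Λ) (q : Ideal P) [q.IsPrime]
    (ι : ResidueField (Localization.AtPrime q) →+* L)
    (hι : ∀ a : P, ι (residue _ (algebraMap P (Localization.AtPrime q) a)) = algebraMap Λ L (ψ a))
    (hιR : ∀ c : R, ι (algebraMap R (ResidueField (Localization.AtPrime q)) c) = algebraMap R L c)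
    (δ : Derivation R (Localization.AtPrime q) (ResidueField (Localization.AtPrime q))) :
    ∃ ΘL : P →ₐ[R] Dn L, IsOver ((IsScalarTower.toAlgHom R Λ L).comp ψ) ΘL ∧
      ∀ a, (ΘL a).snd = ι (δ (algebraMap P (Localization.AtPrime q) a)) := by
  let E : P →ₗ[R] L :=
    { toFun := fun a => ι (δ (algebraMap _ (Localization.AtPrime q) a))
      map_add' := fun a b => by rw [map_add, map_add, map_add]
      map_smul' := fun c a => by
        have h1 : algebraMap P (Localization.AtPrime q) (c • a) =
            c • algebraMap P (Localization.AtPrime q) a := by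
          rw [Algebra.smul_def, map_mul, ← IsScalarTower.algebraMap_apply, ← Algebra.smul_def]
        rw [h1, Derivation.map_smul, Algebra.smul_def, map_mul, hιR, RingHom.id_apply,
          Algebra.smul_def] }
  have hEa : ∀ a, E a = ι (δ (algebraMap _ (Localization.AtPrime q) a)) := fun a => rfl
  have hE : ∀ a b, E (a * b) = ((IsScalarTower.toAlgHom R Λ L).comp ψ) a * E b +
      ((IsScalarTower.toAlgHom R Λ L).comp ψ) b * E a := by
    intro a b
    have h1 : ∀ a, ((IsScalarTower.toAlgHom R Λ L).comp ψ) a = algebraMap Λ L (ψ a) := fun a => rfl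
    rw [hEa, hEa, hEa, h1, h1, map_mul, Derivation.leibniz, map_add, Algebra.smul_def,
      Algebra.smul_def, map_mul, map_mul, ← hι a, ← hι b]
    rfl
  exact ⟨mkHom _ E hE, isOver_mkHom _ E hE, fun a => snd_mkHom _ E hE a⟩

/-- **Jacobian data**: generators of `ker ψ` at its generic point, with a dual family of
dual-number homomorphisms. -/
theorem exists_jacobian_data {R Λ : Type u} (K L : Type u) [CommRing R] [IsDomain R]
    [IsDiscreteValuationRing R] [CommRing Λ] [IsDomain Λ] [IsDiscreteValuationRing Λ] [Algebra R Λ]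
    [NoZeroSMulDivisors R Λ]
    [Field K] [Algebra R K] [IsFractionRing R K] [Field L] [Algebra Λ L] [IsFractionRing Λ L]
    [Algebra K L] [Algebra R L] [IsScalarTower R K L] [IsScalarTower R Λ L]
    [Algebra.IsGeometricallyReduced K L] (ϖ : Λ) (hϖ : maximalIdeal Λ = Ideal.span {ϖ}) {n : ℕ}
    (ψ : MvPolynomial (Fin n) R →ₐ[R] Λ) :
    ∃ (r : ℕ) (f : Fin r → MvPolynomial (Fin n) R), (∀ j, ψ (f j) = 0) ∧
      (∀ x, ψ x = 0 → ∃ g, ψ g ≠ 0 ∧ g * x ∈ Ideal.span (Set.range f)) ∧
      ∃ (N : ℕ) (Θ : Fin r → (MvPolynomial (Fin n) R →ₐ[R] Dn Λ)), (∀ i, IsOver ψ (Θ i)) ∧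
        ∀ i j, (Θ i (f j)).snd = if i = j then ϖ ^ N else 0 := by
  classical
  have hΛL : Function.Injective (algebraMap Λ L) := IsFractionRing.injective Λ L
  obtain ⟨q, hqp, hq⟩ : ∃ q : Ideal (MvPolynomial (Fin n) R), q.IsPrime ∧ ∀ x, x ∈ q ↔ ψ x = 0 :=
    ⟨RingHom.ker ψ.toRingHom, RingHom.ker_isPrime ψ.toRingHom, fun x => RingHom.mem_ker⟩
  haveI := hqp
  -- ring theoretic properties of `B = P_q`
  haveI : IsNoetherianRing (Localization.AtPrime q) :=
    IsLocalization.isNoetherianRing q.primeCompl _ inferInstance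
  haveI : Algebra.FormallySmooth (MvPolynomial (Fin n) R) (Localization.AtPrime q) :=
    Algebra.FormallySmooth.of_isLocalization q.primeCompl
  haveI : Algebra.FormallySmooth R (Localization.AtPrime q) :=
    Algebra.FormallySmooth.comp R (MvPolynomial (Fin n) R) _
  haveI : Algebra.EssFiniteType R (Localization.AtPrime q) :=
    Algebra.EssFiniteType.comp R (MvPolynomial (Fin n) R) (Localization.AtPrime q)
  obtain ⟨ι, hι, hιR, hsmκ⟩ := residue_data K L ψ q hq
  haveI := hsmκ
  -- adapted generators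
  have hS : Ideal.span ((algebraMap (MvPolynomial (Fin n) R) (Localization.AtPrime q)) ''
      (q : Set (MvPolynomial (Fin n) R))) = maximalIdeal (Localization.AtPrime q) :=
    Localization.AtPrime.map_eq_maximalIdeal
  obtain ⟨r, fB, hfBS, hgen, δ, hδ⟩ := NeronJ.exists_adapted (R := R)
    (B := Localization.AtPrime q) _ hS
  choose f hfq hfB using hfBS
  have hψf : ∀ j, ψ (f j) = 0 := fun j => (hq _).mp (hfq j)
  -- the `L`-valued dual number homs
  choose ΘL hΘLo hΘLs using fun i => exists_dualHom ψ q ι hι hιR (δ i)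
  have hΘLf : ∀ i j, (ΘL i (f j)).snd = if i = j then 1 else 0 := by
    intro i j
    rw [hΘLs, hfB, hδ]
    split_ifs <;> simp
  obtain ⟨N, Θ, hΘo, hΘc⟩ := exists_scaled ϖ hϖ ψ ΘL hΘLo
  refine ⟨r, f, hψf, ?_, N, Θ, hΘo, fun i j => ?_⟩
  · intro x hx
    have hxq : x ∈ q := (hq x).mpr hx
    have hxm : algebraMap _ (Localization.AtPrime q) x ∈ maximalIdeal (Localization.AtPrime q) := by
      rw [← Localization.AtPrime.map_eq_maximalIdeal (I := q)]
      exact Ideal.mem_map_of_mem _ hxq
    have hrange : Set.range fB =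
        (algebraMap (MvPolynomial (Fin n) R) (Localization.AtPrime q)) '' Set.range f := by
      rw [← Set.range_comp]
      congr 1
      funext j
      exact (hfB j).symm
    rw [hgen, hrange, ← Ideal.map_span, IsLocalization.mem_map_algebraMap_iff q.primeCompl] at hxm
    obtain ⟨⟨⟨a, ha⟩, t⟩, hat⟩ := hxm
    simp only at hat
    rw [← map_mul, IsLocalization.eq_iff_exists q.primeCompl] at hat
    obtain ⟨c, hc⟩ := hat
    refine ⟨(c : MvPolynomial (Fin n) R) * t, ?_, ?_⟩
    · intro h
      rcases Ideal.IsPrime.mem_or_mem hqp ((hq _).mpr h) with h | h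
      · exact c.2 h
      · exact t.2 h
    · have : (c : MvPolynomial (Fin n) R) * t * x = c * a := by rw [← hc]; ring
      rw [this]
      exact Ideal.mul_mem_left _ _ ha
  · apply hΛL
    rw [hΘc, hΘLf]
    split_ifs <;> simp

end jac

end Groth.Agent.H10.NeronK
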