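import Mathlib
import Groth.Prelude
import Groth.Agent.H63.SmoothRegular
import Groth.Agent.H23.RegularLocal
import Groth.Agent.H10.NeronI
import Groth.Agent.H10.NeronK

/-!
# Néron desingularization, part L: the main theorem (helper10)

An extension of discrete valuation rings `R ⊆ Λ` of ramification index one with separable
residue field and fraction field extensions is ind-smooth.
-/

set_option autoImplicit false
set_option linter.style.haveILetI false
universe u

open TrivSqZeroExt KaehlerDifferential TensorProduct IsLocalRing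

namespace Groth.Agent.H10.NeronL

open NeronF

/-- kill the kernel: if a smooth algebra `B₀` over a DVR maps to a domain `Λ`, and `g x = 0` for
some `g` with nonzero image, then `x` dies in a principal localization still mapping to `Λ`. -/
theorem exists_kill {R Λ B₀ : Type u} [CommRing R] [IsDomain R] [IsDiscreteValuationRing R]
    [CommRing Λ] [IsDomain Λ] [IsLocalRing Λ] [Algebra R Λ] [CommRing B₀] [Algebra R B₀]
    [Algebra.Smooth R B₀] (β₀ : B₀ →ₐ[R] Λ) (g x : B₀) (hg : β₀ g ≠ 0) (hgx : g * x = 0) :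
    ∃ t : B₀, IsUnit (β₀ t) ∧ t * x = 0 := by
  haveI : IsRegularRing B₀ := Groth.Agent.H63.SmoothRegular.isRegularRing_of_smooth R B₀
  haveI : IsDomain (Localization.AtPrime ((maximalIdeal Λ).comap β₀.toRingHom)) :=
    Groth.Agent.H23.isDomain_of_isRegularLocalRing _
  have hunit : ∀ t : B₀, t ∉ (maximalIdeal Λ).comap β₀.toRingHom → IsUnit (β₀ t) := by
    intro t ht
    by_contra h
    exact ht ((IsLocalRing.mem_maximalIdeal _).mpr h)
  have h1 : algebraMap B₀ (Localization.AtPrime ((maximalIdeal Λ).comap β₀.toRingHom)) g *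
      algebraMap B₀ (Localization.AtPrime ((maximalIdeal Λ).comap β₀.toRingHom)) x = 0 := by
    rw [← map_mul, hgx, map_zero]
  have h2 : algebraMap B₀ (Localization.AtPrime ((maximalIdeal Λ).comap β₀.toRingHom)) g ≠ 0 := by
    intro h
    rw [IsLocalization.map_eq_zero_iff ((maximalIdeal Λ).comap β₀.toRingHom).primeCompl] at h
    obtain ⟨t', ht'⟩ := h
    have := congrArg β₀ ht'
    rw [map_mul, map_zero] at this
    exact hg ((mul_eq_zero.1 this).resolve_left (hunit _ t'.2).ne_zero)
  have h3 := (mul_eq_zero.1 h1).resolve_left h2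
  rw [IsLocalization.map_eq_zero_iff ((maximalIdeal Λ).comap β₀.toRingHom).primeCompl] at h3
  obtain ⟨t, ht⟩ := h3
  exact ⟨t, hunit _ t.2, ht⟩

theorem main {R Λ K L : Type u} [CommRing R] [IsDomain R]
    [IsDiscreteValuationRing R] [CommRing Λ] [IsDomain Λ] [IsDiscreteValuationRing Λ] [Algebra R Λ]
    [NoZeroSMulDivisors R Λ] [IsLocalHom (algebraMap R Λ)]
    (he : (IsLocalRing.maximalIdeal R).map (algebraMap R Λ) = IsLocalRing.maximalIdeal Λ)
    [hsep : Algebra.IsGeometricallyReduced (IsLocalRing.ResidueField R)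
      (IsLocalRing.ResidueField Λ)]
    [Field K] [Algebra R K] [IsFractionRing R K] [Field L] [Algebra Λ L] [IsFractionRing Λ L]
    [Algebra K L] [Algebra R L] [IsScalarTower R K L] [IsScalarTower R Λ L]
    [Algebra.IsGeometricallyReduced K L] :
    Smoothing.IndSmooth R Λ := by
  classical
  intro A _ _ hA φ
  obtain ⟨π, hirr⟩ := IsDiscreteValuationRing.exists_irreducible R
  have hπ : maximalIdeal R = Ideal.span {π} :=
    (IsDiscreteValuationRing.irreducible_iff_uniformizer π).mp hirr
  have hϖ : maximalIdeal Λ = Ideal.span {algebraMap R Λ π} := by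
    rw [← he, hπ, Ideal.map_span, Set.image_singleton]
  haveI : Algebra.FiniteType R A := inferInstance
  obtain ⟨n, σ, hσ⟩ := Algebra.FiniteType.iff_quotient_mvPolynomial''.mp
    (inferInstance : Algebra.FiniteType R A)
  haveI : Algebra.Smooth R (MvPolynomial (Fin n) R) := ⟨inferInstance, inferInstance⟩
  let ψ : MvPolynomial (Fin n) R →ₐ[R] Λ := φ.comp σ
  have hψ : ∀ x, ψ x = φ (σ x) := fun x => rfl
  obtain ⟨r, f, hψf, hgen, N, Θ, hΘo, hdiag⟩ :=
    NeronK.exists_jacobian_data K L (algebraMap R Λ π) hϖ ψ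
  obtain ⟨B₀, _, _, hB₀, α₀, β₀, hc₀, hα₀⟩ :=
    NeronI.multi_step hsep he π hπ r (MvPolynomial (Fin n) R) ψ f hψf N Θ hΘo hdiag
  haveI := hB₀
  have hβα : ∀ x, β₀ (α₀ x) = ψ x := fun x => AlgHom.congr_fun hc₀ x
  -- `α₀` kills the ideal generated by the `f j`
  have hspan : ∀ y ∈ Ideal.span (Set.range f), α₀ y = 0 := by
    intro y hy
    have : Ideal.span (Set.range f) ≤ RingHom.ker α₀.toRingHom := by
      rw [Ideal.span_le]
      rintro _ ⟨j, rfl⟩
      exact hα₀ j
    exact this hy
  have hkill : ∀ x, ψ x = 0 → ∃ t : B₀, IsUnit (β₀ t) ∧ t * α₀ x = 0 := by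
    intro x hx
    obtain ⟨g, hg, hgx⟩ := hgen x hx
    refine exists_kill β₀ (α₀ g) (α₀ x) (by rw [hβα]; exact hg) ?_
    rw [← map_mul]
    exact hspan _ hgx
  choose! t htu ht using hkill
  -- finitely many generators of the kernel
  obtain ⟨s, hs⟩ := (IsNoetherian.noetherian (RingHom.ker ψ.toRingHom) :
    (RingHom.ker ψ.toRingHom).FG)
  replace hs : Ideal.span (s : Set (MvPolynomial (Fin n) R)) = RingHom.ker ψ.toRingHom := hs
  have hsψ : ∀ x ∈ s, ψ x = 0 := fun x hx => by
    have : x ∈ RingHom.ker ψ.toRingHom := by rw [← hs]; exact Ideal.subset_span hx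
    exact RingHom.mem_ker.mp this
  let T : B₀ := ∏ x ∈ s, t x
  have hTu : IsUnit (β₀ T) := by
    rw [map_prod]
    exact (IsUnit.prod_iff).mpr (fun x hx => htu x (hsψ x hx))
  have hT : ∀ x, ψ x = 0 → T * α₀ x = 0 := by
    intro x hx
    have hx' : x ∈ Ideal.span (s : Set (MvPolynomial (Fin n) R)) := by
      rw [hs]; exact RingHom.mem_ker.mpr hx
    refine Submodule.span_induction (p := fun x _ => T * α₀ x = 0) ?_ ?_ ?_ ?_ hx'
    · intro y hy
      obtain ⟨c, hc⟩ := Finset.dvd_prod_of_mem t hy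
      change T = t y * c at hc
      rw [hc, mul_comm (t y), mul_assoc, ht y (hsψ y hy), mul_zero]
    · rw [map_zero, mul_zero]
    · intro y z _ _ hy hz
      rw [map_add, mul_add, hy, hz, add_zero]
    · intro a y _ hy
      rw [smul_eq_mul, map_mul, mul_left_comm, hy, mul_zero]
  -- localize
  obtain ⟨β, hβ, -⟩ := NeronF.exists_away β₀ T hTu
  haveI : Algebra.Smooth B₀ (Localization.Away T) := Algebra.Smooth.of_isLocalization_Away T
  haveI : Algebra.Smooth R (Localization.Away T) := Algebra.Smooth.comp R B₀ _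
  let α : MvPolynomial (Fin n) R →ₐ[R] Localization.Away T :=
    (IsScalarTower.toAlgHom R B₀ (Localization.Away T)).comp α₀
  have hα : ∀ x, α x = algebraMap B₀ (Localization.Away T) (α₀ x) := fun x => rfl
  have hαker : ∀ x, ψ x = 0 → α x = 0 := by
    intro x hx
    rw [hα, IsLocalization.map_eq_zero_iff (Submonoid.powers T)]
    exact ⟨⟨T, Submonoid.mem_powers T⟩, hT x hx⟩
  have hH : RingHom.ker σ.toRingHom ≤ RingHom.ker α.toRingHom := by
    intro x hx
    have hx0 : σ x = 0 := RingHom.mem_ker.mp hx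
    exact RingHom.mem_ker.mpr (hαker x (by rw [hψ, hx0, map_zero]))
  refine ⟨Localization.Away T, inferInstance, inferInstance, inferInstance,
    AlgHom.liftOfSurjective σ hσ α hH, β, ?_⟩
  ext a
  obtain ⟨x, rfl⟩ := hσ a
  rw [AlgHom.comp_apply, AlgHom.liftOfSurjective_apply, hα, hβ, hβα, hψ]

end Groth.Agent.H10.NeronL
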