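import Mathlib
import Groth.Agent.H69.DirColim
import Groth.Agent.H15.NilPair.Base
import Groth.Agent.H15.NilPair.Defs
import Groth.Agent.H15.NilPair.Sys
import Groth.Agent.H15.NilPair.Lemmas

/-! (KD) of helper15's S18016 squad: an element of `D_j` dying in `D` dies at a later stage. -/

set_option autoImplicit false
universe u
open CategoryTheory MvPolynomial Limits
open Groth.Agent.H69 Groth.Agent.H15.NilPair
open scoped Classical

namespace Groth.Agent.H10.NilPair_KD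

variable {R B D D' P : Type u} [CommRing R] [CommRing B] [CommRing D] [CommRing D'] [CommRing P]
  [Algebra R B] [Algebra R D] [Algebra R D'] [Algebra R P]
variable {f : B →ₐ[R] D} {i : D' →ₐ[R] D} {q₁ : P →ₐ[R] B} {q₂ : P →ₐ[R] D'}

/-- the raw index obtained by adding `g` to `N`, `g^(n+1)` to `T'` and `E` to `TB`. -/
noncomputable def ext (j : Raw R P D') (g : MvPolynomial (P ⊕ D') R) (n : ℕ)
    (E : Finset (MvPolynomial (P ⊕ D') R)) : Raw R P D' :=
  ⟨j.Z, j.S, j.TB ∪ E, insert (g ^ (n + 1)) j.T', insert g j.N⟩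

theorem le_ext (j : Raw R P D') (g : MvPolynomial (P ⊕ D') R) (n : ℕ)
    (E : Finset (MvPolynomial (P ⊕ D') R)) : j ≤ ext j g n E :=
  ⟨subset_rfl, subset_rfl, Finset.subset_union_left, Finset.subset_insert _ _,
    Finset.subset_insert _ _⟩

theorem isNilpotent_of_pow_mem {S : Finset (P ⊕ D')} {T : Finset (MvPolynomial (P ⊕ D') R)}
    (g : MvPolynomial (P ⊕ D') R) (hg : g ∈ PS R S) (a : ℕ) (h : g ^ (a + 1) ∈ T) :
    IsNilpotent (mkq S T ⟨g, hg⟩) := by
  refine ⟨a + 1, ?_⟩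
  rw [← map_pow]
  exact mkq_eq_zero _ h

theorem isNilpotent_pow_of {S : Finset (P ⊕ D')} {T : Finset (MvPolynomial (P ⊕ D') R)}
    (g : MvPolynomial (P ⊕ D') R) (hg : g ∈ PS R S) (x : PS R S) (b : ℕ)
    (hx : (x : MvPolynomial (P ⊕ D') R) = g ^ (b + 1))
    (h : IsNilpotent (mkq S T ⟨g, hg⟩)) : IsNilpotent (mkq S T x) := by
  have e : x = (⟨g, hg⟩ : PS R S) ^ (b + 1) := Subtype.ext hx
  rw [e, map_pow]
  exact h.pow_succ b

theorem valid_ext (j : J f i q₁ q₂) (g : MvPolynomial (P ⊕ D') R) (hg : g ∈ PS R j.1.WD)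
    (hgD : evD i q₂ g = 0) (n : ℕ) (hn : evD' q₂ g ^ (n + 1) = 0)
    (E : Finset (MvPolynomial (P ⊕ D') R))
    (hE1 : ∀ t ∈ E, t ∈ PS R j.1.WB ∧ evB q₁ D' t = 0 ∧ evD i q₂ t = 0)
    (hE2 : ∀ t ∈ E, ∃ a : ℕ, t = g ^ (a + 1))
    (hE3 : Function.Surjective f → (∀ x ∈ RingHom.ker f.toRingHom, IsNilpotent x) →
      ∃ (_ : g ∈ PS R j.1.WB) (m : ℕ), g ^ (m + 1) ∈ E) :
    Valid f i q₁ q₂ (ext j.1 g n E) := by
  have hle := le_ext j.1 g n E
  have hgn : IsNilpotent (mkq (ext j.1 g n E).WD (ext j.1 g n E).T' ⟨g, hg⟩) :=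
    isNilpotent_of_pow_mem g hg n (Finset.mem_insert_self _ _)
  obtain ⟨c1, c2, c3, c4, c5, c6, c7⟩ := j.2
  refine ⟨?_, ?_, ?_, ?_, ?_, ?_, ?_⟩
  · intro t ht
    rcases Finset.mem_union.mp ht with ht | ht
    · exact c1 t ht
    · exact hE1 t ht
  · intro t ht
    rcases Finset.mem_insert.mp ht with rfl | ht
    · exact ⟨Subalgebra.pow_mem _ hg _, by rw [map_pow, hn]⟩
    · exact c2 t ht
  · intro t ht
    rcases Finset.mem_insert.mp ht with rfl | ht
    · exact ⟨hg, hgD⟩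
    · exact c3 t ht
  · rintro ⟨x, hx⟩ hmem
    rcases Finset.mem_union.mp hmem with hmem | hmem
    · rcases Finset.mem_union.mp hmem with hmem | hmem
      · exact nil_transfer_D' hle x hx (c4 ⟨x, hx⟩ (Finset.mem_union_left _ hmem))
      · obtain ⟨a, ha⟩ := hE2 x hmem
        exact isNilpotent_pow_of g hg ⟨x, hx⟩ a ha hgn
    · rcases Finset.mem_insert.mp hmem with hmem | hmem
      · have e : (⟨x, hx⟩ : PS R (ext j.1 g n E).WD) = ⟨g, hg⟩ := Subtype.ext hmem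
        rw [e]; exact hgn
      · exact nil_transfer_D' hle x hx (c4 ⟨x, hx⟩ (Finset.mem_union_right _ hmem))
  · exact c5
  · intro hsurj hkn
    obtain ⟨hgB, m, hm⟩ := hE3 hsurj hkn
    have hgnB : IsNilpotent (mkq (ext j.1 g n E).WB (ext j.1 g n E).TB ⟨g, hgB⟩) :=
      isNilpotent_of_pow_mem g hgB m (Finset.mem_union_right _ hm)
    rintro ⟨x, hx⟩ hmem
    rcases Finset.mem_union.mp hmem with hmem | hmem
    · rcases Finset.mem_insert.mp hmem with hmem | hmem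
      · exact isNilpotent_pow_of g hgB ⟨x, hx⟩ n hmem hgnB
      · exact nil_transfer_B hle x hx (c6 hsurj hkn ⟨x, hx⟩ (Finset.mem_union_left _ hmem))
    · rcases Finset.mem_insert.mp hmem with hmem | hmem
      · have e : (⟨x, hx⟩ : PS R (ext j.1 g n E).WB) = ⟨g, hgB⟩ := Subtype.ext hmem
        rw [e]; exact hgnB
      · exact nil_transfer_B hle x hx (c6 hsurj hkn ⟨x, hx⟩ (Finset.mem_union_right _ hmem))
  · intro hint s hs
    exact int_transfer hle (X (Sum.inr s)) (X_mem_PS (Finset.inr_mem_disjSum.mpr hs)) (c7 hint s hs)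

/-- (KD) -/
theorem ker_D (hw : ∀ p, f (q₁ p) = i (q₂ p))
    (hnil : ∀ x ∈ RingHom.ker i.toRingHom, IsNilpotent x) :
    ∀ (j : J f i q₁ q₂) (z : FD j), toD j z = 0 → ∃ (k : J f i q₁ q₂) (h : j ≤ k), trD h z = 0 := by
  intro j z hz
  obtain ⟨⟨g, hg⟩, rfl⟩ := mkq_surjective _ _ z
  have hgD : evD i q₂ g = 0 := hz
  obtain ⟨n, hn⟩ : ∃ n : ℕ, evD' q₂ g ^ (n + 1) = 0 := by
    obtain ⟨n, hn⟩ := hnil (evD' q₂ g) hgD
    exact ⟨n, by rw [pow_succ, hn, zero_mul]⟩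
  by_cases mode : Function.Surjective f ∧ ∀ x ∈ RingHom.ker f.toRingHom, IsNilpotent x
  · -- `S = ∅`, `g ∈ PS WB`
    have hS : j.1.S = ∅ := j.2.2.2.2.2.1 mode.1
    have hgB : g ∈ PS R j.1.WB := by
      have : j.1.WD = j.1.WB := by unfold Raw.WD Raw.WB; rw [hS]
      rw [← this]; exact hg
    have hfB : f (evB q₁ D' g) = 0 := by rw [← evD_eq_f_evB hw g hgB]; exact hgD
    obtain ⟨m, hm⟩ : ∃ m : ℕ, evB q₁ D' g ^ (m + 1) = 0 := by
      obtain ⟨m, hm⟩ := mode.2 (evB q₁ D' g) hfB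
      exact ⟨m, by rw [pow_succ, hm, zero_mul]⟩
    have hv : Valid f i q₁ q₂ (ext j.1 g n {g ^ (m + 1)}) := by
      apply valid_ext j g hg hgD n hn
      · intro t ht
        rw [Finset.mem_singleton] at ht
        subst ht
        exact ⟨Subalgebra.pow_mem _ hgB _, by rw [map_pow, hm], by rw [map_pow, hgD, zero_pow (by omega)]⟩
      · intro t ht
        rw [Finset.mem_singleton] at ht
        exact ⟨m, ht⟩
      · intro _ _
        exact ⟨hgB, m, Finset.mem_singleton_self _⟩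
    refine ⟨⟨_, hv⟩, le_ext j.1 g n _, ?_⟩
    exact mkq_eq_zero _ (Raw.N_sub_TD (Finset.mem_insert_self _ _))
  · have hv : Valid f i q₁ q₂ (ext j.1 g n ∅) := by
      apply valid_ext j g hg hgD n hn
      · intro t ht; exact absurd ht (Finset.notMem_empty t)
      · intro t ht; exact absurd ht (Finset.notMem_empty t)
      · intro h1 h2; exact absurd ⟨h1, h2⟩ mode
    refine ⟨⟨_, hv⟩, le_ext j.1 g n _, ?_⟩
    exact mkq_eq_zero _ (Raw.N_sub_TD (Finset.mem_insert_self _ _))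

end Groth.Agent.H10.NilPair_KD
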