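import Mathlib
import Groth.Prelude.Def_QCohCat
import Groth.Prelude.Def_Coh
import Groth.Agent.S9819
import Groth.Agent.H8.CohKerCoker
import Groth.Agent.H18.Serre.Generation
import Groth.Agent.H77.NoethObj_N1a
import Groth.Agent.H77.NoethObj_N2a

set_option autoImplicit false
universe u
open CategoryTheory CategoryTheory.Limits AlgebraicGeometry TopologicalSpace Opposite

namespace Groth.Agent.H10.NoethObj_N2b

/-- finite type transfers along an isomorphism. -/
theorem isFT_of_iso {Y : Scheme.{u}} {A B : Y.Modules} (e : A ≅ B)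
    (hA : SheafOfModules.IsFiniteType (R := Y.ringCatSheaf) A) :
    SheafOfModules.IsFiniteType (R := Y.ringCatSheaf) B := by
  haveI := hA
  exact Groth.Agent.H8.isFiniteType_of_epi e.hom

/-- A mono from a qcoh f.t. module into `M.obj` gives a subobject of `M` in `QCoh Y` whose
underlying module is f.t. and through which the mono factors. -/
theorem key {Y : Scheme.{u}} (M : QCohCat.QCoh Y) (G : Y.Modules) (i : G ⟶ M.obj) [Mono i]
    (hq : G.IsQuasicoherent)
    (hf : SheafOfModules.IsFiniteType (R := Y.ringCatSheaf) G) :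
    ∃ (N : Subobject M),
      SheafOfModules.IsFiniteType (R := Y.ringCatSheaf) (N : QCohCat.QCoh Y).obj ∧
      ∃ e : G ⟶ (N : QCohCat.QCoh Y).obj, e ≫ N.arrow.hom = i := by
  let G' : QCohCat.QCoh Y := ⟨G, hq⟩
  let f : G' ⟶ M := ObjectProperty.homMk i
  haveI : Mono f := by
    apply (QCohCat.isQCoh Y).ι.mono_of_mono_map
    change Mono i
    infer_instance
  refine ⟨Subobject.mk f, ?_, ?_⟩
  · exact isFT_of_iso ((QCohCat.isQCoh Y).ι.mapIso (Subobject.underlyingIso f).symm) hf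
  · refine ⟨(Subobject.underlyingIso f).inv.hom, ?_⟩
    have := Subobject.underlyingIso_arrow f
    exact congrArg (fun k => k.hom) this

theorem coh_of_noeth_aux (Y : Scheme.{u}) [IsNoetherian Y]
    (h1 : ∀ {A B : QCohCat.QCoh Y} (f : A ⟶ B) [Mono f], Mono f.hom)
    (h2 : ∀ (M : Y.Modules) [M.IsQuasicoherent] {N₁ N₂ : Y.Modules} (i₁ : N₁ ⟶ M) (i₂ : N₂ ⟶ M)
      [Mono i₁] [Mono i₂] (_ : Coh.IsCoh N₁) (_ : Coh.IsCoh N₂),
      ∃ (N : Y.Modules) (i : N ⟶ M) (j₁ : N₁ ⟶ N) (j₂ : N₂ ⟶ N),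
        Mono i ∧ Coh.IsCoh N ∧ j₁ ≫ i = i₁ ∧ j₂ ≫ i = i₂)
    (M : QCohCat.QCoh Y) (h : IsNoetherianObject M) : Coh.IsCoh M.obj := by
  haveI := h
  haveI hMq : M.obj.IsQuasicoherent := M.property
  refine ⟨M.property, ?_⟩
  let 𝒮 : Set (Subobject M) :=
    {N | SheafOfModules.IsFiniteType (R := Y.ringCatSheaf) (N : QCohCat.QCoh Y).obj}
  -- nonempty
  have hne : 𝒮.Nonempty := by
    obtain ⟨G, i, hi, hq, hf, -⟩ := Groth.Agent.S9819.result M.obj
      ⟨⊥, isAffineOpen_bot Y⟩ 0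
    haveI := hi
    obtain ⟨N, hN, -⟩ := key M G i hq hf
    exact ⟨N, hN⟩
  have wf : WellFounded ((· > ·) : Subobject M → Subobject M → Prop) :=
    (inferInstance : WellFoundedGT (Subobject M)).wf
  obtain ⟨N, hN, hmax⟩ := wf.has_min 𝒮 hne
  haveI hNm : Mono N.arrow.hom := h1 N.arrow
  have hNq : (N : QCohCat.QCoh Y).obj.IsQuasicoherent :=
    (N : QCohCat.QCoh Y).property
  -- surjectivity on affine sections
  have hsurj : ∀ V : Y.affineOpens, Function.Surjective (N.arrow.hom.app (V : Y.Opens)) := by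
    intro V s
    obtain ⟨G, i, hi, hq, hf, g, hg⟩ := Groth.Agent.S9819.result M.obj V s
    haveI := hi
    obtain ⟨N', i', j₁, j₂, hi', hN', hj₁, hj₂⟩ := h2 M.obj N.arrow.hom i ⟨hNq, hN⟩ ⟨hq, hf⟩
    haveI := hi'
    obtain ⟨N'', hN'', e, he⟩ := key M N' i' hN'.1 hN'.2
    have hle : N ≤ N'' := by
      refine Subobject.le_of_comm (ObjectProperty.homMk (j₁ ≫ e)) ?_
      apply ObjectProperty.hom_ext
      change (j₁ ≫ e) ≫ N''.arrow.hom = N.arrow.hom
      rw [Category.assoc, he, hj₁]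
    have heq : N'' = N := by
      by_contra hne'
      exact hmax N'' hN'' (lt_of_le_of_ne hle (Ne.symm hne'))
    subst heq
    refine ⟨(j₂ ≫ e).app (V : Y.Opens) g, ?_⟩
    have h3 : (j₂ ≫ e) ≫ N''.arrow.hom = i := by rw [Category.assoc, he, hj₂]
    have h4 := congrArg (fun k : G ⟶ M.obj => k.app (V : Y.Opens) g) h3
    exact h4.trans hg
  haveI : Epi N.arrow.hom :=
    Groth.Agent.H18.Serre.epi_of_surjective_affine_cover N.arrow.hom
      (fun V : Y.affineOpens => (V : Y.Opens))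
      (iSup_affineOpens_eq_top Y) (fun V => V.2) hsurj
  haveI : SheafOfModules.IsFiniteType (R := Y.ringCatSheaf) (N : QCohCat.QCoh Y).obj := hN
  exact Groth.Agent.H8.isFiniteType_of_epi N.arrow.hom

/-- **(N2b)** A noetherian object of `QCoh Y` (`Y` noetherian) is coherent. -/
theorem coh_of_noeth (Y : Scheme.{u}) [IsNoetherian Y] (M : QCohCat.QCoh Y)
    (h : IsNoetherianObject M) : Coh.IsCoh M.obj :=
  coh_of_noeth_aux Y (fun f _ => Groth.Agent.H77.NoethObj_N1a.mono_hom_of_mono f)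
    (fun M _ _ _ i₁ i₂ _ _ h₁ h₂ => Groth.Agent.H77.NoethObj_N2a.exists_sup M i₁ i₂ h₁ h₂) M h

end Groth.Agent.H10.NoethObj_N2b
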