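import Mathlib

set_option autoImplicit false
universe u
open CategoryTheory CategoryTheory.Limits

namespace Groth.Agent.PC

/-- (Q4) an object of the derived category receiving only zero maps from objects `≤ k` is
`≥ k + 1`. -/
theorem isGE_of_hom_eq_zero {𝒜 : Type*} [Category 𝒜] [Abelian 𝒜] [HasDerivedCategory 𝒜]
    (X : DerivedCategory 𝒜) (k : ℤ)
    (h : ∀ (N : DerivedCategory 𝒜), N.IsLE k → ∀ g : N ⟶ X, g = 0) : X.IsGE (k + 1) := by
  let t := DerivedCategory.TStructure.t (C := 𝒜)
  change t.IsGE X (k + 1)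
  rw [t.isGE_iff_isZero_truncLE_obj k (k + 1) rfl X, IsZero.iff_id_eq_zero]
  apply t.to_truncLE_obj_ext
  rw [zero_comp, Category.id_comp]
  exact h _ (inferInstance : t.IsLE ((t.truncLE k).obj X) k) _

end Groth.Agent.PC
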