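import Mathlib
import Groth.Prelude.Def_DRing2
import Groth.Agent.S0564
import Groth.Agent.S9442
import Groth.Agent.H49.SmoothDescent
import Groth.Agent.H49.SmoothFppf

set_option autoImplicit false
universe u
open TensorProduct

namespace Groth.Agent.H10.PD_G1

open CAlg

/-- An open subset of a prime spectrum containing all closed points is everything. -/
theorem eq_univ_of_isOpen_of_maximal {C : Type u} [CommRing C] (U : Set (PrimeSpectrum C))
    (hU : IsOpen U) (hmax : ∀ x : PrimeSpectrum C, x.asIdeal.IsMaximal → x ∈ U) :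
    U = Set.univ := by
  refine Set.eq_univ_of_forall fun x => ?_
  obtain ⟨m, hm, hle⟩ := Ideal.exists_le_maximal x.asIdeal x.2.ne_top
  let y : PrimeSpectrum C := ⟨m, hm.isPrime⟩
  have hy : y ∈ U := hmax y hm
  have hspec : x ⤳ y := (PrimeSpectrum.le_iff_specializes x y).mp hle
  exact hU.stableUnderGeneralization hspec hy

/-- (G1) If `Ω ⊗[k] F` is regular at every maximal ideal for an algebraically closed
extension `Ω/k`, then the finite type `k`-algebra `F` is formally smooth over `k`. -/
theorem formallySmooth_of_regular_geometric (k F Ω : Type u) [Field k] [CommRing F] [Algebra k F]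
    [Algebra.FiniteType k F] [Field Ω] [IsAlgClosed Ω] [Algebra k Ω]
    (hreg : ∀ (𝔪 : Ideal (Ω ⊗[k] F)) [𝔪.IsMaximal], IsRegularLocalRing (Localization.AtPrime 𝔪)) :
    Algebra.FormallySmooth k F := by
  letI : Algebra F (Ω ⊗[k] F) := Algebra.TensorProduct.rightAlgebra
  haveI : Algebra.IsPushout k Ω F (Ω ⊗[k] F) := TensorProduct.isPushout
  haveI : Algebra.FinitePresentation k F :=
    Algebra.FinitePresentation.of_finiteType.mp inferInstance
  haveI : Algebra.FiniteType Ω (Ω ⊗[k] F) := inferInstance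
  haveI : Algebra.FinitePresentation Ω (Ω ⊗[k] F) :=
    Algebra.FinitePresentation.of_finiteType.mp inferInstance
  -- smooth locus of `Ω ⊗ F` over `Ω` is everything
  have huniv : Algebra.smoothLocus Ω (Ω ⊗[k] F) = Set.univ := by
    refine eq_univ_of_isOpen_of_maximal _ Algebra.isOpen_smoothLocus fun x hx => ?_
    haveI := hx
    haveI : Algebra.IsGeometricallyReduced Ω x.asIdeal.ResidueField :=
      Groth.Agent.H49.SmoothFppf.isGeometricallyReduced_of_isAlgClosed Ω _
    exact (Groth.Agent.S9442.result Ω (Ω ⊗[k] F) x.asIdeal).mpr (hreg x.asIdeal)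
  -- faithful flatness of `F → Ω ⊗ F`
  haveI : Module.FaithfullyFlat k Ω := inferInstance
  haveI : Module.FaithfullyFlat F (Ω ⊗[k] F) :=
    RingHom.FaithfullyFlat.isStableUnderBaseChange k Ω F (Ω ⊗[k] F)
      ((RingHom.faithfullyFlat_algebraMap_iff).mpr inferInstance)
  rw [← Algebra.smoothLocus_eq_univ_iff]
  refine Set.eq_univ_of_forall fun q => ?_
  obtain ⟨Q, hQ, hQq⟩ := Ideal.exists_isPrime_liesOver_of_faithfullyFlat
    (B := Ω ⊗[k] F) q.asIdeal
  haveI : Q.LiesOver (⊥ : Ideal Ω) := ⟨(Ideal.eq_bot_of_prime _).symm⟩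
  have hsm : Algebra.FormallySmooth Ω (Localization.AtPrime Q) := by
    have : (⟨Q, hQ⟩ : PrimeSpectrum (Ω ⊗[k] F)) ∈ Algebra.smoothLocus Ω (Ω ⊗[k] F) := by
      rw [huniv]; trivial
    exact this
  exact Groth.Agent.H49.SmoothDescent.formallySmooth_localization_descent k Ω F (Ω ⊗[k] F)
    (⊥ : Ideal Ω) Q q.asIdeal inferInstance hsm

end Groth.Agent.H10.PD_G1
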