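-- Finite projective modules descend along a glueing pair.
import Groth.Agent.H10.FlatDescent
import Groth.Agent.S2006
import Mathlib.Algebra.Module.FinitePresentation
import Mathlib.RingTheory.Flat.EquationalCriterion
import Mathlib.RingTheory.Localization.Finiteness

set_option autoImplicit false
universe u

namespace Groth.Agent.H10.ProjDescent

open TensorProduct

/-- The kernel of a surjection from a finite module onto a projective module is finite. -/
theorem finite_of_exact_of_projective {A : Type u} [CommRing A] {K F P : Type u}
    [AddCommGroup K] [Module A K] [AddCommGroup F] [Module A F] [AddCommGroup P] [Module A P]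
    [Module.Finite A F] [Module.Projective A P] (ι : K →ₗ[A] F) (π : F →ₗ[A] P)
    (hι : Function.Injective ι) (hπ : Function.Surjective π) (hex : Function.Exact ι π) :
    Module.Finite A K := by
  obtain ⟨s, hs⟩ := Module.projective_lifting_property π LinearMap.id hπ
  have hs' : ∀ x, π (s x) = x := fun x => LinearMap.congr_fun hs x
  -- retraction `F → K`
  have hmem : ∀ x : F, ∃ k : K, ι k = x - s (π x) := fun x => by
    have : π (x - s (π x)) = 0 := by rw [map_sub, hs', sub_self]
    exact (hex _).mp this
  choose r hr using hmem
  let rl : F →ₗ[A] K :=
    { toFun := r
      map_add' := fun x y => hι (by rw [map_add, hr, hr, hr, map_add, map_add]; abel)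
      map_smul' := fun a x => hι (by
        rw [map_smul, hr, hr, RingHom.id_apply, map_smul, map_smul, smul_sub]) }
  have hsurj : Function.Surjective rl := fun k => ⟨ι k, hι (by
    change ι (r (ι k)) = ι k
    rw [hr, hex.apply_apply_eq_zero, map_zero, sub_zero])⟩
  exact Module.Finite.of_surjective rl hsurj

/-- Base change of the kernel of a presentation is finite, if the base change of the module is
projective and the base changed sequence stays left exact. -/
theorem finite_baseChange_ker {R : Type u} [CommRing R] (A : Type u) [CommRing A] [Algebra R A]
    {F M : Type u} [AddCommGroup F] [Module R F] [Module.Finite R F] [AddCommGroup M] [Module R M]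
    (π : F →ₗ[R] M) (hπ : Function.Surjective π)
    (hinj : Function.Injective ((LinearMap.ker π).subtype.lTensor A))
    [Module.Projective A (A ⊗[R] M)] : Module.Finite A (A ⊗[R] LinearMap.ker π) := by
  have hex : Function.Exact (LinearMap.ker π).subtype π := LinearMap.exact_subtype_ker_map π
  exact finite_of_exact_of_projective ((LinearMap.ker π).subtype.baseChange A) (π.baseChange A)
    hinj (LinearMap.lTensor_surjective A hπ) (lTensor_exact A hex hπ)

variable {R R' : Type u} [CommRing R] [CommRing R'] [Algebra R R'] {f : R}

/-- Finite projective modules descend along a glueing pair. -/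
theorem finite_projective_of_glueingPair (hRR : EtGlue.IsGlueingPair R R' f) (M : Type u)
    [AddCommGroup M] [Module R M]
    (h1 : Module.Finite R' (R' ⊗[R] M)) (h1' : Module.Projective R' (R' ⊗[R] M))
    (h2 : Module.Finite (Localization.Away f) (LocalizedModule (Submonoid.powers f) M))
    (h2' : Module.Projective (Localization.Away f) (LocalizedModule (Submonoid.powers f) M)) :
    Module.Finite R M ∧ Module.Projective R M := by
  have hfin : Module.Finite R M := (Groth.Agent.S2006.result R R' f hRR.1 M).mpr ⟨h1, h2⟩
  have hflat : Module.Flat R M := FlatDescent.flat_of_flat_of_flat hRR inferInstance inferInstance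
  refine ⟨hfin, ?_⟩
  obtain ⟨n, π, hπ⟩ := Module.Finite.exists_fin' R M
  let K : Submodule R (Fin n → R) := LinearMap.ker π
  have hex : Function.Exact K.subtype π := LinearMap.exact_subtype_ker_map π
  -- base change to `R'`
  have hK1 : Module.Finite R' (R' ⊗[R] K) :=
    finite_baseChange_ker R' π hπ
      (LinearMap.lTensor_injective_of_exact_of_flat π hπ K.subtype (Submodule.subtype_injective _)
        hex R')
  -- base change to `R_f`
  have hproj : Module.Projective (Localization.Away f) (Localization.Away f ⊗[R] M) :=
    Module.Projective.of_equiv' (LocalizedModule.isBaseChange (Submonoid.powers f) M).equiv.symm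
  have hK2' : Module.Finite (Localization.Away f) (Localization.Away f ⊗[R] K) :=
    finite_baseChange_ker (Localization.Away f) π hπ
      (Module.Flat.lTensor_preserves_injective_linearMap _ (Submodule.subtype_injective _))
  have hK2 : Module.Finite (Localization.Away f) (LocalizedModule (Submonoid.powers f) K) :=
    Module.Finite.equiv (LocalizedModule.isBaseChange (Submonoid.powers f) K).equiv
  have hKfin : Module.Finite R K := (Groth.Agent.S2006.result R R' f hRR.1 K).mpr ⟨hK1, hK2⟩
  have hfp : Module.FinitePresentation R M :=
    Module.finitePresentation_of_surjective π hπ (Module.Finite.iff_fg.mp hKfin)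
  exact Module.Flat.projective_of_finitePresentation

end Groth.Agent.H10.ProjDescent
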