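import Mathlib
import Groth.Agent.H66.FlatFP
import Groth.Agent.Lead.NagataVal

/-! Coherence of finitely presented algebras over Prüfer domains (helper10).
Globalises the valuation-ring case (Lead/NagataVal) via H66.FlatFP (openness of flat locus). -/

set_option autoImplicit false
set_option linter.style.haveILetI false

universe u

namespace Groth.Agent.H10.PruferCoh

/-- Over a Prüfer domain, torsion-free modules are flat. -/
theorem flat_of_torsionFree (R : Type*) [CommRing R] [IsDomain R]
    (hR : ∀ (p : Ideal R) [p.IsPrime], ValuationRing (Localization.AtPrime p))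
    (M : Type*) [AddCommGroup M] [Module R M]
    (htf : ∀ (r : R) (x : M), r ≠ 0 → r • x = 0 → x = 0) : Module.Flat R M := by
  refine Module.flat_of_localized_maximal (R := R) (M := M) fun J hJ => ?_
  haveI := hR J
  haveI : Module.Flat (Localization.AtPrime J) (LocalizedModule J.primeCompl M) := by
    rw [Module.Flat.flat_iff_torsion_eq_bot_of_isBezout, eq_bot_iff]
    intro x hx
    rw [Submodule.mem_torsion_iff] at hx
    obtain ⟨⟨a, ha⟩, hax⟩ := hx
    rw [Submodule.mem_bot]
    have ha0 : a ≠ 0 := nonZeroDivisors.ne_zero ha
    obtain ⟨r, s, hrs⟩ := IsLocalization.exists_mk'_eq J.primeCompl a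
    have hr0 : r ≠ 0 := by
      rintro rfl
      apply ha0
      rw [← hrs, IsLocalization.mk'_zero]
    have h1 : algebraMap R (Localization.AtPrime J) r = algebraMap R (Localization.AtPrime J) s * a := by
      rw [← hrs, IsLocalization.mk'_spec']
    have h2 : r • x = 0 := by
      rw [← algebraMap_smul (Localization.AtPrime J) r x, h1, mul_smul]
      change _ • (a • x) = 0
      rw [show a • x = 0 from hax, smul_zero]
    induction x using LocalizedModule.induction_on with
    | h m t =>
      rw [LocalizedModule.smul'_mk, ← LocalizedModule.zero_mk t, LocalizedModule.mk_eq] at h2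
      obtain ⟨u, hu⟩ := h2
      have hu0 : (u : R) ≠ 0 := fun h => u.2 (by rw [h]; exact J.zero_mem)
      have h3 : ((u : R) * ((t : R) * r)) • m = 0 := by
        have := hu
        simp only [smul_zero, Submonoid.smul_def] at this
        rw [mul_smul, mul_smul]; exact this
      have ht0 : (t : R) ≠ 0 := fun h => t.2 (by rw [h]; exact J.zero_mem)
      have h4 := htf _ m (mul_ne_zero hu0 (mul_ne_zero ht0 hr0)) h3
      rw [h4, LocalizedModule.zero_mk]
  exact Module.Flat.trans R (Localization.AtPrime J) _

/-- **Raynaud–Gruson over a Prüfer domain**: a finite module over a finitely presented algebra over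
a Prüfer domain `R` which is `R`-torsion-free is finitely presented. -/
theorem finitePresentation_of_torsionFree {R : Type u} [CommRing R] [IsDomain R]
    (hR : ∀ (p : Ideal R) [p.IsPrime], ValuationRing (Localization.AtPrime p))
    {S M : Type u} [CommRing S] [Algebra R S] [Algebra.FinitePresentation R S]
    [AddCommGroup M] [Module S M] [Module R M] [IsScalarTower R S M] [Module.Finite S M]
    (htf : ∀ (r : R) (x : M), r ≠ 0 → r • x = 0 → x = 0) :
    Module.FinitePresentation S M := by
  classical
  haveI : Module.Flat R M := flat_of_torsionFree R hR M htf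
  refine Groth.Agent.H66.FlatFP.finitePresentation_of_flat (R := R) (S := S) (M := M)
    {⟨⊥, Ideal.isPrime_bot⟩} ?_ ?_
  · intro a b hab
    have h1 := congrFun hab ⟨⟨⊥, Ideal.isPrime_bot⟩, Finset.mem_singleton_self _⟩
    refine IsLocalization.injective (Localization.AtPrime (⊥ : Ideal R))
      (M := (⊥ : Ideal R).primeCompl) ?_ h1
    intro x hx
    exact mem_nonZeroDivisors_of_ne_zero (fun h => hx (by rw [h]; exact Ideal.zero_mem _))
  · intro p hp
    haveI := hR p
    let T : Submonoid S := Algebra.algebraMapSubmonoid S p.primeCompl
    haveI : Algebra.EssFiniteType S (Localization T) :=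
      Algebra.EssFiniteType.of_isLocalization (Localization T) T
    haveI : Algebra.EssFiniteType R (Localization T) := Algebra.EssFiniteType.comp R S _
    haveI : Algebra.EssFiniteType (Localization.AtPrime p) (Localization T) :=
      Algebra.EssFiniteType.of_comp R (Localization.AtPrime p) (Localization T)
    letI : Module (Localization.AtPrime p) (LocalizedModule T M) :=
      Module.compHom _ (algebraMap (Localization.AtPrime p) (Localization T))
    haveI : IsScalarTower (Localization.AtPrime p) (Localization T) (LocalizedModule T M) :=
      ⟨fun a b x => by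
        change (a • b) • x = algebraMap (Localization.AtPrime p) (Localization T) a • b • x
        rw [Algebra.smul_def, mul_smul]⟩
    refine Groth.Agent.Lead.NagataVal.finitePresentation_of_essFiniteType
      (R := Localization.AtPrime p) (Localization T) (LocalizedModule T M) ?_
    intro r x hr hrx
    have hrx' : algebraMap (Localization.AtPrime p) (Localization T) r • x = 0 := hrx
    obtain ⟨a, s, hrs⟩ := IsLocalization.exists_mk'_eq p.primeCompl r
    have ha0 : a ≠ 0 := by
      rintro rfl
      apply hr
      rw [← hrs, IsLocalization.mk'_zero]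
    have h1 : algebraMap R (Localization.AtPrime p) a
        = algebraMap R (Localization.AtPrime p) s * r := by
      rw [← hrs, IsLocalization.mk'_spec']
    have h2 : algebraMap S (Localization T) (algebraMap R S a) • x = 0 := by
      rw [← IsScalarTower.algebraMap_apply R S (Localization T),
        IsScalarTower.algebraMap_apply R (Localization.AtPrime p) (Localization T), h1, map_mul,
        mul_smul, hrx', smul_zero]
    induction x using LocalizedModule.induction_on with
    | h m t =>
      rw [algebraMap_smul, LocalizedModule.smul'_mk, ← LocalizedModule.zero_mk t,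
        LocalizedModule.mk_eq] at h2
      obtain ⟨u, hu⟩ := h2
      obtain ⟨u', hu', hu'u⟩ := u.2
      obtain ⟨t', ht', ht't⟩ := t.2
      have hu0 : u' ≠ 0 := fun h => hu' (by rw [h]; exact p.zero_mem)
      have ht0 : t' ≠ 0 := fun h => ht' (by rw [h]; exact p.zero_mem)
      have h3 : (u' * (t' * a)) • m = 0 := by
        have := hu
        simp only [smul_zero, Submonoid.smul_def] at this
        rw [← hu'u, ← ht't] at this
        rw [mul_smul, mul_smul, ← algebraMap_smul S u', ← algebraMap_smul S t',
          ← algebraMap_smul S a]
        exact this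
      have h4 := htf _ m (mul_ne_zero hu0 (mul_ne_zero ht0 ha0)) h3
      rw [h4, LocalizedModule.zero_mk]

/-- A finitely presented algebra over a Prüfer domain is a coherent ring. -/
theorem ideal_finitePresentation (R : Type u) [CommRing R] [IsDomain R]
    (hR : ∀ (p : Ideal R) [p.IsPrime], ValuationRing (Localization.AtPrime p))
    (A : Type u) [CommRing A] [Algebra R A] [Algebra.FinitePresentation R A]
    (I : Ideal A) (hI : I.FG) : Module.FinitePresentation A I := by
  classical
  obtain ⟨n, f, hf, hker⟩ := Algebra.FinitePresentation.out (R := R) (A := A)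
  letI : Algebra (MvPolynomial (Fin n) R) A := f.toRingHom.toAlgebra
  haveI : IsScalarTower R (MvPolynomial (Fin n) R) A :=
    IsScalarTower.of_algebraMap_eq' f.comp_algebraMap.symm
  have hAC : Function.Surjective (algebraMap (MvPolynomial (Fin n) R) A) := hf
  let I' : Ideal (MvPolynomial (Fin n) R) := I.comap (algebraMap (MvPolynomial (Fin n) R) A)
  have hkerle : RingHom.ker (algebraMap (MvPolynomial (Fin n) R) A) ≤ I' := fun x hx => by
    change algebraMap _ A x ∈ I
    rw [(RingHom.mem_ker).1 hx]; exact I.zero_mem
  have hI' : I'.FG := by
    have h1 := Ideal.fg_ker_comp (algebraMap (MvPolynomial (Fin n) R) A) (Ideal.Quotient.mk I) hker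
      (by rw [Ideal.mk_ker]; exact hI) hAC
    rw [← RingHom.comap_ker, Ideal.mk_ker] at h1
    exact h1
  haveI : Module.Finite (MvPolynomial (Fin n) R) I' := Module.Finite.iff_fg.2 hI'
  haveI : Module.FinitePresentation (MvPolynomial (Fin n) R) I' := by
    refine finitePresentation_of_torsionFree hR (S := MvPolynomial (Fin n) R) (M := I') ?_
    intro r x hr hrx
    have h1 : (MvPolynomial.C r : MvPolynomial (Fin n) R) * x.1 = 0 := by
      have := congrArg Subtype.val hrx
      rw [Submodule.coe_smul_of_tower, MvPolynomial.smul_eq_C_mul] at this
      exact this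
    rcases mul_eq_zero.1 h1 with h | h
    · exact absurd ((MvPolynomial.C_eq_zero).1 h) hr
    · exact Subtype.ext h
  let g : I' →ₗ[MvPolynomial (Fin n) R] I :=
    { toFun := fun x => ⟨algebraMap (MvPolynomial (Fin n) R) A x.1, x.2⟩
      map_add' := fun x y => Subtype.ext (map_add _ _ _)
      map_smul' := fun c x => Subtype.ext (by
        change algebraMap (MvPolynomial (Fin n) R) A (c * x.1) = c • algebraMap _ A x.1
        rw [map_mul, Algebra.smul_def]) }
  have hg : Function.Surjective g := by
    rintro ⟨y, hy⟩
    obtain ⟨x, rfl⟩ := hAC y
    exact ⟨⟨x, hy⟩, rfl⟩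
  have hkg : (LinearMap.ker g).FG := by
    refine Submodule.fg_of_fg_map_injective I'.subtype Subtype.val_injective ?_
    have h1 : (LinearMap.ker g).map I'.subtype
        = RingHom.ker (algebraMap (MvPolynomial (Fin n) R) A) := by
      ext x
      constructor
      · rintro ⟨y, hy, rfl⟩
        have := congrArg Subtype.val ((LinearMap.mem_ker).1 hy)
        exact this
      · intro hx
        refine ⟨⟨x, hkerle hx⟩, ?_, rfl⟩
        rw [SetLike.mem_coe, LinearMap.mem_ker]
        exact Subtype.ext ((RingHom.mem_ker).1 hx)
    rw [h1]
    exact hker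
  haveI : Module.FinitePresentation (MvPolynomial (Fin n) R) I :=
    Module.finitePresentation_of_surjective g hg hkg
  exact Groth.Agent.Lead.NagataVal.finitePresentation_of_surjective
    (A := MvPolynomial (Fin n) R) (C := A) hAC

end Groth.Agent.H10.PruferCoh
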