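import Mathlib
import Groth.Prelude
import Groth.Agent.H42.QH_Def

/-! (Q1) of helper42's S14112 squad: `QhBij` is preserved by an exact fully faithful functor whose
derived functor is fully faithful. -/

set_option autoImplicit false
universe w₁ w₂ v₁ v₂ u₁ u₂ u
open CategoryTheory CategoryTheory.Limits AlgebraicGeometry
open Groth.Agent.H42.QH

namespace Groth.Agent.H10.QH_Q1

theorem Q1 {C : Type u₁} {D : Type u₂} [Category.{v₁} C] [Category.{v₂} D] [Abelian C] [Abelian D]
    [HasDerivedCategory.{w₁} C] [HasDerivedCategory.{w₂} D] (Φ : C ⥤ D) [Φ.Additive]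
    [PreservesFiniteLimits Φ] [PreservesFiniteColimits Φ] [Φ.Full] [Φ.Faithful]
    [Φ.mapDerivedCategory.Full] [Φ.mapDerivedCategory.Faithful] (K L : CochainComplex C ℤ)
    (h : QhBij K L) :
    QhBij ((Φ.mapHomologicalComplex (ComplexShape.up ℤ)).obj K)
      ((Φ.mapHomologicalComplex (ComplexShape.up ℤ)).obj L) := by
  unfold QhBij at h ⊢
  let q₁ := HomotopyCategory.quotient C (ComplexShape.up ℤ)
  let ΦH := Φ.mapHomotopyCategory (ComplexShape.up ℤ)
  let iso := Φ.mapDerivedCategoryFactorsh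
  have hT : Function.Bijective (fun φ : q₁.obj K ⟶ q₁.obj L => ΦH.map φ) :=
    ⟨fun _ _ h => ΦH.map_injective h, fun ψ => ΦH.map_surjective ψ⟩
  have hD : Function.Bijective (fun g : DerivedCategory.Qh.obj (q₁.obj K) ⟶
      DerivedCategory.Qh.obj (q₁.obj L) => Φ.mapDerivedCategory.map g) :=
    ⟨fun _ _ h => Φ.mapDerivedCategory.map_injective h,
      fun ψ => Φ.mapDerivedCategory.map_surjective ψ⟩
  have hc : Function.Bijective (Iso.homCongr (iso.app (q₁.obj K)) (iso.app (q₁.obj L))) :=
    Equiv.bijective _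
  have hcomp := hc.comp (hD.comp h)
  refine (Function.Bijective.of_comp_iff _ hT).mp ?_
  have key : ((fun φ' : (HomotopyCategory.quotient D (ComplexShape.up ℤ)).obj
        ((Φ.mapHomologicalComplex (ComplexShape.up ℤ)).obj K) ⟶
        (HomotopyCategory.quotient D (ComplexShape.up ℤ)).obj
        ((Φ.mapHomologicalComplex (ComplexShape.up ℤ)).obj L) => DerivedCategory.Qh.map φ') ∘
      (fun φ : q₁.obj K ⟶ q₁.obj L => ΦH.map φ)) =
      (Iso.homCongr (iso.app (q₁.obj K)) (iso.app (q₁.obj L))) ∘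
        ((fun g : DerivedCategory.Qh.obj (q₁.obj K) ⟶
          DerivedCategory.Qh.obj (q₁.obj L) => Φ.mapDerivedCategory.map g) ∘
        (fun φ : q₁.obj K ⟶ q₁.obj L => DerivedCategory.Qh.map φ)) := by
    funext φ
    have hn := iso.hom.naturality φ
    simp only [Function.comp_apply, Iso.homCongr_apply, Iso.app_inv, Iso.app_hom]
    change _ = iso.inv.app (q₁.obj K) ≫ (DerivedCategory.Qh ⋙ Φ.mapDerivedCategory).map φ ≫
      iso.hom.app (q₁.obj L)
    rw [hn, Iso.inv_hom_id_app_assoc]
    rfl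
  exact (congrArg Function.Bijective key).mpr hcomp

end Groth.Agent.H10.QH_Q1
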