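import Mathlib
import Groth.Prelude.Def_SGA1

/-! (AG) of helper79's S2907 squad: gluing a locally directed family of quotient charts. -/

set_option autoImplicit false
universe u
open CategoryTheory CategoryTheory.Limits AlgebraicGeometry

namespace Groth.Agent.H10.QuotGlue_AG

theorem exists_glued {X : Scheme.{u}} (ℬ : Set X.Opens) (hcov : ∀ x : X, ∃ V ∈ ℬ, x ∈ V)
    (hdir : ∀ V ∈ ℬ, ∀ V' ∈ ℬ, ∀ x : X, x ∈ V → x ∈ V' → ∃ V'' ∈ ℬ, x ∈ V'' ∧ V'' ≤ V ∧ V'' ≤ V')
    (Y : ℬ → Scheme.{u}) (q : ∀ V : ℬ, V.1.toScheme ⟶ Y V)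
    (hsurj : ∀ V : ℬ, Function.Surjective (q V).base)
    (m : ∀ (V V' : ℬ), V.1 ≤ V'.1 → (Y V ⟶ Y V'))
    (hm_open : ∀ (V V' : ℬ) (h : V.1 ≤ V'.1), IsOpenImmersion (m V V' h))
    (hm_id : ∀ V : ℬ, m V V le_rfl = 𝟙 _)
    (hm_comp : ∀ (V V' V'' : ℬ) (h : V.1 ≤ V'.1) (h' : V'.1 ≤ V''.1),
      m V V' h ≫ m V' V'' h' = m V V'' (h.trans h'))
    (hqm : ∀ (V V' : ℬ) (h : V.1 ≤ V'.1), q V ≫ m V V' h = X.homOfLE h ≫ q V')
    (hsat : ∀ (V V' : ℬ) (h : V.1 ≤ V'.1) (x : V'.1.toScheme),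
      (q V').base x ∈ Set.range (m V V' h).base → V'.1.ι.base x ∈ V.1) :
    ∃ (Z : Scheme.{u}) (p : X ⟶ Z) (ι : ∀ V : ℬ, Y V ⟶ Z), (∀ V, IsOpenImmersion (ι V)) ∧
      (∀ V : ℬ, V.1.ι ≫ p = q V ≫ ι V) ∧
      (∀ (V : ℬ) (x : X), p.base x ∈ Set.range (ι V).base ↔ x ∈ V.1) ∧
      (∀ z : Z, ∃ (V : ℬ) (y : Y V), (ι V).base y = z) := by
  classical
  let F : ℬ ⥤ Scheme.{u} :=
    { obj := Y
      map := fun {V V'} f => m V V' f.le
      map_id := fun V => hm_id V
      map_comp := fun f g => (hm_comp _ _ _ f.le g.le).symm }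
  haveI hopen : ∀ {i j : ℬ} (f : i ⟶ j), IsOpenImmersion (F.map f) := fun f => hm_open _ _ f.le
  have hA : ∀ (V V' : ℬ) (h : V.1 ≤ V'.1) (a : V.1.toScheme),
      (m V V' h).base ((q V).base a) = (q V').base ((X.homOfLE h).base a) := by
    intro V V' h a
    have := congrArg (fun f => f.base a) (hqm V V' h)
    simp at this
    exact this
  have hB : ∀ (V V' : ℬ) (h : V.1 ≤ V'.1) (a : V.1.toScheme),
      V'.1.ι.base ((X.homOfLE h).base a) = V.1.ι.base a := by
    intro V V' h a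
    have := congrArg (fun f => f.base a) (X.homOfLE_ι h)
    simpa using this
  have hinj : ∀ (V : ℬ) (a b : V.1.toScheme), V.1.ι.base a = V.1.ι.base b → a = b :=
    fun V a b h => V.1.ι.isOpenEmbedding.injective h
  haveI : (F ⋙ Scheme.forget).IsLocallyDirected := by
    constructor
    intro i j k fi fj xi xj hx
    have hx' : (m i k fi.le).base xi = (m j k fj.le).base xj := hx
    obtain ⟨ai, rfl⟩ := hsurj i xi
    obtain ⟨aj, rfl⟩ := hsurj j xj
    have hmem : k.1.ι.base ((X.homOfLE fj.le).base aj) ∈ i.1 :=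
      hsat i k fi.le _ ⟨(q i).base ai, by rw [hx', hA]⟩
    rw [hB] at hmem
    obtain ⟨W, hW, haW, hWi, hWj⟩ := hdir i.1 i.2 j.1 j.2 (j.1.ι.base aj) hmem aj.2
    let l : ℬ := ⟨W, hW⟩
    let b : l.1.toScheme := ⟨j.1.ι.base aj, haW⟩
    have hb : l.1.ι.base b = j.1.ι.base aj := rfl
    have hbj : (X.homOfLE hWj).base b = aj := hinj j _ _ (by rw [hB l j hWj b, hb])
    refine ⟨l, homOfLE hWi, homOfLE hWj, (q l).base b, ?_, ?_⟩
    · change (m l i hWi).base ((q l).base b) = (q i).base ai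
      haveI := hm_open i k fi.le
      apply (m i k fi.le).isOpenEmbedding.injective
      rw [hx', hA l i hWi b, hA, hA]
      congr 1
      apply hinj k
      rw [hB, hB, hB l i hWi b, hb]
    · change (m l j hWj).base ((q l).base b) = (q j).base aj
      rw [hA l j hWj b, hbj]
  let 𝒰 : X.OpenCover :=
    { I₀ := ℬ
      X := fun V => V.1.toScheme
      f := fun V => V.1.ι
      mem₀ := by
        rw [Scheme.presieve₀_mem_precoverage_iff]
        refine ⟨fun x => ?_, inferInstance⟩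
        obtain ⟨V, hV, hx⟩ := hcov x
        exact ⟨⟨V, hV⟩, ⟨x, hx⟩, rfl⟩ }
  letI : Category 𝒰.I₀ := inferInstanceAs (Category ℬ)
  letI : 𝒰.LocallyDirected :=
    { trans := fun {i j} f => X.homOfLE (show i.1 ≤ j.1 from f.le)
      trans_id := fun i => by
        rw [← cancel_mono (𝒰.f i)]
        simp [𝒰]
      trans_comp := fun {i j k} f g => by
        rw [← cancel_mono (𝒰.f k)]
        simp [𝒰]
      w := fun {i j} f => X.homOfLE_ι _
      directed := fun {U V} x => by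
        let a := (pullback.fst U.1.ι V.1.ι ≫ U.1.ι) x
        have haU : a ∈ U.1 := (pullback.fst U.1.ι V.1.ι x).2
        have haV : a ∈ V.1 := by
          unfold a; rw [pullback.condition]; exact (pullback.snd U.1.ι V.1.ι x).2
        obtain ⟨W, hW, haW, hWU, hWV⟩ := hdir U.1 U.2 V.1 V.2 a haU haV
        refine ⟨⟨W, hW⟩, homOfLE hWU, homOfLE hWV, ⟨a, haW⟩, ?_⟩
        apply (pullback.fst U.1.ι V.1.ι ≫ U.1.ι).isOpenEmbedding.injective
        dsimp
        change (pullback.lift _ _ _ ≫ pullback.fst _ _ ≫ U.1.ι) _ = _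
        simp only [pullback.lift_fst_assoc, Scheme.homOfLE_ι]
        rfl
      property_trans := fun {i j} f => by
        change IsOpenImmersion (X.homOfLE _)
        infer_instance }
  let p : X ⟶ colimit F := 𝒰.glueMorphismsOfLocallyDirected (fun V => q V ≫ colimit.ι F V)
    (fun {V V'} hij => by
      change X.homOfLE (show V.1 ≤ V'.1 from hij.le) ≫ q V' ≫ colimit.ι F V' =
        q V ≫ colimit.ι F V
      rw [← Category.assoc, ← hqm V V' hij.le, Category.assoc]
      congr 1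
      exact colimit.w F hij)
  have hp : ∀ V : ℬ, V.1.ι ≫ p = q V ≫ colimit.ι F V :=
    fun V => 𝒰.map_glueMorphismsOfLocallyDirected _ _ V
  refine ⟨colimit F, p, fun V => colimit.ι F V, fun V => inferInstance, hp, ?_, ?_⟩
  · intro V x
    constructor
    · rintro ⟨y, hy⟩
      obtain ⟨V', hV', hx⟩ := hcov x
      let V'' : ℬ := ⟨V', hV'⟩
      let x' : V''.1.toScheme := ⟨x, hx⟩
      have h1 : p.base x = (colimit.ι F V'').base ((q V'').base x') := by
        have := congrArg (fun f => f.base x') (hp V'')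
        simp at this
        exact this
      rw [h1] at hy
      obtain ⟨k, fi, fj, w, hw1, hw2⟩ := (Scheme.IsLocallyDirected.ι_eq_ι_iff F).mp hy
      have := hsat k V'' fj.le x' ⟨w, hw2⟩
      exact fi.le this
    · intro hx
      refine ⟨(q V).base ⟨x, hx⟩, ?_⟩
      have := congrArg (fun f => f.base ⟨x, hx⟩) (hp V)
      simp at this
      exact this.symm
  · intro z
    obtain ⟨i, xi, h⟩ := Scheme.IsLocallyDirected.ι_jointly_surjective F z
    exact ⟨i, xi, h⟩

end Groth.Agent.H10.QuotGlue_AG
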