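import Mathlib
import Groth.Agent.H52.SL.Defs

/-! (P1) for S10259: `LiftsLE e 0` forces the source to be empty. -/

set_option autoImplicit false
universe u
open CategoryTheory CategoryTheory.Limits AlgebraicGeometry Opposite
open Groth.Agent.H52.SL

namespace Groth.Agent.H10.SL_P1

theorem isEmpty_of_liftsLE_zero {T' T : Scheme.{u}} (e : T' ⟶ T) (h : LiftsLE e 0) :
    IsEmpty ↥T' := by
  refine ⟨fun t' => ?_⟩
  let σ : Spec (CommRingCat.of (T'.residueField t')) ⟶ T' := T'.fromSpecResidueField t'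
  have h1 := h (T'.residueField t') (σ ≫ e)
  have h2 : Set.encard {σ' : Spec (CommRingCat.of (T'.residueField t')) ⟶ T' | σ' ≫ e = σ ≫ e}
      = 0 := by
    exact le_antisymm (by simpa using h1) zero_le
  rw [Set.encard_eq_zero] at h2
  have h3 : σ ∈ {σ' : Spec (CommRingCat.of (T'.residueField t')) ⟶ T' | σ' ≫ e = σ ≫ e} := rfl
  rw [h2] at h3
  exact h3

end Groth.Agent.H10.SL_P1
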