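import Mathlib
import Groth.Agent.H52.SL.Defs

/-! (P2) for S10259: an étale morphism of affine schemes has uniformly boundedly many lifts of
field-valued points. -/

set_option autoImplicit false
set_option linter.style.haveILetI false
set_option linter.deprecated false
universe u
open Polynomial CategoryTheory CategoryTheory.Limits AlgebraicGeometry Opposite
open Groth.Agent.H52.SL

namespace Groth.Agent.H10.SL_P2

/-- algebra maps out of a standard etale algebra into a field: at most `deg f`. -/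
theorem encard_algHom_le_of_presentation {A S : Type u} [CommRing A] [CommRing S] [Algebra A S]
    (P : StandardEtalePresentation A S) (Ω : Type u) [Field Ω] [Algebra A Ω] :
    Set.encard (Set.univ : Set (S →ₐ[A] Ω)) ≤ (P.f.natDegree : ℕ∞) := by
  classical
  let ev : (S →ₐ[A] Ω) → Ω := fun τ => τ P.x
  have hinj : Function.Injective ev := fun τ τ' h => P.hom_ext h
  let R : Finset Ω := (P.f.map (algebraMap A Ω)).roots.toFinset
  have hmaps : Set.MapsTo ev Set.univ (R : Set Ω) := by
    intro τ _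
    have h0 : aeval (τ P.x) P.f = 0 := by
      rw [aeval_algHom_apply, P.hasMap.1, map_zero]
    have hne : P.f.map (algebraMap A Ω) ≠ 0 := (P.monic_f.map _).ne_zero
    simp only [R, Finset.mem_coe, Multiset.mem_toFinset, mem_roots hne, IsRoot.def]
    rw [Polynomial.eval_map, ← Polynomial.aeval_def]
    exact h0
  calc Set.encard (Set.univ : Set (S →ₐ[A] Ω)) ≤ Set.encard (R : Set Ω) :=
        Set.encard_le_encard_of_injOn hmaps (hinj.injOn)
    _ = (R.card : ℕ∞) := Set.encard_coe_eq_coe_finsetCard R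
    _ ≤ (P.f.natDegree : ℕ∞) := by
        have h1 : R.card ≤ Multiset.card (P.f.map (algebraMap A Ω)).roots :=
          Multiset.toFinset_card_le _
        have h2 := Polynomial.card_roots' (P.f.map (algebraMap A Ω))
        have h3 : (P.f.map (algebraMap A Ω)).natDegree ≤ P.f.natDegree := natDegree_map_le
        exact_mod_cast h1.trans (h2.trans h3)

/-- a uniform bound for the number of points of the fibres of an etale algebra. -/
theorem exists_bound_of_etale (A A' : Type u) [CommRing A] [CommRing A'] [Algebra A A']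
    [Algebra.Etale A A'] :
    ∃ n : ℕ, ∀ (Ω : Type u) [Field Ω] [Algebra A Ω],
      Set.encard (Set.univ : Set (A' →ₐ[A] Ω)) ≤ (n : ℕ∞) := by
  classical
  let s : Set A' := {f | Algebra.IsStandardEtale A (Localization.Away f)}
  have hs : Ideal.span s = ⊤ := by
    by_contra hne
    obtain ⟨M, hM, hle⟩ := Ideal.exists_le_maximal _ hne
    haveI : M.IsPrime := hM.isPrime
    obtain ⟨f, hfM, hf⟩ := Algebra.IsEtaleAt.exists_isStandardEtale (R := A) M
    exact hfM (hle (Ideal.subset_span hf))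
  obtain ⟨s', hs's, hs'⟩ := (Ideal.span_eq_top_iff_finite s).mp hs
  have hP : ∀ f : A', f ∈ s → Nonempty (StandardEtalePresentation A (Localization.Away f)) :=
    fun f hf => hf.nonempty_standardEtalePresentation
  let d : A' → ℕ := fun f => if h : f ∈ s then (Classical.choice (hP f h)).f.natDegree else 0
  refine ⟨∑ f ∈ s', d f, fun Ω _ _ => ?_⟩
  have hcov : (Set.univ : Set (A' →ₐ[A] Ω)) ⊆ ⋃ f ∈ s', {τ : A' →ₐ[A] Ω | τ f ≠ 0} := by
    intro τ _
    by_contra hcon
    simp only [Set.mem_iUnion, Set.mem_setOf_eq, exists_prop, not_exists, not_and, not_not] at hcon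
    have h1 : Ideal.span (s' : Set A') ≤ RingHom.ker τ.toRingHom := by
      rw [Ideal.span_le]
      intro f hf
      exact hcon f hf
    rw [hs'] at h1
    have h2 : (1 : A') ∈ RingHom.ker τ.toRingHom := h1 trivial
    rw [RingHom.mem_ker] at h2
    simp at h2
  have hbd : ∀ f ∈ s', Set.encard {τ : A' →ₐ[A] Ω | τ f ≠ 0} ≤ (d f : ℕ∞) := by
    intro f hf
    have hfs : f ∈ s := hs's hf
    let Pf := Classical.choice (hP f hfs)
    have hd : d f = Pf.f.natDegree := by simp only [d, dif_pos hfs, Pf]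
    have hsub : {τ : A' →ₐ[A] Ω | τ f ≠ 0} ⊆
        (fun τ' : Localization.Away f →ₐ[A] Ω =>
          τ'.comp (IsScalarTower.toAlgHom A A' (Localization.Away f))) '' Set.univ := by
      intro τ hτ
      have hu : ∀ y : Submonoid.powers f, IsUnit (τ y) := by
        rintro ⟨y, k, rfl⟩
        simp only [map_pow]
        exact (isUnit_iff_ne_zero.mpr hτ).pow k
      refine ⟨IsLocalization.liftAlgHom (M := Submonoid.powers f) (S := Localization.Away f) hu,
        trivial, ?_⟩
      ext a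
      simp [IsLocalization.lift_eq]
    calc Set.encard {τ : A' →ₐ[A] Ω | τ f ≠ 0} ≤ Set.encard ((fun τ' : Localization.Away f →ₐ[A] Ω =>
          τ'.comp (IsScalarTower.toAlgHom A A' (Localization.Away f))) '' Set.univ) :=
          Set.encard_le_encard hsub
      _ ≤ Set.encard (Set.univ : Set (Localization.Away f →ₐ[A] Ω)) := Set.encard_image_le _ _
      _ ≤ (Pf.f.natDegree : ℕ∞) := encard_algHom_le_of_presentation Pf Ω
      _ = (d f : ℕ∞) := by rw [hd]
  calc Set.encard (Set.univ : Set (A' →ₐ[A] Ω))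
      ≤ Set.encard (⋃ f ∈ s', {τ : A' →ₐ[A] Ω | τ f ≠ 0}) := Set.encard_le_encard hcov
    _ ≤ ∑ f ∈ s', Set.encard {τ : A' →ₐ[A] Ω | τ f ≠ 0} := Finset.set_encard_biUnion_le _ _
    _ ≤ ∑ f ∈ s', (d f : ℕ∞) := Finset.sum_le_sum hbd
    _ = ((∑ f ∈ s', d f : ℕ) : ℕ∞) := by push_cast; rfl

theorem exists_liftsLE_of_etale {T' T : Scheme.{u}} [IsAffine T'] [IsAffine T] (e : T' ⟶ T)
    [Etale e] : ∃ n : ℕ, LiftsLE e n := by
  have hφ : e.appTop.hom.Etale := (HasRingHomProperty.iff_of_isAffine (P := @Etale)).mp inferInstance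
  algebraize [e.appTop.hom]
  obtain ⟨n, hn⟩ := exists_bound_of_etale Γ(T, ⊤) Γ(T', ⊤)
  refine ⟨n, fun Ω _ ω => ?_⟩
  let iso : Γ(Spec (CommRingCat.of Ω), ⊤) →+* Ω := (Scheme.ΓSpecIso (CommRingCat.of Ω)).hom.hom
  have hiso : Function.Injective iso :=
    (ConcreteCategory.bijective_of_isIso (Scheme.ΓSpecIso (CommRingCat.of Ω)).hom).1
  let ωr : Γ(T, ⊤) →+* Ω := iso.comp ω.appTop.hom
  letI : Algebra Γ(T, ⊤) Ω := ωr.toAlgebra
  let F : (Spec (CommRingCat.of Ω) ⟶ T') → (Γ(T', ⊤) →+* Ω) := fun σ => iso.comp σ.appTop.hom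
  have hFinj : Function.Injective F := by
    intro σ σ' h
    apply ext_of_isAffine
    ext a
    apply hiso
    exact congr($h a)
  have hmaps : Set.MapsTo F {σ | σ ≫ e = ω}
      ((fun τ : Γ(T', ⊤) →ₐ[Γ(T, ⊤)] Ω => τ.toRingHom) '' Set.univ) := by
    intro σ hσ
    have hσ' : σ ≫ e = ω := hσ
    refine ⟨{ toRingHom := F σ, commutes' := fun a => ?_ }, trivial, rfl⟩
    show iso (σ.appTop.hom (e.appTop.hom a)) = iso (ω.appTop.hom a)
    rw [← hσ']
    rfl
  calc Set.encard {σ : Spec (CommRingCat.of Ω) ⟶ T' | σ ≫ e = ω}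
      ≤ Set.encard ((fun τ : Γ(T', ⊤) →ₐ[Γ(T, ⊤)] Ω => τ.toRingHom) '' Set.univ) :=
        Set.encard_le_encard_of_injOn hmaps hFinj.injOn
    _ ≤ Set.encard (Set.univ : Set (Γ(T', ⊤) →ₐ[Γ(T, ⊤)] Ω)) := Set.encard_image_le _ _
    _ ≤ (n : ℕ∞) := hn Ω

end Groth.Agent.H10.SL_P2
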