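import Mathlib

/-!
# The Jacobian presentation of the differentials of a localization

For a surjection `φ : R[x₁..xₙ] → A` and `S` the localization of `A` at an element, there is a
surjection `Sⁿ → Ω[S/R]` whose kernel is spanned by the Jacobian rows `(φ ∂g/∂x_l)_l`, `g ∈ ker φ`.
-/

set_option autoImplicit false
set_option linter.style.haveILetI false
universe u

open MvPolynomial TensorProduct KaehlerDifferential

namespace Groth.Agent.H10.SSKernel

variable {R A : Type u} [CommRing R] [CommRing A] [Algebra R A] {n : ℕ}

/-- The Jacobian row of `g`, with entries in the `A`-algebra `S`. -/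
noncomputable def dvec (φ : MvPolynomial (Fin n) R →ₐ[R] A) (S : Type u) [CommRing S] [Algebra A S]
    (g : MvPolynomial (Fin n) R) : Fin n → S :=
  fun l => algebraMap A S (φ (pderiv l g))

theorem exists_tS (φ : MvPolynomial (Fin n) R →ₐ[R] A) (hφ : Function.Surjective φ)
    (S : Type u) [CommRing S] [Algebra A S] [Algebra R S] [IsScalarTower R A S] (a : A)
    [IsLocalization.Away a S] :
    ∃ tS : (Fin n → S) →ₗ[S] Ω[S⁄R], Function.Surjective tS ∧
      LinearMap.ker tS =
        Submodule.span S {v | ∃ g ∈ RingHom.ker φ.toRingHom, v = dvec φ S g} := by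
  classical
  have hae : ∀ x, aeval (fun i => φ (X i)) x = φ x := fun x => by
    have := MvPolynomial.aeval_unique φ
    exact (DFunLike.congr_fun this x).symm
  let P : Algebra.Generators R A (Fin n) := Algebra.Generators.ofSurjective (fun i => φ (X i))
    (fun x => by obtain ⟨y, rfl⟩ := hφ x; exact ⟨y, hae y⟩)
  have hPalg : ∀ x : P.Ring, algebraMap P.Ring A x = φ x := fun x => by
    rw [Algebra.Generators.algebraMap_apply]; exact hae x
  haveI hfe : Algebra.FormallyEtale A S :=
    Algebra.FormallyEtale.of_isLocalization (Submonoid.powers a)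
  let E := P.toExtension
  let bS := P.cotangentSpaceBasis.baseChange S
  let tS : (Fin n → S) →ₗ[S] Ω[S⁄R] :=
    (tensorKaehlerEquivOfFormallyEtale R A S).toLinearMap ∘ₗ (E.toKaehler.baseChange S) ∘ₗ
      bS.equivFun.symm.toLinearMap
  have hexact : Function.Exact (E.cotangentComplex.baseChange S) (E.toKaehler.baseChange S) := by
    have := lTensor_exact S E.exact_cotangentComplex_toKaehler E.toKaehler_surjective
    intro y
    have h1 := this y
    rw [← LinearMap.baseChange_eq_ltensor, ← LinearMap.baseChange_eq_ltensor] at h1
    exact h1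
  have hcoord : ∀ (s : S) (g : E.ker) (l : Fin n),
      bS.equivFun ((E.cotangentComplex.baseChange S) (s ⊗ₜ Algebra.Extension.Cotangent.mk g)) l =
        s * dvec φ S g.1 l := by
    intro s g l
    rw [LinearMap.baseChange_tmul, Algebra.Extension.cotangentComplex_mk]
    show bS.repr _ l = _
    rw [Module.Basis.baseChange_repr_tmul, Algebra.Generators.cotangentSpaceBasis_repr_one_tmul]
    rw [Algebra.smul_def, mul_comm]
    congr 2
    exact hae _
  have hker_mem : ∀ g : MvPolynomial (Fin n) R, g ∈ E.ker ↔ g ∈ RingHom.ker φ.toRingHom := by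
    intro g
    show algebraMap P.Ring A g = 0 ↔ φ g = 0
    rw [hPalg]
  refine ⟨tS, ?_, ?_⟩
  · have h1 : Function.Surjective (E.toKaehler.baseChange S) := by
      rw [LinearMap.baseChange_eq_ltensor]
      exact LinearMap.lTensor_surjective S E.toKaehler_surjective
    exact (tensorKaehlerEquivOfFormallyEtale R A S).surjective.comp
      (h1.comp bS.equivFun.symm.surjective)
  · apply le_antisymm
    · intro v hv
      have h0 : (E.toKaehler.baseChange S) (bS.equivFun.symm v) = 0 := by
        have : tS v = 0 := hv
        exact (tensorKaehlerEquivOfFormallyEtale R A S).injective (by simpa [tS] using this)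
      obtain ⟨x, hx⟩ := (hexact _).mp h0
      have hv' : v = bS.equivFun ((E.cotangentComplex.baseChange S) x) := by
        rw [hx, LinearEquiv.apply_symm_apply]
      rw [hv']
      clear hv' hx h0 hv
      induction x using TensorProduct.induction_on with
      | zero => simp
      | add x y hx hy =>
        rw [map_add, map_add]
        exact Submodule.add_mem _ hx hy
      | tmul s m =>
        obtain ⟨g, rfl⟩ := Algebra.Extension.Cotangent.mk_surjective m
        have : bS.equivFun ((E.cotangentComplex.baseChange S)
            (s ⊗ₜ Algebra.Extension.Cotangent.mk g)) = s • dvec φ S g.1 := by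
          funext l
          rw [hcoord]; rfl
        rw [this]
        exact Submodule.smul_mem _ _ (Submodule.subset_span ⟨g.1, (hker_mem _).mp g.2, rfl⟩)
    · rw [Submodule.span_le]
      rintro v ⟨g, hg, rfl⟩
      have hgE : g ∈ E.ker := (hker_mem g).mpr hg
      have h1 : dvec φ S g = bS.equivFun ((E.cotangentComplex.baseChange S)
          ((1 : S) ⊗ₜ Algebra.Extension.Cotangent.mk ⟨g, hgE⟩)) := by
        funext l
        rw [hcoord, one_mul]
      show tS (dvec φ S g) = 0
      rw [h1]
      simp only [tS, LinearMap.coe_comp, LinearEquiv.coe_coe, Function.comp_apply,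
        LinearEquiv.symm_apply_apply]
      rw [(hexact _).mpr ⟨_, rfl⟩, map_zero]

end Groth.Agent.H10.SSKernel
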