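import Mathlib
import Groth.Agent.H3.Jac1
import Groth.Agent.H10.SSKernel

/-!
# Jacobian classes of relations, and clearing denominators

`cl (g, s) = (Jacobian row of g, images of s)` in `Sⁿ × S^q`, `S = A_a`.
-/

set_option autoImplicit false
set_option linter.style.haveILetI false
universe u

open MvPolynomial

namespace Groth.Agent.H10.SSCl

open Groth.Agent.H10.SSKernel

variable {R A : Type u} [CommRing R] [CommRing A] [Algebra R A] {n : ℕ}
  (φ : MvPolynomial (Fin n) R →ₐ[R] A) (gt : MvPolynomial (Fin n) R) (q : ℕ)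

/-- the localization map composed with `φ` -/
noncomputable def lφ : MvPolynomial (Fin n) R →+* Localization.Away (φ gt) :=
  (algebraMap A (Localization.Away (φ gt))).comp φ.toRingHom

lemma lφ_apply (x : MvPolynomial (Fin n) R) :
    lφ φ gt x = algebraMap A (Localization.Away (φ gt)) (φ x) := rfl

lemma lφ_eq_zero_iff (x : MvPolynomial (Fin n) R) :
    lφ φ gt x = 0 ↔ ∃ N : ℕ, gt ^ N * x ∈ RingHom.ker φ.toRingHom := by
  rw [lφ_apply, IsLocalization.map_eq_zero_iff (Submonoid.powers (φ gt))]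
  constructor
  · rintro ⟨⟨_, N, rfl⟩, h⟩
    refine ⟨N, ?_⟩
    show φ (gt ^ N * x) = 0
    rw [map_mul, map_pow]; exact h
  · rintro ⟨N, h⟩
    refine ⟨⟨_, N, rfl⟩, ?_⟩
    have : φ (gt ^ N * x) = 0 := h
    rw [map_mul, map_pow] at this
    exact this

lemma isUnit_lφ_gt : IsUnit (lφ φ gt gt) :=
  IsLocalization.Away.algebraMap_isUnit (φ gt)

/-- clearing denominators in a finite family -/
lemma exists_clear (hφ : Function.Surjective φ) {κ : Type*} [Finite κ]
    (σ : κ → Localization.Away (φ gt)) :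
    ∃ (N : ℕ) (s : κ → MvPolynomial (Fin n) R), ∀ k, lφ φ gt gt ^ N * σ k = lφ φ gt (s k) := by
  obtain ⟨b, hb⟩ :=
    IsLocalization.exist_integer_multiples_of_finite (Submonoid.powers (φ gt)) σ
  obtain ⟨N, hN⟩ := b.2
  choose a ha using hb
  choose s hs using fun k => hφ (a k)
  refine ⟨N, s, fun k => ?_⟩
  rw [lφ_apply, lφ_apply, hs, ha, Algebra.smul_def, ← hN, map_pow]

lemma dvec_add (g h : MvPolynomial (Fin n) R) :
    dvec φ (Localization.Away (φ gt)) (g + h) =
      dvec φ (Localization.Away (φ gt)) g + dvec φ (Localization.Away (φ gt)) h := by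
  funext l
  simp [dvec]

lemma dvec_zero : dvec φ (Localization.Away (φ gt)) 0 = 0 := by
  funext l
  simp [dvec]

lemma dvec_mul (τ g : MvPolynomial (Fin n) R) (hg : g ∈ RingHom.ker φ.toRingHom) :
    dvec φ (Localization.Away (φ gt)) (τ * g) =
      lφ φ gt τ • dvec φ (Localization.Away (φ gt)) g := by
  funext l
  have hg' : φ g = 0 := hg
  simp only [dvec, Derivation.leibniz, map_add, smul_eq_mul, map_mul, hg', zero_mul, add_zero,
    Pi.smul_apply, lφ_apply]

/-- `cl (g, s) = (Jacobian row of g, images of s)` -/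
noncomputable def cl (y : MvPolynomial (Fin n) R × (Fin q → MvPolynomial (Fin n) R)) :
    (Fin n → Localization.Away (φ gt)) × (Fin q → Localization.Away (φ gt)) :=
  (dvec φ (Localization.Away (φ gt)) y.1, fun k => lφ φ gt (y.2 k))

lemma cl_add (y z : MvPolynomial (Fin n) R × (Fin q → MvPolynomial (Fin n) R)) :
    cl φ gt q (y + z) = cl φ gt q y + cl φ gt q z := by
  refine Prod.ext ?_ ?_
  · exact dvec_add φ gt _ _
  · funext k; simp [cl]

lemma cl_zero : cl φ gt q 0 = 0 := by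
  refine Prod.ext ?_ ?_
  · exact dvec_zero φ gt
  · funext k; simp [cl]

lemma cl_sub (y z : MvPolynomial (Fin n) R × (Fin q → MvPolynomial (Fin n) R)) :
    cl φ gt q (y - z) = cl φ gt q y - cl φ gt q z := by
  have := cl_add φ gt q (y - z) z
  rw [sub_add_cancel] at this
  rw [this, add_sub_cancel_right]

lemma cl_smul (τ : MvPolynomial (Fin n) R)
    (y : MvPolynomial (Fin n) R × (Fin q → MvPolynomial (Fin n) R))
    (hy : y.1 ∈ RingHom.ker φ.toRingHom) :
    cl φ gt q (τ • y) = lφ φ gt τ • cl φ gt q y := by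
  refine Prod.ext ?_ ?_
  · exact dvec_mul φ gt τ y.1 hy
  · funext k; simp [cl]

lemma cl_sum {α : Type*} (s : Finset α)
    (y : α → MvPolynomial (Fin n) R × (Fin q → MvPolynomial (Fin n) R)) :
    cl φ gt q (∑ i ∈ s, y i) = ∑ i ∈ s, cl φ gt q (y i) := by
  classical
  induction s using Finset.induction_on with
  | empty => simp [cl_zero]
  | insert a s ha ih => rw [Finset.sum_insert ha, Finset.sum_insert ha, cl_add, ih]

/-- Elements of the span of Jacobian rows are Jacobian rows up to a power of `a`. -/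
lemma exists_dvec_of_mem_span (hφ : Function.Surjective φ)
    (v : Fin n → Localization.Away (φ gt))
    (hv : v ∈ Submodule.span (Localization.Away (φ gt))
      {v | ∃ g ∈ RingHom.ker φ.toRingHom, v = dvec φ (Localization.Away (φ gt)) g}) :
    ∃ (N : ℕ) (g : MvPolynomial (Fin n) R), g ∈ RingHom.ker φ.toRingHom ∧
      lφ φ gt gt ^ N • v = dvec φ (Localization.Away (φ gt)) g := by
  induction hv using Submodule.span_induction with
  | mem x hx =>
    obtain ⟨g, hg, rfl⟩ := hx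
    exact ⟨0, g, hg, by simp⟩
  | zero => exact ⟨0, 0, Ideal.zero_mem _, by simp [dvec_zero]⟩
  | add x y _ _ hx hy =>
    obtain ⟨N1, g1, hg1, e1⟩ := hx
    obtain ⟨N2, g2, hg2, e2⟩ := hy
    refine ⟨N1 + N2, gt ^ N2 * g1 + gt ^ N1 * g2,
      Ideal.add_mem _ (Ideal.mul_mem_left _ _ hg1) (Ideal.mul_mem_left _ _ hg2), ?_⟩
    rw [dvec_add, dvec_mul φ gt _ _ hg1, dvec_mul φ gt _ _ hg2, ← e1, ← e2, smul_add, map_pow,
      map_pow, smul_smul, smul_smul, ← pow_add, ← pow_add, add_comm N2 N1]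
  | smul s x _ hx =>
    obtain ⟨N1, g1, hg1, e1⟩ := hx
    obtain ⟨N2, τ, hτ⟩ := exists_clear φ gt hφ (fun _ : Unit => s)
    refine ⟨N1 + N2, τ () * g1, Ideal.mul_mem_left _ _ hg1, ?_⟩
    rw [dvec_mul φ gt _ _ hg1, ← hτ (), ← e1, smul_smul, smul_smul, pow_add]
    congr 1
    ring

/-- The kernel of `dvec` on relations: killed modulo `I²` by a power of `a`. -/
lemma exists_pow_mul_mem_sq (hφ : Function.Surjective φ)
    [Algebra.FormallySmooth R (Localization.Away (φ gt))] :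
    ∃ _K₀ : ℕ, ∀ g ∈ RingHom.ker φ.toRingHom, dvec φ (Localization.Away (φ gt)) g = 0 →
      ∃ E : ℕ, gt ^ E * g ∈ RingHom.ker φ.toRingHom ^ 2 := by
  classical
  obtain ⟨u, K, hu, hspl⟩ := Groth.Agent.H3.Jac.exists_splitting φ hφ gt (Localization.Away (φ gt))
  refine ⟨K, fun g hg hd => ?_⟩
  obtain ⟨N, hN⟩ := hspl g hg
  have h1 : ∀ l, ∃ N' : ℕ, gt ^ N' * pderiv l g ∈ RingHom.ker φ.toRingHom := by
    intro l
    rw [← lφ_eq_zero_iff]
    exact congrFun hd l
  choose N' hN' using h1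
  refine ⟨(∑ l, N' l) + (N + K), ?_⟩
  have h2 : ∀ l, gt ^ (∑ l, N' l) * pderiv l g ∈ RingHom.ker φ.toRingHom := by
    intro l
    have hle : N' l ≤ ∑ l, N' l := Finset.single_le_sum (fun _ _ => Nat.zero_le _)
      (Finset.mem_univ l)
    obtain ⟨d, hd⟩ := Nat.exists_eq_add_of_le hle
    rw [hd, pow_add, mul_comm (gt ^ N' l), mul_assoc]
    exact Ideal.mul_mem_left _ _ (hN' l)
  have h3 : gt ^ ((∑ l, N' l) + (N + K)) * g =
      gt ^ (∑ l, N' l) * (gt ^ N * (gt ^ K * g - ∑ i, pderiv i g * u i)) +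
        ∑ i, gt ^ N * ((gt ^ (∑ l, N' l) * pderiv i g) * u i) := by
    rw [pow_add, pow_add, mul_sub, mul_sub, Finset.mul_sum, Finset.mul_sum]
    have : ∑ i, gt ^ N * ((gt ^ (∑ l, N' l) * pderiv i g) * u i) =
        ∑ i, gt ^ (∑ l, N' l) * (gt ^ N * (pderiv i g * u i)) :=
      Finset.sum_congr rfl fun i _ => by ring
    rw [this]
    ring
  rw [h3]
  refine Ideal.add_mem _ (Ideal.mul_mem_left _ _ hN) (Ideal.sum_mem _ fun i _ => ?_)
  refine Ideal.mul_mem_left _ _ ?_
  rw [pow_two]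
  exact Ideal.mul_mem_mul (h2 i) (hu i)

/-- Kernel of `cl`: a power of `a` moves the pair into `(I², I)`. -/
lemma exists_pow_smul_of_cl_eq_zero (hφ : Function.Surjective φ)
    [Algebra.FormallySmooth R (Localization.Away (φ gt))]
    (y : MvPolynomial (Fin n) R × (Fin q → MvPolynomial (Fin n) R))
    (hy : y.1 ∈ RingHom.ker φ.toRingHom) (h0 : cl φ gt q y = 0) :
    ∃ E : ℕ, (gt ^ E • y).1 ∈ RingHom.ker φ.toRingHom ^ 2 ∧
      ∀ k, (gt ^ E • y).2 k ∈ RingHom.ker φ.toRingHom := by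
  classical
  obtain ⟨K₀, hK₀⟩ := exists_pow_mul_mem_sq φ gt hφ
  obtain ⟨E1, hE1⟩ := hK₀ y.1 hy (congrArg Prod.fst h0)
  have h1 : ∀ k, ∃ N' : ℕ, gt ^ N' * y.2 k ∈ RingHom.ker φ.toRingHom := by
    intro k
    rw [← lφ_eq_zero_iff]
    exact congrFun (congrArg Prod.snd h0) k
  choose N' hN' using h1
  refine ⟨E1 + ∑ k, N' k, ?_, fun k => ?_⟩
  · show gt ^ (E1 + ∑ k, N' k) * y.1 ∈ _
    rw [pow_add, mul_comm (gt ^ E1), mul_assoc]
    exact Ideal.mul_mem_left _ _ hE1
  · show gt ^ (E1 + ∑ k, N' k) * y.2 k ∈ _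
    have hle : N' k ≤ ∑ k, N' k := Finset.single_le_sum (fun _ _ => Nat.zero_le _)
      (Finset.mem_univ k)
    obtain ⟨d, hd⟩ := Nat.exists_eq_add_of_le hle
    rw [hd, pow_add, pow_add, mul_comm (gt ^ N' k), ← mul_assoc, mul_assoc]
    exact Ideal.mul_mem_left _ _ (hN' k)

end Groth.Agent.H10.SSCl
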