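import Mathlib

/-!
# Linear algebra for strictly standard elements

* `span_minors_eq_top_of_mul_eq_one`: a `c × n` matrix with a right inverse has its maximal minors
  generating the unit ideal.
* `exists_ker_prod_equiv`: a surjection onto a projective module splits.
-/

set_option autoImplicit false
set_option linter.style.haveILetI false
universe u v

namespace Groth.Agent.H10.SSLinAlg

open Module

/-- Over a field, a `c × n` matrix with a right inverse has a nonzero maximal minor. -/
theorem exists_minor_ne_zero {κ : Type*} [Field κ] {c n : ℕ} (M : Matrix (Fin c) (Fin n) κ)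
    (N : Matrix (Fin n) (Fin c) κ) (h : M * N = 1) :
    ∃ cols : Fin c → Fin n, (M.submatrix id cols).det ≠ 0 := by
  classical
  have hrank : M.rank = c := by
    apply le_antisymm
    · simpa using Matrix.rank_le_height M
    · have h1 : (M * N).rank ≤ M.rank := Matrix.rank_mul_le_left M N
      rw [h, Matrix.rank_one] at h1
      simpa using h1
  obtain ⟨ι'', b, hb, hsp', hli'⟩ := exists_linearIndependent' κ M.col
  haveI : Finite ι'' := Finite.of_injective b hb
  letI : Fintype ι'' := Fintype.ofFinite ι''
  have hcard : Fintype.card ι'' = c := by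
    rw [← finrank_span_eq_card hli', hsp', ← Matrix.rank_eq_finrank_span_cols, hrank]
  let e' : Fin c ≃ ι'' := (Fintype.equivFinOfCardEq hcard).symm
  refine ⟨b ∘ e', ?_⟩
  have hcols : LinearIndependent κ (M.col ∘ (b ∘ e')) := hli'.comp e' e'.injective
  have hunit : IsUnit (M.submatrix id (b ∘ e')) := by
    rw [← Matrix.linearIndependent_cols_iff_isUnit]
    exact hcols
  exact ((Matrix.isUnit_iff_isUnit_det _).mp hunit).ne_zero

/-- A `c × n` matrix over a commutative ring with a right inverse has its maximal minors generating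
the unit ideal. -/
theorem span_minors_eq_top_of_mul_eq_one {S : Type*} [CommRing S] {c n : ℕ}
    (M : Matrix (Fin c) (Fin n) S) (N : Matrix (Fin n) (Fin c) S) (h : M * N = 1) :
    Ideal.span (Set.range fun cols : Fin c → Fin n => (M.submatrix id cols).det) = ⊤ := by
  classical
  by_contra hne
  obtain ⟨𝔪, h𝔪, hle⟩ := Ideal.exists_le_maximal _ hne
  letI : Field (S ⧸ 𝔪) := Ideal.Quotient.field 𝔪
  have h' : M.map (Ideal.Quotient.mk 𝔪) * N.map (Ideal.Quotient.mk 𝔪) = 1 := by
    rw [← Matrix.map_mul, h]
    simp
  obtain ⟨cols, hcols⟩ := exists_minor_ne_zero _ _ h'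
  apply hcols
  have h1 : (M.map (Ideal.Quotient.mk 𝔪)).submatrix id cols =
      (Ideal.Quotient.mk 𝔪).mapMatrix (M.submatrix id cols) := by
    ext i j; rfl
  rw [h1, ← RingHom.map_det, Ideal.Quotient.eq_zero_iff_mem]
  exact hle (Ideal.subset_span ⟨cols, rfl⟩)

/-- A surjection onto a projective module splits: the source is the product of kernel and target,
compatibly with the inclusion of the kernel. -/
theorem exists_ker_prod_equiv {S : Type*} [CommRing S] {V W : Type*} [AddCommGroup V] [Module S V]
    [AddCommGroup W] [Module S W] [Module.Projective S W] (t : V →ₗ[S] W)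
    (ht : Function.Surjective t) :
    ∃ e : (LinearMap.ker t × W) ≃ₗ[S] V, ∀ (κ : LinearMap.ker t), e (κ, 0) = κ := by
  obtain ⟨s, hs⟩ := Module.projective_lifting_property t LinearMap.id ht
  have hs' : ∀ w, t (s w) = w := fun w => LinearMap.congr_fun hs w
  let proj : V →ₗ[S] LinearMap.ker t :=
    LinearMap.codRestrict _ (LinearMap.id - s.comp t) (fun v => by
      rw [LinearMap.mem_ker]
      simp [hs'])
  refine ⟨LinearEquiv.ofLinearMap
    ((LinearMap.ker t).subtype.coprod s) (proj.prod t) ?_ ?_, ?_⟩
  · refine LinearMap.ext fun v => ?_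
    simp [proj]
  · refine LinearMap.ext fun x => ?_
    obtain ⟨κ, w⟩ := x
    have hκ : t κ = 0 := κ.2
    refine Prod.ext (Subtype.ext ?_) ?_
    · simp [proj, hs', hκ]
    · simp [hs', hκ]
  · intro κ
    simp

end Groth.Agent.H10.SSLinAlg
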