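import Mathlib
import Groth.Prelude.Def_Smoothing

/-!
# Enlarging a presentation by dummy variables

For `φ : R[x₁..xₙ] → A` we consider `φ' : R[x₁..xₙ,w₁..w_q] → A` killing the `w_k`, and elements
`Φ (g, s) = g + ∑ s_k w_k`.
-/

set_option autoImplicit false
set_option linter.style.haveILetI false
universe u

open MvPolynomial

namespace Groth.Agent.H10.SSPres

variable {R A : Type u} [CommRing R] [CommRing A] [Algebra R A] (n q : ℕ)

/-- inclusion of the old polynomial ring -/
noncomputable def ι : MvPolynomial (Fin n) R →ₐ[R] MvPolynomial (Fin (n + q)) R :=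
  rename (Fin.castAdd q)

/-- the new variables -/
noncomputable def w (k : Fin q) : MvPolynomial (Fin (n + q)) R := X (Fin.natAdd n k)

/-- the extended surjection -/
noncomputable def φ' (φ : MvPolynomial (Fin n) R →ₐ[R] A) :
    MvPolynomial (Fin (n + q)) R →ₐ[R] A :=
  aeval (Fin.append (fun l => φ (X l)) (fun _ => 0))

/-- evaluation of the new variables at zero -/
noncomputable def ev : MvPolynomial (Fin (n + q)) R →ₐ[R] MvPolynomial (Fin n) R :=
  aeval (Fin.append X (fun _ => 0))

/-- `Φ (g, s) = g + ∑ s_k w_k` -/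
noncomputable def Φ (y : MvPolynomial (Fin n) R × (Fin q → MvPolynomial (Fin n) R)) :
    MvPolynomial (Fin (n + q)) R :=
  ι n q y.1 + ∑ k, ι n q (y.2 k) * w n q k

variable {n q}

lemma φ'_ι (φ : MvPolynomial (Fin n) R →ₐ[R] A) (g : MvPolynomial (Fin n) R) :
    φ' n q φ (ι n q g) = φ g := by
  unfold φ' ι
  rw [aeval_rename]
  have : (Fin.append (fun l => φ (X l)) (fun _ : Fin q => (0 : A))) ∘ Fin.castAdd q =
      fun l => φ (X l) := by
    funext l; simp
  rw [this]
  exact (DFunLike.congr_fun (MvPolynomial.aeval_unique φ) g).symm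

lemma φ'_w (φ : MvPolynomial (Fin n) R →ₐ[R] A) (k : Fin q) : φ' n q φ (w n q k) = 0 := by
  unfold φ' w
  rw [aeval_X, Fin.append_right]

lemma ev_ι (g : MvPolynomial (Fin n) R) : ev n q (ι n q g) = g := by
  unfold ev ι
  rw [aeval_rename]
  have : (Fin.append (X : Fin n → MvPolynomial (Fin n) R) (fun _ : Fin q => 0)) ∘ Fin.castAdd q =
      X := by
    funext l; simp
  rw [this]
  simp

lemma ev_w (k : Fin q) : ev n q (w (R := R) n q k) = 0 := by
  unfold ev w
  rw [aeval_X, Fin.append_right]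

lemma φ'_eq (φ : MvPolynomial (Fin n) R →ₐ[R] A) (x : MvPolynomial (Fin (n + q)) R) :
    φ' n q φ x = φ (ev n q x) := by
  have : φ' n q φ = φ.comp (ev n q) := by
    apply MvPolynomial.algHom_ext
    intro v
    induction v using Fin.addCases with
    | left l =>
      show φ' n q φ (X (Fin.castAdd q l)) = φ (ev n q (X (Fin.castAdd q l)))
      unfold φ' ev
      rw [aeval_X, aeval_X, Fin.append_left, Fin.append_left]
    | right k =>
      show φ' n q φ (X (Fin.natAdd n k)) = φ (ev n q (X (Fin.natAdd n k)))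
      unfold φ' ev
      rw [aeval_X, aeval_X, Fin.append_right, Fin.append_right, map_zero]
  rw [this]; rfl

lemma sub_ι_ev_mem (x : MvPolynomial (Fin (n + q)) R) :
    x - ι n q (ev n q x) ∈ Ideal.span (Set.range (w (R := R) n q)) := by
  rw [← Ideal.Quotient.eq]
  have : (Ideal.Quotient.mkₐ R (Ideal.span (Set.range (w (R := R) n q)))) =
      (Ideal.Quotient.mkₐ R (Ideal.span (Set.range (w (R := R) n q)))).comp
        ((ι n q).comp (ev n q)) := by
    apply MvPolynomial.algHom_ext
    intro v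
    induction v using Fin.addCases with
    | left l =>
      show Ideal.Quotient.mk _ (X (Fin.castAdd q l)) =
        Ideal.Quotient.mk _ (ι n q (ev n q (X (Fin.castAdd q l))))
      congr 1
      unfold ev ι
      rw [aeval_X, Fin.append_left, rename_X]
    | right k =>
      show Ideal.Quotient.mk _ (X (Fin.natAdd n k)) =
        Ideal.Quotient.mk _ (ι n q (ev n q (X (Fin.natAdd n k))))
      have h1 : ev n q (X (Fin.natAdd n k) : MvPolynomial (Fin (n + q)) R) = 0 := ev_w k
      rw [h1, map_zero, map_zero, Ideal.Quotient.eq_zero_iff_mem]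
      exact Ideal.subset_span ⟨k, rfl⟩
  exact DFunLike.congr_fun this x

lemma φ'_Φ (φ : MvPolynomial (Fin n) R →ₐ[R] A)
    (y : MvPolynomial (Fin n) R × (Fin q → MvPolynomial (Fin n) R)) :
    φ' n q φ (Φ n q y) = φ y.1 := by
  unfold Φ
  rw [map_add, map_sum, φ'_ι]
  simp [φ'_w]

lemma Φ_add (y z : MvPolynomial (Fin n) R × (Fin q → MvPolynomial (Fin n) R)) :
    Φ n q (y + z) = Φ n q y + Φ n q z := by
  unfold Φ
  simp only [Prod.fst_add, Prod.snd_add, Pi.add_apply, map_add, add_mul, Finset.sum_add_distrib]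
  ring

lemma Φ_smul (τ : MvPolynomial (Fin n) R)
    (y : MvPolynomial (Fin n) R × (Fin q → MvPolynomial (Fin n) R)) :
    Φ n q (τ • y) = ι n q τ * Φ n q y := by
  unfold Φ
  simp only [Prod.smul_fst, Prod.smul_snd, Pi.smul_apply, smul_eq_mul, map_mul, mul_add,
    Finset.mul_sum, mul_assoc]

lemma Φ_sub (y z : MvPolynomial (Fin n) R × (Fin q → MvPolynomial (Fin n) R)) :
    Φ n q (y - z) = Φ n q y - Φ n q z := by
  have := Φ_add (y - z) z
  rw [sub_add_cancel] at this
  rw [this, add_sub_cancel_right]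

lemma Φ_zero : Φ n q (0 : MvPolynomial (Fin n) R × (Fin q → MvPolynomial (Fin n) R)) = 0 := by
  unfold Φ
  simp

lemma Φ_sum {α : Type*} (s : Finset α)
    (y : α → MvPolynomial (Fin n) R × (Fin q → MvPolynomial (Fin n) R)) :
    Φ n q (∑ i ∈ s, y i) = ∑ i ∈ s, Φ n q (y i) := by
  classical
  induction s using Finset.induction_on with
  | empty => simp [Φ_zero]
  | insert a s ha ih => rw [Finset.sum_insert ha, Finset.sum_insert ha, Φ_add, ih]

lemma pderiv_natAdd_ι (k : Fin q) (g : MvPolynomial (Fin n) R) :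
    pderiv (Fin.natAdd n k) (ι n q g) = 0 := by
  unfold ι
  induction g using MvPolynomial.induction_on with
  | C a => simp
  | add p q hp hq => rw [map_add, map_add, hp, hq, add_zero]
  | mul_X p i hp =>
    rw [map_mul, Derivation.leibniz, hp, rename_X, pderiv_X]
    have : Fin.natAdd n k ≠ Fin.castAdd q i := by
      intro h
      have := congrArg Fin.val h
      simp at this
      omega
    simp [Pi.single_eq_of_ne this.symm]

lemma pderiv_castAdd_ι (l : Fin n) (g : MvPolynomial (Fin n) R) :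
    pderiv (Fin.castAdd q l) (ι n q g) = ι n q (pderiv l g) :=
  pderiv_rename (Fin.castAdd_injective n q) l g

lemma φ'_pderiv_castAdd_Φ (φ : MvPolynomial (Fin n) R →ₐ[R] A) (l : Fin n)
    (y : MvPolynomial (Fin n) R × (Fin q → MvPolynomial (Fin n) R)) :
    φ' n q φ (pderiv (Fin.castAdd q l) (Φ n q y)) = φ (pderiv l y.1) := by
  unfold Φ
  rw [map_add, map_sum, map_add, map_sum, pderiv_castAdd_ι, φ'_ι]
  have : ∀ k, φ' n q φ (pderiv (Fin.castAdd q l) (ι n q (y.2 k) * w n q k)) = 0 := by
    intro k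
    rw [Derivation.leibniz, map_add, smul_eq_mul, smul_eq_mul, map_mul, map_mul, φ'_w]
    have hne : Fin.castAdd q l ≠ Fin.natAdd n k := by
      intro h
      have := congrArg Fin.val h
      simp at this
      omega
    have : pderiv (Fin.castAdd q l) (w (R := R) n q k) = 0 := by
      unfold w
      rw [pderiv_X, Pi.single_eq_of_ne hne.symm]
    rw [this, map_zero]
    simp
  rw [Finset.sum_eq_zero (fun k _ => this k), add_zero]

lemma φ'_pderiv_natAdd_Φ (φ : MvPolynomial (Fin n) R →ₐ[R] A) (k₀ : Fin q)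
    (y : MvPolynomial (Fin n) R × (Fin q → MvPolynomial (Fin n) R)) :
    φ' n q φ (pderiv (Fin.natAdd n k₀) (Φ n q y)) = φ (y.2 k₀) := by
  classical
  unfold Φ
  rw [map_add, map_sum, map_add, map_sum, pderiv_natAdd_ι, map_zero, zero_add]
  rw [Finset.sum_eq_single k₀]
  · rw [Derivation.leibniz, map_add, smul_eq_mul, smul_eq_mul, map_mul, map_mul, φ'_w, zero_mul,
      add_zero, φ'_ι]
    have : pderiv (Fin.natAdd n k₀) (w (R := R) n q k₀) = 1 := by
      unfold w
      rw [pderiv_X, Pi.single_eq_same]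
    rw [this, map_one, mul_one]
  · intro k _ hk
    rw [Derivation.leibniz, map_add, smul_eq_mul, smul_eq_mul, map_mul, map_mul, φ'_w, zero_mul,
      add_zero]
    have hne : Fin.natAdd n k₀ ≠ Fin.natAdd n k := by
      intro h
      exact hk ((Fin.natAdd_injective q n h).symm)
    have : pderiv (Fin.natAdd n k₀) (w (R := R) n q k) = 0 := by
      unfold w
      rw [pderiv_X, Pi.single_eq_of_ne hne.symm]
    rw [this, map_zero, mul_zero]
  · intro h; exact absurd (Finset.mem_univ _) h

lemma Φ_mem_sq (φ : MvPolynomial (Fin n) R →ₐ[R] A)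
    (y : MvPolynomial (Fin n) R × (Fin q → MvPolynomial (Fin n) R))
    (h1 : y.1 ∈ RingHom.ker φ.toRingHom ^ 2) (h2 : ∀ k, y.2 k ∈ RingHom.ker φ.toRingHom) :
    Φ n q y ∈ RingHom.ker (φ' n q φ).toRingHom ^ 2 := by
  have hle : (RingHom.ker φ.toRingHom).map (ι n q).toRingHom ≤
      RingHom.ker (φ' n q φ).toRingHom := by
    rw [Ideal.map_le_iff_le_comap]
    intro g hg
    show φ' n q φ (ι n q g) = 0
    rw [φ'_ι]; exact hg
  unfold Φ
  refine Ideal.add_mem _ ?_ (Ideal.sum_mem _ fun k _ => ?_)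
  · have : (ι n q).toRingHom y.1 ∈ ((RingHom.ker φ.toRingHom) ^ 2).map (ι n q).toRingHom :=
      Ideal.mem_map_of_mem _ h1
    rw [Ideal.map_pow] at this
    exact Ideal.pow_right_mono hle 2 this
  · rw [pow_two]
    refine Ideal.mul_mem_mul (hle (Ideal.mem_map_of_mem _ (h2 k))) ?_
    show φ' n q φ (w n q k) = 0
    exact φ'_w φ k

end Groth.Agent.H10.SSPres
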