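import Mathlib
import Groth.Prelude.Def_Smoothing
import Groth.Agent.H10.SSKernel
import Groth.Agent.H10.SSLinAlg
import Groth.Agent.H10.SSPres
import Groth.Agent.H10.SSCl

/-!
# Powers of `a` are strictly standard when `A_a` is smooth with stably free differentials
-/

set_option autoImplicit false
set_option linter.style.haveILetI false
universe u

open MvPolynomial

namespace Groth.Agent.H10.SSMain

open Groth.Agent.H10.SSKernel Groth.Agent.H10.SSLinAlg Groth.Agent.H10.SSPres Groth.Agent.H10.SSCl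

variable {R A : Type u} [CommRing R] [CommRing A] [Algebra R A]

/-- Strictly standard elements are closed under multiplication by arbitrary elements. -/
theorem isStrictlyStandard_mul {a : A} (h : Smoothing.IsStrictlyStandard R A a) (x : A) :
    Smoothing.IsStrictlyStandard R A (a * x) := by
  obtain ⟨P, h1, h2⟩ := h
  refine ⟨P, Ideal.mul_mem_right _ _ h1, ?_⟩
  intro b' hb' j hj
  obtain ⟨a', ha'⟩ := P.surj a
  obtain ⟨x', hx'⟩ := P.surj x
  have hI : b' - a' * x' ∈ Ideal.span (Set.range P.rel) := by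
    rw [← P.ker_eq]
    show P.hom (b' - a' * x') = 0
    rw [map_sub, map_mul, hb', ha', hx', sub_self]
  have : b' * P.rel j = x' * (a' * P.rel j) + (b' - a' * x') * P.rel j := by ring
  rw [this]
  refine Ideal.add_mem _ (Ideal.mul_mem_left _ _ (h2 a' ha' j hj)) (Ideal.mem_sup_right ?_)
  rw [pow_two]
  exact Ideal.mul_mem_mul hI (Ideal.subset_span ⟨j, rfl⟩)

/-- Zero is strictly standard with respect to any presentation. -/
theorem isStrictlyStandard_zero {n m : ℕ} (φ : MvPolynomial (Fin n) R →ₐ[R] A)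
    (hφ : Function.Surjective φ) (f : Fin m → MvPolynomial (Fin n) R)
    (hker : RingHom.ker φ.toRingHom = Ideal.span (Set.range f)) :
    Smoothing.IsStrictlyStandard R A 0 := by
  refine ⟨⟨n, m, 0, Nat.zero_le _, Nat.zero_le _, f, φ, hφ, hker⟩, Ideal.zero_mem _, ?_⟩
  intro a' ha' j _
  refine Ideal.mem_sup_right ?_
  rw [pow_two]
  refine Ideal.mul_mem_mul ?_ (Ideal.subset_span ⟨j, rfl⟩)
  show a' ∈ Ideal.span (Set.range f)
  rw [← hker]
  exact ha'


section newPres

variable {n m : ℕ} (q c : ℕ) (φ : MvPolynomial (Fin n) R →ₐ[R] A)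
  (f : Fin m → MvPolynomial (Fin n) R)
  (y : Fin c → MvPolynomial (Fin n) R × (Fin q → MvPolynomial (Fin n) R))

/-- the relations of the enlarged presentation -/
noncomputable def newRel : Fin (c + (m + q)) → MvPolynomial (Fin (n + q)) R :=
  Fin.append (fun i => Φ n q (y i)) (Fin.append (fun j => ι n q (f j)) (w n q))

lemma newRel_castLE (i : Fin c) :
    newRel q c f y (Fin.castLE (Nat.le_add_right c (m + q)) i) = Φ n q (y i) := by
  show Fin.append _ _ (Fin.castAdd (m + q) i) = _
  rw [Fin.append_left]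

lemma newRel_tail (j : Fin (c + (m + q))) (hj : c ≤ (j : ℕ)) :
    (∃ j', newRel q c f y j = ι n q (f j')) ∨ (∃ k, newRel q c f y j = w n q k) := by
  induction j using Fin.addCases with
  | left i => exact absurd hj (by simp)
  | right j' =>
    unfold newRel
    rw [Fin.append_right]
    induction j' using Fin.addCases with
    | left j'' => left; exact ⟨j'', by rw [Fin.append_left]⟩
    | right k => right; exact ⟨k, by rw [Fin.append_right]⟩

lemma newRel_mem_ker (hf : ∀ j, f j ∈ RingHom.ker φ.toRingHom)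
    (hy : ∀ i, (y i).1 ∈ RingHom.ker φ.toRingHom) (j : Fin (c + (m + q))) :
    newRel q c f y j ∈ RingHom.ker (φ' n q φ).toRingHom := by
  show φ' n q φ (newRel q c f y j) = 0
  induction j using Fin.addCases with
  | left i =>
    unfold newRel
    rw [Fin.append_left, φ'_Φ]
    exact hy i
  | right j' =>
    unfold newRel
    rw [Fin.append_right]
    induction j' using Fin.addCases with
    | left j'' => rw [Fin.append_left, φ'_ι]; exact hf j''
    | right k => rw [Fin.append_right, φ'_w]

lemma ker_φ'_eq (hker : RingHom.ker φ.toRingHom = Ideal.span (Set.range f))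
    (hy : ∀ i, (y i).1 ∈ RingHom.ker φ.toRingHom) :
    RingHom.ker (φ' n q φ).toRingHom = Ideal.span (Set.range (newRel q c f y)) := by
  have hf : ∀ j, f j ∈ RingHom.ker φ.toRingHom := fun j => by
    rw [hker]; exact Ideal.subset_span ⟨j, rfl⟩
  apply le_antisymm
  · intro x hx
    have hx' : φ' n q φ x = 0 := hx
    have h1 : x = (x - ι n q (ev n q x)) + ι n q (ev n q x) := by ring
    rw [h1]
    refine Ideal.add_mem _ ?_ ?_
    · refine (Ideal.span_mono ?_) (sub_ι_ev_mem x)
      rintro _ ⟨k, rfl⟩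
      refine ⟨Fin.natAdd c (Fin.natAdd m k), ?_⟩
      unfold newRel
      rw [Fin.append_right, Fin.append_right]
    · have h2 : ev n q x ∈ Ideal.span (Set.range f) := by
        rw [← hker]
        show φ (ev n q x) = 0
        rw [← φ'_eq]; exact hx'
      have h3 : (ι n q).toRingHom (ev n q x) ∈ (Ideal.span (Set.range f)).map (ι n q).toRingHom :=
        Ideal.mem_map_of_mem _ h2
      rw [Ideal.map_span] at h3
      refine (Ideal.span_mono ?_) h3
      rintro _ ⟨_, ⟨j, rfl⟩, rfl⟩
      refine ⟨Fin.natAdd c (Fin.castAdd q j), ?_⟩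
      unfold newRel
      rw [Fin.append_right, Fin.append_left]
      rfl
  · rw [Ideal.span_le]
    rintro _ ⟨j, rfl⟩
    exact newRel_mem_ker q c φ f y hf hy j

lemma φ'_surjective (hφ : Function.Surjective φ) : Function.Surjective (φ' n q φ) := by
  intro x
  obtain ⟨g, rfl⟩ := hφ x
  exact ⟨ι n q g, φ'_ι φ g⟩

/-- the enlarged marked presentation -/
noncomputable def newPres (hφ : Function.Surjective φ)
    (hker : RingHom.ker φ.toRingHom = Ideal.span (Set.range f))
    (hy : ∀ i, (y i).1 ∈ RingHom.ker φ.toRingHom) (hc : c ≤ n + q) :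
    Smoothing.MarkedPresentation R A where
  n := n + q
  m := c + (m + q)
  c := c
  hcn := hc
  hcm := Nat.le_add_right c (m + q)
  rel := newRel q c f y
  hom := φ' n q φ
  surj := φ'_surjective q φ hφ
  ker_eq := ker_φ'_eq q c φ f y hker hy

end newPres


section core

variable {n m : ℕ} (φ : MvPolynomial (Fin n) R →ₐ[R] A) (hφ : Function.Surjective φ)
  (f : Fin m → MvPolynomial (Fin n) R)
  (hker : RingHom.ker φ.toRingHom = Ideal.span (Set.range f))
  (gt : MvPolynomial (Fin n) R)

/-- the inclusion `K × S^q → Sⁿ × S^q` -/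
noncomputable def incl (q : ℕ) (K : Submodule (Localization.Away (φ gt))
    (Fin n → Localization.Away (φ gt))) :
    (K × (Fin q → Localization.Away (φ gt))) →ₗ[Localization.Away (φ gt)]
      ((Fin n → Localization.Away (φ gt)) × (Fin q → Localization.Away (φ gt))) :=
  LinearMap.prodMap K.subtype LinearMap.id

include hφ in
/-- Every element of `K × S^q` is a class up to a power of `a`. -/
lemma exists_cl_eq (q : ℕ) (K : Submodule (Localization.Away (φ gt))
    (Fin n → Localization.Away (φ gt)))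
    (hK : K = Submodule.span (Localization.Away (φ gt))
      {v | ∃ g ∈ RingHom.ker φ.toRingHom, v = dvec φ (Localization.Away (φ gt)) g})
    (x : K × (Fin q → Localization.Away (φ gt))) :
    ∃ (N : ℕ) (y : MvPolynomial (Fin n) R × (Fin q → MvPolynomial (Fin n) R)),
      y.1 ∈ RingHom.ker φ.toRingHom ∧ lφ φ gt gt ^ N • incl φ gt q K x = cl φ gt q y := by
  obtain ⟨N1, g, hg, e1⟩ := exists_dvec_of_mem_span φ gt hφ (x.1 : Fin n → Localization.Away (φ gt)) (hK ▸ x.1.2)
  obtain ⟨N2, s, hs⟩ := exists_clear φ gt hφ x.2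
  refine ⟨N1 + N2, (gt ^ N2 * g, fun k => gt ^ N1 * s k), Ideal.mul_mem_left _ _ hg, ?_⟩
  refine Prod.ext ?_ ?_
  · show lφ φ gt gt ^ (N1 + N2) • (x.1 : Fin n → Localization.Away (φ gt)) =
      dvec φ _ (gt ^ N2 * g)
    rw [dvec_mul φ gt _ _ hg, ← e1, smul_smul, map_pow, ← pow_add, add_comm]
  · funext k
    show lφ φ gt gt ^ (N1 + N2) * x.2 k = lφ φ gt (gt ^ N1 * s k)
    rw [map_mul, ← hs k, map_pow, pow_add]
    ring


include hφ in
/-- The tail step: a relation whose class is a combination of the classes of the leading relations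
lies, up to a power of `a`, in the ideal of the leading relations modulo the square. -/
lemma tail_step (q c : ℕ) [Algebra.FormallySmooth R (Localization.Away (φ gt))]
    (K : Submodule (Localization.Away (φ gt)) (Fin n → Localization.Away (φ gt)))
    (hK : K = Submodule.span (Localization.Away (φ gt))
      {v | ∃ g ∈ RingHom.ker φ.toRingHom, v = dvec φ (Localization.Away (φ gt)) g})
    (θ : (K × (Fin q → Localization.Away (φ gt))) ≃ₗ[Localization.Away (φ gt)]
      (Fin c → Localization.Away (φ gt)))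
    (N : ℕ) (y : Fin c → MvPolynomial (Fin n) R × (Fin q → MvPolynomial (Fin n) R))
    (hyI : ∀ i, (y i).1 ∈ RingHom.ker φ.toRingHom)
    (hy : ∀ i, lφ φ gt gt ^ N • incl φ gt q K (θ.symm (fun j => if i = j then 1 else 0)) =
      cl φ gt q (y i))
    (z : MvPolynomial (Fin n) R × (Fin q → MvPolynomial (Fin n) R))
    (hz : z.1 ∈ RingHom.ker φ.toRingHom) :
    ∃ E : ℕ, ι n q gt ^ E * Φ n q z ∈ Ideal.span (Set.range fun i => Φ n q (y i)) ⊔
      RingHom.ker (φ' n q φ).toRingHom ^ 2 := by
  classical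
  have hzK : dvec φ (Localization.Away (φ gt)) z.1 ∈ K := by
    rw [hK]; exact Submodule.subset_span ⟨z.1, hz, rfl⟩
  obtain ⟨x, hx⟩ : ∃ x : K × (Fin q → Localization.Away (φ gt)), incl φ gt q K x = cl φ gt q z :=
    ⟨(⟨_, hzK⟩, (cl φ gt q z).2), rfl⟩
  have hxsum : x = ∑ i, (θ x) i • θ.symm (fun j => if i = j then 1 else 0) := by
    have := LinearMap.pi_apply_eq_sum_univ θ.symm.toLinearMap (θ x)
    simpa using this
  obtain ⟨N1, τ, hτ⟩ := exists_clear φ gt hφ (θ x)
  have hkey : lφ φ gt gt ^ (N + N1) • cl φ gt q z = ∑ i, lφ φ gt (τ i) • cl φ gt q (y i) := by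
    rw [← hx]
    conv_lhs => rw [hxsum]
    rw [map_sum, Finset.smul_sum]
    refine Finset.sum_congr rfl fun i _ => ?_
    rw [map_smul, ← hτ i, ← hy i, smul_smul, smul_smul, pow_add]
    congr 1
    ring
  have hzz : cl φ gt q (gt ^ (N + N1) • z - ∑ i, τ i • y i) = 0 := by
    rw [cl_sub, cl_smul φ gt q _ _ hz, cl_sum, map_pow, hkey, sub_eq_zero]
    exact Finset.sum_congr rfl fun i _ => (cl_smul φ gt q _ _ (hyI i)).symm
  have hzzI : (gt ^ (N + N1) • z - ∑ i, τ i • y i).1 ∈ RingHom.ker φ.toRingHom := by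
    rw [Prod.fst_sub, Prod.fst_sum]
    exact Ideal.sub_mem _ (Ideal.mul_mem_left _ _ hz)
      (Ideal.sum_mem _ fun i _ => Ideal.mul_mem_left _ _ (hyI i))
  obtain ⟨E, hE1, hE2⟩ := exists_pow_smul_of_cl_eq_zero φ gt q hφ _ hzzI hzz
  have hsq := Φ_mem_sq φ _ hE1 hE2
  rw [Φ_smul, Φ_sub, Φ_smul, Φ_sum] at hsq
  refine ⟨E + (N + N1), ?_⟩
  have heq : ι n q gt ^ (E + (N + N1)) * Φ n q z =
      (ι n q) (gt ^ E) * ((ι n q) (gt ^ (N + N1)) * Φ n q z - ∑ i, Φ n q (τ i • y i)) +
        ∑ i, ((ι n q) (gt ^ E) * (ι n q) (τ i)) * Φ n q (y i) := by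
    rw [mul_sub, Finset.mul_sum, map_pow, map_pow, pow_add]
    have : ∑ i, (ι n q gt ^ E * (ι n q) (τ i)) * Φ n q (y i) =
        ∑ i, ι n q gt ^ E * Φ n q (τ i • y i) :=
      Finset.sum_congr rfl fun i _ => by rw [Φ_smul]; ring
    rw [this]
    ring
  rw [heq]
  refine Ideal.add_mem _ (Ideal.mem_sup_right hsq) (Ideal.mem_sup_left ?_)
  exact Ideal.sum_mem _ fun i _ => Ideal.mul_mem_left _ _ (Ideal.subset_span ⟨i, rfl⟩)


/-- The minors step: the maximal minors of the Jacobian of the leading relations contain a power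
of `a`. -/
lemma minors_step (q c : ℕ)
    (K : Submodule (Localization.Away (φ gt)) (Fin n → Localization.Away (φ gt)))
    (θ : (K × (Fin q → Localization.Away (φ gt))) ≃ₗ[Localization.Away (φ gt)]
      (Fin c → Localization.Away (φ gt)))
    (projK : (Fin n → Localization.Away (φ gt)) →ₗ[Localization.Away (φ gt)] K)
    (hprojK : ∀ κ : K, projK (κ : Fin n → Localization.Away (φ gt)) = κ)
    (N : ℕ) (y : Fin c → MvPolynomial (Fin n) R × (Fin q → MvPolynomial (Fin n) R))
    (hy : ∀ i, lφ φ gt gt ^ N • incl φ gt q K (θ.symm (fun j => if i = j then 1 else 0)) =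
      cl φ gt q (y i)) :
    ∃ E : ℕ, (φ gt) ^ E ∈ Ideal.span (Set.range fun cols : Fin c → Fin (n + q) =>
      φ' n q φ (Matrix.det (Matrix.of fun j k : Fin c => pderiv (cols k) (Φ n q (y j))))) := by
  classical
  let S := Localization.Away (φ gt)
  let Jac : Matrix (Fin c) (Fin (n + q)) S :=
    Matrix.of fun i v => algebraMap A S (φ' n q φ (pderiv v (Φ n q (y i))))
  have hrow : ∀ i, (fun v => Jac i v) = Fin.append (cl φ gt q (y i)).1 (cl φ gt q (y i)).2 := by
    intro i
    funext v
    induction v using Fin.addCases with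
    | left l =>
      rw [Fin.append_left]
      show algebraMap A S (φ' n q φ (pderiv (Fin.castAdd q l) (Φ n q (y i)))) = _
      rw [φ'_pderiv_castAdd_Φ]; rfl
    | right k =>
      rw [Fin.append_right]
      show algebraMap A S (φ' n q φ (pderiv (Fin.natAdd n k) (Φ n q (y i)))) = _
      rw [φ'_pderiv_natAdd_Φ]; rfl
  let split : (Fin (n + q) → S) →ₗ[S] (Fin n → S) × (Fin q → S) :=
    LinearMap.prod (LinearMap.funLeft S S (Fin.castAdd q)) (LinearMap.funLeft S S (Fin.natAdd n))
  have hsplit : ∀ (a : Fin n → S) (b : Fin q → S), split (Fin.append a b) = (a, b) := by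
    intro a b
    refine Prod.ext ?_ ?_
    · funext l; show Fin.append a b (Fin.castAdd q l) = a l; rw [Fin.append_left]
    · funext k; show Fin.append a b (Fin.natAdd n k) = b k; rw [Fin.append_right]
  obtain ⟨u, hu⟩ := isUnit_lφ_gt φ gt
  let L : (Fin (n + q) → S) →ₗ[S] (Fin c → S) :=
    ((↑(u⁻¹ ^ N) : S)) • (θ.toLinearMap ∘ₗ (LinearMap.prodMap projK LinearMap.id) ∘ₗ split)
  have hL : ∀ i, L (fun v => Jac i v) = fun j => if i = j then 1 else 0 := by
    intro i
    rw [hrow i]
    show (↑(u⁻¹ ^ N) : S) • θ ((LinearMap.prodMap projK LinearMap.id) (split _)) = _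
    rw [hsplit]
    have h1 : ((cl φ gt q (y i)).1, (cl φ gt q (y i)).2) = cl φ gt q (y i) := rfl
    rw [h1, ← hy i, map_smul]
    have h2 : (LinearMap.prodMap projK LinearMap.id)
        (incl φ gt q K (θ.symm (fun j => if i = j then 1 else 0))) =
        θ.symm (fun j => if i = j then 1 else 0) := by
      refine Prod.ext ?_ ?_
      · exact hprojK _
      · rfl
    rw [h2, map_smul, LinearEquiv.apply_symm_apply, smul_smul, ← hu, ← Units.val_pow_eq_pow_val,
      ← Units.val_mul, ← mul_pow, inv_mul_cancel, one_pow, Units.val_one, one_smul]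
  let Nmat : Matrix (Fin (n + q)) (Fin c) S :=
    Matrix.of fun v j => L (fun v' => if v = v' then 1 else 0) j
  have hmul : Jac * Nmat = 1 := by
    ext i j
    rw [Matrix.mul_apply, Matrix.one_apply]
    have h1 := LinearMap.pi_apply_eq_sum_univ L (fun v => Jac i v)
    rw [hL i] at h1
    have h2 := congrFun h1 j
    rw [Finset.sum_apply] at h2
    rw [h2]
    rfl
  have htop := span_minors_eq_top_of_mul_eq_one Jac Nmat hmul
  have hdet : ∀ cols : Fin c → Fin (n + q), (Jac.submatrix id cols).det =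
      algebraMap A S (φ' n q φ (Matrix.det (Matrix.of fun j k : Fin c =>
        pderiv (cols k) (Φ n q (y j))))) := by
    intro cols
    have h1 := RingHom.map_det ((algebraMap A S).comp (φ' n q φ).toRingHom)
      (Matrix.of fun j k : Fin c => pderiv (cols k) (Φ n q (y j)))
    rw [show algebraMap A S (φ' n q φ (Matrix.det (Matrix.of fun j k : Fin c =>
        pderiv (cols k) (Φ n q (y j))))) = ((algebraMap A S).comp (φ' n q φ).toRingHom)
        (Matrix.det (Matrix.of fun j k : Fin c => pderiv (cols k) (Φ n q (y j)))) from rfl, h1]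
    congr 1
  have hmap : Ideal.map (algebraMap A S) (Ideal.span (Set.range fun cols : Fin c → Fin (n + q) =>
      φ' n q φ (Matrix.det (Matrix.of fun j k : Fin c => pderiv (cols k) (Φ n q (y j)))))) = ⊤ := by
    rw [Ideal.map_span, ← htop]
    congr 1
    ext z
    constructor
    · rintro ⟨_, ⟨cols, rfl⟩, rfl⟩
      exact ⟨cols, hdet cols⟩
    · rintro ⟨cols, rfl⟩
      exact ⟨_, ⟨cols, rfl⟩, (hdet cols).symm⟩
  have h1 : algebraMap A S 1 ∈ Ideal.map (algebraMap A S) (Ideal.span (Set.range
      fun cols : Fin c → Fin (n + q) =>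
      φ' n q φ (Matrix.det (Matrix.of fun j k : Fin c => pderiv (cols k) (Φ n q (y j)))))) := by
    rw [hmap]; exact Submodule.mem_top
  obtain ⟨mm, ⟨E, rfl⟩, hE⟩ :=
    (IsLocalization.algebraMap_mem_map_algebraMap_iff (Submonoid.powers (φ gt)) S _ 1).mp h1
  exact ⟨E, by simpa using hE⟩


include hφ hker in
/-- Core statement: a power of `φ gt` is strictly standard. -/
theorem core [Algebra.Smooth R (Localization.Away (φ gt))] (p q : ℕ)
    (e : (Ω[Localization.Away (φ gt)⁄R] × (Fin p → Localization.Away (φ gt)))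
      ≃ₗ[Localization.Away (φ gt)] (Fin q → Localization.Away (φ gt))) :
    ∃ E : ℕ, Smoothing.IsStrictlyStandard R A ((φ gt) ^ E) := by
  classical
  by_cases hnt : Nontrivial (Localization.Away (φ gt))
  swap
  · rw [not_nontrivial_iff_subsingleton] at hnt
    have h0 : algebraMap A (Localization.Away (φ gt)) 1 = 0 := Subsingleton.elim _ _
    obtain ⟨⟨_, E, rfl⟩, hE⟩ :=
      (IsLocalization.map_eq_zero_iff (Submonoid.powers (φ gt)) _ _).mp h0
    refine ⟨E, ?_⟩
    have : φ gt ^ E = 0 := by simpa using hE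
    rw [this]
    exact isStrictlyStandard_zero φ hφ f hker
  let S := Localization.Away (φ gt)
  have hpq : p ≤ q := by
    let j : (Fin p → S) →ₗ[S] (Fin q → S) := e.toLinearMap ∘ₗ LinearMap.inr S _ _
    have hj : Function.Injective j := e.injective.comp LinearMap.inr_injective
    exact le_of_fin_injective S j hj
  have hf : ∀ j, f j ∈ RingHom.ker φ.toRingHom := fun j => by
    rw [hker]; exact Ideal.subset_span ⟨j, rfl⟩
  obtain ⟨tS, htS, hK⟩ := exists_tS φ hφ S (φ gt)
  obtain ⟨e1, he1⟩ := exists_ker_prod_equiv tS htS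
  let K := LinearMap.ker tS
  let θ : (K × (Fin q → S)) ≃ₗ[S] (Fin (n + p) → S) :=
    (LinearEquiv.prodCongr (LinearEquiv.refl S K) e.symm) ≪≫ₗ
    (LinearEquiv.prodAssoc S K _ _).symm ≪≫ₗ
    (LinearEquiv.prodCongr e1 (LinearEquiv.refl S (Fin p → S))) ≪≫ₗ
    (LinearEquiv.sumArrowLequivProdArrow (Fin n) (Fin p) S S).symm ≪≫ₗ
    (LinearEquiv.funCongrLeft S S finSumFinEquiv.symm)
  let projK : (Fin n → S) →ₗ[S] K := (LinearMap.fst S K _) ∘ₗ e1.symm.toLinearMap
  have hprojK : ∀ κ : K, projK (κ : Fin n → S) = κ := fun κ => by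
    show (e1.symm (κ : Fin n → S)).1 = κ
    rw [← he1 κ, LinearEquiv.symm_apply_apply]
  have hclear : ∀ i : Fin (n + p), ∃ (N : ℕ)
      (y : MvPolynomial (Fin n) R × (Fin q → MvPolynomial (Fin n) R)),
      y.1 ∈ RingHom.ker φ.toRingHom ∧
      lφ φ gt gt ^ N • incl φ gt q K (θ.symm (fun j => if i = j then 1 else 0)) = cl φ gt q y :=
    fun i => exists_cl_eq φ hφ gt q K hK _
  choose N0 y0 hy0I hy0 using hclear
  let N := ∑ i, N0 i
  let y : Fin (n + p) → MvPolynomial (Fin n) R × (Fin q → MvPolynomial (Fin n) R) :=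
    fun i => gt ^ (N - N0 i) • y0 i
  have hyI : ∀ i, (y i).1 ∈ RingHom.ker φ.toRingHom := fun i =>
    Ideal.mul_mem_left _ _ (hy0I i)
  have hy : ∀ i, lφ φ gt gt ^ N • incl φ gt q K (θ.symm (fun j => if i = j then 1 else 0)) =
      cl φ gt q (y i) := by
    intro i
    have hle : N0 i ≤ N := Finset.single_le_sum (fun _ _ => Nat.zero_le _) (Finset.mem_univ i)
    show _ = cl φ gt q (gt ^ (N - N0 i) • y0 i)
    rw [cl_smul φ gt q _ _ (hy0I i), ← hy0 i, smul_smul, map_pow, ← pow_add,
      Nat.sub_add_cancel hle]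
  have hc : n + p ≤ n + q := Nat.add_le_add_left hpq n
  obtain ⟨E1, hE1⟩ := minors_step φ gt q (n + p) K θ projK hprojK N y hy
  have htail : ∀ j : Fin ((n + p) + (m + q)), ∃ E : ℕ, (n + p) ≤ (j : ℕ) →
      ι n q gt ^ E * newRel q (n + p) f y j ∈
        Ideal.span (Set.range fun i => Φ n q (y i)) ⊔ RingHom.ker (φ' n q φ).toRingHom ^ 2 := by
    intro j
    by_cases hj : (n + p) ≤ (j : ℕ)
    · rcases newRel_tail q (n + p) f y j hj with ⟨j', hj'⟩ | ⟨k, hk⟩
      · obtain ⟨E, hE⟩ := tail_step φ hφ gt q (n + p) K hK θ N y hyI hy (f j', 0) (hf j')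
        refine ⟨E, fun _ => ?_⟩
        have : Φ n q (f j', (0 : Fin q → MvPolynomial (Fin n) R)) = ι n q (f j') := by
          simp [Φ]
        rw [hj', ← this]
        exact hE
      · obtain ⟨E, hE⟩ := tail_step φ hφ gt q (n + p) K hK θ N y hyI hy
          (0, Pi.single k 1) (Ideal.zero_mem _)
        refine ⟨E, fun _ => ?_⟩
        have : Φ n q ((0 : MvPolynomial (Fin n) R),
            (Pi.single k 1 : Fin q → MvPolynomial (Fin n) R)) = w n q k := by
          unfold Φ
          rw [map_zero, zero_add, Finset.sum_eq_single k]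
          · simp
          · intro b _ hb
            show (ι n q) ((Pi.single k 1 : Fin q → MvPolynomial (Fin n) R) b) * w n q b = 0
            rw [Pi.single_eq_of_ne hb, map_zero, zero_mul]
          · intro h; exact absurd (Finset.mem_univ _) h
        rw [hk, ← this]
        exact hE
    · exact ⟨0, fun h => absurd h hj⟩
  choose Et hEt using htail
  refine ⟨E1 + ∑ j, Et j, newPres q (n + p) φ f y hφ hker hyI hc, ?_, ?_⟩
  · rw [pow_add]
    refine Ideal.mul_mem_right _ _ ?_
    have hrange : (Set.range fun cols : Fin (n + p) → Fin (n + q) =>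
        φ' n q φ (Matrix.det (Matrix.of fun j k : Fin (n + p) =>
          pderiv (cols k) (Φ n q (y j))))) =
        Set.range fun cols : Fin (newPres q (n + p) φ f y hφ hker hyI hc).c →
          Fin (newPres q (n + p) φ f y hφ hker hyI hc).n =>
          (newPres q (n + p) φ f y hφ hker hyI hc).hom
            (Smoothing.jacobianMinor (newPres q (n + p) φ f y hφ hker hyI hc).rel
              (Fin.castLE (newPres q (n + p) φ f y hφ hker hyI hc).hcm) cols) := by
      congr 1
      funext cols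
      show _ = φ' n q φ (Matrix.det (Matrix.of fun j k : Fin (n + p) =>
        pderiv (cols k) (newRel q (n + p) f y (Fin.castLE (Nat.le_add_right (n + p) (m + q)) j))))
      congr 3
      funext j k
      rw [newRel_castLE]
    rw [← hrange]
    exact hE1
  · show ∀ a' : MvPolynomial (Fin (n + q)) R, φ' n q φ a' = φ gt ^ (E1 + ∑ j, Et j) →
      ∀ j : Fin ((n + p) + (m + q)), (n + p) ≤ (j : ℕ) →
      a' * newRel q (n + p) f y j ∈
        Ideal.span (newRel q (n + p) f y '' {j' | (j' : ℕ) < n + p}) ⊔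
          Ideal.span (Set.range (newRel q (n + p) f y)) ^ 2
    intro a' ha'' j hj'
    rw [← ker_φ'_eq q (n + p) φ f y hker hyI]
    have hspan : Ideal.span (Set.range fun i => Φ n q (y i)) ≤
        Ideal.span (newRel q (n + p) f y '' {j' | (j' : ℕ) < n + p}) := by
      rw [Ideal.span_le]
      rintro _ ⟨i, rfl⟩
      exact Ideal.subset_span ⟨Fin.castLE (Nat.le_add_right (n + p) (m + q)) i, i.2,
        newRel_castLE q (n + p) f y i⟩
    have h1 : a' - ι n q gt ^ (E1 + ∑ j, Et j) ∈ RingHom.ker (φ' n q φ).toRingHom := by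
      show φ' n q φ (a' - ι n q gt ^ (E1 + ∑ j, Et j)) = 0
      rw [map_sub, ha'', map_pow, φ'_ι, sub_self]
    have hle : Et j ≤ E1 + ∑ j, Et j :=
      le_trans (Finset.single_le_sum (fun _ _ => Nat.zero_le _) (Finset.mem_univ j))
        (Nat.le_add_left _ _)
    have h2 : a' * newRel q (n + p) f y j =
        (a' - ι n q gt ^ (E1 + ∑ j, Et j)) * newRel q (n + p) f y j +
          ι n q gt ^ (E1 + ∑ j, Et j - Et j) * (ι n q gt ^ Et j * newRel q (n + p) f y j) := by
      rw [← mul_assoc, ← pow_add, Nat.sub_add_cancel hle]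
      ring
    rw [h2]
    refine Ideal.add_mem _ (Ideal.mem_sup_right ?_) (Ideal.mul_mem_left _ _ ?_)
    · rw [pow_two]
      exact Ideal.mul_mem_mul h1
        (newRel_mem_ker q (n + p) φ f y hf hyI j)
    · exact (sup_le_sup_right hspan _) (hEt j hj')

end core

end Groth.Agent.H10.SSMain
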