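import Mathlib
import Groth.Agent.H10.SmoothRetract

/-!
# Étale charts for maps from smooth algebras

Given a smooth `R`-algebra `S`, an `R`-algebra `A`, an ideal `I` of `A` and `σ : S →ₐ[R] A ⧸ I`,
there is an étale `A`-algebra `E` with an `A`-algebra map `σE : E → A ⧸ I` and a ring map
`ι : S → E` over `R → A` with `σE ∘ ι = σ`.
-/

set_option autoImplicit false
universe u

namespace Groth.Agent.H10.SmoothChart

open TensorProduct

theorem chart_of_isStandardSmooth (R : Type u) [CommRing R] (S : Type u) [CommRing S] [Algebra R S]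
    [Algebra.IsStandardSmooth R S] (A : Type u) [CommRing A] [Algebra R A] (I : Ideal A)
    (σ : S →ₐ[R] A ⧸ I) :
    ∃ (E : Type u) (_ : CommRing E) (_ : Algebra A E), Algebra.Etale A E ∧
      ∃ (σE : E →ₐ[A] A ⧸ I) (ι : S →+* E),
        (∀ r : R, ι (algebraMap R S r) = algebraMap A E (algebraMap R A r)) ∧
        ∀ s, σE (ι s) = σ s := by
  obtain ⟨ι', σ', hfσ, hfι, ⟨P⟩⟩ := (inferInstance : Algebra.IsStandardSmooth R S).out
  have : Algebra.IsStandardSmoothOfRelativeDimension P.dimension R S :=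
    ⟨ι', σ', hfσ, hfι, P, rfl⟩
  obtain ⟨g, hg⟩ :=
    Algebra.IsStandardSmoothOfRelativeDimension.exists_etale_mvPolynomial P.dimension R S
  have hex : ∀ i : Fin P.dimension, ∃ a : A, Ideal.Quotient.mk I a = σ (g (MvPolynomial.X i)) :=
    fun i => Ideal.Quotient.mk_surjective _
  choose a ha using hex
  let algPS : Algebra (MvPolynomial (Fin P.dimension) R) S := g.toRingHom.toAlgebra
  let algPA : Algebra (MvPolynomial (Fin P.dimension) R) A :=
    (MvPolynomial.aeval a : MvPolynomial (Fin P.dimension) R →ₐ[R] A).toRingHom.toAlgebra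
  have : Algebra.Etale (MvPolynomial (Fin P.dimension) R) S := hg
  have hPS : ∀ p : MvPolynomial (Fin P.dimension) R, algebraMap _ S p = g p := fun _ => rfl
  have hPA : ∀ p : MvPolynomial (Fin P.dimension) R, algebraMap _ A p = MvPolynomial.aeval a p :=
    fun _ => rfl
  have hcomp : σ.comp g = (Ideal.Quotient.mkₐ R I).comp (MvPolynomial.aeval a) := by
    apply MvPolynomial.algHom_ext
    intro i
    show σ (g (MvPolynomial.X i)) = Ideal.Quotient.mk I (MvPolynomial.aeval a (MvPolynomial.X i))
    rw [MvPolynomial.aeval_X, ha]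
  let σP : S →ₐ[MvPolynomial (Fin P.dimension) R] A ⧸ I :=
    { σ.toRingHom with
      commutes' := fun p => by
        show σ (g p) = Ideal.Quotient.mk I (MvPolynomial.aeval a p)
        exact congrArg (fun h => h p) hcomp }
  let σE : A ⊗[MvPolynomial (Fin P.dimension) R] S →ₐ[A] A ⧸ I :=
    Algebra.TensorProduct.lift (Algebra.ofId A (A ⧸ I)) σP (fun _ _ => Commute.all _ _)
  let ι : S →+* A ⊗[MvPolynomial (Fin P.dimension) R] S :=
    (Algebra.TensorProduct.includeRight :
      S →ₐ[MvPolynomial (Fin P.dimension) R] A ⊗[MvPolynomial (Fin P.dimension) R] S).toRingHom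
  have hι : ∀ s : S, ι s = (1 : A) ⊗ₜ[MvPolynomial (Fin P.dimension) R] s := fun _ => rfl
  refine ⟨A ⊗[MvPolynomial (Fin P.dimension) R] S, inferInstance, inferInstance, inferInstance,
    σE, ι, ?_, ?_⟩
  · intro r
    rw [hι]
    have h1 : algebraMap R S r = algebraMap (MvPolynomial (Fin P.dimension) R) S
        (algebraMap R _ r) := by
      rw [hPS, g.commutes]
    rw [h1, Algebra.TensorProduct.algebraMap_apply, Algebra.algebraMap_eq_smul_one,
      ← TensorProduct.smul_tmul, Algebra.smul_def, mul_one, hPA, AlgHom.commutes]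
    rfl
  · intro s
    rw [hι]
    show Algebra.TensorProduct.lift (Algebra.ofId A (A ⧸ I)) σP (fun _ _ => Commute.all _ _)
      ((1 : A) ⊗ₜ[MvPolynomial (Fin P.dimension) R] s) = σ s
    rw [Algebra.TensorProduct.lift_tmul, map_one, one_mul]
    rfl

theorem chart_of_smooth (R : Type u) [CommRing R] (S : Type u) [CommRing S] [Algebra R S]
    [Algebra.Smooth R S] (A : Type u) [CommRing A] [Algebra R A] (I : Ideal A)
    (σ : S →ₐ[R] A ⧸ I) :
    ∃ (E : Type u) (_ : CommRing E) (_ : Algebra A E), Algebra.Etale A E ∧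
      ∃ (σE : E →ₐ[A] A ⧸ I) (ι : S →+* E),
        (∀ r : R, ι (algebraMap R S r) = algebraMap A E (algebraMap R A r)) ∧
        ∀ s, σE (ι s) = σ s := by
  obtain ⟨B, _, _, _, _, -, ⟨r⟩, hB⟩ :=
    Groth.Agent.H10.SmoothRetract.exists_smooth_retract_isStandardSmooth (R := R) (A := S)
  obtain ⟨E, _, _, hE, σE, ι, hι1, hι2⟩ :=
    chart_of_isStandardSmooth R B A I (σ.comp (r.restrictScalars R))
  refine ⟨E, inferInstance, inferInstance, hE, σE, ι.comp (algebraMap S B), ?_, ?_⟩
  · intro x
    show ι (algebraMap S B (algebraMap R S x)) = _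
    rw [← IsScalarTower.algebraMap_apply R S B, hι1]
  · intro s
    show σE (ι (algebraMap S B s)) = σ s
    rw [hι2]
    show σ (r (algebraMap S B s)) = σ s
    rw [r.commutes]
    rfl

end Groth.Agent.H10.SmoothChart
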