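import Mathlib

/-! (B) for S5124: quasi-compactness and quasi-separatedness descend along a surjective
quasi-compact base change. -/

set_option autoImplicit false
set_option linter.style.haveILetI false
universe u
open CategoryTheory CategoryTheory.Limits AlgebraicGeometry MorphismProperty

namespace Groth.Agent.H10.Spread_B

theorem quasiCompact_of_isPullback {X Y X' Y' : Scheme.{u}} {f : X ⟶ Y} {g : Y' ⟶ Y}
    {f' : X' ⟶ Y'} {g' : X' ⟶ X} (h : IsPullback g' f' f g) [Surjective g] [QuasiCompact g]
    [QuasiCompact f'] : QuasiCompact f := by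
  have hg' : Surjective g' :=
    MorphismProperty.of_isPullback (P := @Surjective) h.flip ‹Surjective g›
  rw [quasiCompact_iff_forall_isAffineOpen]
  intro U hU
  have h1 : IsCompact (g ⁻¹ᵁ U : Set Y') := g.isCompact_preimage hU.isCompact
  have h2 : IsCompact (f' ⁻¹ᵁ (g ⁻¹ᵁ U) : Set X') := f'.isCompact_preimage h1
  have h3 : (f ⁻¹ᵁ U : Set X) = g' '' (f' ⁻¹ᵁ (g ⁻¹ᵁ U) : Set X') := by
    ext x
    constructor
    · intro hx
      obtain ⟨x', rfl⟩ := g'.surjective x
      refine ⟨x', ?_, rfl⟩
      show g (f' x') ∈ U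
      rw [← Scheme.Hom.comp_apply, ← h.w, Scheme.Hom.comp_apply]
      exact hx
    · rintro ⟨x', hx', rfl⟩
      show f (g' x') ∈ U
      rw [← Scheme.Hom.comp_apply, h.w, Scheme.Hom.comp_apply]
      exact hx'
  rw [h3]
  exact h2.image g'.continuous

instance descendsAlong_quasiCompact :
    MorphismProperty.DescendsAlong @QuasiCompact (@Surjective ⊓ @QuasiCompact : MorphismProperty Scheme.{u}) where
  of_isPullback := by
    intro A X Y Z fst snd f g h hf hfst
    haveI : Surjective f := hf.1
    haveI : QuasiCompact f := hf.2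
    haveI : QuasiCompact fst := hfst
    exact quasiCompact_of_isPullback h.flip

theorem quasiSeparated_of_isPullback {X Y X' Y' : Scheme.{u}} {f : X ⟶ Y} {g : Y' ⟶ Y}
    {f' : X' ⟶ Y'} {g' : X' ⟶ X} (h : IsPullback g' f' f g) [Surjective g] [QuasiCompact g]
    [QuasiSeparated f'] : QuasiSeparated f := by
  haveI i1 : MorphismProperty.RespectsIso (@QuasiCompact : MorphismProperty Scheme.{u}) :=
    MorphismProperty.IsStableUnderBaseChange.respectsIso
  haveI i2 : MorphismProperty.IsStableUnderBaseChange
      (@Surjective ⊓ @QuasiCompact : MorphismProperty Scheme.{u}) :=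
    MorphismProperty.IsStableUnderBaseChange.inf
  have hdesc : MorphismProperty.DescendsAlong (MorphismProperty.diagonal @QuasiCompact)
      (@Surjective ⊓ @QuasiCompact : MorphismProperty Scheme.{u}) :=
    @MorphismProperty.instDescendsAlongDiagonalOfRespectsIsoOfIsStableUnderBaseChange _ _ _
      (@QuasiCompact) (@Surjective ⊓ @QuasiCompact) descendsAlong_quasiCompact i1 i2
  have hf' : MorphismProperty.diagonal @QuasiCompact f' := by
    rw [← quasiSeparated_eq_diagonal_is_quasiCompact]; infer_instance
  have := hdesc.of_isPullback h.flip ⟨‹Surjective g›, ‹QuasiCompact g›⟩ hf'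
  rw [← quasiSeparated_eq_diagonal_is_quasiCompact] at this
  exact this

end Groth.Agent.H10.Spread_B
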