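import Mathlib

/-! (D) for S5124: `Spec` of the completion of a Noetherian local ring is flat and surjective over
`Spec R`. -/

set_option autoImplicit false
set_option linter.style.haveILetI false
universe u
open CategoryTheory CategoryTheory.Limits AlgebraicGeometry

namespace Groth.Agent.H10.Spread_D

theorem flat_surjective_completion (R : Type u) [CommRing R] [IsNoetherianRing R] [IsLocalRing R] :
    Flat (Spec.map (CommRingCat.ofHom (algebraMap R (AdicCompletion (IsLocalRing.maximalIdeal R) R)))) ∧
    Surjective (Spec.map (CommRingCat.ofHom (algebraMap R (AdicCompletion (IsLocalRing.maximalIdeal R) R)))) := by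
  haveI : Module.Flat R (AdicCompletion (IsLocalRing.maximalIdeal R) R) := inferInstance
  haveI : Module.FaithfullyFlat R (AdicCompletion (IsLocalRing.maximalIdeal R) R) :=
    Module.FaithfullyFlat.of_flat_of_isLocalHom
  refine ⟨?_, ⟨?_⟩⟩
  · rw [HasRingHomProperty.Spec_iff (P := @Flat)]
    exact (RingHom.flat_algebraMap_iff).mpr inferInstance
  · intro x
    obtain ⟨y, hy⟩ := PrimeSpectrum.comap_surjective_of_faithfullyFlat
      (A := R) (B := AdicCompletion (IsLocalRing.maximalIdeal R) R) x
    exact ⟨y, hy⟩

end Groth.Agent.H10.Spread_D
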