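import Mathlib
import Groth.Agent.H3.TorPowDefs

/-!
# helper10 squad pieces (SM)+(LA) for helper3 (S7161)
-/

set_option autoImplicit false
set_option linter.unusedSectionVars false
set_option linter.unusedVariables false
universe u
open CategoryTheory CategoryTheory.Limits MonoidalCategory
open Groth.Agent.H82 Groth.Agent.H82.LDer Groth.Agent.H82.TorLib Groth.Agent.H3.TorPow

namespace Groth.Agent.H10.TorPow_LA

variable {A : Type u} [CommRing A] (N : Type u) [AddCommGroup N] [Module A N]

/-- (SM) `Tor_p(N, X)` is killed by every element killing `N`. -/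
theorem smul_eq_zero (f : A) (hf : ∀ y : N, f • y = 0) (p : ℕ) (X : ModuleCat.{u} A)
    (t : (T (A := A) N p).obj X) : f • t = 0 := by
  obtain ⟨e⟩ := Groth.Agent.H82.TorSymm.nonempty_tor_iso_flip (A := A) p
  let φ : (T (A := A) N p).obj X ≅ (Groth.Agent.H23.TorPowGen.T X p).obj (ModuleCat.of A N) :=
    (e.app (ModuleCat.of A N)).app X
  have h1 : f • (φ.hom t) = 0 :=
    Groth.Agent.H23.TorPowGen.smul_eq_zero_of_smul_id X p (ModuleCat.of A N) f hf (φ.hom t)
  have h2 : φ.hom (f • t) = 0 := by
    rw [map_smul]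
    exact h1
  have h3 : φ.inv (φ.hom (f • t)) = f • t := by
    have := φ.hom_inv_id
    exact congrArg (fun g => g.hom (f • t)) this
  rw [← h3, h2, map_zero]

/-- exactness in the middle of `Tor_p(N, -)` applied to a short exact sequence of linear maps. -/
theorem exists_of_map_eq_zero {N₁ N₂ N₃ : Type u} [AddCommGroup N₁] [Module A N₁] [AddCommGroup N₂]
    [Module A N₂] [AddCommGroup N₃] [Module A N₃] (a : N₁ →ₗ[A] N₂) (b : N₂ →ₗ[A] N₃)
    (ha : Function.Injective a) (hb : Function.Surjective b) (hab : Function.Exact a b) (p : ℕ)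
    (x : (T (A := A) N p).obj (ModuleCat.of A N₂))
    (hx : ((T (A := A) N p).map (ModuleCat.ofHom b)) x = 0) :
    ∃ y : (T (A := A) N p).obj (ModuleCat.of A N₁),
      ((T (A := A) N p).map (ModuleCat.ofHom a)) y = x := by
  have hS := Groth.Agent.H82.TorFlat.shortExact_of (A := A) a b ha hb hab
  obtain ⟨w, hex, -⟩ := hasLES_tor (ModuleCat.of A N) _ hS p
  have := (ShortComplex.moduleCat_exact_iff _).mp (hex w) x hx
  exact this

/-- (LA) the diagram chase. -/
theorem lemmaA (f : A) (hf : ∀ y : N, f • y = 0) (M : Type u) [AddCommGroup M] [Module A M]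
    (p : ℕ) (x : (T (A := A) N p).obj (ModuleCat.of A M))
    (hx : ((T (A := A) N p).map
      (ModuleCat.ofHom (LinearMap.range (LinearMap.lsmul A M f)).mkQ)) x = 0) :
    ∃ z : (T (A := A) N p).obj (ModuleCat.of A ↥(LinearMap.ker (LinearMap.lsmul A M f))),
      ((T (A := A) N p).map
        (ModuleCat.ofHom (LinearMap.ker (LinearMap.lsmul A M f)).subtype)) z = x := by
  set φ : M →ₗ[A] M := LinearMap.lsmul A M f with hφ
  -- step 1: x comes from the range
  obtain ⟨y, hy⟩ := exists_of_map_eq_zero N (LinearMap.range φ).subtype (LinearMap.range φ).mkQ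
    (Submodule.injective_subtype _) (Submodule.mkQ_surjective _)
    (LinearMap.exact_subtype_mkQ _) p x hx
  -- step 2: the composite range → M → range is multiplication by f
  have hcomp : φ.rangeRestrict ∘ₗ (LinearMap.range φ).subtype =
      f • (LinearMap.id : ↥(LinearMap.range φ) →ₗ[A] ↥(LinearMap.range φ)) := by
    ext r
    rfl
  have hzero : ((T (A := A) N p).map (ModuleCat.ofHom φ.rangeRestrict)) x = 0 := by
    rw [← hy]
    have h1 : ((T (A := A) N p).map (ModuleCat.ofHom φ.rangeRestrict))
        (((T (A := A) N p).map (ModuleCat.ofHom (LinearMap.range φ).subtype)) y) =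
        ((T (A := A) N p).map (ModuleCat.ofHom (φ.rangeRestrict ∘ₗ (LinearMap.range φ).subtype))) y := by
      rw [ModuleCat.ofHom_comp, Functor.map_comp]
      rfl
    rw [h1, hcomp]
    have h2 : ModuleCat.ofHom (f • (LinearMap.id : ↥(LinearMap.range φ) →ₗ[A] ↥(LinearMap.range φ))) =
        f • 𝟙 (ModuleCat.of A ↥(LinearMap.range φ)) := rfl
    rw [h2, Groth.Agent.H82.TorReg2.map_smul_eq N p f]
    exact smul_eq_zero N f hf p _ y
  -- step 3: exactness of 0 → ker → M → range → 0
  have hex : Function.Exact (LinearMap.ker φ).subtype φ.rangeRestrict := by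
    intro m
    constructor
    · intro hm
      refine ⟨⟨m, ?_⟩, rfl⟩
      rw [LinearMap.mem_ker]
      exact congrArg Subtype.val hm
    · rintro ⟨⟨m', hm'⟩, rfl⟩
      apply Subtype.ext
      exact hm'
  exact exists_of_map_eq_zero N (LinearMap.ker φ).subtype φ.rangeRestrict
    (Submodule.injective_subtype _) (LinearMap.surjective_rangeRestrict _) hex p x hzero

end Groth.Agent.H10.TorPow_LA
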