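import Mathlib

/-!
# helper10 squad piece (P1) for helper3 (S7161)
-/

set_option autoImplicit false
universe u

namespace Groth.Agent.H10.TorPow_P1

variable {A : Type u} [CommRing A]

theorem span_smul_eq_bot (f : A) {Q : Type u} [AddCommGroup Q] [Module A Q]
    (hQ : ∀ q : Q, f • q = 0) (L : Submodule A Q) : (Ideal.span {f} : Ideal A) • L = ⊥ := by
  rw [eq_bot_iff]
  rw [Submodule.smul_le]
  intro r hr n _
  obtain ⟨a, rfl⟩ := Ideal.mem_span_singleton'.mp hr
  rw [Submodule.mem_bot, mul_smul, hQ, smul_zero]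

theorem pow_smul_top_eq (I' : Ideal A) (f : A) (Q : Type u) [AddCommGroup Q] [Module A Q]
    (hQ : ∀ q : Q, f • q = 0) (k : ℕ) :
    ((I' ⊔ Ideal.span {f}) ^ k • (⊤ : Submodule A Q)) = I' ^ k • (⊤ : Submodule A Q) := by
  induction k with
  | zero => simp
  | succ k ih =>
    rw [pow_succ', pow_succ', Submodule.mul_smul, Submodule.mul_smul, ih, Submodule.sup_smul,
      span_smul_eq_bot f hQ, sup_bot_eq]

end Groth.Agent.H10.TorPow_P1
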