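import Mathlib
import Groth.Agent.H3.TorPowDefs
import Groth.Agent.H10.TorPow_P1
import Groth.Agent.H10.TorPow_LA

/-!
# helper10 squad piece (IND) for helper3 (S7161): the induction step
-/

set_option autoImplicit false
set_option linter.unusedSectionVars false
set_option linter.unusedVariables false
universe u
open CategoryTheory CategoryTheory.Limits MonoidalCategory
open Groth.Agent.H82 Groth.Agent.H82.LDer Groth.Agent.H82.TorLib Groth.Agent.H3.TorPow

namespace Groth.Agent.H10.TorPow_IND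

variable {A : Type u} [CommRing A] (N : Type u) [AddCommGroup N] [Module A N]

theorem TZ_comp_of (f : A) (hf : ∀ y : N, f • y = 0)
    {X M M' : Type u} [AddCommGroup X] [Module A X] [AddCommGroup M] [Module A M]
    [AddCommGroup M'] [Module A M'] (g : X →ₗ[A] M) (h : M →ₗ[A] M')
    (h1 : TZ N ((LinearMap.range (LinearMap.lsmul A M f)).mkQ ∘ₗ g))
    (h2 : TZ N (h ∘ₗ (LinearMap.ker (LinearMap.lsmul A M f)).subtype)) : TZ N (h ∘ₗ g) := by
  intro p
  refine ModuleCat.hom_ext (LinearMap.ext fun x => ?_)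
  have e1 : ((T (A := A) N p).map (ModuleCat.ofHom (h ∘ₗ g))) x =
      ((T (A := A) N p).map (ModuleCat.ofHom h)) (((T (A := A) N p).map (ModuleCat.ofHom g)) x) := by
    rw [ModuleCat.ofHom_comp, Functor.map_comp]
    rfl
  have e2 : ((T (A := A) N p).map
      (ModuleCat.ofHom (LinearMap.range (LinearMap.lsmul A M f)).mkQ))
      (((T (A := A) N p).map (ModuleCat.ofHom g)) x) = 0 := by
    have := h1 p
    rw [ModuleCat.ofHom_comp, Functor.map_comp] at this
    exact congrArg (fun φ => φ.hom x) this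
  obtain ⟨z, hz⟩ := Groth.Agent.H10.TorPow_LA.lemmaA N f hf M p _ e2
  change ((T (A := A) N p).map (ModuleCat.ofHom (h ∘ₗ g))) x = 0
  rw [e1, ← hz]
  have := h2 p
  rw [ModuleCat.ofHom_comp, Functor.map_comp] at this
  exact congrArg (fun φ => φ.hom z) this

theorem step [IsNoetherianRing A] (I' : Ideal A) (f : A) (hf : ∀ y : N, f • y = 0)
    (IH : ∀ (M : Type u) [AddCommGroup M] [Module A M] [Module.Finite A M],
      ∃ n, 0 < n ∧ TZ N (I' ^ n • (⊤ : Submodule A M)).subtype)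
    (M : Type u) [AddCommGroup M] [Module A M] [Module.Finite A M] :
    ∃ n, 0 < n ∧ TZ N ((I' ⊔ Ideal.span {f}) ^ n • (⊤ : Submodule A M)).subtype := by
  haveI : IsNoetherian A M := inferInstance
  set I : Ideal A := I' ⊔ Ideal.span {f} with hI
  set Γ : Submodule A M := LinearMap.ker (LinearMap.lsmul A M f) with hΓ
  -- IH for Γ
  obtain ⟨n2, hn2, hTZ2⟩ := IH ↥Γ
  -- Artin–Rees
  obtain ⟨c, hc⟩ := Ideal.exists_pow_inf_eq_pow_smul I Γ
  set m : ℕ := n2 + c with hm
  set M2sub : Submodule A M := I ^ m • (⊤ : Submodule A M) with hM2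
  -- IH for M2 / f M2
  obtain ⟨n1, hn1, hTZ1⟩ := IH (↥M2sub ⧸ LinearMap.range (LinearMap.lsmul A ↥M2sub f))
  refine ⟨n1 + m, by omega, ?_⟩
  have hle : I ^ (n1 + m) • (⊤ : Submodule A M) ≤ M2sub :=
    Submodule.smul_mono_left (Ideal.pow_le_pow_right (by omega))
  set g : ↥(I ^ (n1 + m) • (⊤ : Submodule A M)) →ₗ[A] ↥M2sub := Submodule.inclusion hle with hg
  have hfac : (I ^ (n1 + m) • (⊤ : Submodule A M)).subtype = M2sub.subtype ∘ₗ g := by
    ext x
    rfl
  rw [hfac]
  -- f kills Γ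
  have hfΓ : ∀ q : ↥Γ, f • q = 0 := by
    rintro ⟨q, hq⟩
    apply Subtype.ext
    exact hq
  -- f kills the quotient
  have hfQ : ∀ q : (↥M2sub ⧸ LinearMap.range (LinearMap.lsmul A ↥M2sub f)), f • q = 0 := by
    intro q
    obtain ⟨q, rfl⟩ := Submodule.mkQ_surjective _ q
    rw [← map_smul, Submodule.mkQ_apply, Submodule.Quotient.mk_eq_zero]
    exact ⟨q, rfl⟩
  apply TZ_comp_of N f hf g M2sub.subtype
  · -- (h1)
    have hrange : ∀ x, ((LinearMap.range (LinearMap.lsmul A ↥M2sub f)).mkQ ∘ₗ g) x ∈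
        I' ^ n1 • (⊤ : Submodule A (↥M2sub ⧸ LinearMap.range (LinearMap.lsmul A ↥M2sub f))) := by
      intro x
      rw [← Groth.Agent.H10.TorPow_P1.pow_smul_top_eq I' f _ hfQ n1]
      -- x ∈ I^(n1+m) • ⊤ = I^n1 • M2sub = map subtype (I^n1 • ⊤)
      have hx : (x : M) ∈ Submodule.map M2sub.subtype (I ^ n1 • (⊤ : Submodule A ↥M2sub)) := by
        rw [Submodule.map_smul'', Submodule.map_top, Submodule.range_subtype, hM2,
          ← Submodule.mul_smul, ← pow_add]
        exact x.2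
      obtain ⟨x', hx', hxx'⟩ := hx
      have hgx : g x = x' := by
        apply Subtype.ext
        exact hxx'.symm
      rw [LinearMap.comp_apply, hgx]
      have : (LinearMap.range (LinearMap.lsmul A ↥M2sub f)).mkQ x' ∈
          Submodule.map (LinearMap.range (LinearMap.lsmul A ↥M2sub f)).mkQ
            (I ^ n1 • (⊤ : Submodule A ↥M2sub)) := Submodule.mem_map_of_mem hx'
      rw [Submodule.map_smul'', Submodule.map_top, Submodule.range_mkQ] at this
      exact this
    have hfac1 : (LinearMap.range (LinearMap.lsmul A ↥M2sub f)).mkQ ∘ₗ g =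
        (I' ^ n1 • (⊤ : Submodule A (↥M2sub ⧸ LinearMap.range (LinearMap.lsmul A ↥M2sub f)))).subtype ∘ₗ
          LinearMap.codRestrict _ _ hrange := by
      ext x
      rfl
    rw [hfac1]
    exact TZ.comp_right N hTZ1 _
  · -- (h2)
    set K2 : Submodule A ↥M2sub := LinearMap.ker (LinearMap.lsmul A ↥M2sub f) with hK2
    have hk1 : ∀ y : ↥K2, (M2sub.subtype ∘ₗ K2.subtype) y ∈ Γ := by
      rintro ⟨⟨y, hy⟩, hy'⟩
      rw [hΓ, LinearMap.mem_ker]
      exact congrArg Subtype.val hy'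
    set k1 : ↥K2 →ₗ[A] ↥Γ := LinearMap.codRestrict Γ (M2sub.subtype ∘ₗ K2.subtype) hk1 with hk1def
    have hk2 : ∀ y : ↥K2, k1 y ∈ I' ^ n2 • (⊤ : Submodule A ↥Γ) := by
      intro y
      rw [← Groth.Agent.H10.TorPow_P1.pow_smul_top_eq I' f _ hfΓ n2]
      have hy1 : ((k1 y : ↥Γ) : M) ∈ I ^ m • (⊤ : Submodule A M) ⊓ Γ :=
        ⟨(y : ↥M2sub).2, (k1 y).2⟩
      rw [hc m (by omega)] at hy1
      have hmc : m - c = n2 := by omega
      rw [hmc] at hy1
      have hy2 : ((k1 y : ↥Γ) : M) ∈ I ^ n2 • Γ :=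
        Submodule.smul_mono le_rfl inf_le_right hy1
      have hy3 : ((k1 y : ↥Γ) : M) ∈ Submodule.map Γ.subtype (I ^ n2 • (⊤ : Submodule A ↥Γ)) := by
        rw [Submodule.map_smul'', Submodule.map_top, Submodule.range_subtype]
        exact hy2
      obtain ⟨w, hw, hww⟩ := hy3
      have : w = k1 y := Subtype.ext hww
      rw [← this]
      exact hw
    have hfac2 : M2sub.subtype ∘ₗ K2.subtype =
        Γ.subtype ∘ₗ ((I' ^ n2 • (⊤ : Submodule A ↥Γ)).subtype ∘ₗ LinearMap.codRestrict _ k1 hk2) := by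
      ext y
      rfl
    rw [hfac2]
    exact TZ.comp_left N (TZ.comp_right N hTZ2 _) _

end Groth.Agent.H10.TorPow_IND
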