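-- Converse of the Tor bridge, and the equivalence between the elementary `TorZero` and vanishing of
-- the categorical `Tor₁`.
import Groth.Agent.H10.TorBridge
import Groth.Agent.H10.FlatDescent

set_option autoImplicit false
universe u

namespace Groth.Agent.H10.TorZeroBridge

open CategoryTheory CategoryTheory.Limits TensorProduct

variable {R : Type u} [CommRing R]

/-- If `0 → K → F → N → 0` is exact with `F` projective and `Tor₁(M, N) = 0`, then
`M ⊗ K → M ⊗ F` is injective. -/
theorem injective_of_tor_one_subsingleton {M K F N : Type u} [AddCommGroup M] [Module R M]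
    [AddCommGroup K] [Module R K] [AddCommGroup F] [Module R F] [Module.Projective R F]
    [AddCommGroup N] [Module R N] (i : K →ₗ[R] F) (p : F →ₗ[R] N)
    (hi : Function.Injective i) (hp : Function.Surjective p) (hex : Function.Exact i p)
    (h : Subsingleton (DRing.Tor R 1 M N)) :
    Function.Injective (i.lTensor M) := by
  let Fun : ModuleCat.{u} R ⥤ ModuleCat.{u} R :=
    (MonoidalCategory.tensoringLeft (ModuleCat.{u} R)).obj (ModuleCat.of R M)
  let S : ShortComplex (ModuleCat.{u} R) := TorBridge.presSC i p hex.linearMap_comp_eq_zero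
  have hS : S.ShortExact := ModuleCat.shortComplex_shortExact _ hex hi hp
  have : Projective S.X₂ := (inferInstance : Projective (ModuleCat.of R F))
  let Q := ProjectiveResolution.of S.X₁
  let P := Groth.Agent.H72.splice S hS Q
  have hz : IsZero ((Fun.leftDerived 1).obj (ModuleCat.of R N)) :=
    @ModuleCat.isZero_of_subsingleton _ _ _ h
  have hz' := IsZero.of_iso hz (P.isoLeftDerivedObj Fun 1).symm
  erw [← HomologicalComplex.exactAt_iff_isZero_homology] at hz'
  rw [HomologicalComplex.exactAt_iff' _ 2 1 0 (by simp) (by simp)] at hz'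
  rw [ShortComplex.moduleCat_exact_iff] at hz'
  have hQsurj : Function.Surjective (Groth.Agent.H72.aug Q).hom :=
    (ModuleCat.epi_iff_surjective _).mp inferInstance
  rw [injective_iff_map_eq_zero]
  intro z hz0
  obtain ⟨y, hyz⟩ := LinearMap.lTensor_surjective M hQsurj z
  have hy : (Fun.map (Groth.Agent.H72.aug Q ≫ S.f)).hom y = 0 := by
    rw [Fun.map_comp]
    have : (i.lTensor M) ((Groth.Agent.H72.aug Q).hom.lTensor M y) = 0 := by rw [hyz]; exact hz0
    exact this
  obtain ⟨w, hw⟩ := hz' y hy
  have hw' : (Fun.map (Q.complex.d 1 0)).hom w = y := hw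
  have hd : Fun.map (Q.complex.d 1 0) ≫ Fun.map (Groth.Agent.H72.aug Q) = 0 := by
    rw [← Fun.map_comp, Groth.Agent.H72.d_aug, Fun.map_zero]
  have h0 : (Fun.map (Groth.Agent.H72.aug Q)).hom ((Fun.map (Q.complex.d 1 0)).hom w) = 0 := by
    have := congrArg (fun φ => φ.hom w) hd
    exact this
  rw [hw'] at h0
  rw [← hyz]
  exact h0

open FlatDescent in
/-- The elementary `TorZero N M` is equivalent to the vanishing of `Tor₁(N, M)`. -/
theorem torZero_iff_subsingleton (N M : Type u) [AddCommGroup N] [Module R N] [AddCommGroup M]
    [Module R M] : TorZero (R := R) N M ↔ Subsingleton (DRing.Tor R 1 N M) := by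
  rw [torZero_iff]
  constructor
  · intro h
    exact TorBridge.tor_one_subsingleton (M := N) (K := rel (R := R) M) (F := FG (R := R) M)
      (N := M) (rel (R := R) M).subtype (pres (R := R) M) (Submodule.subtype_injective _)
      (pres_surjective M) (pres_exact M) h
  · intro h
    exact injective_of_tor_one_subsingleton (M := N) (K := rel (R := R) M) (F := FG (R := R) M)
      (N := M) (rel (R := R) M).subtype (pres (R := R) M) (Submodule.subtype_injective _)
      (pres_surjective M) (pres_exact M) h

open FlatDescent in
/-- The elementary `TorZero N M` is equivalent to `IsZero` of the categorical `Tor₁(N, M)`. -/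
theorem torZero_iff_isZero (N M : Type u) [AddCommGroup N] [Module R N] [AddCommGroup M]
    [Module R M] : TorZero (R := R) N M ↔
      IsZero (((CategoryTheory.Tor (ModuleCat.{u} R) 1).obj (ModuleCat.of R N)).obj
        (ModuleCat.of R M)) := by
  rw [torZero_iff_subsingleton, ModuleCat.isZero_iff_subsingleton]

end Groth.Agent.H10.TorZeroBridge
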