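import Mathlib
import Groth.Prelude.Def_GrTwist

/-!
# helper10 squad pieces (L2)+(L3) for helper88 (S9574/S9573)

`locMap_injective_away` and `fracLift_away`: for the localisation `ψ : A → B = A_g` at a degree-zero element
`g`, the maps on localisations `A_{ψ⁻¹ y} → B_y` are injective, and every degree-`n` fraction at `y` lifts.
-/

set_option autoImplicit false
universe u
open CategoryTheory CategoryTheory.Limits AlgebraicGeometry Opposite TopologicalSpace
open scoped HomogeneousIdeal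

namespace Groth.Agent.H10.TwAdj_L23

section General

variable {A σ : Type u} [CommRing A] [SetLike σ A] [AddSubgroupClass σ A] {𝒜 : ℕ → σ} [GradedRing 𝒜]
  {B τ : Type u} [CommRing B] [SetLike τ B] [AddSubgroupClass τ B] {ℬ : ℕ → τ} [GradedRing ℬ]
  (ψ : 𝒜 →+*ᵍ ℬ) (hψ : ℬ₊ ≤ (𝒜₊).map ψ)

/-- every degree-`n` fraction at `y` is the image of a degree-`n` fraction at `ψ⁻¹ y` -/
def FracLift (n : ℤ) : Prop :=
  ∀ (y : ProjectiveSpectrum ℬ) (i j : ℕ) (b : ℬ i) (t : ℬ j)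
    (ht : (t : B) ∉ y.asHomogeneousIdeal), (i : ℤ) = j + n →
    ∃ (i' j' : ℕ) (a : 𝒜 i') (s : 𝒜 j')
      (hs : (s : A) ∉ (ProjectiveSpectrum.comap ψ hψ y).asHomogeneousIdeal), (i' : ℤ) = j' + n ∧
      GrTwist.locMap ψ hψ y (Localization.mk (a : A) ⟨s, hs⟩) = Localization.mk (b : B) ⟨t, ht⟩

theorem mem_comap_iff (y : ProjectiveSpectrum ℬ) (a : A) :
    a ∈ (ProjectiveSpectrum.comap ψ hψ y).asHomogeneousIdeal ↔ ψ a ∈ y.asHomogeneousIdeal :=
  Iff.rfl

theorem unit_pow_notMem (y : ProjectiveSpectrum ℬ) {u : B} (hu : IsUnit u) (k : ℕ) :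
    u ^ k ∉ y.asHomogeneousIdeal := by
  intro h
  exact y.isPrime.ne_top (Ideal.eq_top_of_isUnit_mem _ h (hu.pow k))

end General

section Away

variable {R A : Type u} [CommRing R] [CommRing A] [Algebra R A] (𝒜 : ℕ → Submodule R A)
  [GradedAlgebra 𝒜] {B : Type u} [CommRing B] [Algebra R B] (ℬ : ℕ → Submodule R B) [GradedAlgebra ℬ]
  (ψ : 𝒜 →+*ᵍ ℬ) (g : A) (hg : g ∈ 𝒜 0) [Algebra A B] (hψA : ∀ a : A, ψ a = algebraMap A B a)
  [IsLocalization.Away g B]
  (hdeg : ∀ (n : ℕ) (b : B), b ∈ ℬ n ↔ ∃ (k : ℕ) (a : A), a ∈ 𝒜 n ∧ ψ g ^ k * b = ψ a)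
  (hψ : HomogeneousIdeal.irrelevant ℬ ≤ (HomogeneousIdeal.irrelevant 𝒜).map ψ)

include hg in
omit [GradedAlgebra ℬ] in
theorem g_pow_mul_mem (k : ℕ) {n : ℕ} {a : A} (ha : a ∈ 𝒜 n) : g ^ k * a ∈ 𝒜 n := by
  have h0 : g ^ k ∈ 𝒜 0 := by
    have := SetLike.pow_mem_graded k hg
    simpa using this
  have := SetLike.mul_mem_graded h0 ha
  rwa [zero_add] at this

include hg hψA hdeg in
/-- (L2) -/
theorem locMap_injective_away (y : ProjectiveSpectrum ℬ) :
    Function.Injective (GrTwist.locMap ψ hψ y) := by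
  have hu : IsUnit (ψ g) := by
    rw [hψA]
    exact IsLocalization.Away.algebraMap_isUnit g
  rw [injective_iff_map_eq_zero]
  intro q hq
  induction q using Localization.induction_on with
  | H as =>
  obtain ⟨a, s⟩ := as
  rw [GrTwist.locMap_mk] at hq
  rw [Localization.mk_eq_mk', IsLocalization.mk'_eq_zero_iff] at hq
  obtain ⟨⟨c, hc⟩, hca⟩ := hq
  change c * ψ a = 0 at hca
  -- c * ψ g ^ k = ψ c'
  obtain ⟨⟨c', ⟨_, k, rfl⟩⟩, hc'⟩ := IsLocalization.surj (Submonoid.powers g) c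
  simp only at hc'
  -- hc' : c * algebraMap A B (g ^ k) = algebraMap A B c'
  have h1 : ψ (c' * a) = 0 := by
    rw [map_mul, hψA c', ← hc', mul_right_comm, hca, zero_mul]
  rw [hψA] at h1
  obtain ⟨⟨_, m, rfl⟩, hm⟩ := (IsLocalization.map_eq_zero_iff (Submonoid.powers g) B _).mp h1
  simp only at hm
  -- hm : g ^ m * (c' * a) = 0
  have hnot : g ^ m * c' ∉ (ProjectiveSpectrum.comap ψ hψ y).asHomogeneousIdeal := by
    rw [mem_comap_iff, map_mul, map_pow]
    intro hmem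
    rcases y.isPrime.mem_or_mem hmem with h | h
    · exact unit_pow_notMem y hu m h
    · rw [hψA c', ← hc', ← hψA, map_pow] at h
      rcases y.isPrime.mem_or_mem h with h | h
      · exact hc h
      · exact unit_pow_notMem y hu k h
  rw [Localization.mk_eq_mk', IsLocalization.mk'_eq_zero_iff]
  exact ⟨⟨g ^ m * c', hnot⟩, by change g ^ m * c' * a = 0; rw [mul_assoc]; exact hm⟩

include hg hψA hdeg in
/-- (L3) -/
theorem fracLift_away (n : ℤ) : FracLift ψ hψ n := by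
  have hu : IsUnit (ψ g) := by
    rw [hψA]
    exact IsLocalization.Away.algebraMap_isUnit g
  intro y i j b t ht hij
  obtain ⟨k, a, ha, hka⟩ := (hdeg i b).mp b.2
  obtain ⟨l, s, hs, hls⟩ := (hdeg j t).mp t.2
  have hs' : g ^ k * s ∉ (ProjectiveSpectrum.comap ψ hψ y).asHomogeneousIdeal := by
    rw [mem_comap_iff, map_mul, map_pow, ← hls]
    intro hmem
    rcases y.isPrime.mem_or_mem hmem with h | h
    · exact unit_pow_notMem y hu k h
    · rcases y.isPrime.mem_or_mem h with h | h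
      · exact unit_pow_notMem y hu l h
      · exact ht h
  refine ⟨i, j, ⟨g ^ l * a, g_pow_mul_mem 𝒜 g hg l ha⟩, ⟨g ^ k * s, g_pow_mul_mem 𝒜 g hg k hs⟩,
    hs', hij, ?_⟩
  rw [GrTwist.locMap_mk, Localization.mk_eq_mk_iff, Localization.r_iff_exists]
  refine ⟨1, ?_⟩
  simp only [OneMemClass.coe_one, one_mul]
  rw [map_mul, map_mul, map_pow, map_pow, ← hka, ← hls]
  ring

end Away

end Groth.Agent.H10.TwAdj_L23
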