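import Mathlib
import Groth.Agent.H89.Flat

/-!
# Binary products of weakly étale algebras

`weaklyEtale_prod`: if `X` and `Y` are weakly étale over `A`, so is `X × Y`.
-/

set_option autoImplicit false
set_option linter.style.haveILetI false
universe u
open TensorProduct

namespace Groth.Agent.H10.WEtProd

/-- The first projection from a product ring is flat. -/
lemma flat_fst (X Y : Type u) [CommRing X] [CommRing Y] : (RingHom.fst X Y).Flat := by
  algebraize [RingHom.fst X Y]
  haveI : Algebra.Etale (X × Y) X := inferInstance
  exact Algebra.Smooth.flat (X × Y) X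

/-- The second projection from a product ring is flat. -/
lemma flat_snd (X Y : Type u) [CommRing X] [CommRing Y] : (RingHom.snd X Y).Flat := by
  algebraize [RingHom.snd X Y]
  haveI : Algebra.Etale (X × Y) Y := inferInstance
  exact Algebra.Smooth.flat (X × Y) Y

/-- A ring map `f : T → X × Y` is flat as soon as both components are flat. -/
lemma flat_of_fst_snd {T X Y : Type u} [CommRing T] [CommRing X] [CommRing Y]
    (f : T →+* X × Y) (h1 : ((RingHom.fst X Y).comp f).Flat)
    (h2 : ((RingHom.snd X Y).comp f).Flat) : f.Flat := by
  letI aP : Algebra T (X × Y) := f.toAlgebra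
  letI aX : Algebra T X := ((RingHom.fst X Y).comp f).toAlgebra
  letI aY : Algebra T Y := ((RingHom.snd X Y).comp f).toAlgebra
  show @Module.Flat T (X × Y) _ _ aP.toModule
  haveI fX : @Module.Flat T X _ _ aX.toModule := h1
  haveI fY : @Module.Flat T Y _ _ aY.toModule := h2
  have hprod : @Module.Flat T (X × Y) _ _ (@Prod.instModule T X Y _ _ _ aX.toModule aY.toModule) :=
    Groth.Agent.H89.flat_prod T X Y
  -- the two module structures agree
  have heq : aP.toModule = @Prod.instModule T X Y _ _ _ aX.toModule aY.toModule := by
    refine Module.ext' _ _ ?_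
    intro t p
    refine Prod.ext ?_ ?_
    · show (f t * p).1 = ((RingHom.fst X Y).comp f) t * p.1
      simp
    · show (f t * p).2 = ((RingHom.snd X Y).comp f) t * p.2
      simp
  rw [heq]
  exact hprod

/-- Binary products of weakly étale algebras are weakly étale. -/
theorem weaklyEtale_prod (A X Y : Type u) [CommRing A] [CommRing X] [CommRing Y]
    [Algebra A X] [Algebra A Y] [Algebra.WeaklyEtale A X] [Algebra.WeaklyEtale A Y] :
    Algebra.WeaklyEtale A (X × Y) := by
  haveI : Module.Flat A (X × Y) := Groth.Agent.H89.flat_prod A X Y
  refine ⟨inferInstance, ?_⟩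
  have hfst : (AlgHom.fst A X Y).toRingHom.Flat := flat_fst X Y
  have hsnd : (AlgHom.snd A X Y).toRingHom.Flat := flat_snd X Y
  have hgX : (Algebra.TensorProduct.map (AlgHom.fst A X Y) (AlgHom.fst A X Y)).toRingHom.Flat :=
    RingHom.Flat.tensorProductMap hfst hfst
  have hgY : (Algebra.TensorProduct.map (AlgHom.snd A X Y) (AlgHom.snd A X Y)).toRingHom.Flat :=
    RingHom.Flat.tensorProductMap hsnd hsnd
  have hX := RingHom.Flat.comp hgX (Algebra.WeaklyEtale.flat_lmul' A X)
  have hY := RingHom.Flat.comp hgY (Algebra.WeaklyEtale.flat_lmul' A Y)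
  refine flat_of_fst_snd _ ?_ ?_
  · convert hX using 1
    refine RingHom.ext fun t => ?_
    induction t using TensorProduct.induction_on with
    | zero => simp
    | tmul p q => simp
    | add a b ha hb => simp only [map_add, ha, hb]
  · convert hY using 1
    refine RingHom.ext fun t => ?_
    induction t using TensorProduct.induction_on with
    | zero => simp
    | tmul p q => simp
    | add a b ha hb => simp only [map_add, ha, hb]

end Groth.Agent.H10.WEtProd
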