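import Mathlib
import Groth.Agent.H10.WEtProd
import Groth.Agent.H8.WeaklyEtaleLoc

/-!
# Retractions of faithfully flat weakly étale algebras pass to suitable localizations

`main`: if every faithfully flat weakly étale `A`-algebra has a retraction, `E` is a finite subset of
`A` and `B` is a localization of `A` whose image in `Spec A` is the set of generizations of `V(E)`,
then every faithfully flat weakly étale `B`-algebra has a retraction.

Proof: for `C` faithfully flat weakly étale over `B`, the `A`-algebra `(Π f ∈ E, A_f) × C` is
faithfully flat and weakly étale over `A`.  A retraction `ρ` sends the idempotent `(1,0)` into the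
ideal generated by `E`, so it dies in `B`, and `c ↦ ρ (0, c)` gives the retraction `C → B`.
-/

set_option autoImplicit false
set_option linter.style.haveILetI false
universe u
open TensorProduct

namespace Groth.Agent.H10.WContrLoc

theorem main (A B : Type u) [CommRing A] [CommRing B]
    [Algebra A B] (S : Submonoid A) [IsLocalization S B] (E : Finset A)
    (hB : Set.range (PrimeSpectrum.comap (algebraMap A B)) =
      {x | ∃ z : PrimeSpectrum A, z ∈ PrimeSpectrum.zeroLocus (R := A) E ∧ x ⤳ z})
    (hA : ∀ (D : Type u) [CommRing D] [Algebra A D],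
      Module.FaithfullyFlat A D → Algebra.WeaklyEtale A D → Nonempty (D →ₐ[A] A))
    (C : Type u) [CommRing C] [Algebra B C] (hff : Module.FaithfullyFlat B C)
    (hwe : Algebra.WeaklyEtale B C) : Nonempty (C →ₐ[B] B) := by
  classical
  letI : Algebra A C := ((algebraMap B C).comp (algebraMap A B)).toAlgebra
  haveI : IsScalarTower A B C := IsScalarTower.of_algebraMap_eq (fun _ => rfl)
  haveI : Algebra.WeaklyEtale A B := Groth.Agent.H8.weaklyEtale_of_isLocalization S B
  haveI : Algebra.WeaklyEtale A C := Algebra.WeaklyEtale.trans A B C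
  let X := Π f : ↥E, Localization.Away (f : A)
  haveI : Algebra.Etale A X := inferInstance
  haveI : Algebra.WeaklyEtale A X := inferInstance
  haveI : Algebra.WeaklyEtale A (X × C) := WEtProd.weaklyEtale_prod A X C
  have hsurj : Function.Surjective (PrimeSpectrum.comap (algebraMap A (X × C))) := by
    intro p
    by_cases hp : p ∈ Set.range (PrimeSpectrum.comap (algebraMap A B))
    · obtain ⟨q, rfl⟩ := hp
      obtain ⟨q', rfl⟩ := PrimeSpectrum.comap_surjective_of_faithfullyFlat (A := B) (B := C) q
      refine ⟨PrimeSpectrum.comap (RingHom.snd X C) q', ?_⟩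
      ext a
      simp only [PrimeSpectrum.comap_asIdeal, Ideal.mem_comap]
      rfl
    · rw [hB] at hp
      have hpE : ¬ ((E : Set A) ⊆ (p.asIdeal : Set A)) := fun h =>
        hp ⟨p, (PrimeSpectrum.mem_zeroLocus _ _).2 h, specializes_rfl⟩
      obtain ⟨f, hfE, hfp⟩ := Set.not_subset.1 hpE
      have hdisj : Disjoint (Submonoid.powers f : Set A) (p.asIdeal : Set A) := by
        rw [Set.disjoint_left]
        rintro x ⟨n, rfl⟩ hx
        exact hfp (p.2.mem_of_pow_mem n hx)
      have hq : (Ideal.map (algebraMap A (Localization.Away f)) p.asIdeal).IsPrime :=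
        IsLocalization.isPrime_of_isPrime_disjoint (Submonoid.powers f) _ _ p.2 hdisj
      have hqc : (Ideal.map (algebraMap A (Localization.Away f)) p.asIdeal).comap
          (algebraMap A (Localization.Away f)) = p.asIdeal :=
        IsLocalization.under_map_of_isPrime_disjoint (Submonoid.powers f) _ p.2 hdisj
      refine ⟨PrimeSpectrum.comap ((Pi.evalRingHom _ (⟨f, hfE⟩ : ↥E)).comp (RingHom.fst X C))
        ⟨_, hq⟩, ?_⟩
      ext a
      simp only [PrimeSpectrum.comap_asIdeal, Ideal.mem_comap]
      show algebraMap A (Localization.Away f) a ∈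
        Ideal.map (algebraMap A (Localization.Away f)) p.asIdeal ↔ a ∈ p.asIdeal
      rw [← Ideal.mem_comap, hqc]
  haveI : Module.Flat A (X × C) := inferInstance
  haveI : Module.FaithfullyFlat A (X × C) := Module.FaithfullyFlat.of_comap_surjective hsurj
  obtain ⟨ρ⟩ := hA (X × C) inferInstance inferInstance
  -- the idempotent
  have hεmem : ρ ((1 : X), (0 : C)) ∈ Ideal.span (E : Set A) := by
    have h1 : ((1 : X), (0 : C)) = ∑ i : ↥E, (i : A) •
        ((Pi.single i (IsLocalization.Away.invSelf (S := Localization.Away (i : A)) (i : A)) : X),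
          (0 : C)) := by
      refine Prod.ext ?_ ?_
      · rw [Prod.fst_sum]
        simp only [Prod.smul_fst]
        funext j
        rw [Finset.sum_apply]
        rw [Finset.sum_eq_single j]
        · show (1 : Localization.Away (j : A)) = (j : A) • (Pi.single (M := fun i : ↥E =>
              Localization.Away (i : A)) j (IsLocalization.Away.invSelf
                (S := Localization.Away (j : A)) (j : A))) j
          rw [Pi.single_eq_same, Algebra.smul_def]
          exact (IsLocalization.Away.mul_invSelf (S := Localization.Away (j : A)) (j : A)).symm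
        · intro b _ hb
          show (b : A) • (Pi.single (M := fun i : ↥E =>
              Localization.Away (i : A)) b (IsLocalization.Away.invSelf
                (S := Localization.Away (b : A)) (b : A))) j = 0
          rw [Pi.single_eq_of_ne (Ne.symm hb), smul_zero]
        · intro h; exact absurd (Finset.mem_univ j) h
      · rw [Prod.snd_sum]
        simp
    rw [h1, map_sum]
    refine Ideal.sum_mem _ fun i _ => ?_
    rw [map_smul, smul_eq_mul]
    exact Ideal.mul_mem_right _ _ (Ideal.subset_span i.2)
  have hidem : IsIdempotentElem (ρ ((1 : X), (0 : C))) := by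
    have : IsIdempotentElem (((1 : X), (0 : C)) : X × C) := by
      show _ * _ = _
      simp
    exact this.map ρ
  have hεB : algebraMap A B (ρ ((1 : X), (0 : C))) = 0 := by
    refine (hidem.map (algebraMap A B)).eq_zero_of_isNilpotent ?_
    rw [nilpotent_iff_mem_prime]
    intro q hq
    have hmem : PrimeSpectrum.comap (algebraMap A B) ⟨q, hq⟩ ∈
        Set.range (PrimeSpectrum.comap (algebraMap A B)) := ⟨_, rfl⟩
    rw [hB] at hmem
    obtain ⟨z, hz, hspec⟩ := hmem
    rw [← PrimeSpectrum.le_iff_specializes] at hspec
    have hle : (PrimeSpectrum.comap (algebraMap A B) ⟨q, hq⟩).asIdeal ≤ z.asIdeal := hspec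
    have hεz : ρ ((1 : X), (0 : C)) ∈ z.asIdeal :=
      (Ideal.span_le.2 ((PrimeSpectrum.mem_zeroLocus _ _).1 hz)) hεmem
    show ρ ((1 : X), (0 : C)) ∈ (PrimeSpectrum.comap (algebraMap A B) ⟨q, hq⟩).asIdeal
    have h0 : ρ ((1 : X), (0 : C)) * (1 - ρ ((1 : X), (0 : C))) ∈
        (PrimeSpectrum.comap (algebraMap A B) ⟨q, hq⟩).asIdeal := by
      rw [mul_sub, mul_one, hidem.eq, sub_self]
      exact Ideal.zero_mem _
    rcases (PrimeSpectrum.comap (algebraMap A B) ⟨q, hq⟩).2.mem_or_mem h0 with h | h
    · exact h
    · exfalso
      have h1 : (1 : A) ∈ z.asIdeal := by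
        have := z.asIdeal.add_mem (hle h) hεz
        simpa using this
      exact z.2.ne_top ((Ideal.eq_top_iff_one _).2 h1)
  -- the retraction
  have hone : algebraMap A B (ρ ((0 : X), (1 : C))) = 1 := by
    have : ((0 : X), (1 : C)) = 1 - ((1 : X), (0 : C)) := by
      refine Prod.ext ?_ ?_ <;> simp
    rw [this, map_sub, map_sub, map_one, map_one, hεB, sub_zero]
  let φ0 : C →+* B :=
    { toFun := fun c => algebraMap A B (ρ ((0 : X), c))
      map_one' := hone
      map_mul' := fun c c' => by
        rw [← map_mul, ← map_mul]
        congr 2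
        refine Prod.ext ?_ ?_ <;> simp
      map_zero' := by
        have : (((0 : X), (0 : C)) : X × C) = 0 := rfl
        rw [this, map_zero, map_zero]
      map_add' := fun c c' => by
        rw [← map_add, ← map_add]
        congr 2
        refine Prod.ext ?_ ?_ <;> simp }
  have hcomm : φ0.comp (algebraMap B C) = RingHom.id B := by
    refine IsLocalization.ringHom_ext S ?_
    refine RingHom.ext fun a => ?_
    show algebraMap A B (ρ ((0 : X), algebraMap B C (algebraMap A B a))) = algebraMap A B a
    have : ((0 : X), algebraMap B C (algebraMap A B a)) = a • ((0 : X), (1 : C)) := by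
      refine Prod.ext ?_ ?_
      · simp
      · show algebraMap B C (algebraMap A B a) = a • (1 : C)
        rw [Algebra.smul_def, mul_one]
        rfl
    rw [this, map_smul, smul_eq_mul, map_mul, hone, mul_one]
  exact ⟨{ φ0 with commutes' := fun b => congrArg (fun g : B →+* B => g b) hcomm }⟩

end Groth.Agent.H10.WContrLoc
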