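-- Weakly etale algebras over a field: `B` is weakly etale over the field `K` iff every element of
-- `B` is separable over `K`.  The separable elements of any `K`-algebra form a subalgebra, which is
-- the largest weakly etale subalgebra.
import Mathlib.RingTheory.Etale.Weakly
import Mathlib.RingTheory.Etale.StandardEtale
import Mathlib.RingTheory.Ideal.Pure
import Mathlib.RingTheory.TensorProduct.Free
import Mathlib.RingTheory.PowerBasis
import Mathlib.RingTheory.Kaehler.Basic
import Mathlib.FieldTheory.Perfect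
import Mathlib.FieldTheory.IsAlgClosed.AlgebraicClosure
import Mathlib.FieldTheory.Separable
import Mathlib.FieldTheory.SeparableClosure
import Groth.Prelude.Def_EtAlgD
import Groth.Agent.S7128

set_option autoImplicit false
universe u

namespace Groth.Agent.H10.WEtField

open TensorProduct Polynomial

section Pure

/-- A flat surjective ring map has elementwise pure kernel. -/
theorem exists_eq_mul_of_flat_surjective {R S : Type*} [CommRing R] [CommRing S] (f : R →+* S)
    (hf : f.Flat) (hs : Function.Surjective f) {x : R} (hx : f x = 0) :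
    ∃ y, f y = 0 ∧ x = x * y := by
  let e := RingHom.quotientKerEquivOfSurjective hs
  have h1 : (e.symm.toRingHom.comp f).Flat :=
    RingHom.Flat.comp hf (RingHom.Flat.of_bijective e.symm.bijective)
  have h2 : e.symm.toRingHom.comp f = algebraMap R (R ⧸ RingHom.ker f) :=
    RingHom.quotientKerEquivOfSurjective_symm_comp hs
  rw [h2, RingHom.flat_algebraMap_iff] at h1
  have : (RingHom.ker f).Pure := h1
  obtain ⟨y, hy, hxy⟩ := Ideal.exists_eq_mul_of_pure (I := RingHom.ker f)
    (show x ∈ RingHom.ker f from hx)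
  exact ⟨y, hy, hxy⟩

/-- A surjective ring map with elementwise pure kernel is flat. -/
theorem flat_of_forall_exists_eq_mul {R S : Type*} [CommRing R] [CommRing S] (f : R →+* S)
    (hs : Function.Surjective f) (h : ∀ x, f x = 0 → ∃ y, f y = 0 ∧ x = x * y) : f.Flat := by
  let e := RingHom.quotientKerEquivOfSurjective hs
  have hpure : (RingHom.ker f).Pure :=
    Ideal.Pure.of_inf_eq_mul _ (fun K _ => le_antisymm (by
      rintro x ⟨hxI, hxK⟩
      obtain ⟨y, hy, hxy⟩ := h x hxI
      have h3 : y * x ∈ RingHom.ker f * K := Ideal.mul_mem_mul hy hxK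
      rwa [mul_comm y x, ← hxy] at h3) Ideal.mul_le_inf)
  have h1 : (algebraMap R (R ⧸ RingHom.ker f)).Flat := RingHom.flat_algebraMap_iff.2 hpure
  have h2 : f = e.toRingHom.comp (algebraMap R (R ⧸ RingHom.ker f)) := by
    ext r
    rfl
  rw [h2]
  exact RingHom.Flat.comp h1 (RingHom.Flat.of_bijective e.bijective)

end Pure

section Integral

variable {K : Type*} [Field K] {B : Type*} [CommRing B] [Algebra K B]

theorem repr_mem_of_mem_range {ι : Type*} (β : Module.Basis ι K B) (U : Submodule K B)
    (t : B ⊗[K] B) (ht : t ∈ LinearMap.range (U.subtype.rTensor B)) (i : ι) :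
    (Algebra.TensorProduct.basis B β).repr t i ∈ U := by
  obtain ⟨s, rfl⟩ := ht
  induction s using TensorProduct.induction_on with
  | zero => simp
  | tmul u m =>
    rw [LinearMap.rTensor_tmul, Algebra.TensorProduct.basis_repr_tmul]
    simp only [Finsupp.smul_apply, Finsupp.mapRange_apply, Submodule.subtype_apply, smul_eq_mul]
    rw [mul_comm, ← Algebra.smul_def]
    exact U.smul_mem _ u.2
  | add x y hx hy =>
    rw [map_add, map_add, Finsupp.add_apply]
    exact U.add_mem hx hy

theorem mul_mem_range (U : Submodule K B) (b : B) (t : B ⊗[K] B)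
    (ht : t ∈ LinearMap.range (U.subtype.rTensor B)) :
    ((1 : B) ⊗ₜ[K] b) * t ∈ LinearMap.range (U.subtype.rTensor B) := by
  obtain ⟨s, rfl⟩ := ht
  refine ⟨LinearMap.lTensor U (LinearMap.mulLeft K b) s, ?_⟩
  induction s using TensorProduct.induction_on with
  | zero => simp
  | tmul u m =>
    rw [LinearMap.lTensor_tmul, LinearMap.rTensor_tmul, LinearMap.rTensor_tmul,
      Algebra.TensorProduct.tmul_mul_tmul, one_mul, LinearMap.mulLeft_apply]
  | add x y hx hy => simp only [map_add, mul_add, hx, hy]

theorem mul_lmul'_eq_zero (U : Submodule K B) (z : B) (hz : ∀ u ∈ U, z * u = 0) (t : B ⊗[K] B)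
    (ht : t ∈ LinearMap.range (U.subtype.rTensor B)) :
    z * Algebra.TensorProduct.lmul' K t = 0 := by
  obtain ⟨s, rfl⟩ := ht
  induction s using TensorProduct.induction_on with
  | zero => simp
  | tmul u m =>
    rw [LinearMap.rTensor_tmul, Algebra.TensorProduct.lmul'_apply_tmul, Submodule.subtype_apply,
      ← mul_assoc, hz u u.2, zero_mul]
  | add x y hx hy => rw [map_add, map_add, mul_add, hx, hy, add_zero]

theorem mem_range_of_repr {ι : Type*} (β : Module.Basis ι K B) (e : B ⊗[K] B) :
    e ∈ LinearMap.range ((Submodule.span K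
      (Set.range ((Algebra.TensorProduct.basis B β).repr e))).subtype.rTensor B) := by
  set bas := Algebra.TensorProduct.basis B β with hbas
  set c := bas.repr e with hc
  set U := Submodule.span K (Set.range c) with hU
  have h : e = ∑ i ∈ c.support, c i • bas i := by
    have := bas.linearCombination_repr e
    rw [Finsupp.linearCombination_apply, Finsupp.sum] at this
    exact this.symm
  rw [h]
  refine Submodule.sum_mem _ fun i _ => ?_
  refine ⟨(⟨c i, Submodule.subset_span ⟨i, rfl⟩⟩ : U) ⊗ₜ[K] β i, ?_⟩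
  rw [LinearMap.rTensor_tmul, hbas, Algebra.TensorProduct.basis_apply, TensorProduct.smul_tmul',
    smul_eq_mul, mul_one]
  rfl

/-- If the multiplication map of a `K`-algebra `B` (with `K` a field) is flat, then `B` is integral
over `K`. -/
theorem isIntegral_of_flat_lmul'
    (h : (Algebra.TensorProduct.lmul' K (S := B)).toRingHom.Flat) (b : B) : IsIntegral K b := by
  classical
  let μ := Algebra.TensorProduct.lmul' K (S := B)
  have hsurj : Function.Surjective μ.toRingHom := fun x => ⟨x ⊗ₜ 1, by simp [μ]⟩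
  have hx : μ.toRingHom (b ⊗ₜ[K] 1 - 1 ⊗ₜ[K] b) = 0 := by simp [μ]
  obtain ⟨y, hy, hxy⟩ := exists_eq_mul_of_flat_surjective μ.toRingHom h hsurj hx
  set e : B ⊗[K] B := 1 - y with he
  have hμe : μ e = 1 := by
    have hy' : μ y = 0 := hy
    rw [he, map_sub, map_one, hy', sub_zero]
  have hxe : (b ⊗ₜ[K] 1) * e = ((1 : B) ⊗ₜ[K] b) * e := by
    have : (b ⊗ₜ[K] 1 - 1 ⊗ₜ[K] b) * e = 0 := by
      rw [he, mul_sub, mul_one, ← hxy, sub_self]
    rwa [sub_mul, sub_eq_zero] at this
  let β := Module.Basis.ofVectorSpace K B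
  let bas := Algebra.TensorProduct.basis B β
  let c := bas.repr e
  let U : Submodule K B := Submodule.span K (Set.range c)
  have hfin : FiniteDimensional K U := FiniteDimensional.span_of_finite K c.finite_range
  have heU : e ∈ LinearMap.range (U.subtype.rTensor B) := mem_range_of_repr β e
  have hgen : ∀ i, b * c i ∈ U := by
    intro i
    have h1 : ((1 : B) ⊗ₜ[K] b) * e ∈ LinearMap.range (U.subtype.rTensor B) :=
      mul_mem_range U b e heU
    rw [← hxe] at h1
    have h2 := repr_mem_of_mem_range β U _ h1 i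
    have h3 : (b ⊗ₜ[K] (1 : B)) * e = b • e := by
      rw [Algebra.smul_def, Algebra.TensorProduct.algebraMap_apply]
      rfl
    rw [h3, map_smul, Finsupp.smul_apply, smul_eq_mul] at h2
    exact h2
  have hstab : ∀ u ∈ U, LinearMap.mulLeft K b u ∈ U := by
    intro u hu
    rw [LinearMap.mulLeft_apply]
    induction hu using Submodule.span_induction with
    | mem x hx =>
      obtain ⟨i, rfl⟩ := hx
      exact hgen i
    | zero => simp
    | add x y _ _ hx hy =>
      rw [mul_add]
      exact U.add_mem hx hy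
    | smul a x _ hx =>
      rw [mul_smul_comm]
      exact U.smul_mem a hx
  let f : U →ₗ[K] U := (LinearMap.mulLeft K b).restrict hstab
  have hfapp : ∀ v : U, ((f v : U) : B) = b * v := fun v => rfl
  have hf : IsIntegral K f := Algebra.IsIntegral.isIntegral f
  obtain ⟨P, hP, hPf⟩ := hf
  rw [← aeval_def] at hPf
  refine ⟨P, hP, ?_⟩
  rw [← aeval_def]
  have hpow : ∀ (n : ℕ) (u : U), (((f ^ n) u : U) : B) = b ^ n * u := by
    intro n
    induction n with
    | zero =>
      intro u
      simp
    | succ n ih =>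
      intro u
      rw [pow_succ', Module.End.mul_apply, hfapp, ih, pow_succ', mul_assoc]
  have haeval : ∀ (Q : K[X]) (u : U), (((aeval f Q) u : U) : B) = aeval b Q * u := by
    intro Q u
    induction Q using Polynomial.induction_on' with
    | add p q hp hq =>
      simp only [map_add, LinearMap.add_apply, Submodule.coe_add, hp, hq, add_mul]
    | monomial n a =>
      rw [aeval_monomial, aeval_monomial, Module.End.mul_apply, Module.algebraMap_end_apply,
        Submodule.coe_smul, hpow, Algebra.smul_def, mul_assoc]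
  have hz : ∀ u ∈ U, aeval b P * u = 0 := by
    intro u hu
    have := haeval P ⟨u, hu⟩
    rw [hPf] at this
    simpa using this.symm
  have hfinal := mul_lmul'_eq_zero U (aeval b P) hz e heU
  have hμe' : Algebra.TensorProduct.lmul' K e = 1 := hμe
  rw [hμe', mul_one] at hfinal
  exact hfinal

end Integral

section Separable

variable {K B : Type u} [Field K] [CommRing B] [Algebra K B]

/-- Every element of a weakly etale algebra over a field is separable. -/
theorem isSeparable_of_weaklyEtale [Algebra.WeaklyEtale K B] (b : B) : IsSeparable K b := by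
  have hint : IsIntegral K b :=
    isIntegral_of_flat_lmul' (Algebra.WeaklyEtale.flat_lmul' K B) b
  let Kb := AlgebraicClosure K
  let Bb := Kb ⊗[K] B
  have hred : IsReduced Bb := Groth.Agent.S7128.result Kb Bb
  let Q := minpoly K b
  let d := Q.natDegree
  have hQm : Q.Monic := minpoly.monic hint
  let bb : Bb := (1 : Kb) ⊗ₜ[K] b
  have hli : LinearIndependent Kb (fun i : Fin d => bb ^ (i : ℕ)) := by
    have h1 := linearIndependent_pow (K := K) b
    have h2 := Module.Flat.linearIndependent_one_tmul (S := Kb) h1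
    convert h2 using 2 with i
    show ((1 : Kb) ⊗ₜ[K] b) ^ (i : ℕ) = _
    rw [Algebra.TensorProduct.tmul_pow, one_pow]
  have hkey : ∀ G : Kb[X], aeval bb G = 0 → G.natDegree < d → G = 0 := by
    intro G hG hdeg
    rw [aeval_eq_sum_range' hdeg, Finset.sum_range] at hG
    have hc := Fintype.linearIndependent_iff.mp hli (fun i => G.coeff i) hG
    ext n
    by_cases hn : n < d
    · simpa using hc ⟨n, hn⟩
    · rw [coeff_zero]
      exact coeff_eq_zero_of_natDegree_lt (lt_of_lt_of_le hdeg (not_lt.mp hn))
  have hQb : aeval bb (Q.map (algebraMap K Kb)) = 0 := by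
    rw [aeval_map_algebraMap]
    have hbb : bb = (Algebra.TensorProduct.includeRight : B →ₐ[K] Bb) b := rfl
    rw [hbb, aeval_algHom_apply, minpoly.aeval, map_zero]
  have hQ0 : Q.map (algebraMap K Kb) ≠ 0 := (hQm.map _).ne_zero
  have hdQ : (Q.map (algebraMap K Kb)).natDegree = d := natDegree_map _
  have hsq : Squarefree (Q.map (algebraMap K Kb)) := by
    intro π hπ
    obtain ⟨W, hW⟩ := hπ
    by_contra hu
    let G := π * W
    have hQG : Q.map (algebraMap K Kb) = π * G := by rw [hW]; ring
    have hG2 : G * G = Q.map (algebraMap K Kb) * W := by rw [hW]; ring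
    have hGz : aeval bb G = 0 := by
      have h2 : aeval bb G ^ 2 = 0 := by
        rw [sq, ← map_mul, hG2, map_mul, hQb, zero_mul]
      exact IsReduced.eq_zero _ ⟨2, h2⟩
    have hπ0 : π ≠ 0 := fun h => hQ0 (by rw [hQG, h, zero_mul])
    have hG0 : G ≠ 0 := fun h => hQ0 (by rw [hQG, h, mul_zero])
    have hdπ : 0 < π.natDegree :=
      natDegree_pos_iff_degree_pos.mpr (degree_pos_of_ne_zero_of_nonunit hπ0 hu)
    have hdeg : G.natDegree < d := by
      have : (Q.map (algebraMap K Kb)).natDegree = π.natDegree + G.natDegree := by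
        rw [hQG, natDegree_mul hπ0 hG0]
      omega
    exact hG0 (hkey G hGz hdeg)
  have hsep : (Q.map (algebraMap K Kb)).Separable :=
    PerfectField.separable_iff_squarefree.mpr hsq
  exact (separable_map (algebraMap K Kb)).mp hsep

theorem isSeparable_map {C : Type*} [CommRing C] [Algebra K C] (φ : B →ₐ[K] C) {b : B}
    (hb : IsSeparable K b) : IsSeparable K (φ b) := by
  have hdvd : minpoly K (φ b) ∣ minpoly K b :=
    minpoly.dvd K (φ b) (by rw [aeval_algHom_apply, minpoly.aeval, map_zero])
  exact Polynomial.Separable.of_dvd hb hdvd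

theorem isSeparable_of_injective {C : Type*} [CommRing C] [Algebra K C] (φ : B →ₐ[K] C)
    (hφ : Function.Injective φ) {b : B} (hb : IsSeparable K (φ b)) : IsSeparable K b := by
  rw [IsSeparable, ← minpoly.algHom_eq φ hφ b]
  exact hb

/-- The standard etale pair `(minpoly, 1)` of a separable element. -/
noncomputable def sepPair (b : B) (hb : IsSeparable K b) : StandardEtalePair K where
  f := minpoly K b
  monic_f := minpoly.monic hb.isIntegral
  g := 1
  cond := by
    obtain ⟨a, c, hac⟩ := (hb : (minpoly K b).Separable)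
    exact ⟨c, a, 0, by rw [pow_zero]; linear_combination hac⟩

theorem sepPair_hasMap (b : B) (hb : IsSeparable K b) : (sepPair b hb).HasMap b :=
  ⟨minpoly.aeval K b, by simp [sepPair]⟩

/-- The map from the standard etale algebra of a separable element. -/
noncomputable def sepLift (b : B) (hb : IsSeparable K b) : (sepPair b hb).Ring →ₐ[K] B :=
  (sepPair b hb).lift b (sepPair_hasMap b hb)

theorem sepLift_X (b : B) (hb : IsSeparable K b) : sepLift b hb (sepPair b hb).X = b :=
  StandardEtalePair.lift_X _ _ _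

theorem exists_idem_of_isSeparable (b : B) (hb : IsSeparable K b) :
    ∃ e : B ⊗[K] B, Algebra.TensorProduct.lmul' K e = 1 ∧
      (b ⊗ₜ[K] 1 - 1 ⊗ₜ[K] b) * e = 0 := by
  let P := sepPair b hb
  let φ : P.Ring →ₐ[K] B := sepLift b hb
  have hφ : φ P.X = b := sepLift_X b hb
  let μE := Algebra.TensorProduct.lmul' K (S := P.Ring)
  have hsurj : Function.Surjective μE.toRingHom := fun x => ⟨x ⊗ₜ 1, by simp [μE]⟩
  have hx : μE.toRingHom (P.X ⊗ₜ[K] 1 - 1 ⊗ₜ[K] P.X) = 0 := by simp [μE]
  obtain ⟨y, hy, hxy⟩ := exists_eq_mul_of_flat_surjective μE.toRingHom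
    (Algebra.WeaklyEtale.flat_lmul' K P.Ring) hsurj hx
  let Φ := Algebra.TensorProduct.map φ φ
  have hcomm : ∀ t, Algebra.TensorProduct.lmul' K (Φ t) = φ (μE t) := by
    intro t
    induction t using TensorProduct.induction_on with
    | zero => simp
    | tmul p q => simp [Φ, μE]
    | add p q hp hq => simp only [map_add, hp, hq]
  refine ⟨Φ (1 - y), ?_, ?_⟩
  · have hy' : μE y = 0 := hy
    rw [hcomm, map_sub, map_one, hy', sub_zero, map_one]
  · have h1 : (b ⊗ₜ[K] 1 - 1 ⊗ₜ[K] b : B ⊗[K] B) = Φ (P.X ⊗ₜ[K] 1 - 1 ⊗ₜ[K] P.X) := by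
      simp [Φ, hφ]
    rw [h1, ← map_mul, mul_sub, mul_one, ← hxy, sub_self, map_zero]

/-- A `K`-algebra all of whose elements are separable is weakly etale. -/
theorem weaklyEtale_of_isSeparable (h : ∀ b : B, IsSeparable K b) : Algebra.WeaklyEtale K B := by
  refine ⟨inferInstance, ?_⟩
  have hsurj : Function.Surjective (Algebra.TensorProduct.lmul' K (S := B)).toRingHom :=
    fun x => ⟨x ⊗ₜ 1, by simp⟩
  apply flat_of_forall_exists_eq_mul _ hsurj
  intro x hx
  have hx' : x ∈ KaehlerDifferential.ideal K B := hx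
  rw [← KaehlerDifferential.span_range_eq_ideal] at hx'
  clear hx
  suffices hE : ∃ e : B ⊗[K] B, Algebra.TensorProduct.lmul' K e = 1 ∧ x * e = 0 by
    obtain ⟨e, he1, he2⟩ := hE
    refine ⟨1 - e, ?_, ?_⟩
    · show Algebra.TensorProduct.lmul' K (1 - e) = 0
      rw [map_sub, map_one, he1, sub_self]
    · rw [mul_sub, mul_one, he2, sub_zero]
  induction hx' using Submodule.span_induction with
  | mem x hx =>
    obtain ⟨s, rfl⟩ := hx
    obtain ⟨e, he1, he2⟩ := exists_idem_of_isSeparable s (h s)
    refine ⟨e, he1, ?_⟩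
    show ((1 : B) ⊗ₜ[K] s - s ⊗ₜ[K] (1 : B)) * e = 0
    rw [← neg_sub, neg_mul, he2, neg_zero]
  | zero => exact ⟨1, map_one _, zero_mul _⟩
  | add x y _ _ hx hy =>
    obtain ⟨e1, h11, h12⟩ := hx
    obtain ⟨e2, h21, h22⟩ := hy
    refine ⟨e1 * e2, by rw [map_mul, h11, h21, mul_one], ?_⟩
    rw [add_mul, ← mul_assoc, h12, zero_mul, mul_left_comm, h22, mul_zero, add_zero]
  | smul a x _ hx =>
    obtain ⟨e, he1, he2⟩ := hx
    exact ⟨e, he1, by rw [smul_eq_mul, mul_assoc, he2, mul_zero]⟩

/-- Over a field, weakly etale means that every element is separable. -/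
theorem weaklyEtale_iff_isSeparable :
    Algebra.WeaklyEtale K B ↔ ∀ b : B, IsSeparable K b :=
  ⟨fun _ b => isSeparable_of_weaklyEtale b, weaklyEtale_of_isSeparable⟩

theorem isSeparable_add_mul {a c : B} (ha : IsSeparable K a) (hc : IsSeparable K c) :
    IsSeparable K (a + c) ∧ IsSeparable K (a * c) := by
  let Ea := (sepPair a ha).Ring
  let Ec := (sepPair c hc).Ring
  have hwe : Algebra.WeaklyEtale K (Ea ⊗[K] Ec) := Algebra.WeaklyEtale.trans K Ea (Ea ⊗[K] Ec)
  let ψ : Ea ⊗[K] Ec →ₐ[K] B := Algebra.TensorProduct.productMap (sepLift a ha) (sepLift c hc)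
  constructor
  · have h := isSeparable_of_weaklyEtale (K := K)
      ((sepPair a ha).X ⊗ₜ[K] (1 : Ec) + (1 : Ea) ⊗ₜ[K] (sepPair c hc).X)
    have h' := isSeparable_map ψ h
    have e1 : ψ ((sepPair a ha).X ⊗ₜ[K] (1 : Ec) + (1 : Ea) ⊗ₜ[K] (sepPair c hc).X) = a + c := by
      simp only [ψ, map_add, Algebra.TensorProduct.productMap_apply_tmul, map_one, mul_one,
        one_mul]
      rw [sepLift_X, sepLift_X]
    rwa [e1] at h'
  · have h := isSeparable_of_weaklyEtale (K := K)
      ((sepPair a ha).X ⊗ₜ[K] (sepPair c hc).X : Ea ⊗[K] Ec)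
    have h' := isSeparable_map ψ h
    have e1 : ψ ((sepPair a ha).X ⊗ₜ[K] (sepPair c hc).X) = a * c := by
      simp only [ψ, Algebra.TensorProduct.productMap_apply_tmul]
      rw [sepLift_X, sepLift_X]
    rwa [e1] at h'

end Separable

end Groth.Agent.H10.WEtField
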