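-- The subalgebra of separable elements of an algebra over a field is its largest weakly etale
-- subalgebra.
import Groth.Agent.H10.WEtField

set_option autoImplicit false
universe u

namespace Groth.Agent.H10.WEtField

open TensorProduct Polynomial

section Sub

variable {K B : Type u} [Field K] [CommRing B] [Algebra K B]

variable (K B) in
/-- The subalgebra of separable elements of a commutative algebra over a field. -/
def sepSub : Subalgebra K B where
  carrier := {a | IsSeparable K a}
  mul_mem' := fun ha hc => (isSeparable_add_mul ha hc).2
  add_mem' := fun ha hc => (isSeparable_add_mul ha hc).1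
  algebraMap_mem' := fun r => isSeparable_algebraMap r

theorem mem_sepSub {a : B} : a ∈ sepSub K B ↔ IsSeparable K a := Iff.rfl

theorem isSeparable_sepSub (x : sepSub K B) : IsSeparable K x := by
  have hx : IsSeparable K ((sepSub K B).val x) := x.2
  exact isSeparable_of_injective (sepSub K B).val (fun a b h => Subtype.ext h) hx

instance weaklyEtale_sepSub : Algebra.WeaklyEtale K (sepSub K B) :=
  weaklyEtale_of_isSeparable isSeparable_sepSub

theorem le_sepSub_of_weaklyEtale (S : Subalgebra K B) [Algebra.WeaklyEtale K S] :
    S ≤ sepSub K B := by
  intro s hs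
  have h1 : IsSeparable K (⟨s, hs⟩ : S) := isSeparable_of_weaklyEtale (K := K) _
  have h2 : IsSeparable K (S.val ⟨s, hs⟩) := isSeparable_map S.val h1
  have h3 : S.val ⟨s, hs⟩ = s := rfl
  rw [h3] at h2
  exact mem_sepSub.mpr h2

/-- The largest weakly etale subalgebra is the subalgebra of separable elements. -/
theorem maxWeaklyEtale_eq_sepSub : EtAlgD.maxWeaklyEtale K B = sepSub K B := by
  apply le_antisymm
  · apply sSup_le
    intro S hS
    have : Algebra.WeaklyEtale K S := hS
    exact le_sepSub_of_weaklyEtale S
  · apply le_sSup
    show Algebra.WeaklyEtale K (sepSub K B)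
    infer_instance

end Sub

end Groth.Agent.H10.WEtField
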