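import Mathlib
import Groth.Agent.H10.WEtSub

/-!
Base change of the subalgebra of separable elements along a field extension: generalities
(`T K L A = L ⊗ A_sep ⊆ L ⊗ A`, the property `Good K L A`, descent and transitivity).
-/

set_option autoImplicit false
set_option linter.unusedSectionVars false
set_option linter.unusedVariables false
set_option linter.style.haveILetI false

universe u

namespace Groth.Agent.H10.WEtBC

open TensorProduct Polynomial
open Groth.Agent.H10.WEtField

section basic

theorem isSeparable_iff_exists {K B : Type*} [Field K] [CommRing B] [Algebra K B] (b : B) :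
    IsSeparable K b ↔ ∃ f : K[X], f.Separable ∧ aeval b f = 0 := by
  constructor
  · intro h
    exact ⟨minpoly K b, h, minpoly.aeval K b⟩
  · rintro ⟨f, hf, h0⟩
    exact hf.of_dvd (minpoly.dvd K b h0)

variable (K L : Type u) [Field K] [Field L] [Algebra K L] (A : Type u) [CommRing A] [Algebra K A]

/-- `L ⊗ A_sep` inside `L ⊗ A`. -/
noncomputable def T : Subalgebra L (L ⊗[K] A) :=
  (Algebra.TensorProduct.map (AlgHom.id L L) (sepSub K A).val).range

theorem mem_T {x : L ⊗[K] A} : x ∈ T K L A ↔
    ∃ y : L ⊗[K] (sepSub K A),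
      Algebra.TensorProduct.map (AlgHom.id L L) (sepSub K A).val y = x := by
  unfold T
  exact AlgHom.mem_range _

theorem tmul_mem_T (l : L) {a : A} (ha : a ∈ sepSub K A) : l ⊗ₜ[K] a ∈ T K L A := by
  rw [mem_T]
  exact ⟨l ⊗ₜ ⟨a, ha⟩, by simp⟩

theorem adjoin_eq_T : Algebra.adjoin L
    ((Algebra.TensorProduct.includeRight : A →ₐ[K] L ⊗[K] A) '' (sepSub K A : Set A)) =
      T K L A := by
  apply le_antisymm
  · apply Algebra.adjoin_le
    rintro _ ⟨a, ha, rfl⟩
    exact tmul_mem_T K L A 1 ha
  · intro x hx
    obtain ⟨y, rfl⟩ := (mem_T K L A).mp hx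
    clear hx
    induction y using TensorProduct.induction_on with
    | zero => rw [map_zero]; exact zero_mem _
    | tmul l s =>
      have h1 : Algebra.TensorProduct.map (AlgHom.id L L) (sepSub K A).val (l ⊗ₜ s) =
          l • ((Algebra.TensorProduct.includeRight : A →ₐ[K] L ⊗[K] A) (s : A)) := by
        simp [TensorProduct.smul_tmul']
      rw [h1]
      exact Subalgebra.smul_mem _ (Algebra.subset_adjoin (Set.mem_image_of_mem _ s.2)) l
    | add x y ihx ihy =>
      rw [map_add]
      exact add_mem ihx ihy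

theorem isSeparable_one_tmul {a : A} (ha : IsSeparable K a) :
    IsSeparable L ((1 : L) ⊗ₜ[K] a) := by
  rw [isSeparable_iff_exists]
  refine ⟨(minpoly K a).map (algebraMap K L), Polynomial.Separable.map ha, ?_⟩
  rw [aeval_map_algebraMap]
  have h1 : (1 : L) ⊗ₜ[K] a = (Algebra.TensorProduct.includeRight : A →ₐ[K] L ⊗[K] A) a := rfl
  rw [h1, aeval_algHom_apply, minpoly.aeval, map_zero]

theorem T_le_sepSub : T K L A ≤ sepSub L (L ⊗[K] A) := by
  rw [← adjoin_eq_T]
  apply Algebra.adjoin_le
  rintro _ ⟨a, ha, rfl⟩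
  exact isSeparable_one_tmul K L A ha

/-- Membership in `T` via the quotient `A / A_sep`. -/
theorem mem_T_iff (x : L ⊗[K] A) : x ∈ T K L A ↔
    ((Subalgebra.toSubmodule (sepSub K A)).mkQ.lTensor L) x = 0 := by
  constructor
  · intro hx
    obtain ⟨y, rfl⟩ := (mem_T K L A).mp hx
    clear hx
    induction y using TensorProduct.induction_on with
    | zero => simp
    | tmul l s =>
      have h0 : (Subalgebra.toSubmodule (sepSub K A)).mkQ (s : A) = 0 := by
        rw [Submodule.mkQ_apply, Submodule.Quotient.mk_eq_zero]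
        exact s.2
      simp [h0]
    | add x y ihx ihy =>
      rw [map_add, map_add, ihx, ihy, add_zero]
  · intro hx
    have h1 : x ∈ LinearMap.ker ((Subalgebra.toSubmodule (sepSub K A)).mkQ.lTensor L) := hx
    rw [lTensor_mkQ] at h1
    obtain ⟨y, rfl⟩ := h1
    clear hx
    induction y using TensorProduct.induction_on with
    | zero => rw [map_zero]; exact zero_mem _
    | tmul l s =>
      rw [LinearMap.lTensor_tmul]
      exact tmul_mem_T K L A l s.2
    | add x y ihx ihy =>
      rw [map_add]
      exact add_mem ihx ihy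

/-- The base change property: separable elements of `L ⊗ A` lie in `L ⊗ A_sep`. -/
def Good : Prop := sepSub L (L ⊗[K] A) ≤ T K L A

end basic

section maps

variable (K L : Type u) [Field K] [Field L] [Algebra K L] (A : Type u) [CommRing A] [Algebra K A]
  (L' : Type u) [Field L'] [Algebra K L'] [Algebra L L'] [IsScalarTower K L L']

/-- The map `L ⊗ A → L' ⊗ A`. -/
noncomputable def psi : L ⊗[K] A →ₐ[L] L' ⊗[K] A :=
  Algebra.TensorProduct.map (Algebra.ofId L L') (AlgHom.id K A)

@[simp] theorem psi_tmul (l : L) (a : A) : psi K L A L' (l ⊗ₜ a) = algebraMap L L' l ⊗ₜ a := by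
  simp [psi, Algebra.ofId_apply]

theorem psi_mem_T {x : L ⊗[K] A} (hx : x ∈ T K L A) : psi K L A L' x ∈ T K L' A := by
  obtain ⟨y, rfl⟩ := (mem_T K L A).mp hx
  clear hx
  induction y using TensorProduct.induction_on with
  | zero => rw [map_zero, map_zero]; exact zero_mem _
  | tmul l s =>
    have h1 : Algebra.TensorProduct.map (AlgHom.id L L) (sepSub K A).val (l ⊗ₜ s) =
        l ⊗ₜ (s : A) := by simp
    rw [h1, psi_tmul]
    exact tmul_mem_T K L' A _ s.2
  | add x y ihx ihy =>
    rw [map_add, map_add]
    exact add_mem ihx ihy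

theorem psi_isSeparable {x : L ⊗[K] A} (hx : IsSeparable L x) :
    IsSeparable L' (psi K L A L' x) := by
  rw [isSeparable_iff_exists] at hx ⊢
  obtain ⟨f, hf, h0⟩ := hx
  refine ⟨f.map (algebraMap L L'), hf.map, ?_⟩
  rw [aeval_map_algebraMap, aeval_algHom_apply, h0, map_zero]

theorem psi_injective : Function.Injective (psi K L A L') := by
  have h := Module.Flat.rTensor_preserves_injective_linearMap (M := A)
    ((IsScalarTower.toAlgHom K L L').toLinearMap) (algebraMap L L').injective
  have heq : ∀ x, psi K L A L' x = (IsScalarTower.toAlgHom K L L').toLinearMap.rTensor A x := by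
    intro x
    induction x using TensorProduct.induction_on with
    | zero => simp
    | tmul l a => simp
    | add x y hx hy => rw [map_add, map_add, hx, hy]
  intro x y hxy
  apply h
  rw [← heq, ← heq, hxy]

/-- Descent: the property for a larger field implies it for a smaller one. -/
theorem good_descent (h : Good K L' A) : Good K L A := by
  intro x hx
  rw [mem_T_iff]
  have h1 : psi K L A L' x ∈ T K L' A := h (psi_isSeparable K L A L' hx)
  rw [mem_T_iff] at h1
  set q := (Subalgebra.toSubmodule (sepSub K A)).mkQ with hq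
  set j : L →ₗ[K] L' := (IsScalarTower.toAlgHom K L L').toLinearMap with hj
  have hcomm : ∀ z : L ⊗[K] A, (q.lTensor L') (psi K L A L' z) = j.rTensor _ ((q.lTensor L) z) := by
    intro z
    induction z using TensorProduct.induction_on with
    | zero => simp
    | tmul l a => simp [hj]
    | add x y hx hy => rw [map_add, map_add, map_add, map_add, hx, hy]
  have hinj := Module.Flat.rTensor_preserves_injective_linearMap
    (M := A ⧸ Subalgebra.toSubmodule (sepSub K A)) j (algebraMap L L').injective
  apply hinj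
  rw [← hcomm, h1, map_zero]

/-- Transitivity. -/
theorem good_trans (h1 : Good K L A) (h2 : Good L L' (L ⊗[K] A)) : Good K L' A := by
  intro x hx
  let φ := Algebra.TensorProduct.cancelBaseChange K L L' L' A
  have hy : IsSeparable L' (φ.symm x) := isSeparable_map φ.symm.toAlgHom hx
  have hy2 : φ.symm x ∈ T L L' (L ⊗[K] A) := h2 hy
  have key1 : ∀ (l' : L') (t : L ⊗[K] A), t ∈ T K L A → φ (l' ⊗ₜ[L] t) ∈ T K L' A := by
    intro l' t ht
    obtain ⟨v, rfl⟩ := (mem_T K L A).mp ht
    clear ht
    induction v using TensorProduct.induction_on with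
    | zero => simp
    | tmul l s =>
      have e1 : Algebra.TensorProduct.map (AlgHom.id L L) (sepSub K A).val (l ⊗ₜ s) =
          l ⊗ₜ (s : A) := by simp
      rw [e1]
      have e2 : φ (l' ⊗ₜ[L] (l ⊗ₜ[K] (s : A))) = (l • l') ⊗ₜ (s : A) :=
        Algebra.TensorProduct.cancelBaseChange_tmul _ _ _ _ _ _ _ _
      rw [e2]
      exact tmul_mem_T K L' A _ s.2
    | add x y ihx ihy =>
      rw [map_add, TensorProduct.tmul_add, map_add]
      exact add_mem ihx ihy
  have key : ∀ y, y ∈ T L L' (L ⊗[K] A) → φ y ∈ T K L' A := by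
    intro y hy
    obtain ⟨w, rfl⟩ := (mem_T L L' (L ⊗[K] A)).mp hy
    clear hy
    induction w using TensorProduct.induction_on with
    | zero => simp
    | tmul l' s =>
      have e1 : Algebra.TensorProduct.map (AlgHom.id L' L') (sepSub L (L ⊗[K] A)).val (l' ⊗ₜ s) =
          l' ⊗ₜ (s : L ⊗[K] A) := by simp
      rw [e1]
      exact key1 l' _ (h1 s.2)
    | add x y ihx ihy =>
      rw [map_add, map_add]
      exact add_mem ihx ihy
  have h3 := key _ hy2
  rwa [AlgEquiv.apply_symm_apply] at h3

end maps

section descElem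

variable (K L : Type u) [Field K] [Field L] [Algebra K L] (A : Type u) [CommRing A] [Algebra K A]

/-- Apply a functional to the coefficients of a polynomial. -/
noncomputable def mapCoeff (φ : L →ₗ[K] K) (g : L[X]) : K[X] :=
  ∑ j ∈ Finset.range (g.natDegree + 1), C (φ (g.coeff j)) * X ^ j

theorem coeff_mapCoeff (φ : L →ₗ[K] K) (g : L[X]) (j : ℕ) :
    (mapCoeff K L φ g).coeff j = φ (g.coeff j) := by
  unfold mapCoeff
  rw [finsetSum_coeff]
  simp only [coeff_C_mul_X_pow]
  rw [Finset.sum_ite_eq]
  split_ifs with hj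
  · rfl
  · rw [Finset.mem_range, not_lt] at hj
    rw [coeff_eq_zero_of_natDegree_lt (by omega), map_zero]

/-- The retraction `L ⊗ A → A` attached to a functional. -/
noncomputable def rho (φ : L →ₗ[K] K) : L ⊗[K] A →ₗ[K] A :=
  (TensorProduct.lid K A).toLinearMap ∘ₗ φ.rTensor A

theorem rho_tmul (φ : L →ₗ[K] K) (l : L) (a : A) : rho K L A φ (l ⊗ₜ a) = φ l • a := by
  simp [rho]

theorem aeval_mapCoeff (φ : L →ₗ[K] K) (g : L[X]) (a : A) :
    aeval a (mapCoeff K L φ g) = rho K L A φ (aeval ((1 : L) ⊗ₜ[K] a) g) := by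
  rw [aeval_eq_sum_range (p := g)]
  unfold mapCoeff
  rw [map_sum, map_sum]
  apply Finset.sum_congr rfl
  intro j _
  rw [map_mul, aeval_C, map_pow, aeval_X, Algebra.TensorProduct.tmul_pow, one_pow,
    TensorProduct.smul_tmul', smul_eq_mul, mul_one, rho_tmul, Algebra.smul_def]

/-- If `1 ⊗ a` is separable over `L` then `a` is separable over `K`. -/
theorem isSeparable_of_one_tmul {a : A} (h : IsSeparable L ((1 : L) ⊗ₜ[K] a)) :
    IsSeparable K a := by
  rcases subsingleton_or_nontrivial A with hS | hN
  · show (minpoly K a).Separable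
    rw [minpoly.subsingleton]
    exact separable_one
  set f := minpoly L ((1 : L) ⊗ₜ[K] a) with hf
  have hfm : f.Monic := minpoly.monic h.isIntegral
  have hf0 : aeval ((1 : L) ⊗ₜ[K] a) f = 0 := minpoly.aeval _ _
  -- `a` is integral
  obtain ⟨φ₁, hφ₁⟩ := Module.Projective.exists_dual_eq_one K (one_ne_zero : (1 : L) ≠ 0)
  have hint : IsIntegral K a := by
    refine ⟨mapCoeff K L φ₁ f, ?_, ?_⟩
    · apply monic_of_degree_le f.natDegree
      · rw [degree_le_iff_coeff_zero]
        intro j hj
        rw [coeff_mapCoeff, coeff_eq_zero_of_natDegree_lt (by exact_mod_cast hj), map_zero]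
      · rw [coeff_mapCoeff, hfm.coeff_natDegree, hφ₁]
    · rw [← aeval_def, aeval_mapCoeff, hf0, map_zero]
  set m := minpoly K a with hm
  have hmm : m.Monic := minpoly.monic hint
  have hmL : (m.map (algebraMap K L)).Monic := hmm.map _
  have hm0 : aeval ((1 : L) ⊗ₜ[K] a) (m.map (algebraMap K L)) = 0 := by
    rw [aeval_map_algebraMap]
    have h1 : (1 : L) ⊗ₜ[K] a = (Algebra.TensorProduct.includeRight : A →ₐ[K] L ⊗[K] A) a := rfl
    rw [h1, aeval_algHom_apply, minpoly.aeval, map_zero]
  set r := f %ₘ (m.map (algebraMap K L)) with hr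
  have hr0 : aeval ((1 : L) ⊗ₜ[K] a) r = 0 := by
    have h1 := modByMonic_add_div f (m.map (algebraMap K L))
    have h2 := congrArg (aeval ((1 : L) ⊗ₜ[K] a)) h1
    rw [map_add, map_mul, hm0, zero_mul, add_zero, hf0] at h2
    exact h2
  have hrdeg : r.degree < m.degree := by
    have := degree_modByMonic_lt f hmL
    rwa [degree_map] at this
  have hrz : r = 0 := by
    ext j
    rw [coeff_zero, ← Module.forall_dual_apply_eq_zero_iff K]
    intro φ
    by_contra hne
    have hg0 : mapCoeff K L φ r ≠ 0 := by
      intro h0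
      apply hne
      rw [← coeff_mapCoeff, h0, coeff_zero]
    have hga : aeval a (mapCoeff K L φ r) = 0 := by
      rw [aeval_mapCoeff, hr0, map_zero]
    have h1 := minpoly.degree_le_of_ne_zero K a hg0 hga
    have h2 : (mapCoeff K L φ r).degree < m.degree := by
      rw [degree_eq_natDegree hmm.ne_zero, degree_lt_iff_coeff_zero]
      intro i hi
      rw [coeff_mapCoeff]
      have : r.coeff i = 0 := by
        apply coeff_eq_zero_of_degree_lt
        refine lt_of_lt_of_le hrdeg ?_
        rw [degree_eq_natDegree hmm.ne_zero]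
        exact_mod_cast hi
      rw [this, map_zero]
    exact absurd h1 (not_le.mpr h2)
  have hdvd : m.map (algebraMap K L) ∣ f := (modByMonic_eq_zero_iff_dvd hmL).mp hrz
  have hsep : (m.map (algebraMap K L)).Separable := Polynomial.Separable.of_dvd h hdvd
  exact (Polynomial.separable_map (algebraMap K L)).mp hsep

end descElem

end Groth.Agent.H10.WEtBC
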