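import Mathlib
import Groth.Agent.H10.WEtBC1

/-!
Base change of the subalgebra of separable elements: purely inseparable, finite Galois and
algebraic extensions.
-/

set_option autoImplicit false
set_option linter.unusedSectionVars false
set_option linter.unusedVariables false
set_option linter.style.haveILetI false

universe u

namespace Groth.Agent.H10.WEtBC

open TensorProduct Polynomial
open Groth.Agent.H10.WEtField

section insep

/-- A separable element lies in the algebra generated by its `q ^ n`-th power. -/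
theorem mem_adjoin_pow {F B : Type*} [Field F] [CommRing B] [Algebra F B] (q : ℕ) [ExpChar F q]
    (n : ℕ) {x : B} (hx : IsSeparable F x) : x ∈ Algebra.adjoin F {x ^ (q ^ n)} := by
  classical
  set Q := q ^ n with hQ
  have hQ0 : Q ≠ 0 := pow_ne_zero n (expChar_pos F q).ne'
  set y := x ^ Q with hy
  have hxint : IsIntegral F x := hx.isIntegral
  have hyint : IsIntegral F y := hxint.pow Q
  set m := minpoly F x with hm
  set g := minpoly F y with hg
  have h1 : aeval x (expand F Q g) = 0 := by
    rw [expand_aeval, ← hy, hg, minpoly.aeval]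
  have h2 : m ∣ expand F Q g := minpoly.dvd F x h1
  let Ω := AlgebraicClosure F
  haveI : ExpChar Ω q := expChar_of_injective_algebraMap (algebraMap F Ω).injective q
  have hmsep : (m.map (algebraMap F Ω)).Separable := Polynomial.Separable.map hx
  have hcard : Multiset.card (m.map (algebraMap F Ω)).roots = m.natDegree := by
    have h := splits_iff_card_roots.mp (IsAlgClosed.splits (m.map (algebraMap F Ω)))
    rw [h, natDegree_map]
  have hg0 : g.map (algebraMap F Ω) ≠ 0 := ((minpoly.monic hyint).map _).ne_zero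
  have hinj : Function.Injective (fun r : Ω => r ^ Q) := by
    intro r s hrs
    have h3 : (r - s) ^ Q = 0 := by
      rw [hQ, sub_pow_expChar_pow, ← hQ]
      exact sub_eq_zero.mpr hrs
    exact sub_eq_zero.mp ((pow_eq_zero_iff hQ0).mp h3)
  have hsub : (m.map (algebraMap F Ω)).roots.map (fun r : Ω => r ^ Q) ⊆
      (g.map (algebraMap F Ω)).roots := by
    intro t ht
    obtain ⟨r, hr, rfl⟩ := Multiset.mem_map.mp ht
    rw [mem_roots hg0, IsRoot.def, ← expand_eval, ← map_expand]
    have hr' : (m.map (algebraMap F Ω)).IsRoot r := (mem_roots'.mp hr).2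
    obtain ⟨c, hc⟩ := Polynomial.map_dvd (algebraMap F Ω) h2
    rw [hc, eval_mul, hr'.eq_zero, zero_mul]
  have hnodup : ((m.map (algebraMap F Ω)).roots.map (fun r : Ω => r ^ Q)).Nodup :=
    (nodup_roots hmsep).map hinj
  have hle : m.natDegree ≤ g.natDegree := by
    calc m.natDegree = Multiset.card ((m.map (algebraMap F Ω)).roots.map (fun r : Ω => r ^ Q)) := by
          rw [Multiset.card_map, hcard]
      _ ≤ Multiset.card (g.map (algebraMap F Ω)).roots :=
          Multiset.card_le_card ((Multiset.le_iff_subset hnodup).mpr hsub)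
      _ ≤ (g.map (algebraMap F Ω)).natDegree := card_roots' _
      _ = g.natDegree := natDegree_map _
  -- compare the two subalgebras
  have hB : Algebra.adjoin F {y} ≤ Algebra.adjoin F {x} := by
    apply Algebra.adjoin_le
    rintro _ rfl
    exact pow_mem (Algebra.self_mem_adjoin_singleton F x) Q
  have hf1 : Module.finrank F (Algebra.adjoin F {x}) = m.natDegree :=
    (Algebra.adjoin.powerBasis hxint).finrank
  have hf2 : Module.finrank F (Algebra.adjoin F {y}) = g.natDegree :=
    (Algebra.adjoin.powerBasis hyint).finrank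
  haveI : Module.Finite F (Algebra.adjoin F {x}) := (Algebra.adjoin.powerBasis hxint).finite
  have heq : Subalgebra.toSubmodule (Algebra.adjoin F {y}) =
      Subalgebra.toSubmodule (Algebra.adjoin F {x}) := by
    haveI : Module.Finite F (Subalgebra.toSubmodule (Algebra.adjoin F {x})) :=
      (Algebra.adjoin.powerBasis hxint).finite
    apply Submodule.eq_of_le_of_finrank_le (Subalgebra.toSubmodule.monotone hB)
    show Module.finrank F (Algebra.adjoin F {x}) ≤ Module.finrank F (Algebra.adjoin F {y})
    rw [hf1, hf2]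
    exact hle
  have hxmem : x ∈ Subalgebra.toSubmodule (Algebra.adjoin F {x}) :=
    Algebra.self_mem_adjoin_singleton F x
  rw [← heq] at hxmem
  exact hxmem

variable (K L : Type u) [Field K] [Field L] [Algebra K L] (A : Type u) [CommRing A] [Algebra K A]

theorem pow_mem_range [IsPurelyInseparable K L] (q : ℕ) [ExpChar K q] (x : L ⊗[K] A) :
    ∃ (n : ℕ) (a : A), x ^ (q ^ n) = (1 : L) ⊗ₜ[K] a := by
  rcases subsingleton_or_nontrivial (L ⊗[K] A) with hS | hN
  · exact ⟨0, 0, Subsingleton.elim _ _⟩
  haveI : ExpChar (L ⊗[K] A) q :=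
    expChar_of_injective_algebraMap (algebraMap K (L ⊗[K] A)).injective q
  induction x using TensorProduct.induction_on with
  | zero =>
    refine ⟨0, 0, ?_⟩
    rw [pow_zero, pow_one, TensorProduct.tmul_zero]
  | tmul l b =>
    obtain ⟨n, k, hk⟩ := IsPurelyInseparable.pow_mem K q l
    refine ⟨n, k • b ^ (q ^ n), ?_⟩
    rw [Algebra.TensorProduct.tmul_pow, ← hk, Algebra.algebraMap_eq_smul_one,
      TensorProduct.smul_tmul]
  | add x y ihx ihy =>
    obtain ⟨n, a, ha⟩ := ihx
    obtain ⟨m, b, hb⟩ := ihy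
    refine ⟨n + m, a ^ (q ^ m) + b ^ (q ^ n), ?_⟩
    rw [add_pow_expChar_pow, TensorProduct.tmul_add]
    congr 1
    · rw [pow_add, pow_mul, ha, Algebra.TensorProduct.tmul_pow, one_pow]
    · rw [add_comm n m, pow_add, pow_mul, hb, Algebra.TensorProduct.tmul_pow, one_pow]

/-- Purely inseparable base change. -/
theorem good_insep [IsPurelyInseparable K L] : Good K L A := by
  intro x hx
  obtain ⟨q, hq⟩ := ExpChar.exists K
  haveI : ExpChar L q := expChar_of_injective_algebraMap (algebraMap K L).injective q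
  obtain ⟨n, a, hxa⟩ := pow_mem_range K L A q x
  have hy : x ^ (q ^ n) ∈ sepSub L (L ⊗[K] A) := pow_mem hx _
  rw [hxa] at hy
  have ha : a ∈ sepSub K A := isSeparable_of_one_tmul K L A hy
  have h1 : x ∈ Algebra.adjoin L {x ^ (q ^ n)} := mem_adjoin_pow q n hx
  have h2 : Algebra.adjoin L {x ^ (q ^ n)} ≤ T K L A := by
    apply Algebra.adjoin_le
    rintro _ rfl
    rw [hxa]
    exact tmul_mem_T K L A 1 ha
  exact h2 h1

end insep

section galois

variable (K L : Type u) [Field K] [Field L] [Algebra K L] (A : Type u) [CommRing A] [Algebra K A]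

/-- `σ ⊗ id`. -/
noncomputable def sigT (σ : L ≃ₐ[K] L) : L ⊗[K] A →ₐ[K] L ⊗[K] A :=
  Algebra.TensorProduct.map σ.toAlgHom (AlgHom.id K A)

@[simp] theorem sigT_tmul (σ : L ≃ₐ[K] L) (l : L) (a : A) :
    sigT K L A σ (l ⊗ₜ a) = σ l ⊗ₜ a := by
  simp [sigT]

theorem sigT_isSeparable (σ : L ≃ₐ[K] L) {x : L ⊗[K] A} (hx : IsSeparable L x) :
    IsSeparable L (sigT K L A σ x) := by
  rw [isSeparable_iff_exists] at hx ⊢
  obtain ⟨f, hf, h0⟩ := hx
  refine ⟨f.map (σ : L →+* L), hf.map, ?_⟩
  rw [aeval_def, eval₂_map]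
  have h1 : (algebraMap L (L ⊗[K] A)).comp (σ : L →+* L) =
      (sigT K L A σ).toRingHom.comp (algebraMap L (L ⊗[K] A)) := by
    ext l
    simp [Algebra.TensorProduct.algebraMap_apply]
  rw [h1]
  have h2 := Polynomial.hom_eval₂ f (algebraMap L (L ⊗[K] A)) (sigT K L A σ).toRingHom x
  rw [← aeval_def, h0, map_zero] at h2
  exact h2.symm

theorem exists_repr {ι : Type*} [Fintype ι] (b : Module.Basis ι K L) (x : L ⊗[K] A) :
    ∃ a : ι → A, x = ∑ j, b j ⊗ₜ[K] a j := by
  induction x using TensorProduct.induction_on with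
  | zero => exact ⟨fun _ => 0, by simp⟩
  | tmul l c =>
    refine ⟨fun j => b.repr l j • c, ?_⟩
    conv_lhs => rw [← b.sum_repr l]
    rw [TensorProduct.sum_tmul]
    apply Finset.sum_congr rfl
    intro j _
    rw [TensorProduct.smul_tmul]
  | add x y ihx ihy =>
    obtain ⟨a, ha⟩ := ihx
    obtain ⟨a', ha'⟩ := ihy
    refine ⟨fun j => a j + a' j, ?_⟩
    rw [ha, ha', ← Finset.sum_add_distrib]
    apply Finset.sum_congr rfl
    intro j _
    rw [TensorProduct.tmul_add]

/-- Finite Galois base change. -/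
theorem good_galois [FiniteDimensional K L] [IsGalois K L] : Good K L A := by
  classical
  intro x hx
  let b := Module.finBasis K L
  obtain ⟨a, ha⟩ := exists_repr K L A b x
  let M : Matrix (L ≃ₐ[K] L) (Fin (Module.finrank K L)) L := fun σ j => σ (b j)
  let Tm : Matrix (Fin (Module.finrank K L)) (Fin (Module.finrank K L)) L := M.transpose * M
  have hTm : Tm = (Algebra.traceMatrix K b).map (algebraMap K L) := by
    ext i j
    rw [Matrix.map_apply, Algebra.traceMatrix_apply, Algebra.traceForm_apply,
      trace_eq_sum_automorphisms]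
    show ∑ σ : L ≃ₐ[K] L, M.transpose i σ * M σ j = _
    apply Finset.sum_congr rfl
    intro σ _
    show σ (b i) * σ (b j) = σ (b i * b j)
    rw [map_mul]
  have hdet : IsUnit Tm.det := by
    rw [hTm]
    have h1 : ((Algebra.traceMatrix K b).map (algebraMap K L)).det =
        algebraMap K L (Algebra.traceMatrix K b).det := by
      rw [← RingHom.mapMatrix_apply, ← RingHom.map_det]
    rw [h1, isUnit_iff_ne_zero]
    intro h0
    have h2 : (Algebra.traceMatrix K b).det = 0 :=
      (algebraMap K L).injective (by rw [h0, map_zero])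
    exact Algebra.discr_not_zero_of_basis K b h2
  let N : Matrix (Fin (Module.finrank K L)) (L ≃ₐ[K] L) L := Tm⁻¹ * M.transpose
  have hNM : N * M = 1 := by
    show Tm⁻¹ * M.transpose * M = 1
    rw [Matrix.mul_assoc]
    exact Matrix.nonsing_inv_mul Tm hdet
  -- the conjugates
  have hsig : ∀ σ : L ≃ₐ[K] L, sigT K L A σ x = ∑ k, M σ k • ((1 : L) ⊗ₜ[K] a k) := by
    intro σ
    rw [ha, map_sum]
    apply Finset.sum_congr rfl
    intro k _
    rw [sigT_tmul, TensorProduct.smul_tmul', smul_eq_mul, mul_one]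
  have hcoord : ∀ j, (1 : L) ⊗ₜ[K] a j = ∑ σ : L ≃ₐ[K] L, N j σ • sigT K L A σ x := by
    intro j
    simp_rw [hsig, Finset.smul_sum, smul_smul]
    rw [Finset.sum_comm]
    simp_rw [← Finset.sum_smul]
    have h1 : ∀ k, ∑ σ : L ≃ₐ[K] L, N j σ * M σ k = (1 : Matrix _ _ L) j k := by
      intro k
      rw [← hNM, Matrix.mul_apply]
    simp_rw [h1, Matrix.one_apply]
    simp
  have hmem : ∀ j, a j ∈ sepSub K A := by
    intro j
    apply isSeparable_of_one_tmul K L A
    show (1 : L) ⊗ₜ[K] a j ∈ sepSub L (L ⊗[K] A)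
    rw [hcoord]
    apply Subalgebra.sum_mem
    intro σ _
    exact Subalgebra.smul_mem _ (sigT_isSeparable K L A σ hx) _
  rw [ha]
  apply Subalgebra.sum_mem
  intro j _
  exact tmul_mem_T K L A _ (hmem j)

end galois

section algebraic

variable (K L : Type u) [Field K] [Field L] [Algebra K L] (A : Type u) [CommRing A] [Algebra K A]

/-- Finite normal base change. -/
theorem good_normal [FiniteDimensional K L] [Normal K L] : Good K L A := by
  let S := separableClosure K L
  haveI : IsGalois K S := inferInstance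
  haveI : IsPurelyInseparable S L := inferInstance
  exact good_trans K S A L (good_galois K S A) (good_insep S L (S ⊗[K] A))

/-- Finite base change. -/
theorem good_finite [FiniteDimensional K L] : Good K L A := by
  let Ω := AlgebraicClosure L
  haveI : IsAlgClosure K Ω := IsAlgClosure.ofAlgebraic K L Ω
  haveI : Normal K Ω := IsAlgClosure.normal K Ω
  let N := IntermediateField.normalClosure K L Ω
  haveI : Normal K N := inferInstance
  haveI : FiniteDimensional K N := inferInstance
  exact good_descent K L A N (good_normal K N A)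

/-- `x` is a `K`-combination of pure tensors with left factor in `F`. -/
def InF (F : IntermediateField K L) (x : L ⊗[K] A) : Prop :=
  x ∈ Submodule.span K {t : L ⊗[K] A | ∃ l ∈ F, ∃ a : A, t = l ⊗ₜ[K] a}

theorem inF_mono {F F' : IntermediateField K L} (h : F ≤ F') {x : L ⊗[K] A}
    (hx : InF K L A F x) : InF K L A F' x := by
  refine Submodule.span_mono ?_ hx
  rintro t ⟨l, hl, a, rfl⟩
  exact ⟨l, h hl, a, rfl⟩

theorem exists_inF [Algebra.IsAlgebraic K L] (x : L ⊗[K] A) :
    ∃ F : IntermediateField K L, FiniteDimensional K F ∧ InF K L A F x := by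
  induction x using TensorProduct.induction_on with
  | zero => exact ⟨⊥, inferInstance, Submodule.zero_mem _⟩
  | tmul l a =>
    refine ⟨IntermediateField.adjoin K {l},
      IntermediateField.adjoin.finiteDimensional (Algebra.IsIntegral.isIntegral l), ?_⟩
    exact Submodule.subset_span ⟨l, IntermediateField.mem_adjoin_simple_self K l, a, rfl⟩
  | add x y ihx ihy =>
    obtain ⟨F₁, hF₁, h₁⟩ := ihx
    obtain ⟨F₂, hF₂, h₂⟩ := ihy
    refine ⟨F₁ ⊔ F₂, IntermediateField.finiteDimensional_sup F₁ F₂, ?_⟩
    exact Submodule.add_mem _ (inF_mono K L A le_sup_left h₁) (inF_mono K L A le_sup_right h₂)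

theorem exists_preimage_of_inF (F : IntermediateField K L) {x : L ⊗[K] A}
    (hx : InF K L A F x) : ∃ y : F ⊗[K] A, psi K F A L y = x := by
  induction hx using Submodule.span_induction with
  | mem t ht =>
    obtain ⟨l, hl, a, rfl⟩ := ht
    exact ⟨(⟨l, hl⟩ : F) ⊗ₜ a, by rw [psi_tmul]; rfl⟩
  | zero => exact ⟨0, map_zero _⟩
  | add x y _ _ ihx ihy =>
    obtain ⟨y₁, h₁⟩ := ihx
    obtain ⟨y₂, h₂⟩ := ihy
    exact ⟨y₁ + y₂, by rw [map_add, h₁, h₂]⟩
  | smul c x _ ih =>
    obtain ⟨y₁, h₁⟩ := ih
    refine ⟨c • y₁, ?_⟩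
    rw [← h₁]
    exact ((psi K F A L).toLinearMap.restrictScalars K).map_smul c y₁

/-- Algebraic base change. -/
theorem good_algebraic [Algebra.IsAlgebraic K L] : Good K L A := by
  classical
  intro x hx
  obtain ⟨f, hf, h0⟩ := (isSeparable_iff_exists x).mp hx
  obtain ⟨F₁, hF₁, h₁⟩ := exists_inF K L A x
  let F₂ : IntermediateField K L := IntermediateField.adjoin K (f.coeffs : Set L)
  haveI hF₂ : FiniteDimensional K F₂ :=
    IntermediateField.finiteDimensional_adjoin (fun l _ => Algebra.IsIntegral.isIntegral l)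
  let F : IntermediateField K L := F₁ ⊔ F₂
  haveI : FiniteDimensional K F := IntermediateField.finiteDimensional_sup F₁ F₂
  obtain ⟨y, hy⟩ := exists_preimage_of_inF K L A F (inF_mono K L A le_sup_left h₁)
  have hlift : f ∈ Polynomial.lifts (algebraMap F L) := by
    rw [Polynomial.lifts_iff_coeffs_subset_range]
    intro c hc
    have hc' : c ∈ F₂ := IntermediateField.subset_adjoin K _ hc
    have hc'' : c ∈ F := (le_sup_right : F₂ ≤ F) hc'
    exact ⟨⟨c, hc''⟩, rfl⟩
  obtain ⟨f₀, hf₀⟩ := (Polynomial.mem_lifts f).mp hlift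
  have hf₀sep : f₀.Separable := by
    rw [← Polynomial.separable_map (algebraMap F L), hf₀]
    exact hf
  have hy0 : aeval y f₀ = 0 := by
    apply psi_injective K F A L
    rw [map_zero, ← aeval_algHom_apply, hy, ← aeval_map_algebraMap L, hf₀, h0]
  have hysep : y ∈ sepSub F (F ⊗[K] A) := (isSeparable_iff_exists y).mpr ⟨f₀, hf₀sep, hy0⟩
  have hyT : y ∈ T K F A := good_finite K F A hysep
  rw [← hy]
  exact psi_mem_T K F A L hyT

end algebraic

end Groth.Agent.H10.WEtBC
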