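import Mathlib
import Groth.Agent.H10.WEtBC2

/-!
Base change of the subalgebra of separable elements: purely transcendental extensions of an
infinite field, and the general case.
-/

set_option autoImplicit false
set_option linter.unusedSectionVars false
set_option linter.unusedVariables false
set_option linter.style.haveILetI false

universe u

namespace Groth.Agent.H10.WEtBC

open TensorProduct Polynomial
open Groth.Agent.H10.WEtField

section hom

variable {R B : Type*} [CommRing R] [CommRing B]

/-- The homogenised evaluation `∑ φ(Pⱼ) t^(d-j) w^j`. -/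
noncomputable def homSum (P : R[X]) (φ : R →+* B) (t w : B) : B :=
  ∑ j ∈ Finset.range (P.natDegree + 1), φ (P.coeff j) * t ^ (P.natDegree - j) * w ^ j

theorem homSum_mul (P : R[X]) (φ : R →+* B) (t z : B) :
    homSum P φ t (t * z) = t ^ P.natDegree * P.eval₂ φ z := by
  unfold homSum
  rw [eval₂_eq_sum_range, Finset.mul_sum]
  apply Finset.sum_congr rfl
  intro j hj
  have hj' : j ≤ P.natDegree := Nat.lt_succ_iff.mp (Finset.mem_range.mp hj)
  have h1 : t ^ P.natDegree = t ^ (P.natDegree - j) * t ^ j := by
    rw [← pow_add, Nat.sub_add_cancel hj']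
  rw [h1, mul_pow]
  ring

theorem map_homSum {B' : Type*} [CommRing B'] (ψ : B →+* B') (P : R[X]) (φ : R →+* B)
    (t w : B) : ψ (homSum P φ t w) = homSum P (ψ.comp φ) (ψ t) (ψ w) := by
  unfold homSum
  rw [map_sum]
  apply Finset.sum_congr rfl
  intro j _
  simp only [map_mul, map_pow, RingHom.comp_apply]

end hom

section denominators

theorem exists_common_denominator {R F : Type*} [CommRing R] [IsDomain R] [Field F] [Algebra R F]
    [IsFractionRing R F] (p₁ p₂ p₃ : F[X]) :
    ∃ (s : R) (_ : s ≠ 0) (P₁ P₂ P₃ : R[X]),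
      P₁.map (algebraMap R F) = C (algebraMap R F s) * p₁ ∧
      P₂.map (algebraMap R F) = C (algebraMap R F s) * p₂ ∧
      P₃.map (algebraMap R F) = C (algebraMap R F s) * p₃ := by
  obtain ⟨b₁, hb₁, h₁⟩ := IsLocalization.integerNormalization_spec (nonZeroDivisors R) p₁
  obtain ⟨b₂, hb₂, h₂⟩ := IsLocalization.integerNormalization_spec (nonZeroDivisors R) p₂
  obtain ⟨b₃, hb₃, h₃⟩ := IsLocalization.integerNormalization_spec (nonZeroDivisors R) p₃
  have e : ∀ (b : R) (p : F[X]), b • p = C (algebraMap R F b) * p := by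
    intro b p
    rw [Algebra.smul_def, Polynomial.algebraMap_apply]
  rw [e] at h₁ h₂ h₃
  refine ⟨b₁ * b₂ * b₃, mul_ne_zero (mul_ne_zero (nonZeroDivisors.ne_zero hb₁)
    (nonZeroDivisors.ne_zero hb₂)) (nonZeroDivisors.ne_zero hb₃),
    C (b₂ * b₃) * IsLocalization.integerNormalization (nonZeroDivisors R) p₁,
    C (b₁ * b₃) * IsLocalization.integerNormalization (nonZeroDivisors R) p₂,
    C (b₁ * b₂) * IsLocalization.integerNormalization (nonZeroDivisors R) p₃, ?_, ?_, ?_⟩
  · rw [Polynomial.map_mul, map_C, h₁, ← mul_assoc, ← C_mul, ← map_mul]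
    congr 3 <;> ring
  · rw [Polynomial.map_mul, map_C, h₂, ← mul_assoc, ← C_mul, ← map_mul]
    congr 3 <;> ring
  · rw [Polynomial.map_mul, map_C, h₃, ← mul_assoc, ← C_mul, ← map_mul]

end denominators

section transc

variable (K : Type u) [Field K] (σ : Type u) (A : Type u) [CommRing A] [Algebra K A]

/-- Specialisation `K[σ] ⊗ A → A` at a point `c`. -/
noncomputable def eps (c : σ → K) : MvPolynomial σ K ⊗[K] A →ₐ[K] A :=
  (Algebra.TensorProduct.lid K A).toAlgHom.comp
    (Algebra.TensorProduct.map (MvPolynomial.aeval c) (AlgHom.id K A))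

@[simp] theorem eps_tmul (c : σ → K) (r : MvPolynomial σ K) (a : A) :
    eps K σ A c (r ⊗ₜ a) = MvPolynomial.eval c r • a := by
  simp [eps]

variable (F : Type u) [Field F] [Algebra K F] [Algebra (MvPolynomial σ K) F]
  [IsFractionRing (MvPolynomial σ K) F] [IsScalarTower K (MvPolynomial σ K) F]

/-- The map `K[σ] ⊗ A → F ⊗ A`. -/
noncomputable def iotaRA : MvPolynomial σ K ⊗[K] A →ₐ[K] F ⊗[K] A :=
  Algebra.TensorProduct.map (IsScalarTower.toAlgHom K (MvPolynomial σ K) F) (AlgHom.id K A)

@[simp] theorem iotaRA_tmul (r : MvPolynomial σ K) (a : A) :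
    iotaRA K σ A F (r ⊗ₜ a) = algebraMap (MvPolynomial σ K) F r ⊗ₜ a := by
  simp [iotaRA]

theorem iotaRA_injective : Function.Injective (iotaRA K σ A F) := by
  have h := Module.Flat.rTensor_preserves_injective_linearMap (M := A)
    ((IsScalarTower.toAlgHom K (MvPolynomial σ K) F).toLinearMap)
    (IsFractionRing.injective (MvPolynomial σ K) F)
  have heq : ∀ x, iotaRA K σ A F x =
      (IsScalarTower.toAlgHom K (MvPolynomial σ K) F).toLinearMap.rTensor A x := by
    intro x
    induction x using TensorProduct.induction_on with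
    | zero => simp
    | tmul l a => simp
    | add x y hx hy => rw [map_add, map_add, hx, hy]
  intro x y hxy
  apply h
  rw [← heq, ← heq, hxy]

end transc

/-- Purely transcendental base change over an infinite field. -/
theorem good_transc (K : Type u) [Field K] [Infinite K] (σ : Type u) (A : Type u) [CommRing A]
    [Algebra K A] (F : Type u) [Field F] [Algebra K F] [Algebra (MvPolynomial σ K) F]
    [IsFractionRing (MvPolynomial σ K) F] [IsScalarTower K (MvPolynomial σ K) F] :
    Good K F A := by
  classical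
  intro x hx
  have hι := iotaRA_injective K σ A F
  set ι := iotaRA K σ A F with hιdef
  let eF : MvPolynomial σ K →+* F ⊗[K] A :=
    (algebraMap F (F ⊗[K] A)).comp (algebraMap (MvPolynomial σ K) F)
  let eR : MvPolynomial σ K →+* MvPolynomial σ K ⊗[K] A :=
    Algebra.TensorProduct.includeLeftRingHom
  have heF : ∀ r, eF r = algebraMap (MvPolynomial σ K) F r ⊗ₜ[K] (1 : A) := by
    intro r
    simp [eF, Algebra.TensorProduct.algebraMap_apply]
  have heR : ∀ r, eR r = r ⊗ₜ[K] (1 : A) := fun r => rfl
  have hιe : ∀ r, ι (eR r) = eF r := by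
    intro r
    rw [heR, heF, hιdef, iotaRA_tmul]
  -- Step 1: clearing denominators of `x`
  have step1 : ∀ x : F ⊗[K] A, ∃ s : MvPolynomial σ K, s ≠ 0 ∧
      ∃ g : MvPolynomial σ K ⊗[K] A, eF s * x = ι g := by
    intro x
    induction x using TensorProduct.induction_on with
    | zero => exact ⟨1, one_ne_zero, 0, by simp⟩
    | tmul l a =>
      obtain ⟨r, s, hs, rfl⟩ := IsFractionRing.div_surjective (A := MvPolynomial σ K) l
      have hs0 : s ≠ 0 := nonZeroDivisors.ne_zero hs
      have hsF : algebraMap (MvPolynomial σ K) F s ≠ 0 := fun h =>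
        hs0 (IsFractionRing.injective (MvPolynomial σ K) F (by rw [h, map_zero]))
      refine ⟨s, hs0, r ⊗ₜ a, ?_⟩
      rw [heF, hιdef, iotaRA_tmul, Algebra.TensorProduct.tmul_mul_tmul, one_mul,
        mul_div_cancel₀ _ hsF]
    | add x y ihx ihy =>
      obtain ⟨s₁, hs₁, g₁, h₁⟩ := ihx
      obtain ⟨s₂, hs₂, g₂, h₂⟩ := ihy
      refine ⟨s₁ * s₂, mul_ne_zero hs₁ hs₂, eR s₂ * g₁ + eR s₁ * g₂, ?_⟩
      rw [map_mul, mul_add, map_add, map_mul, map_mul, hιe, hιe, ← h₁, ← h₂]
      ring
  obtain ⟨f, hf, h0⟩ := (isSeparable_iff_exists x).mp hx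
  obtain ⟨a', b', hab⟩ := hf
  obtain ⟨s', hs', F₀, A₀, B₀, hF₀, hA₀, hB₀⟩ :=
    exists_common_denominator (R := MvPolynomial σ K) f a' b'
  obtain ⟨s, hs, g, hg⟩ := step1 x
  -- Bezout identity over the polynomial ring
  have hbez : A₀ * F₀ + B₀ * derivative F₀ = C (s' ^ 2) := by
    apply Polynomial.map_injective (algebraMap (MvPolynomial σ K) F)
      (IsFractionRing.injective (MvPolynomial σ K) F)
    rw [Polynomial.map_add, Polynomial.map_mul, Polynomial.map_mul, ← derivative_map, hA₀, hB₀,
      hF₀, derivative_C_mul, map_C, map_pow, C_pow]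
    linear_combination (C (algebraMap (MvPolynomial σ K) F s') *
      C (algebraMap (MvPolynomial σ K) F s')) * hab
  have hF₀x : F₀.eval₂ eF x = 0 := by
    have h1 : aeval x (F₀.map (algebraMap (MvPolynomial σ K) F)) = 0 := by
      rw [hF₀, map_mul, h0, mul_zero]
    rw [aeval_def, eval₂_map] at h1
    exact h1
  have hH : homSum F₀ eR (eR s) g = 0 := by
    apply hι
    rw [map_zero]
    have h1 := map_homSum (ι : MvPolynomial σ K ⊗[K] A →+* F ⊗[K] A) F₀ eR (eR s) g
    have hcomp : (ι : MvPolynomial σ K ⊗[K] A →+* F ⊗[K] A).comp eR = eF := by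
      ext r
      · simp only [RingHom.comp_apply, RingHom.coe_coe]
        rw [hιe]
      · simp only [RingHom.comp_apply, RingHom.coe_coe]
        rw [hιe]
    rw [hcomp] at h1
    simp only [RingHom.coe_coe] at h1
    rw [h1, hιe, ← hg, homSum_mul, hF₀x, mul_zero]
  -- Step 3: specialisation
  have hspec : ∀ c : σ → K, MvPolynomial.eval c s ≠ 0 → MvPolynomial.eval c s' ≠ 0 →
      eps K σ A c g ∈ sepSub K A := by
    intro c hsc hs'c
    let φc : MvPolynomial σ K →+* A := (algebraMap K A).comp (MvPolynomial.eval c)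
    have hcomp : ((eps K σ A c : MvPolynomial σ K ⊗[K] A →ₐ[K] A) :
        MvPolynomial σ K ⊗[K] A →+* A).comp eR = φc := by
      apply RingHom.ext
      intro r
      simp only [RingHom.comp_apply, RingHom.coe_coe, φc]
      rw [heR, eps_tmul, Algebra.smul_def, mul_one]
    have h1 : homSum F₀ φc (φc s) (eps K σ A c g) = 0 := by
      have h2 := map_homSum ((eps K σ A c : MvPolynomial σ K ⊗[K] A →ₐ[K] A) :
        MvPolynomial σ K ⊗[K] A →+* A) F₀ eR (eR s) g
      rw [hH, map_zero, hcomp] at h2
      have h3 : ((eps K σ A c : MvPolynomial σ K ⊗[K] A →ₐ[K] A) :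
          MvPolynomial σ K ⊗[K] A →+* A) (eR s) = φc s := by
        rw [← hcomp]
        rfl
      rw [h3] at h2
      exact h2.symm
    have hu : IsUnit (φc s) := (IsUnit.mk0 _ hsc).map (algebraMap K A)
    obtain ⟨uu, huu⟩ := hu
    set y : A := ((uu⁻¹ : Aˣ) : A) * eps K σ A c g with hy
    have hy' : eps K σ A c g = φc s * y := by
      rw [hy, ← huu, ← mul_assoc, Units.mul_inv, one_mul]
    rw [hy', homSum_mul] at h1
    have h2 : F₀.eval₂ φc y = 0 := by
      have hu' : IsUnit (φc s ^ F₀.natDegree) := (huu ▸ uu.isUnit).pow _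
      exact (hu'.mul_right_eq_zero).mp h1
    have h3 : aeval y (F₀.map (MvPolynomial.eval c)) = 0 := by
      rw [aeval_def, eval₂_map]
      exact h2
    have hsep : (F₀.map (MvPolynomial.eval c)).Separable := by
      have hb := congrArg (Polynomial.map (MvPolynomial.eval c)) hbez
      rw [Polynomial.map_add, Polynomial.map_mul, Polynomial.map_mul, ← derivative_map, map_C,
        map_pow] at hb
      have hv : MvPolynomial.eval c s' ^ 2 ≠ 0 := pow_ne_zero 2 hs'c
      refine ⟨C (MvPolynomial.eval c s' ^ 2)⁻¹ * A₀.map (MvPolynomial.eval c),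
        C (MvPolynomial.eval c s' ^ 2)⁻¹ * B₀.map (MvPolynomial.eval c), ?_⟩
      calc C (MvPolynomial.eval c s' ^ 2)⁻¹ * A₀.map (MvPolynomial.eval c) *
            F₀.map (MvPolynomial.eval c) +
            C (MvPolynomial.eval c s' ^ 2)⁻¹ * B₀.map (MvPolynomial.eval c) *
              derivative (F₀.map (MvPolynomial.eval c))
          = C (MvPolynomial.eval c s' ^ 2)⁻¹ *
              (A₀.map (MvPolynomial.eval c) * F₀.map (MvPolynomial.eval c) +
                B₀.map (MvPolynomial.eval c) * derivative (F₀.map (MvPolynomial.eval c))) := by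
            ring
        _ = C (MvPolynomial.eval c s' ^ 2)⁻¹ * C (MvPolynomial.eval c s' ^ 2) := by rw [hb]
        _ = 1 := by rw [← C_mul, inv_mul_cancel₀ hv, C_1]
    have hysep : y ∈ sepSub K A := (isSeparable_iff_exists y).mpr ⟨_, hsep, h3⟩
    rw [hy']
    exact mul_mem (Subalgebra.algebraMap_mem _ _) hysep
  -- Step 4: the coefficients of `g` are separable
  have hw : ((Subalgebra.toSubmodule (sepSub K A)).mkQ.lTensor (MvPolynomial σ K)) g = 0 := by
    by_contra hne
    let 𝒞 := Module.Free.chooseBasis K (A ⧸ Subalgebra.toSubmodule (sepSub K A))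
    let eqv := TensorProduct.equivFinsuppOfBasisRight (M := MvPolynomial σ K) 𝒞
    have hne' : eqv (((Subalgebra.toSubmodule (sepSub K A)).mkQ.lTensor (MvPolynomial σ K)) g) ≠
        0 := fun h => hne (eqv.map_eq_zero_iff.mp h)
    obtain ⟨k, hk⟩ : ∃ k, eqv (((Subalgebra.toSubmodule (sepSub K A)).mkQ.lTensor
        (MvPolynomial σ K)) g) k ≠ 0 := by
      by_contra hall
      push Not at hall
      exact hne' (Finsupp.ext hall)
    have hclaim : ∀ (c : σ → K) (g' : MvPolynomial σ K ⊗[K] A),
        MvPolynomial.eval c (eqv (((Subalgebra.toSubmodule (sepSub K A)).mkQ.lTensor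
          (MvPolynomial σ K)) g') k) =
        𝒞.repr ((Subalgebra.toSubmodule (sepSub K A)).mkQ (eps K σ A c g')) k := by
      intro c g'
      induction g' using TensorProduct.induction_on with
      | zero => simp
      | tmul r a =>
        rw [LinearMap.lTensor_tmul, TensorProduct.equivFinsuppOfBasisRight_apply_tmul_apply,
          MvPolynomial.smul_eval, eps_tmul, map_smul, map_smul, Finsupp.smul_apply, smul_eq_mul,
          mul_comm]
      | add x y ihx ihy =>
        simp only [map_add, Finsupp.add_apply, ihx, ihy]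
    have hzero : eqv (((Subalgebra.toSubmodule (sepSub K A)).mkQ.lTensor
        (MvPolynomial σ K)) g) k * s * s' = 0 := by
      apply MvPolynomial.funext
      intro c
      rw [map_mul, map_mul, map_zero]
      by_cases hsc : MvPolynomial.eval c s = 0
      · rw [hsc, mul_zero, zero_mul]
      by_cases hs'c : MvPolynomial.eval c s' = 0
      · rw [hs'c, mul_zero]
      have h1 := hspec c hsc hs'c
      have hq0 : (Subalgebra.toSubmodule (sepSub K A)).mkQ (eps K σ A c g) = 0 := by
        rw [Submodule.mkQ_apply, Submodule.Quotient.mk_eq_zero]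
        exact h1
      rw [hclaim c g, hq0, map_zero, Finsupp.zero_apply, zero_mul, zero_mul]
    exact hk ((mul_eq_zero.mp ((mul_eq_zero.mp hzero).resolve_right hs')).resolve_right hs)
  have hgker : g ∈ LinearMap.ker
      ((Subalgebra.toSubmodule (sepSub K A)).mkQ.lTensor (MvPolynomial σ K)) := hw
  rw [lTensor_mkQ] at hgker
  obtain ⟨v, hv⟩ := hgker
  have hιT : ∀ v : MvPolynomial σ K ⊗[K] (Subalgebra.toSubmodule (sepSub K A)),
      ι ((Subalgebra.toSubmodule (sepSub K A)).subtype.lTensor (MvPolynomial σ K) v) ∈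
        T K F A := by
    intro v
    induction v using TensorProduct.induction_on with
    | zero => rw [map_zero, map_zero]; exact zero_mem _
    | tmul r s₀ =>
      rw [LinearMap.lTensor_tmul, hιdef, iotaRA_tmul]
      exact tmul_mem_T K F A _ s₀.2
    | add x y ihx ihy =>
      rw [map_add, map_add]
      exact add_mem ihx ihy
  have hsx : eF s * x ∈ T K F A := by
    rw [hg, ← hv]
    exact hιT v
  have hsF : algebraMap (MvPolynomial σ K) F s ≠ 0 := fun h =>
    hs (IsFractionRing.injective (MvPolynomial σ K) F (by rw [h, map_zero]))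
  have hxeq : x = (algebraMap (MvPolynomial σ K) F s)⁻¹ • (eF s * x) := by
    rw [Algebra.smul_def, ← mul_assoc]
    have h1 : algebraMap F (F ⊗[K] A) (algebraMap (MvPolynomial σ K) F s)⁻¹ * eF s = 1 := by
      show algebraMap F (F ⊗[K] A) (algebraMap (MvPolynomial σ K) F s)⁻¹ *
        algebraMap F (F ⊗[K] A) (algebraMap (MvPolynomial σ K) F s) = 1
      rw [← map_mul, inv_mul_cancel₀ hsF, map_one]
    rw [h1, one_mul]
  rw [hxeq]
  exact Subalgebra.smul_mem _ hsx _


section general

/-- Base change along an arbitrary extension of an infinite field. -/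
theorem good_of_infinite (K Ω : Type u) [Field K] [Infinite K] [Field Ω] [Algebra K Ω]
    (B : Type u) [CommRing B] [Algebra K B] : Good K Ω B := by
  classical
  obtain ⟨s, hs⟩ := exists_isTranscendenceBasis K Ω
  have hinj : Function.Injective
      (MvPolynomial.aeval ((↑) : s → Ω) : MvPolynomial s K →ₐ[K] Ω) :=
    algebraicIndependent_iff_injective_aeval.2 hs.1
  letI algRΩ : Algebra (MvPolynomial s K) Ω :=
    (MvPolynomial.aeval ((↑) : s → Ω) : MvPolynomial s K →ₐ[K] Ω).toRingHom.toAlgebra
  haveI tow1 : IsScalarTower K (MvPolynomial s K) Ω := IsScalarTower.of_algebraMap_eq (fun k => by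
    show _ = MvPolynomial.aeval ((↑) : s → Ω) (algebraMap K (MvPolynomial s K) k)
    rw [AlgHom.commutes])
  have hinj' : Function.Injective (algebraMap (MvPolynomial s K) Ω) := hinj
  letI algFΩ : Algebra (FractionRing (MvPolynomial s K)) Ω :=
    (IsFractionRing.lift (K := FractionRing (MvPolynomial s K)) hinj').toAlgebra
  haveI tow2 : IsScalarTower (MvPolynomial s K) (FractionRing (MvPolynomial s K)) Ω :=
    IsScalarTower.of_algebraMap_eq (fun r => (IsFractionRing.lift_algebraMap hinj' r).symm)
  haveI tow3 : IsScalarTower K (FractionRing (MvPolynomial s K)) Ω :=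
    IsScalarTower.of_algebraMap_eq (fun k => by
      rw [IsScalarTower.algebraMap_apply K (MvPolynomial s K) (FractionRing (MvPolynomial s K)),
        ← IsScalarTower.algebraMap_apply (MvPolynomial s K) (FractionRing (MvPolynomial s K)) Ω,
        ← IsScalarTower.algebraMap_apply K (MvPolynomial s K) Ω])
  haveI alg1 : Algebra.IsAlgebraic (MvPolynomial s K) Ω := by
    haveI := hs.isAlgebraic
    let f : MvPolynomial s K →+* Algebra.adjoin K (Set.range ((↑) : s → Ω)) :=
      ((MvPolynomial.aeval ((↑) : s → Ω) : MvPolynomial s K →ₐ[K] Ω).codRestrict _ (fun p => by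
        rw [Algebra.adjoin_range_eq_range_aeval]
        exact ⟨p, rfl⟩)).toRingHom
    have hf : Function.Surjective f := by
      rintro ⟨y, hy⟩
      have hy' := hy
      rw [Algebra.adjoin_range_eq_range_aeval] at hy'
      obtain ⟨p, hp⟩ := hy'
      exact ⟨p, Subtype.ext hp⟩
    exact Algebra.IsAlgebraic.of_ringHom_of_comp_eq f (RingHom.id Ω) hf Function.injective_id
      (by ext <;> rfl)
  haveI alg2 : Algebra.IsAlgebraic (FractionRing (MvPolynomial s K)) Ω :=
    Algebra.IsAlgebraic.extendScalars (R := MvPolynomial s K)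
      (IsFractionRing.injective (MvPolynomial s K) (FractionRing (MvPolynomial s K)))
  have h2 : Good K (FractionRing (MvPolynomial s K)) B :=
    good_transc K s B (FractionRing (MvPolynomial s K))
  have h3 := good_algebraic (FractionRing (MvPolynomial s K)) Ω
    (FractionRing (MvPolynomial s K) ⊗[K] B)
  exact good_trans K (FractionRing (MvPolynomial s K)) B Ω h2 h3

/-- Base change of separable elements along an arbitrary field extension. -/
theorem good_all (K L : Type u) [Field K] [Field L] [Algebra K L] (A : Type u) [CommRing A]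
    [Algebra K A] : Good K L A := by
  classical
  apply good_descent K L A (AlgebraicClosure L)
  have h1 : Good K (algebraicClosure K (AlgebraicClosure L)) A :=
    good_algebraic K (algebraicClosure K (AlgebraicClosure L)) A
  haveI : IsAlgClosure K (algebraicClosure K (AlgebraicClosure L)) :=
    algebraicClosure.isAlgClosure K (AlgebraicClosure L)
  haveI : IsAlgClosed (algebraicClosure K (AlgebraicClosure L)) := IsAlgClosure.isAlgClosed K
  haveI : Infinite (algebraicClosure K (AlgebraicClosure L)) := inferInstance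
  have h4 := good_of_infinite (algebraicClosure K (AlgebraicClosure L)) (AlgebraicClosure L)
    ((algebraicClosure K (AlgebraicClosure L)) ⊗[K] A)
  exact good_trans K (algebraicClosure K (AlgebraicClosure L)) A (AlgebraicClosure L) h1 h4

/-- The separable elements of `L ⊗ A` are generated by those of `A`. -/
theorem sepSub_baseChange (K L : Type u) [Field K] [Field L] [Algebra K L] (A : Type u)
    [CommRing A] [Algebra K A] :
    sepSub L (L ⊗[K] A) = Algebra.adjoin L
      ((Algebra.TensorProduct.includeRight : A →ₐ[K] L ⊗[K] A) '' (sepSub K A : Set A)) := by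
  rw [adjoin_eq_T]
  exact le_antisymm (good_all K L A) (T_le_sepSub K L A)

end general

end Groth.Agent.H10.WEtBC
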