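-- Fibres of weakly etale ring maps: residue field extensions are separable algebraic, fibres are
-- reduced of dimension zero.
import Groth.Agent.H10.WEtField
import Mathlib.RingTheory.LocalRing.ResidueField.Fiber
import Mathlib.RingTheory.KrullDimension.Basic
import Mathlib.RingTheory.HopkinsLevitzki

set_option autoImplicit false
universe u

namespace Groth.Agent.H10.WEtField

open TensorProduct Polynomial

/-- Let `A → B` be weakly etale, `k` a field over `A` and `l` a field over `k` and `B`, generated as
a field by the image of `B`. Then `l` is separable algebraic over `k`. -/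
theorem isSeparable_of_weaklyEtale_of_fractions {A B k l : Type u} [CommRing A] [CommRing B]
    [Field k] [Field l] [Algebra A B] [Algebra A k] [Algebra k l] [Algebra B l] [Algebra A l]
    [IsScalarTower A k l] [IsScalarTower A B l] [Algebra.WeaklyEtale A B]
    (hfrac : ∀ z : l, ∃ b s : B, z = algebraMap B l b / algebraMap B l s) :
    Algebra.IsSeparable k l := by
  let F := k ⊗[A] B
  have hF : Algebra.WeaklyEtale k F := inferInstance
  let ψ : F →ₐ[k] l :=
    Algebra.TensorProduct.productLeftAlgHom (Algebra.ofId k l) (IsScalarTower.toAlgHom A B l)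
  have hB : ∀ b : B, IsSeparable k (algebraMap B l b) := by
    intro b
    have h := isSeparable_map ψ (isSeparable_of_weaklyEtale (K := k) ((1 : k) ⊗ₜ[A] b : F))
    have e1 : ψ ((1 : k) ⊗ₜ[A] b) = algebraMap B l b := by
      show Algebra.TensorProduct.lift (Algebra.ofId k l) (IsScalarTower.toAlgHom A B l)
        (fun _ _ => Commute.all _ _) ((1 : k) ⊗ₜ[A] b) = algebraMap B l b
      rw [Algebra.TensorProduct.lift_tmul, map_one, one_mul]
      rfl
    rwa [e1] at h
  refine ⟨fun z => ?_⟩
  obtain ⟨b, s, rfl⟩ := hfrac z
  rw [← mem_separableClosure_iff]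
  exact div_mem (mem_separableClosure_iff.mpr (hB b)) (mem_separableClosure_iff.mpr (hB s))

/-- An algebra integral over a field has Krull dimension at most zero. -/
theorem krullDimLE_zero_of_isIntegral {K F : Type*} [Field K] [CommRing F] [Algebra K F]
    (h : ∀ x : F, IsIntegral K x) : Ring.KrullDimLE 0 F := by
  rw [Ring.krullDimLE_zero_iff]
  intro I hI
  have hint : Algebra.IsIntegral K (F ⧸ I) := ⟨fun x => by
    obtain ⟨y, rfl⟩ := Ideal.Quotient.mk_surjective x
    exact (h y).map (Ideal.Quotient.mkₐ K I)⟩
  have hfield : IsField (F ⧸ I) := isField_of_isIntegral_of_isField' (Field.toIsField K)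
  exact Ideal.Quotient.maximal_of_isField I hfield

section Fibre

variable {A B : Type u} [CommRing A] [CommRing B] [Algebra A B] [Algebra.WeaklyEtale A B]
  (p : Ideal A) [p.IsPrime]

theorem isSeparable_fiber (x : p.Fiber B) : IsSeparable p.ResidueField x :=
  isSeparable_of_weaklyEtale (K := p.ResidueField) x

theorem isReduced_fiber : IsReduced (p.Fiber B) :=
  Groth.Agent.S7128.result p.ResidueField (p.Fiber B)

theorem krullDimLE_zero_fiber : Ring.KrullDimLE 0 (p.Fiber B) :=
  krullDimLE_zero_of_isIntegral fun x => (isSeparable_fiber p x).isIntegral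

attribute [local instance] Algebra.TensorProduct.rightAlgebra in
theorem isNoetherianRing_fiber [IsNoetherianRing B] : IsNoetherianRing (p.Fiber B) :=
  isNoetherianRing_of_ringEquiv _ (Ideal.Fiber.algEquivQuotient p (S := B)).symm.toRingEquiv

theorem finite_primesOver [IsNoetherianRing B] : Finite (p.primesOver B) := by
  have hN : IsNoetherianRing (p.Fiber B) := isNoetherianRing_fiber p
  have hdim : Ring.KrullDimLE 0 (p.Fiber B) := krullDimLE_zero_fiber p
  have hArt : IsArtinianRing (p.Fiber B) := isArtinianRing_iff_krullDimLE_zero.mpr hdim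
  exact Finite.of_equiv _ (PrimeSpectrum.primesOverOrderIsoFiber A B p).symm.toEquiv

theorem isSeparable_residueField (q : Ideal B) [q.IsPrime] [q.LiesOver p] :
    @Algebra.IsSeparable p.ResidueField q.ResidueField _ _
      (Ideal.ResidueField.mapₐ p q (Algebra.ofId A B) (q.over_def p)).toRingHom.toAlgebra := by
  let alg : Algebra p.ResidueField q.ResidueField :=
    (Ideal.ResidueField.mapₐ p q (Algebra.ofId A B) (q.over_def p)).toRingHom.toAlgebra
  have tower : IsScalarTower A p.ResidueField q.ResidueField :=
    IsScalarTower.of_algebraMap_eq fun a =>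
      ((Ideal.ResidueField.mapₐ p q (Algebra.ofId A B) (q.over_def p)).commutes a).symm
  apply isSeparable_of_weaklyEtale_of_fractions (A := A) (B := B)
  intro z
  obtain ⟨x, y, _, rfl⟩ := IsFractionRing.div_surjective (A := B ⧸ q) z
  obtain ⟨b, rfl⟩ := Ideal.Quotient.mk_surjective x
  obtain ⟨s, rfl⟩ := Ideal.Quotient.mk_surjective y
  refine ⟨b, s, ?_⟩
  rw [← Ideal.Quotient.algebraMap_eq, ← IsScalarTower.algebraMap_apply,
    ← IsScalarTower.algebraMap_apply]

end Fibre

end Groth.Agent.H10.WEtField
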