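-- Weakly etale algebras over a field: finitely generated subalgebras are etale, and the algebra is
-- the filtered colimit of its finitely generated subalgebras (so it is ind-etale).
import Groth.Agent.H10.WEtSub
import Groth.Prelude.Def_PBC
import Mathlib.RingTheory.Smooth.Fiber
import Mathlib.RingTheory.FinitePresentation
import Mathlib.CategoryTheory.Filtered.Basic

set_option autoImplicit false
universe u

namespace Groth.Agent.H10.WEtField

open TensorProduct Polynomial

/-- If the multiplication map `S ⊗[R] S → S` is flat, then `S` is formally unramified over `R`. -/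
theorem formallyUnramified_of_weaklyEtale (R S : Type*) [CommRing R] [CommRing S] [Algebra R S]
    [Algebra.WeaklyEtale R S] : Algebra.FormallyUnramified R S := by
  have h := Algebra.WeaklyEtale.flat_lmul' R S
  set F := (Algebra.TensorProduct.lmul' R (S := S)).toRingHom with hF
  have hsurj : Function.Surjective F := fun x ↦ ⟨x ⊗ₜ 1, by simp [F]⟩
  let _ : Algebra (S ⊗[R] S) S := F.toAlgebra
  have hflat : Module.Flat (S ⊗[R] S) S := h
  have hsurj' : Function.Surjective (Algebra.ofId (S ⊗[R] S) S) := hsurj
  let e := Ideal.quotientKerAlgEquivOfSurjective hsurj'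
  have hker : RingHom.ker (Algebra.ofId (S ⊗[R] S) S) = KaehlerDifferential.ideal R S := by
    ext x
    rfl
  have hflat2 : Module.Flat (S ⊗[R] S) ((S ⊗[R] S) ⧸ RingHom.ker (Algebra.ofId (S ⊗[R] S) S)) :=
    Module.Flat.of_linearEquiv e.toLinearEquiv
  rw [hker] at hflat2
  have hpure : (KaehlerDifferential.ideal R S).Pure := hflat2
  have hidem := Ideal.isIdempotentElem_of_pure (KaehlerDifferential.ideal R S)
  exact ⟨(Ideal.cotangent_subsingleton_iff _).mpr hidem⟩

section

variable {K B : Type u} [Field K] [CommRing B] [Algebra K B]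

theorem weaklyEtale_subalgebra [Algebra.WeaklyEtale K B] (S : Subalgebra K B) :
    Algebra.WeaklyEtale K S :=
  weaklyEtale_of_isSeparable fun s =>
    isSeparable_of_injective S.val (fun _ _ h => Subtype.ext h)
      (isSeparable_of_weaklyEtale (K := K) (S.val s))

/-- A finitely generated subalgebra of a weakly etale algebra over a field is etale. -/
theorem etale_of_fg [Algebra.WeaklyEtale K B] (S : Subalgebra K B) (hS : S.FG) :
    Algebra.Etale K S := by
  have hwe : Algebra.WeaklyEtale K S := weaklyEtale_subalgebra S
  have hun : Algebra.FormallyUnramified K S := formallyUnramified_of_weaklyEtale K S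
  have hft : Algebra.FiniteType K S := (Subalgebra.fg_iff_finiteType S).mp hS
  have hfp : Algebra.FinitePresentation K S := Algebra.FinitePresentation.of_finiteType.mp hft
  exact Algebra.Etale.of_formallyUnramified_of_flat

end

namespace IndEt

open CategoryTheory Limits

variable (K B : Type u) [Field K] [CommRing B] [Algebra K B]

/-- Finitely generated subalgebras. -/
abbrev FGSub : Type u := {S : Subalgebra K B // S.FG}

instance : IsDirected (FGSub K B) (· ≤ ·) :=
  ⟨fun S T => ⟨⟨S.1 ⊔ T.1, S.2.sup T.2⟩, show S.1 ≤ S.1 ⊔ T.1 from le_sup_left,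
    show T.1 ≤ S.1 ⊔ T.1 from le_sup_right⟩⟩

instance : Nonempty (FGSub K B) := ⟨⟨⊥, Subalgebra.fg_bot⟩⟩

/-- The diagram of finitely generated subalgebras. -/
noncomputable def diag : FGSub K B ⥤ Under (CommRingCat.of K) where
  obj S := Under.mk (CommRingCat.ofHom (algebraMap K S.1))
  map {S T} h := Under.homMk
    (CommRingCat.ofHom (Subalgebra.inclusion (show S.1 ≤ T.1 from leOfHom h)).toRingHom)
    (by ext r; rfl)
  map_id S := by ext x; rfl
  map_comp f g := by ext x; rfl

/-- The cocone with vertex `B`. -/
noncomputable def cocone : Cocone (diag K B) where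
  pt := Under.mk (CommRingCat.ofHom (algebraMap K B))
  ι :=
    { app := fun S => Under.homMk (CommRingCat.ofHom S.1.val.toRingHom) (by ext r; rfl)
      naturality := fun S T h => by ext x; rfl }

variable {K B}

section Desc

variable (s : Cocone (diag K B))

/-- The component ring maps of a cocone. -/
noncomputable def comp (S : FGSub K B) : S.1 →+* s.pt.right := (s.ι.app S).right.hom

theorem comp_compat {S T : FGSub K B} (h : S ≤ T) (x : S.1) :
    comp s T (Subalgebra.inclusion (show S.1 ≤ T.1 from h) x) = comp s S x := by
  have h1 := s.ι.naturality (homOfLE h)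
  have h2 := congrArg (fun m => m.right.hom x) h1
  exact h2

/-- The subalgebra generated by one element. -/
noncomputable def sing (b : B) : FGSub K B :=
  ⟨Algebra.adjoin K {b}, Subalgebra.fg_def.mpr ⟨{b}, Set.finite_singleton b, rfl⟩⟩

theorem mem_sing (b : B) : b ∈ (sing (K := K) b).1 := Algebra.self_mem_adjoin_singleton K b

/-- The descent map, as a function. -/
noncomputable def descFun (b : B) : s.pt.right := comp s (sing b) ⟨b, mem_sing b⟩

theorem descFun_eq (S : FGSub K B) (b : B) (hb : b ∈ S.1) :
    descFun s b = comp s S ⟨b, hb⟩ := by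
  let T : FGSub K B := ⟨S.1 ⊔ (sing (K := K) b).1, S.2.sup (sing (K := K) b).2⟩
  have h1 : sing (K := K) b ≤ T := (le_sup_right : (sing (K := K) b).1 ≤ S.1 ⊔ (sing b).1)
  have h2 : S ≤ T := (le_sup_left : S.1 ≤ S.1 ⊔ (sing (K := K) b).1)
  rw [descFun, ← comp_compat s h1, ← comp_compat s h2]
  rfl

/-- The pair subalgebra. -/
noncomputable def pair (a b : B) : FGSub K B :=
  ⟨Algebra.adjoin K {a, b}, Subalgebra.fg_def.mpr ⟨{a, b}, Set.toFinite _, rfl⟩⟩

theorem left_mem_pair (a b : B) : a ∈ (pair (K := K) a b).1 :=
  Algebra.subset_adjoin (by simp)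

theorem right_mem_pair (a b : B) : b ∈ (pair (K := K) a b).1 :=
  Algebra.subset_adjoin (by simp)

/-- The descent map as a ring hom. -/
noncomputable def descHom : B →+* s.pt.right where
  toFun := descFun s
  map_one' := by
    rw [descFun_eq s (sing 1) 1 (one_mem _)]
    exact map_one (comp s _)
  map_mul' a b := by
    have ha := left_mem_pair (K := K) a b
    have hb := right_mem_pair (K := K) a b
    rw [descFun_eq s (pair a b) (a * b) (mul_mem ha hb), descFun_eq s (pair a b) a ha,
      descFun_eq s (pair a b) b hb, ← map_mul]
    rfl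
  map_zero' := by
    rw [descFun_eq s (sing 0) 0 (zero_mem _)]
    exact map_zero (comp s _)
  map_add' a b := by
    have ha := left_mem_pair (K := K) a b
    have hb := right_mem_pair (K := K) a b
    rw [descFun_eq s (pair a b) (a + b) (add_mem ha hb), descFun_eq s (pair a b) a ha,
      descFun_eq s (pair a b) b hb, ← map_add]
    rfl

theorem descHom_algebraMap (r : K) : descHom s (algebraMap K B r) = s.pt.hom.hom r := by
  show descFun s (algebraMap K B r) = s.pt.hom.hom r
  rw [descFun_eq s (sing 0) _ (Subalgebra.algebraMap_mem _ r)]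
  have h1 := Under.w (s.ι.app (sing (K := K) 0))
  have h2 := congrArg (fun m => m.hom r) h1
  exact h2

end Desc

variable (K B)

/-- `B` is the colimit of its finitely generated subalgebras. -/
noncomputable def isColimit : IsColimit (cocone K B) where
  desc s := Under.homMk (CommRingCat.ofHom (descHom s)) (by
    ext r
    exact descHom_algebraMap s r)
  fac s S := by
    ext x
    change S.1 at x
    exact descFun_eq s S x.1 x.2
  uniq s m hm := by
    ext b
    change B at b
    have h1 := congrArg (fun t => t.right.hom ⟨b, mem_sing (K := K) b⟩) (hm (sing b))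
    exact h1

/-- An algebra all of whose finitely generated subalgebras are etale is ind-etale. -/
theorem isIndEtale_of_forall_fg_etale
    (h : ∀ S : Subalgebra K B, S.FG → Algebra.Etale K S) : EtPBC.IsIndEtale K B := by
  refine ⟨FGSub K B, inferInstance, inferInstance, diag K B, cocone K B, isColimit K B,
    fun S => ?_, ⟨Iso.refl _⟩⟩
  exact RingHom.etale_algebraMap.mpr (h S.1 S.2)

end IndEt

/-- A weakly etale algebra over a field is ind-etale. -/
theorem isIndEtale_of_weaklyEtale {K B : Type u} [Field K] [CommRing B] [Algebra K B]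
    [Algebra.WeaklyEtale K B] : EtPBC.IsIndEtale K B :=
  IndEt.isIndEtale_of_forall_fg_etale K B fun S hS => etale_of_fg S hS

end Groth.Agent.H10.WEtField
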