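-- Further properties of the subalgebra of separable elements (the largest weakly etale subalgebra):
-- compatibility with subalgebras, with the reduction, and the connected case.
import Groth.Agent.H10.WEtSub
import Mathlib.RingTheory.Smooth.Basic
import Mathlib.RingTheory.Nilpotent.Lemmas

set_option autoImplicit false
universe u

namespace Groth.Agent.H10.WEtField

open TensorProduct Polynomial

section

variable {K A : Type u} [Field K] [CommRing A] [Algebra K A]

theorem sepSub_map_val (A' : Subalgebra K A) :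
    (sepSub K A').map A'.val = sepSub K A ⊓ A' := by
  ext a
  rw [Subalgebra.mem_map, Algebra.mem_inf]
  constructor
  · rintro ⟨x, hx, rfl⟩
    exact ⟨mem_sepSub.mpr (isSeparable_map A'.val (mem_sepSub.mp hx)), x.2⟩
  · rintro ⟨ha, ha'⟩
    refine ⟨⟨a, ha'⟩, mem_sepSub.mpr ?_, rfl⟩
    exact isSeparable_of_injective A'.val (fun _ _ h => Subtype.ext h) (mem_sepSub.mp ha)

instance isReduced_sepSub : IsReduced (sepSub K A) := Groth.Agent.S7128.result K (sepSub K A)

theorem eq_zero_of_isSeparable_of_isNilpotent {a : A} (ha : IsSeparable K a)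
    (hn : IsNilpotent a) : a = 0 := by
  have h1 : IsNilpotent (⟨a, ha⟩ : sepSub K A) := by
    obtain ⟨n, hn⟩ := hn
    exact ⟨n, Subtype.ext (by simpa using hn)⟩
  have h0 := IsReduced.eq_zero _ h1
  exact congrArg Subtype.val h0

theorem exists_lift_isSeparable (y : A ⧸ nilradical A) (hy : IsSeparable K y) :
    ∃ a : A, IsSeparable K a ∧ Ideal.Quotient.mk (nilradical A) a = y := by
  obtain ⟨y₀, rfl⟩ := Ideal.Quotient.mk_surjective y
  let P := sepPair _ hy
  let Q := minpoly K (Ideal.Quotient.mk (nilradical A) y₀)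
  have hQ : IsNilpotent (aeval y₀ Q) := by
    have h1 : Ideal.Quotient.mk (nilradical A) (aeval y₀ Q) = 0 := by
      have h2 := minpoly.aeval K (Ideal.Quotient.mk (nilradical A) y₀)
      rw [← Ideal.Quotient.mkₐ_eq_mk K, aeval_algHom_apply] at h2
      exact h2
    rw [Ideal.Quotient.eq_zero_iff_mem] at h1
    exact mem_nilradical.mp h1
  let J : Ideal A := Ideal.span {aeval y₀ Q}
  have hJnil : IsNilpotent J := by
    obtain ⟨n, hn⟩ := hQ
    refine ⟨n, ?_⟩
    rw [Ideal.span_singleton_pow, hn, Ideal.zero_eq_bot, Ideal.span_singleton_eq_bot]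
  let g : A →ₐ[K] A ⧸ J := Ideal.Quotient.mkₐ K J
  have hg : Function.Surjective g := Ideal.Quotient.mkₐ_surjective K J
  have hker : IsNilpotent (RingHom.ker (g : A →+* A ⧸ J)) := by
    have h3 : RingHom.ker (g : A →+* A ⧸ J) = J := Ideal.mk_ker
    rw [h3]
    exact hJnil
  have hmap : P.HasMap (g y₀) := by
    refine ⟨?_, by simp [P, sepPair]⟩
    show aeval (g y₀) Q = 0
    rw [aeval_algHom_apply]
    exact Ideal.Quotient.eq_zero_iff_mem.mpr (Ideal.subset_span rfl)
  let f : P.Ring →ₐ[K] A ⧸ J := P.lift (g y₀) hmap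
  let φ : P.Ring →ₐ[K] A := Algebra.FormallySmooth.liftOfSurjective f g hg hker
  have hφ : g (φ P.X) = g y₀ := by
    rw [Algebra.FormallySmooth.liftOfSurjective_apply]
    exact P.lift_X _ hmap
  refine ⟨φ P.X, isSeparable_map φ (isSeparable_of_weaklyEtale (K := K) P.X), ?_⟩
  have h1 : φ P.X - y₀ ∈ J := by
    rw [← Ideal.Quotient.eq]
    exact hφ
  have hJle : J ≤ nilradical A := by
    rw [Ideal.span_le, Set.singleton_subset_iff]
    exact mem_nilradical.mpr hQ
  exact Ideal.Quotient.eq.mpr (hJle h1)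

theorem bijOn_sepSub :
    Set.BijOn (Ideal.Quotient.mkₐ K (nilradical A)) (sepSub K A)
      (sepSub K (A ⧸ nilradical A)) := by
  refine ⟨?_, ?_, ?_⟩
  · intro a ha
    exact mem_sepSub.mpr (isSeparable_map (Ideal.Quotient.mkₐ K (nilradical A)) (mem_sepSub.mp ha))
  · intro a ha c hc hac
    have hsub : a - c ∈ sepSub K A := sub_mem ha hc
    have hnil : IsNilpotent (a - c) := by
      rw [← mem_nilradical, ← Ideal.Quotient.eq]
      exact hac
    exact sub_eq_zero.mp (eq_zero_of_isSeparable_of_isNilpotent (mem_sepSub.mp hsub) hnil)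
  · intro y hy
    obtain ⟨a, ha, hay⟩ := exists_lift_isSeparable y (mem_sepSub.mp hy)
    exact ⟨a, mem_sepSub.mpr ha, hay⟩

end

theorem exists_eq_sq_mul {K : Type*} [Field K] {S : Type*} [CommRing S] [Algebra K S]
    [IsReduced S] (x : S) (hx : IsIntegral K x) : ∃ u : S, x = x * x * u := by
  set Q := minpoly K x with hQdef
  have hQ0 : Q ≠ 0 := minpoly.ne_zero hx
  obtain ⟨R, hR, hndvd⟩ := Polynomial.exists_eq_pow_rootMultiplicity_mul_and_not_dvd Q hQ0 0
  set k := Q.rootMultiplicity 0
  rw [C_0, sub_zero] at hR hndvd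
  have hr0 : R.coeff 0 ≠ 0 := fun h => hndvd (Polynomial.X_dvd_iff.mpr h)
  have hxQ : x ^ k * aeval x R = 0 := by
    have h1 := minpoly.aeval K x
    rw [← hQdef, hR, map_mul, map_pow, aeval_X] at h1
    exact h1
  have hw : x * aeval x R = 0 := by
    apply IsReduced.eq_zero
    refine ⟨k + 1, ?_⟩
    calc (x * aeval x R) ^ (k + 1) = x * (x ^ k * aeval x R) * (aeval x R) ^ k := by ring
      _ = 0 := by rw [hxQ, mul_zero, zero_mul]
  have hRdecomp : aeval x R = aeval x R.divX * x + algebraMap K S (R.coeff 0) := by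
    conv_lhs => rw [← Polynomial.divX_mul_X_add R]
    simp
  set D := aeval x R.divX
  set c := algebraMap K S (R.coeff 0)
  set c' := algebraMap K S (R.coeff 0)⁻¹
  have hcc : c * c' = 1 := by
    rw [← map_mul, mul_inv_cancel₀ hr0, map_one]
  refine ⟨-(D * c'), ?_⟩
  have h1 : x * c = -(x * x * D) := by
    have h2 : x * (D * x + c) = 0 := by
      rw [← hRdecomp]
      exact hw
    linear_combination h2
  calc x = x * c * c' := by rw [mul_assoc, hcc, mul_one]
    _ = x * x * (-(D * c')) := by rw [h1]; ring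

section

variable {K A : Type u} [Field K] [CommRing A] [Algebra K A]

theorem isField_sepSub (hconn : ∀ e : A, IsIdempotentElem e → e = 0 ∨ e = 1) [Nontrivial A] :
    IsField (sepSub K A) := by
  refine ⟨⟨0, 1, fun h => zero_ne_one (α := A) (congrArg Subtype.val h)⟩, mul_comm, ?_⟩
  intro x hx
  obtain ⟨u, hu⟩ := exists_eq_sq_mul (K := K) x (isSeparable_sepSub x).isIntegral
  have he : IsIdempotentElem (x * u) := by
    show x * u * (x * u) = x * u
    calc x * u * (x * u) = (x * x * u) * u := by ring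
      _ = x * u := by rw [← hu]
  have he' : IsIdempotentElem ((x * u : sepSub K A) : A) := by
    have h1 := congrArg Subtype.val he
    exact h1
  rcases hconn _ he' with h0 | h1
  · exfalso
    apply hx
    have h2 : x * u = 0 := Subtype.ext h0
    calc x = x * x * u := hu
      _ = x * (x * u) := by ring
      _ = 0 := by rw [h2, mul_zero]
  · exact ⟨u, Subtype.ext h1⟩

end

end Groth.Agent.H10.WEtField
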