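-- The largest finite etale subalgebra of a subalgebra of a finite type algebra over a field, and
-- connected components.
import Groth.Agent.H10.WEtMax
import Groth.Agent.H10.WEtInd
import Groth.Agent.H10.WEtFibre
import Mathlib.RingTheory.Jacobson.Ring
import Mathlib.RingTheory.Spectrum.Prime.Topology
import Mathlib.RingTheory.Ideal.MinimalPrime.Localization
import Mathlib.RingTheory.Ideal.MinimalPrime.Noetherian
import Mathlib.Topology.Connected.TotallyDisconnected

set_option autoImplicit false
universe u

namespace Groth.Agent.H10.WEtField

open TensorProduct Polynomial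

section Topology

/-- In a space with finitely many irreducible components, connected components are open. -/
theorem isOpen_connectedComponent_of_finite {X : Type*} [TopologicalSpace X]
    (h : (irreducibleComponents X).Finite) (x : X) : IsOpen (connectedComponent x) := by
  rw [← isClosed_compl_iff]
  have heq : (connectedComponent x)ᶜ =
      ⋃ Z ∈ {Z ∈ irreducibleComponents X | ¬ Z ⊆ connectedComponent x}, Z := by
    ext y
    simp only [Set.mem_compl_iff, Set.mem_iUnion, Set.mem_ofPred_eq, exists_prop]
    constructor
    · intro hy
      have hy' : y ∈ ⋃₀ irreducibleComponents X := by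
        rw [sUnion_irreducibleComponents]
        trivial
      obtain ⟨Z, hZ, hyZ⟩ := hy'
      exact ⟨Z, ⟨hZ, fun hsub => hy (hsub hyZ)⟩, hyZ⟩
    · rintro ⟨Z, ⟨hZ, hnsub⟩, hyZ⟩ hyC
      apply hnsub
      have hpre : IsPreconnected Z := hZ.1.2.isPreconnected
      have h1 := hpre.subset_connectedComponent hyZ
      rwa [← connectedComponent_eq hyC] at h1
  rw [heq]
  exact (h.subset (fun Z hZ => hZ.1)).isClosed_biUnion fun Z hZ =>
    isClosed_of_mem_irreducibleComponents Z hZ.1

theorem finite_irreducibleComponents_of_finite_minimalPrimes {R : Type*} [CommRing R]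
    (h : (minimalPrimes R).Finite) : (irreducibleComponents (PrimeSpectrum R)).Finite := by
  rw [← PrimeSpectrum.zeroLocus_minimalPrimes]
  exact h.image _

theorem finite_minimalPrimes_of_injective {R S : Type*} [CommRing R] [CommRing S] (f : R →+* S)
    (hf : Function.Injective f) (hS : (minimalPrimes S).Finite) : (minimalPrimes R).Finite := by
  have hsub : minimalPrimes R ⊆ Ideal.comap f '' minimalPrimes S := by
    have h := Ideal.minimalPrimes_comap_subset f (⊥ : Ideal S)
    rwa [Ideal.comap_bot_of_injective f hf] at h
  exact (hS.image _).subset hsub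

theorem comap_surjective_of_krullDimLE_zero {R S : Type*} [CommRing R] [CommRing S]
    [Ring.KrullDimLE 0 R] (f : R →+* S) (hf : Function.Injective f) :
    Function.Surjective (PrimeSpectrum.comap f) := by
  intro p
  obtain ⟨q, hq, hqp⟩ := Ideal.exists_comap_eq_of_mem_minimalPrimes_of_injective hf p.asIdeal
    (Ideal.mem_minimalPrimes_of_krullDimLE_zero p.asIdeal)
  exact ⟨⟨q, hq⟩, PrimeSpectrum.ext hqp⟩

end Topology

theorem isSeparable_of_isIdempotentElem {k B : Type*} [Field k] [CommRing B] [Algebra k B] {e : B}
    (he : IsIdempotentElem e) : IsSeparable k e := by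
  have hdvd : minpoly k e ∣ (X ^ 2 - X : k[X]) :=
    minpoly.dvd k e (by simp [he.eq, sq])
  have hder : derivative (X ^ 2 - X : k[X]) = 2 * X - 1 := by
    rw [derivative_sub, derivative_X_pow, derivative_X]
    simp only [Nat.cast_ofNat, Nat.add_one_sub_one, pow_one]
    rw [show (C (2 : k) : k[X]) = 2 from map_ofNat C 2]
  have hsep : (X ^ 2 - X : k[X]).Separable := by
    rw [Polynomial.separable_def, hder]
    exact ⟨-4, 2 * X - 1, by ring⟩
  exact hsep.of_dvd hdvd

section Finite

variable (k B : Type u) [Field k] [CommRing B] [Algebra k B] [Algebra.FiniteType k B]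

/-- A subalgebra of separable elements of a finite type algebra over a field is finite. -/
theorem finite_of_le_sepSub (E : Subalgebra k B) (hE : E ≤ sepSub k B) : Module.Finite k E := by
  classical
  have hN : IsNoetherianRing B := Algebra.FiniteType.isNoetherianRing k B
  have hfinmin : (minimalPrimes B).Finite := minimalPrimes.finite_of_isNoetherianRing B
  have hmax : ∀ P : minimalPrimes B, ∃ m : Ideal B, m.IsMaximal ∧ P.1 ≤ m := fun P =>
    Ideal.exists_le_maximal P.1 P.2.1.1.ne_top
  choose m hm hPm using hmax
  have hfint : Fintype (minimalPrimes B) := hfinmin.fintype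
  have hsepE : ∀ x : E, IsSeparable k x := fun x =>
    isSeparable_of_injective E.val (fun _ _ h => Subtype.ext h) (hE x.2)
  have hweE : Algebra.WeaklyEtale k E := weaklyEtale_of_isSeparable hsepE
  have hredE : IsReduced E := Groth.Agent.S7128.result k E
  let Φ : E →ₗ[k] (∀ P : minimalPrimes B, B ⧸ m P) :=
    LinearMap.pi fun P => ((Ideal.Quotient.mkₐ k (m P)).comp E.val).toLinearMap
  have hfinq : ∀ P, Module.Finite k (B ⧸ m P) := fun P => by
    have := hm P
    let _ := Ideal.Quotient.field (m P)
    exact finite_of_finite_type_of_isJacobsonRing k (B ⧸ m P)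
  have hinj : Function.Injective Φ := by
    rw [injective_iff_map_eq_zero]
    intro x hx
    have hxm : ∀ P, (x : B) ∈ m P := fun P => by
      have h1 := congrFun hx P
      exact Ideal.Quotient.eq_zero_iff_mem.mp h1
    obtain ⟨u, hu⟩ := exists_eq_sq_mul (K := k) x (hsepE x).isIntegral
    set e : E := x * u with hedef
    have he : e * e = e := by
      calc e * e = (x * x * u) * u := by rw [hedef]; ring
        _ = e := by rw [← hu]
    have heB : (e : B) * (e : B) = (e : B) := congrArg Subtype.val he
    have hem : ∀ P, (e : B) ∈ m P := fun P => by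
      show (x : B) * (u : B) ∈ m P
      exact Ideal.mul_mem_right _ _ (hxm P)
    have heP : ∀ P : minimalPrimes B, (e : B) ∈ P.1 := fun P => by
      have hprime : P.1.IsPrime := P.2.1.1
      have h0 : (e : B) * (1 - (e : B)) ∈ P.1 := by
        have h1 : (e : B) * (1 - (e : B)) = 0 := by
          rw [mul_sub, mul_one, heB, sub_self]
        rw [h1]
        exact P.1.zero_mem
      rcases hprime.mem_or_mem h0 with h | h
      · exact h
      · exfalso
        have h1 : (1 : B) ∈ m P := by
          have h2 := (m P).add_mem (hem P) (hPm P h)
          rwa [add_sub_cancel] at h2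
        exact (hm P).ne_top ((Ideal.eq_top_iff_one _).mpr h1)
    have henil : IsNilpotent (e : B) := by
      rw [← mem_nilradical, nilradical_eq_sInf, Ideal.mem_sInf]
      intro Q hQ
      have hQ' : Q.IsPrime := hQ
      obtain ⟨P, hP, hPQ⟩ := Ideal.exists_minimalPrimes_le (I := ⊥) (J := Q) bot_le
      exact hPQ (heP ⟨P, hP⟩)
    have he0 : (e : B) = 0 := by
      obtain ⟨n, hn⟩ := henil
      cases n with
      | zero =>
        rw [pow_zero] at hn
        calc (e : B) = (e : B) * 1 := (mul_one _).symm
          _ = 0 := by rw [hn, mul_zero]
      | succ n =>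
        have h1 : IsIdempotentElem (e : B) := heB
        rw [h1.pow_succ_eq] at hn
        exact hn
    have he0' : e = 0 := Subtype.ext he0
    calc x = x * x * u := hu
      _ = x * e := by rw [hedef]; ring
      _ = 0 := by rw [he0', mul_zero]
  exact Module.Finite.of_injective Φ hinj

end Finite

section Main

variable (k : Type u) [Field k] (B : Type u) [CommRing B] [Algebra k B] [Algebra.FiniteType k B]

/-- The largest finite etale subalgebra of a subalgebra of a finite type algebra, and connected
components. -/
theorem exists_largest_finite_etale (A : Subalgebra k B) :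
    ∃ (E : Subalgebra k B) (hE : E ≤ A), Module.Finite k E ∧ Algebra.Etale k E ∧
      (∀ E' : Subalgebra k B, E' ≤ A → Module.Finite k E' → Algebra.Etale k E' → E' ≤ E) ∧
      Function.Surjective (PrimeSpectrum.comap (Subalgebra.inclusion hE).toRingHom) ∧
      ∀ p q : PrimeSpectrum A, PrimeSpectrum.comap (Subalgebra.inclusion hE).toRingHom p =
          PrimeSpectrum.comap (Subalgebra.inclusion hE).toRingHom q ↔
        connectedComponent p = connectedComponent q := by
  let E : Subalgebra k B := sepSub k B ⊓ A
  have hEA : E ≤ A := inf_le_right
  have hEs : E ≤ sepSub k B := inf_le_left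
  have hfin : Module.Finite k E := finite_of_le_sepSub k B E hEs
  have hsepE : ∀ x : E, IsSeparable k x := fun x =>
    isSeparable_of_injective E.val (fun _ _ h => Subtype.ext h) (hEs x.2)
  have hweE : Algebra.WeaklyEtale k E := weaklyEtale_of_isSeparable hsepE
  have hetE : Algebra.Etale k E := by
    have hun : Algebra.FormallyUnramified k E := formallyUnramified_of_weaklyEtale k E
    have hft : Algebra.FiniteType k E := inferInstance
    have hfp : Algebra.FinitePresentation k E := Algebra.FinitePresentation.of_finiteType.mp hft
    exact Algebra.Etale.of_formallyUnramified_of_flat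
  have hdim : Ring.KrullDimLE 0 E :=
    krullDimLE_zero_of_isIntegral fun x => (hsepE x).isIntegral
  have hN : IsNoetherianRing B := Algebra.FiniteType.isNoetherianRing k B
  refine ⟨E, hEA, hfin, hetE, ?_, ?_, ?_⟩
  · intro E' hE'A _ hE'et
    have : Algebra.WeaklyEtale k E' := inferInstance
    exact le_inf (le_sepSub_of_weaklyEtale E') hE'A
  · exact comap_surjective_of_krullDimLE_zero _ (Subalgebra.inclusion_injective hEA)
  · intro p q
    constructor
    · intro hpq
      have hfinA : (irreducibleComponents (PrimeSpectrum A)).Finite :=
        finite_irreducibleComponents_of_finite_minimalPrimes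
          (finite_minimalPrimes_of_injective A.val.toRingHom Subtype.val_injective
            (minimalPrimes.finite_of_isNoetherianRing B))
      have hclopen : IsClopen (connectedComponent p) :=
        ⟨isClosed_connectedComponent, isOpen_connectedComponent_of_finite hfinA p⟩
      obtain ⟨e, he, hCe⟩ := PrimeSpectrum.isClopen_iff.mp hclopen
      have heB : IsIdempotentElem (e : B) := congrArg Subtype.val he
      have heE : (e : B) ∈ E := ⟨isSeparable_of_isIdempotentElem heB, e.2⟩
      let e₀ : E := ⟨e, heE⟩
      have he₀ : Subalgebra.inclusion hEA e₀ = e := Subtype.ext rfl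
      have hp : p ∈ connectedComponent p := mem_connectedComponent
      rw [hCe] at hp
      have hp' : e ∉ p.asIdeal := hp
      have hq : q ∈ (PrimeSpectrum.basicOpen e : Set (PrimeSpectrum A)) := by
        show e ∉ q.asIdeal
        intro hqe
        have h1 : e₀ ∈ (PrimeSpectrum.comap (Subalgebra.inclusion hEA).toRingHom q).asIdeal := by
          show Subalgebra.inclusion hEA e₀ ∈ q.asIdeal
          rw [he₀]
          exact hqe
        rw [← hpq] at h1
        have h2 : Subalgebra.inclusion hEA e₀ ∈ p.asIdeal := h1
        rw [he₀] at h2
        exact hp' h2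
      rw [← hCe] at hq
      exact connectedComponent_eq hq
    · intro hC
      have hArt : IsArtinianRing E := IsArtinianRing.of_finite k E
      have hdisc : DiscreteTopology (PrimeSpectrum E) :=
        PrimeSpectrum.discreteTopology_iff_finite_and_krullDimLE_zero.mpr ⟨inferInstance, hdim⟩
      have hcont : Continuous (PrimeSpectrum.comap (Subalgebra.inclusion hEA).toRingHom) :=
        PrimeSpectrum.continuous_comap _
      have himg := hcont.image_connectedComponent_eq_singleton p
      have hq : q ∈ connectedComponent p := by
        rw [hC]
        exact mem_connectedComponent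
      have h1 : PrimeSpectrum.comap (Subalgebra.inclusion hEA).toRingHom q ∈
          PrimeSpectrum.comap (Subalgebra.inclusion hEA).toRingHom '' connectedComponent p :=
        Set.mem_image_of_mem _ hq
      rw [himg] at h1
      exact h1.symm

end Main

end Groth.Agent.H10.WEtField
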