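import Mathlib
import Groth.Agent.H97.WI_DS
import Groth.Agent.H38.DimFibreSum

/-! (DP) of helper74's S14485 squad: dimension of the preimage of a locally closed subset under a
morphism all of whose fibres have dimension `d` (schemes locally of finite type over a field). -/

set_option autoImplicit false
universe u
open CategoryTheory CategoryTheory.Limits AlgebraicGeometry

namespace Groth.Agent.H10.WK_DP

open Groth.Agent.H54 Groth.Agent.H69.DimAffSpace Groth.Agent.H97.WI_DS Groth.Agent.H38.DimFibreSum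

/-- (L) a point of a locally closed subset has `tdeg` at most the dimension of the subset. -/
theorem tdeg_le_dim_of_isLocallyClosed {k : Type u} [Field k] {V : Scheme.{u}}
    (s : V ⟶ Spec (CommRingCat.of k)) [LocallyOfFiniteType s] (B : Set V) (hB : IsLocallyClosed B)
    (b : V) (hb : b ∈ B) : (tdeg s b : WithBot ℕ∞) ≤ topologicalKrullDim ↥B := by
  obtain ⟨U₀, Z₀, hU₀, hZ₀, rfl⟩ := hB
  refine tdeg_le_dim_of_embedding s (Subtype.val : ↥(U₀ ∩ Z₀) → V)
    Topology.IsInducing.subtypeVal ⟨b, hb⟩ ⟨U₀, hU₀⟩ hb.1 ?_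
  rintro y ⟨hy1, hy2⟩
  have hyZ : y ∈ Z₀ := (closure_minimal (Set.singleton_subset_iff.mpr hb.2) hZ₀) hy1
  exact ⟨⟨y, hy2, hyZ⟩, rfl⟩

/-- (U) a bound on `tdeg` over a locally closed subset bounds its dimension. -/
theorem dim_le_of_forall_tdeg_le {k : Type u} [Field k] {V : Scheme.{u}}
    (s : V ⟶ Spec (CommRingCat.of k)) [LocallyOfFiniteType s] (B : Set V) (hB : IsLocallyClosed B)
    (n : ℕ) (h : ∀ b ∈ B, tdeg s b ≤ n) : topologicalKrullDim ↥B ≤ n := by
  haveI : QuasiSober ↥B := H97.WI_DS.quasiSober_of_isLocallyClosed hB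
  exact topologicalKrullDim_subset_le_of_forall_tdeg_le s B n h

/-- (E) if `n ≤ dim B` then some point of `B` has `tdeg` at least `n`. -/
theorem exists_mem_le_tdeg {k : Type u} [Field k] {V : Scheme.{u}}
    (s : V ⟶ Spec (CommRingCat.of k)) [LocallyOfFiniteType s] (B : Set V) (hB : IsLocallyClosed B)
    (n : ℕ) (h : (n : WithBot ℕ∞) ≤ topologicalKrullDim ↥B) : ∃ b ∈ B, n ≤ tdeg s b := by
  by_contra hcon
  push Not at hcon
  rcases Nat.eq_zero_or_pos n with rfl | hn
  · have hne : Nonempty ↥B := by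
      by_contra hne
      rw [not_nonempty_iff] at hne
      rw [topologicalKrullDim_eq_bot_of_isEmpty] at h
      exact absurd h (by simp)
    obtain ⟨⟨b, hb⟩⟩ := hne
    exact absurd (hcon b hb) (by omega)
  · have h1 := dim_le_of_forall_tdeg_le s B hB (n - 1) (fun b hb => by
      have := hcon b hb; omega)
    have h2 := h.trans h1
    have h3 : n ≤ n - 1 := by exact_mod_cast h2
    omega

/-- (DP) -/
theorem dim_preimage_eq_add (k : Type u) [Field k] {W W' : Scheme.{u}}
    (p : W ⟶ Spec (CommRingCat.of k)) [LocallyOfFiniteType p] (h : W' ⟶ W) [LocallyOfFiniteType h]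
    (d : ℕ) (hd : ∀ w : W, topologicalKrullDim ↥(h.fiber w) = d) (A : Set W)
    (hA : IsLocallyClosed A) :
    topologicalKrullDim ↥(h.base ⁻¹' A) = topologicalKrullDim ↥A + d := by
  have hA' : IsLocallyClosed (h.base ⁻¹' A) := hA.preimage h.base.hom.continuous
  have hfib : ∀ w : W, topologicalKrullDim ↥(h.base ⁻¹' {w}) = d := fun w => by
    rw [← (h.fiberHomeo w).isHomeomorph.topologicalKrullDim_eq]
    exact hd w
  -- lower bound for every finite `n ≤ dim A`
  have hlow : ∀ n : ℕ, (n : WithBot ℕ∞) ≤ topologicalKrullDim ↥A →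
      ((n + d : ℕ) : WithBot ℕ∞) ≤ topologicalKrullDim ↥(h.base ⁻¹' A) := by
    intro n hn
    obtain ⟨a, haA, hna⟩ := exists_mem_le_tdeg p A hA n hn
    obtain ⟨w', hw', hle⟩ := exists_point_over p h d a (by rw [hfib a])
    have hmem : w' ∈ h.base ⁻¹' A := by
      change h.base w' ∈ A
      rw [hw']; exact haA
    have h1 := tdeg_le_dim_of_isLocallyClosed (h ≫ p) (h.base ⁻¹' A) hA' w' hmem
    refine le_trans ?_ h1
    have : n + d ≤ tdeg (h ≫ p) w' := by omega
    exact_mod_cast this
  rcases withBotENat_cases (topologicalKrullDim ↥A) with hdA | hdA | ⟨m, hdA⟩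
  · -- `A` empty
    have hemp : IsEmpty ↥A := isEmpty_of_topologicalKrullDim_eq_bot hdA
    haveI : IsEmpty ↥(h.base ⁻¹' A) := ⟨fun b => hemp.false ⟨h.base b.1, b.2⟩⟩
    rw [hdA, topologicalKrullDim_eq_bot_of_isEmpty, WithBot.bot_add]
  · -- `dim A = ⊤`
    rw [hdA]
    have htop : ∀ n : ℕ, ((n + d : ℕ) : WithBot ℕ∞) ≤ topologicalKrullDim ↥(h.base ⁻¹' A) :=
      fun n => hlow n (by rw [hdA]; exact le_top)
    have hRHS : (⊤ : WithBot ℕ∞) + (d : WithBot ℕ∞) = ⊤ := by
      rw [show (d : WithBot ℕ∞) = ((d : ℕ∞) : WithBot ℕ∞) from rfl,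
        show (⊤ : WithBot ℕ∞) = ((⊤ : ℕ∞) : WithBot ℕ∞) from rfl, ← WithBot.coe_add]
      simp
    rw [hRHS]
    rcases withBotENat_cases (topologicalKrullDim ↥(h.base ⁻¹' A)) with h' | h' | ⟨m', h'⟩
    · have := htop 0
      rw [h'] at this
      exact absurd this (by simp)
    · exact h'
    · have := htop (m' + 1)
      rw [h'] at this
      have h3 : m' + 1 + d ≤ m' := by exact_mod_cast this
      omega
  · -- `dim A = m`
    rw [hdA]
    apply le_antisymm
    · have : topologicalKrullDim ↥(h.base ⁻¹' A) ≤ ((m + d : ℕ) : WithBot ℕ∞) := by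
        apply dim_le_of_forall_tdeg_le (h ≫ p) (h.base ⁻¹' A) hA' (m + d)
        intro w' hw'
        have h1 := tdeg_le_add_dim_fibre p h d w' (by rw [hfib])
        have h2 := tdeg_le_dim_of_isLocallyClosed p A hA (h.base w') hw'
        rw [hdA] at h2
        have h2' : tdeg p (h.base w') ≤ m := by exact_mod_cast h2
        omega
      refine this.trans ?_
      rw [Nat.cast_add]
    · have := hlow m (by rw [hdA])
      refine le_trans ?_ this
      rw [Nat.cast_add]

end Groth.Agent.H10.WK_DP
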