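import Mathlib
import Groth.Prelude.Def_WeilCoh
import Groth.Prelude.Def_W4c1zetahwZeta
import Groth.Prelude.Def_SgaExt
import Groth.Agent.H19.FixFrob

set_option autoImplicit false
universe u v w
open CategoryTheory CategoryTheory.Limits AlgebraicGeometry

namespace Groth.Agent.H10.ZF_L2

/-- In a local ring, if a product of `t - j c`, `c` ranging over a finite subset of a field,
vanishes, then `t = j c` for one of them. -/
theorem exists_eq_of_prod_eq_zero {k R : Type*} [Field k] [CommRing R] [IsLocalRing R]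
    (j : k →+* R) (S : Finset k) (t : R) (h : ∏ c ∈ S, (t - j c) = 0) : ∃ c ∈ S, t = j c := by
  classical
  obtain ⟨c₀, hc₀S, hc₀⟩ : ∃ c₀ ∈ S, ¬ IsUnit (t - j c₀) := by
    by_contra hall
    push Not at hall
    have h1 : IsUnit (∏ c ∈ S, (t - j c)) := IsUnit.prod_iff.mpr hall
    rw [h] at h1
    exact not_isUnit_zero h1
  refine ⟨c₀, hc₀S, ?_⟩
  have hothers : ∀ c ∈ S.erase c₀, IsUnit (t - j c) := by
    intro c hc
    have hne : c ≠ c₀ := Finset.ne_of_mem_erase hc
    by_contra hnu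
    have h1 : (t - j c) - (t - j c₀) ∈ IsLocalRing.maximalIdeal R :=
      Ideal.sub_mem _ ((IsLocalRing.mem_maximalIdeal _).mpr hnu)
        ((IsLocalRing.mem_maximalIdeal _).mpr hc₀)
    have h2 : (t - j c) - (t - j c₀) = j (c₀ - c) := by rw [map_sub]; ring
    rw [h2] at h1
    exact (IsLocalRing.mem_maximalIdeal _).mp h1
      ((IsUnit.mk0 _ (sub_ne_zero.mpr hne.symm)).map j)
  have hsplit : (t - j c₀) * ∏ c ∈ S.erase c₀, (t - j c) = 0 :=
    (Finset.mul_prod_erase S (fun c => t - j c) hc₀S).trans h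
  have hu : IsUnit (∏ c ∈ S.erase c₀, (t - j c)) := IsUnit.prod_iff.mpr hothers
  exact sub_eq_zero.mp (hu.mul_left_eq_zero.mp hsplit)

/-- In a local ring containing an algebraically closed field `k` of characteristic `p`, the
solutions of `t ^ N = t` (`p ∣ N`, `1 < N`) are elements of `k`. -/
theorem exists_eq_of_pow_eq {k R : Type*} [Field k] [IsAlgClosed k] [CommRing R] [IsLocalRing R]
    (p : ℕ) [CharP k p] (N : ℕ) (hN : p ∣ N) (hN1 : 1 < N) (j : k →+* R) (t : R)
    (ht : t ^ N = t) : ∃ c : k, t = j c := by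
  classical
  set P : Polynomial k := Polynomial.X ^ N - Polynomial.X with hP
  have hmon : P.Monic := Polynomial.monic_X_pow_sub (by
    rw [Polynomial.degree_X]; exact_mod_cast hN1)
  have hsep : P.Separable := galois_poly_separable p N hN
  have hcard : P.roots.card = P.natDegree :=
    Polynomial.splits_iff_card_roots.mp (IsAlgClosed.splits P)
  have hprod := Polynomial.prod_multiset_X_sub_C_of_monic_of_roots_card_eq hmon hcard
  have hnd : P.roots.Nodup := Polynomial.nodup_roots hsep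
  have hfin : ∏ c ∈ P.roots.toFinset, (Polynomial.X - Polynomial.C c) = P := by
    rw [Finset.prod_eq_multiset_prod, Multiset.toFinset_val, hnd.dedup]
    exact hprod
  have h0 : ∏ c ∈ P.roots.toFinset, (t - j c) = 0 := by
    have h := congrArg (Polynomial.eval₂ j t) hfin
    rw [Polynomial.eval₂_finsetProd] at h
    simp only [Polynomial.eval₂_sub, Polynomial.eval₂_X, Polynomial.eval₂_C,
      Polynomial.eval₂_pow, hP] at h
    rw [h, ht, sub_self]
  obtain ⟨c, -, hc⟩ := exists_eq_of_prod_eq_zero j _ t h0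
  exact ⟨c, hc⟩

open Groth.Agent.H19.FixFrob Groth.Agent.H19.Coset in
set_option maxHeartbeats 800000 in
/-- (L2) -/
theorem local_fix {k₀ : Type u} [Field k₀] [Finite k₀] {k : Type u} [Field k] [IsAlgClosed k]
    [Algebra k₀ k] {X Y : Scheme.{u}} (f : X ⟶ Spec (CommRingCat.of k₀)) [LocallyOfFiniteType f]
    (π : Y ⟶ X) (sb : Y ⟶ Spec (CommRingCat.of k))
    (hπ : IsPullback π sb f (Spec.map (CommRingCat.ofHom (algebraMap k₀ k))))
    (m : ℕ) (hm : 1 ≤ m) (U : X.Opens) (hU : IsAffineOpen U) (w : Y) (hwU : w ∈ π ⁻¹ᵁ U)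
    (J : Ideal (Y.presheaf.stalk w)) (hJ : J ≤ IsLocalRing.maximalIdeal (Y.presheaf.stalk w))
    (h : ∀ a : Γ(X, U), (Y.presheaf.germ (π ⁻¹ᵁ U) w hwU).hom
      ((π.app U).hom a - ((π.app U).hom a) ^ ((Nat.card k₀) ^ m)) ∈ J) :
    IsClosed ({w} : Set Y) ∧ J = IsLocalRing.maximalIdeal (Y.presheaf.stalk w) := by
  classical
  -- characteristic bookkeeping
  obtain ⟨p, hchar⟩ := CharP.exists k₀
  haveI := hchar
  haveI : CharP k p := charP_of_injective_algebraMap (algebraMap k₀ k).injective p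
  cases nonempty_fintype k₀
  obtain ⟨n, hpprime, hcard⟩ := FiniteField.card k₀ p
  have hNcard : Nat.card k₀ = p ^ (n : ℕ) := by rw [Nat.card_eq_fintype_card, hcard]
  set N : ℕ := Nat.card k₀ ^ m with hNdef
  have hpN : p ∣ N := by
    rw [hNdef, hNcard, ← pow_mul]
    exact dvd_pow_self p (Nat.mul_ne_zero n.ne_zero (by omega))
  have hN1 : 1 < N := by
    rw [hNdef]
    have : 1 < Nat.card k₀ := by rw [Nat.card_eq_fintype_card]; exact Fintype.one_lt_card
    exact Nat.one_lt_pow (by omega) this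
  -- the quotient local ring
  have hJtop : J ≠ ⊤ := fun h' => (IsLocalRing.maximalIdeal.isMaximal _).ne_top
    (top_le_iff.mp (h' ▸ hJ))
  haveI : Nontrivial (Y.presheaf.stalk w ⧸ J) := Ideal.Quotient.nontrivial_iff.mpr hJtop
  haveI : IsLocalRing (Y.presheaf.stalk w ⧸ J) :=
    IsLocalRing.of_surjective' (Ideal.Quotient.mk J) Ideal.Quotient.mk_surjective
  set V : Y.Opens := π ⁻¹ᵁ U with hV
  let germ : Γ(Y, V) →+* Y.presheaf.stalk w := (Y.presheaf.germ V w hwU).hom
  let ρ : Γ(Y, V) →+* Y.presheaf.stalk w ⧸ J := (Ideal.Quotient.mk J).comp germ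
  let φk : k →+* Γ(Y, V) :=
    (sb.appLE ⊤ V le_top).hom.comp (Scheme.ΓSpecIso (CommRingCat.of k)).inv.hom
  let jk : k →+* Y.presheaf.stalk w ⧸ J := ρ.comp φk
  -- Step 1
  have step1 : ∀ a : Γ(X, U), ∃ c : k, ρ ((π.app U).hom a) = jk c := by
    intro a
    apply exists_eq_of_pow_eq p N hpN hN1 jk
    have h1 : ρ ((π.app U).hom a - ((π.app U).hom a) ^ N) = 0 :=
      Ideal.Quotient.eq_zero_iff_mem.mpr (h a)
    rw [map_sub, map_pow, sub_eq_zero] at h1
    exact h1.symm
  -- Step 2: everything in `Γ(Y, V)` is congruent to a constant modulo `J`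
  have hsurjK := (ConcreteCategory.bijective_of_isIso (Scheme.ΓSpecIso (CommRingCat.of k)).inv).2
  have step2 : ∀ b : Γ(Y, V), ∃ c : k, ρ b = jk c := by
    have hUY : V = π ⁻¹ᵁ U ⊓ sb ⁻¹ᵁ ⊤ := by simp [hV]
    have hpo := (isIso_pushoutSection_iff hπ (US := ⊤) (UT := ⊤) (UX := U) le_top le_top hUY).mp
      (isIso_pushoutSection_of_isAffineOpen hπ le_top le_top hUY (isAffineOpen_top _)
        (isAffineOpen_top _) hU)
    intro b
    refine gen_of_isPushout _ _ _ _ hpo (fun b => ∃ c : k, ρ b = jk c) ⟨0, by simp⟩ ?_ ?_ ?_ b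
    · intro t
      obtain ⟨c, hc⟩ := step1 t
      refine ⟨c, ?_⟩
      rw [← hc, app_eq_appLE_hom]
    · rintro a' x ⟨l, hl⟩
      obtain ⟨m', rfl⟩ := hsurjK a'
      refine ⟨m' * l, ?_⟩
      rw [map_mul, hl, map_mul]
      rfl
    · rintro x y ⟨l, hl⟩ ⟨m', hm'⟩
      exact ⟨l + m', by rw [map_add, map_add, hl, hm']⟩
  -- Step 3: the kernel of `ρ` is a maximal ideal
  have hmax : (RingHom.ker ρ).IsMaximal := by
    rw [Ideal.isMaximal_iff]
    refine ⟨fun h1 => ?_, fun I x hle hx hxI => ?_⟩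
    · have h2 : ρ 1 = 0 := h1
      rw [map_one] at h2
      exact one_ne_zero h2
    · obtain ⟨c, hc⟩ := step2 x
      have hc0 : c ≠ 0 := by
        rintro rfl
        apply hx
        rw [RingHom.mem_ker, hc, map_zero]
      have h1 : x * φk c⁻¹ - 1 ∈ RingHom.ker ρ := by
        rw [RingHom.mem_ker, map_sub, map_mul, hc, map_one]
        change jk c * jk c⁻¹ - 1 = 0
        rw [← map_mul, mul_inv_cancel₀ hc0, map_one, sub_self]
      have h2 := hle h1
      have h3 : x * φk c⁻¹ ∈ I := I.mul_mem_right _ hxI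
      have h4 : (1 : Γ(Y, V)) = x * φk c⁻¹ - (x * φk c⁻¹ - 1) := by ring
      rw [h4]
      exact I.sub_mem h3 h2
  -- Step 4: localization structure of the stalk
  have hVaff : IsAffineOpen V := by
    haveI : IsAffineHom π :=
      MorphismProperty.of_isPullback hπ.flip
        (inferInstance : IsAffineHom (Spec.map (CommRingCat.ofHom (algebraMap k₀ k))))
    exact hU.preimage π
  letI := Y.presheaf.algebra_section_stalk ⟨w, hwU⟩
  haveI hloc := hVaff.isLocalization_stalk ⟨w, hwU⟩
  set P := hVaff.primeIdealOf ⟨w, hwU⟩ with hPdef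
  have halg : (algebraMap Γ(Y, V) (Y.presheaf.stalk w)) = germ := rfl
  have hcomap : (IsLocalRing.maximalIdeal (Y.presheaf.stalk w)).comap germ = P.asIdeal := by
    rw [← halg]
    exact IsLocalization.AtPrime.under_maximalIdeal (Y.presheaf.stalk w) P.asIdeal
  have hmap : P.asIdeal.map germ = IsLocalRing.maximalIdeal (Y.presheaf.stalk w) := by
    rw [← halg]
    exact IsLocalization.AtPrime.map_eq_maximalIdeal P.asIdeal (Y.presheaf.stalk w)
  have hker_le : RingHom.ker ρ ≤ P.asIdeal := by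
    intro b hb
    rw [← hcomap, Ideal.mem_comap]
    apply hJ
    have hb' : Ideal.Quotient.mk J (germ b) = 0 := hb
    exact Ideal.Quotient.eq_zero_iff_mem.mp hb'
  have hkerP : RingHom.ker ρ = P.asIdeal := hmax.eq_of_le P.2.ne_top hker_le
  have hmJ : IsLocalRing.maximalIdeal (Y.presheaf.stalk w) ≤ J := by
    rw [← hmap, ← hkerP, Ideal.map_le_iff_le_comap]
    intro b hb
    have hb' : Ideal.Quotient.mk J (germ b) = 0 := hb
    have hb'' : germ b ∈ J := Ideal.Quotient.eq_zero_iff_mem.mp hb'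
    exact hb''
  refine ⟨?_, le_antisymm hJ hmJ⟩
  -- Step 5: `w` is a closed point
  haveI : LocallyOfFiniteType sb := MorphismProperty.of_isPullback hπ ‹LocallyOfFiniteType f›
  haveI : JacobsonSpace Y := LocallyOfFiniteType.jacobsonSpace sb
  apply isClosed_singleton_of_isLocallyClosed_singleton
  have hPcl : IsClosed ({P} : Set (PrimeSpectrum Γ(Y, V))) := by
    rw [PrimeSpectrum.isClosed_singleton_iff_isMaximal, ← hkerP]
    exact hmax
  have hfw : hVaff.fromSpec P = w := hVaff.fromSpec_primeIdealOf ⟨w, hwU⟩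
  have hemb := hVaff.fromSpec.isOpenEmbedding
  have himg : ({w} : Set Y) = hVaff.fromSpec '' ({P} : Set (PrimeSpectrum Γ(Y, V))) := by
    rw [← hfw]
    exact (Set.image_singleton (f := hVaff.fromSpec) (a := P)).symm
  rw [himg]
  exact hPcl.isLocallyClosed.image hemb.isInducing hemb.isOpen_range.isLocallyClosed

end Groth.Agent.H10.ZF_L2
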